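import Cfsg.Agent.TypeM.Two
import Cfsg.Agent.S0454

/-!
# The Lyons group: simple, one class of involutions, `C(t) = 2.A_11`
-/

set_option autoImplicit false

namespace Cfsg.Agent.TypeM.FactsLy

open Subgroup Cfsg.Agent.TypeM.Two Cfsg.Agent.Ly.Final Cfsg.Agent.Ly.Carm Cfsg.Agent.Ly.CarmData Cfsg.Agent.Ly.Rep111 Cfsg.Agent.Ly.Pres

/-- the centraliser of `a ^ 4` in the presented Lyons group -/
theorem isNonsplit_ly :
    Cfsg.IsNonsplitDoubleCover (centralizer ({gens 0 ^ 4} : Set Cfsg.Spor.Ly)) (alternatingGroup (Fin 11)) := by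
  have hfin : Finite Cfsg.Spor.Ly := Cfsg.Agent.Ly.Setup.finite_ly
  have hs : IsSimpleGroup Cfsg.Spor.Ly := Cfsg.Agent.Ly.Setup.isSimple_ly
  have hle : Nat.card (centralizer ({gens 0 ^ 4} : Set Cfsg.Spor.Ly)) ≤ 39916800 :=
    Cfsg.Agent.Ly.Setup.card_centralizer_le Cfsg.Agent.S0454.card_centralizer_t
  let t : Cfsg.Spor.Ly := gens 0 ^ 4
  let C := centralizer ({t} : Set Cfsg.Spor.Ly)
  have hmem : ∀ y : Cfsg.Spor.Ly, y * t = t * y → y ∈ C := fun y hy => mem_centralizer_singleton_iff.mpr hy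
  let t' : C := ⟨t, hmem t rfl⟩
  have hxc : ∀ i, el (ws i) * t = t * el (ws i) := by
    intro i
    show el (ws i) * gens 0 ^ 4 = gens 0 ^ 4 * el (ws i)
    rw [← el_tw]
    apply el_inj hs
    simp only [map_mul, rho_el]
    exact comm i
  have h3 : ∀ i, el (ws i) ^ 3 = t := by
    intro i
    show el (ws i) ^ 3 = gens 0 ^ 4
    rw [← el_tw]
    apply el_inj hs
    simp only [map_pow, rho_el]
    exact cube i
  have h2 : ∀ i j, i ≠ j → (el (ws i) * el (ws j)) ^ 2 = t := by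
    intro i j hij
    show (el (ws i) * el (ws j)) ^ 2 = gens 0 ^ 4
    rw [← el_tw]
    apply el_inj hs
    simp only [map_pow, map_mul, rho_el]
    exact pair hij
  have hx1 : el (ws 0) ≠ 1 := by
    intro h
    apply x0_ne_one
    rw [← rho_el]
    show rho (el (ws 0)) = 1
    rw [h, map_one]
  have hxt : el (ws 0) ≠ t := by
    intro h
    apply x0_ne_t
    rw [← rho_el, ← rho_el]
    refine congrArg rho (h.trans ?_)
    exact el_tw.symm
  have hg : (gens 0 ^ 2 : Cfsg.Spor.Ly) ^ 2 = t := by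
    show (gens 0 ^ 2 : Cfsg.Spor.Ly) ^ 2 = gens 0 ^ 4
    rw [← pow_mul]
  let x' : Fin 9 → C := fun i => ⟨el (ws i), hmem _ (hxc i)⟩
  let g' : C := ⟨gens 0 ^ 2, hmem _ (by rw [← hg, ← pow_succ, ← pow_succ'])⟩
  refine (Cfsg.Agent.Ly.DoubleCover.doubleCover_of_carmichael (C := C) t' ?_ ?_ hle x' ?_ ?_ ?_ g' ?_).2
  · have h5 : orderOf (t' : Cfsg.Spor.Ly) = 2 := tw_order hs
    rwa [orderOf_coe] at h5
  · intro y
    apply Subtype.ext
    exact mem_centralizer_singleton_iff.mp y.2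
  · intro i
    right
    exact Subtype.ext (h3 i)
  · intro i j hij
    right
    exact Subtype.ext (h2 i j hij)
  · exact ⟨fun h => hx1 (congrArg Subtype.val h), fun h => hxt (congrArg Subtype.val h)⟩
  · exact Subtype.ext hg

/-- the presented Lyons group is of type `MT 11` -/
theorem exists_mt_ly : Nonempty (MT 11 Cfsg.Spor.Ly) := by
  have hfin : Finite Cfsg.Spor.Ly := Cfsg.Agent.Ly.Setup.finite_ly
  have hs : IsSimpleGroup Cfsg.Spor.Ly := Cfsg.Agent.Ly.Setup.isSimple_ly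
  obtain ⟨L, -⟩ := exists_mt (G := Cfsg.Spor.Ly) (n := 11) (by norm_num) (by norm_num) (gens 0 ^ 4)
    (tw_order hs) isNonsplit_ly
  exact ⟨L⟩

/-- **Facts on groups isomorphic to the Lyons group.** -/
theorem facts {M : Type*} [Group M] (h : Cfsg.Spor.IsoLy M) :
    Finite M ∧ IsSimpleGroup M ∧ Nat.card M = 51765179004000000 ∧ Nonempty (MT 11 M) := by
  obtain ⟨e⟩ := h
  have hfin : Finite Cfsg.Spor.Ly := Cfsg.Agent.Ly.Setup.finite_ly
  have hs : IsSimpleGroup Cfsg.Spor.Ly := Cfsg.Agent.Ly.Setup.isSimple_ly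
  obtain ⟨L⟩ := exists_mt_ly
  have : Nontrivial M := e.toEquiv.nontrivial
  refine ⟨Finite.of_equiv _ e.symm.toEquiv, IsSimpleGroup.isSimpleGroup_of_surjective e.symm.toMonoidHom e.symm.surjective,
    ?_, ⟨L.congr e.symm⟩⟩
  rw [Nat.card_congr e.toEquiv]
  exact Cfsg.Agent.Ly.Setup.card_ly

end Cfsg.Agent.TypeM.FactsLy
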