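import Cfsg.Agent.SporRec.LyType

/-!
# Groups with one class of involutions and involution centraliser `2.A_n` (`n = 8`: `McL`, `n = 11`: `Ly`)

`MT n G`: an involution `t` of `G` whose centraliser is a double cover `2.A_n`, all involutions conjugate.
`exists_mt`: a finite simple group with an involution whose centraliser is a non-split double cover of `A_n`, `n < 16`,
is of this type.
-/

set_option autoImplicit false

namespace Cfsg.Agent.TypeM.Two

open Subgroup Equiv Cfsg.Agent.SporRec.TwoAn
open Cfsg.Agent.SporRec.LyType (isConj_of_involutions conjCentEquiv conjCentEquiv_coe dihedral_dichotomy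
  card_support_eq_eight cycleType_of_involution isConj_of_card_support_eq)

/-- A group with an involution `t` whose centraliser is `2.A_n`, and with one class of involutions. -/
structure MT (n : ℕ) (G : Type*) [Group G] where
  /-- the involution -/
  t : G
  /-- the cover `C_G(t) → A_n` -/
  K : Cover (Fin n) (centralizer ({t} : Set G))
  hz : (K.z : G) = t
  one : ∀ s : G, s * s = 1 → s ≠ 1 → ∃ g, g * t * g⁻¹ = s

namespace MT

section

variable {n : ℕ} {G : Type*} [Group G] (L : MT n G)

theorem t_mul_t : L.t * L.t = 1 := by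
  have h := congrArg Subtype.val L.K.z_mul_z
  rw [Subgroup.coe_mul, L.hz] at h
  exact h

theorem t_ne : L.t ≠ 1 := by
  intro h
  apply L.K.z_ne
  apply Subtype.ext
  rw [L.hz, h]
  rfl

theorem t_inv : L.t⁻¹ = L.t := inv_eq_of_mul_eq_one_left L.t_mul_t

theorem orderOf_t : orderOf L.t = 2 := orderOf_eq_prime (by rw [pow_two, L.t_mul_t]) L.t_ne

theorem mem_iff {g : G} : g ∈ centralizer ({L.t} : Set G) ↔ g * L.t = L.t * g := mem_centralizer_singleton_iff

theorem sq_of_orderOf {s : G} (hs : orderOf s = 2) : s * s = 1 ∧ s ≠ 1 := by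
  constructor
  · rw [← pow_two, ← hs, pow_orderOf_eq_one]
  · intro h
    rw [h, orderOf_one] at hs
    exact absurd hs (by norm_num)

include L in
/-- Any two involutions are conjugate. -/
theorem conj_of_involutions {r s : G} (hr : r * r = 1) (hr1 : r ≠ 1) (hs : s * s = 1) (hs1 : s ≠ 1) :
    ∃ g : G, g * r * g⁻¹ = s := by
  obtain ⟨a, ha⟩ := L.one r hr hr1
  obtain ⟨b, hb⟩ := L.one s hs hs1
  refine ⟨b * a⁻¹, ?_⟩
  rw [← ha, ← hb]
  group

/-- Change of the base involution by conjugation. -/
def rebase {s : G} (g : G) (hg : g * L.t * g⁻¹ = s) : MT n G where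
  t := s
  K := L.K.map (conjCentEquiv g hg)
  hz := by
    show g * (L.K.z : G) * g⁻¹ = s
    rw [L.hz, hg]
  one r hr hr1 := by
    refine L.conj_of_involutions ?_ ?_ hr hr1
    · rw [← hg]
      calc g * L.t * g⁻¹ * (g * L.t * g⁻¹) = g * (L.t * L.t) * g⁻¹ := by group
        _ = 1 := by rw [L.t_mul_t]; group
    · intro h
      apply L.t_ne
      rw [h] at hg
      have : L.t = g⁻¹ * 1 * g := by rw [← hg]; group
      rw [this]; group

@[simp] theorem rebase_t {s : G} (g : G) (hg : g * L.t * g⁻¹ = s) : (L.rebase g hg).t = s := rfl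

include L in
/-- The same group with any involution as base involution. -/
theorem exists_rebase {s : G} (hs : s * s = 1) (hs1 : s ≠ 1) : ∃ L' : MT n G, L'.t = s := by
  obtain ⟨g, hg⟩ := L.one s hs hs1
  exact ⟨L.rebase g hg, rfl⟩

/-- two involutions `≠ t` of `C_G(t)` are conjugate in `C_G(t)`. -/
theorem conj_in_centralizer (hn : n < 16) {r s : G} (hrt : r * L.t = L.t * r) (hst : s * L.t = L.t * s) (hr : r * r = 1)
    (hr1 : r ≠ 1) (hr2 : r ≠ L.t) (hs : s * s = 1) (hs1 : s ≠ 1) (hs2 : s ≠ L.t) :
    ∃ c : G, c * L.t = L.t * c ∧ c * r * c⁻¹ = s := by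
  obtain ⟨c, hc⟩ := isConj_of_involutions L.K (by rw [Fintype.card_fin]; exact hn)
    (g := ⟨r, L.mem_iff.2 hrt⟩) (h := ⟨s, L.mem_iff.2 hst⟩) (Subtype.ext hr)
    (fun h => hr1 (congrArg Subtype.val h)) (fun h => hr2 ((congrArg Subtype.val h).trans L.hz)) (Subtype.ext hs)
    (fun h => hs1 (congrArg Subtype.val h)) (fun h => hs2 ((congrArg Subtype.val h).trans L.hz))
  exact ⟨c, L.mem_iff.1 c.2, congrArg Subtype.val hc⟩

/-- transport along an isomorphism -/
def congr {H : Type*} [Group H] (e : G ≃* H) : MT n H where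
  t := e L.t
  K := L.K.map
    { toFun := fun x => ⟨e x, by
        have hx := mem_centralizer_singleton_iff.1 x.2
        rw [mem_centralizer_singleton_iff, ← map_mul, hx, map_mul]⟩
      invFun := fun y => ⟨e.symm y, by
        have hy := mem_centralizer_singleton_iff.1 y.2
        rw [mem_centralizer_singleton_iff]
        apply e.injective
        rw [map_mul, map_mul, e.apply_symm_apply, hy]⟩
      left_inv := fun x => Subtype.ext (e.symm_apply_apply _)
      right_inv := fun y => Subtype.ext (e.apply_symm_apply _)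
      map_mul' := fun x y => Subtype.ext (map_mul e _ _) }
  hz := by
    show e (L.K.z : G) = e L.t
    rw [L.hz]
  one s hs hs1 := by
    obtain ⟨g, hg⟩ := L.one (e.symm s) (by rw [← map_mul, hs, map_one]) (fun h => hs1 (by
      rw [← e.apply_symm_apply s, h, map_one]))
    refine ⟨e g, ?_⟩
    rw [← map_inv, ← map_mul, ← map_mul, hg, e.apply_symm_apply]

@[simp] theorem congr_t {H : Type*} [Group H] (e : G ≃* H) : (L.congr e).t = e L.t := rfl

/-- the centre of the centraliser -/
theorem mem_center_cent (hn : 4 ≤ n) {g : centralizer ({L.t} : Set G)} :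
    g ∈ center (centralizer ({L.t} : Set G)) ↔ (g : G) = 1 ∨ (g : G) = L.t := by
  rw [L.K.mem_center_iff (by rwa [Fintype.card_fin])]
  constructor
  · rintro (rfl | rfl)
    · exact Or.inl rfl
    · exact Or.inr L.hz
  · rintro (h | h)
    · exact Or.inl (Subtype.ext h)
    · exact Or.inr (Subtype.ext (h.trans L.hz.symm))

end

end MT

/-- A finite simple group with an involution whose centraliser is a non-split double cover of `A_n`, `n < 16`. -/
theorem exists_mt {G : Type*} [Group G] [Finite G] [IsSimpleGroup G] {n : ℕ} (hn5 : 5 ≤ n) (hn : n < 16) (t : G)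
    (ht : orderOf t = 2)
    (hcov : Cfsg.IsNonsplitDoubleCover (centralizer ({t} : Set G)) (alternatingGroup (Fin n))) :
    ∃ L : MT n G, L.t = t := by
  obtain ⟨-, π, h, u, huu, hu1, hut, hcomm, g, hgt, hgu⟩ :=
    Cfsg.Agent.SporRec.LyReduce.reduce n hn5 t ht hcov
  set K : Cover (Fin n) (centralizer ({t} : Set G)) := ofIsCover hn5 h with hK
  have hz : (K.z : G) = t := rfl
  have htt : t * t = 1 := by rw [← pow_two, ← ht, pow_orderOf_eq_one]
  have ht1 : t ≠ 1 := by
    intro h
    rw [h, orderOf_one] at ht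
    exact absurd ht (by norm_num)
  -- involutions of the centraliser
  have hC : ∀ s : G, s * t = t * s → s * s = 1 → s ≠ 1 → ∃ g, g * t * g⁻¹ = s := by
    intro s hst hs hs1
    by_cases hs2 : s = t
    · exact ⟨1, by rw [hs2]; group⟩
    · obtain ⟨c, hc⟩ := isConj_of_involutions K (by rw [Fintype.card_fin]; exact hn)
        (g := ⟨u, mem_centralizer_singleton_iff.2 hcomm⟩) (h := ⟨s, mem_centralizer_singleton_iff.2 hst⟩)
        (Subtype.ext huu) (fun h => hu1 (congrArg Subtype.val h)) (fun h => hut (congrArg Subtype.val h))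
        (Subtype.ext hs) (fun h => hs1 (congrArg Subtype.val h)) (fun h => hs2 (congrArg Subtype.val h))
      have hc' : (c : G) * u * (c : G)⁻¹ = s := congrArg Subtype.val hc
      refine ⟨c * g, ?_⟩
      rw [← hc', ← hgt]
      group
  refine ⟨⟨t, K, hz, ?_⟩, rfl⟩
  intro s hs hs1
  rcases dihedral_dichotomy hs htt with ⟨g, hg⟩ | ⟨w, hw, hw1, hws, hwt⟩
  · exact ⟨g⁻¹, by rw [← hg]; group⟩
  · obtain ⟨b, hb⟩ := hC w hwt hw hw1
    obtain ⟨a, ha⟩ := hC (b⁻¹ * s * b) (by
      have ht' : t = b⁻¹ * w * b := by rw [← hb]; group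
      rw [ht']
      calc b⁻¹ * s * b * (b⁻¹ * w * b) = b⁻¹ * (s * w) * b := by group
        _ = b⁻¹ * (w * s) * b := by rw [hws]
        _ = b⁻¹ * w * b * (b⁻¹ * s * b) := by group) (by
      calc b⁻¹ * s * b * (b⁻¹ * s * b) = b⁻¹ * (s * s) * b := by group
        _ = 1 := by rw [hs]; group) (by
      intro h
      apply hs1
      have : s = b * (b⁻¹ * s * b) * b⁻¹ := by group
      rw [this, h]; group)
    refine ⟨b * a, ?_⟩
    calc b * a * t * (b * a)⁻¹ = b * (a * t * a⁻¹) * b⁻¹ := by group
      _ = s := by rw [ha]; group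

end Cfsg.Agent.TypeM.Two
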