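import Cfsg.Agent.TypeM.CoverAut
import Cfsg.Agent.TypeM.Two
import Cfsg.Agent.Intrinsic.RedQuot
import Cfsg.Agent.SectRankFour.AutSz8
import Cfsg.Agent.TwoFusion.ClosingPrime
import Cfsg.Agent.TwoFusion.OneClassOddIndex

/-!
# Automorphisms of the groups with involution centraliser `2.A_8` or `2.A_11`

`MT n M`: the group `M` has one class of involutions, with centraliser a double cover `2.A_n`.
For a finite simple group `M` of this type, `n = 8` or `11` (`McL`, `Ly`):

* `sup_eq_top`, `gen`: `⟨C(t), C(u)⟩ = M` for commuting involutions `t ≠ u` (called `Gen`);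
* `eq_one_or_conj`: an automorphism trivial on `C(t)` is `1` or the conjugation by `t`;
* `exists_conj_fix`, `exists_perm`, `exists_conj_of_even`: every automorphism fixes, up to an inner one, `t`, and
  is then given by a permutation `σ`; it is inner if `σ` is even;
* `mul_inner`: the product of two non-inner automorphisms is inner;
* `exists_neg`, `exists_pos`: for a non-inner automorphism fixing `t`, with `σ² = 1`: there are `a, q` in `C(t)`
  with `φ a = a t`, `φ q = q`, `q² = t`.
-/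

set_option autoImplicit false
set_option linter.dupNamespace false

namespace Cfsg.Agent.TypeM.FactsAut

open Subgroup Equiv Cfsg.Agent.SporRec.TwoAn Cfsg.Agent.TypeM.CoverAut
open Cfsg.Agent.TypeM.Two (MT)

/-- The involution is `2`-central. -/
theorem odd_index {n : ℕ} {G : Type*} [Group G] [Finite G] (L : MT n G) : Odd (centralizer ({L.t} : Set G)).index :=
  Cfsg.Agent.Intrinsic.Red.odd_index_of_conj L.orderOf_t fun x hx =>
    L.one x (by rw [← pow_two, ← hx, pow_orderOf_eq_one]) (by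
      rintro rfl; rw [orderOf_one] at hx; exact absurd hx (by decide))

/-! ### Generation by two centralisers -/

section generation

variable {n : ℕ} {G : Type*} [Group G] [Finite G]

/-- A subgroup containing the centralisers of two commuting involutions has one class of involutions. -/
theorem one_class (L : MT n G) (hn : n < 16) {u : G} (hu : u * u = 1) (hu1 : u ≠ 1) (hut : u ≠ L.t)
    (hc : u * L.t = L.t * u) {H : Subgroup G} (h1 : centralizer ({L.t} : Set G) ≤ H)
    (h2 : centralizer ({u} : Set G) ≤ H) : ∀ x ∈ H, orderOf x = 2 → ∃ g ∈ H, g * L.t * g⁻¹ = x := by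
  have htt := L.t_mul_t
  have hut1 : u * L.t ≠ 1 := by
    intro h
    apply hut
    have := mul_eq_one_iff_eq_inv.1 h
    rw [this, L.t_inv]
  have hutsq : u * L.t * (u * L.t) = 1 := by
    calc u * L.t * (u * L.t) = u * (L.t * u) * L.t := by group
      _ = (u * u) * (L.t * L.t) := by rw [← hc]; group
      _ = 1 := by rw [hu, htt, mul_one]
  have hutc : u * L.t * L.t = L.t * (u * L.t) := by
    rw [← mul_assoc, ← hc]
  have hut2 : u * L.t ≠ L.t := fun h => hu1 (mul_eq_right.mp h)
  have hut3 : u * L.t ≠ u := fun h => L.t_ne (mul_eq_left.mp h)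
  -- `u` and `t` are conjugate in `H`
  obtain ⟨a, ha, hau⟩ : ∃ a ∈ H, a * L.t * a⁻¹ = u := by
    obtain ⟨c, hc1, hc2⟩ := L.conj_in_centralizer hn hc hutc hu hu1 hut hutsq hut1 hut2
    obtain ⟨L', hL'⟩ := L.exists_rebase hu hu1
    obtain ⟨d, hd1, hd2⟩ := L'.conj_in_centralizer hn (r := L.t) (s := u * L.t) (by rw [hL', hc])
      (by rw [hL', mul_assoc, ← hc]) htt L.t_ne (by rw [hL']; exact hut.symm) hutsq hut1 (by rw [hL']; exact hut3)
    rw [hL'] at hd1
    refine ⟨c⁻¹ * d, mul_mem (inv_mem (h1 (L.mem_iff.2 hc1))) (h2 (mem_centralizer_singleton_iff.2 hd1)), ?_⟩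
    calc c⁻¹ * d * L.t * (c⁻¹ * d)⁻¹ = c⁻¹ * (d * L.t * d⁻¹) * c := by group
      _ = c⁻¹ * (c * u * c⁻¹) * c := by rw [hd2, hc2]
      _ = u := by group
  refine Cfsg.Agent.TwoFusion.OneClassOddIndex.one_class h1 ?_ ?_
  · have h3 := odd_index L
    rw [← Subgroup.relIndex_mul_index h1] at h3
    have h4 := (Nat.odd_mul.1 h3).1
    rwa [← Nat.not_even_iff_odd, even_iff_two_dvd] at h4
  · intro y hy hy2
    have hyy : y * y = 1 := by rw [← pow_two, ← hy2, pow_orderOf_eq_one]
    have hy1 : y ≠ 1 := by rintro rfl; rw [orderOf_one] at hy2; exact absurd hy2 (by decide)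
    by_cases hyt : y = L.t
    · exact ⟨1, one_mem _, by rw [hyt]; group⟩
    · obtain ⟨c, hc1, hc2⟩ := L.conj_in_centralizer hn hc hy hu hu1 hut hyy hy1 hyt
      refine ⟨c * a, mul_mem (h1 (L.mem_iff.2 hc1)) ha, ?_⟩
      rw [← hc2, ← hau]; group

/-- the orders of `McL` and `Ly` -/
def OrderEq (n : ℕ) (G : Type*) : Prop :=
  (n = 8 ∧ Nat.card G = 898128000) ∨ (n = 11 ∧ Nat.card G = 51765179004000000)

omit [Finite G] in
theorem card_centralizer (L : MT n G) (hn : 2 ≤ n) : Nat.card (centralizer ({L.t} : Set G)) = n.factorial := by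
  rw [Cfsg.Agent.SporRec.LyFiveCov.card_eq L.K (by rwa [Fintype.card_fin]), Fintype.card_fin]

theorem arith8 {d e : ℕ} (h : d * e = 22275) (h1 : 128 ∣ d - 1) (hd : d ≠ 1) : e = 3 := by
  obtain ⟨k, hk⟩ := h1
  have hd0 : d ≠ 0 := by rintro rfl; omega
  obtain rfl : d = 128 * k + 1 := by omega
  have hk0 : k ≠ 0 := by rintro rfl; omega
  have h2 : e ≤ 172 := by
    by_contra hcon
    push Not at hcon
    have : 129 * 173 ≤ (128 * k + 1) * e := Nat.mul_le_mul (by omega) (by omega)
    omega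
  interval_cases e <;> first | rfl | (exfalso; omega)

theorem arith11 {d e : ℕ} (h : d * e = 1296826875) (h1 : 256 ∣ d - 1) : d = 1 := by
  have hd0 : d ≠ 0 := by rintro rfl; omega
  have hd : d ∣ 27 * (625 * (31 * (37 * 67))) := ⟨e, h.symm⟩
  obtain ⟨a, d1, ha, hd1, rfl⟩ := (Nat.dvd_mul).1 hd
  obtain ⟨b, d2, hb, hd2, rfl⟩ := (Nat.dvd_mul).1 hd1
  obtain ⟨c, d3, hc, hd3, rfl⟩ := (Nat.dvd_mul).1 hd2
  obtain ⟨f, g, hf, hg, rfl⟩ := (Nat.dvd_mul).1 hd3
  have e1 : a ∈ Nat.divisors 27 := Nat.mem_divisors.2 ⟨ha, by norm_num⟩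
  have e2 : b ∈ Nat.divisors 625 := Nat.mem_divisors.2 ⟨hb, by norm_num⟩
  have e3 : c ∈ Nat.divisors 31 := Nat.mem_divisors.2 ⟨hc, by norm_num⟩
  have e4 : f ∈ Nat.divisors 37 := Nat.mem_divisors.2 ⟨hf, by norm_num⟩
  have e5 : g ∈ Nat.divisors 67 := Nat.mem_divisors.2 ⟨hg, by norm_num⟩
  have key : ∀ a ∈ Nat.divisors 27, ∀ b ∈ Nat.divisors 625, ∀ c ∈ Nat.divisors 31, ∀ f ∈ Nat.divisors 37,
      ∀ g ∈ Nat.divisors 67, (a * (b * (c * (f * g)))) % 256 = 1 → a * (b * (c * (f * g))) = 1 := by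
    decide +kernel
  exact key a e1 b e2 c e3 f e4 g e5 (by omega)

/-- three involutions of `S_8` of type `2⁴` -/
def v8 : Fin 3 → Perm (Fin 8) := ![swap 0 1 * swap 2 3 * (swap 4 5 * swap 6 7), swap 0 2 * swap 1 3 * (swap 4 6 * swap 5 7),
  swap 0 4 * swap 1 5 * (swap 2 6 * swap 3 7)]

/-- generation of the group by the centralisers of two commuting involutions -/
def Gen {n : ℕ} {G : Type*} [Group G] (L : MT n G) : Prop :=
  ∀ u : G, u * u = 1 → u ≠ 1 → u ≠ L.t → u * L.t = L.t * u →
    centralizer ({L.t} : Set G) ⊔ centralizer ({u} : Set G) = ⊤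

/-- `⟨C(t), C(u)⟩ = M`. -/
theorem sup_eq_top (L : MT n G) (hG : OrderEq n G) {u : G} (hu : u * u = 1) (hu1 : u ≠ 1) (hut : u ≠ L.t)
    (hc : u * L.t = L.t * u) : centralizer ({L.t} : Set G) ⊔ centralizer ({u} : Set G) = ⊤ := by
  by_contra hne
  have hn : n < 16 := by rcases hG with ⟨h, -⟩ | ⟨h, -⟩ <;> omega
  set H := centralizer ({L.t} : Set G) ⊔ centralizer ({u} : Set G) with hH
  have h1 : centralizer ({L.t} : Set G) ≤ H := le_sup_left
  have h2 : centralizer ({u} : Set G) ≤ H := le_sup_right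
  have hone := one_class L hn hu hu1 hut hc h1 h2
  have hSE := Cfsg.Agent.TwoFusion.ClosingPrime.isStronglyEmbedded_of_one_class L.orderOf_t h1 hone hne
  have hinv := Cfsg.Agent.TwoFusion.ClosingPrime.ncard_involutions_mul L.orderOf_t h1 hone
  have hd1 : H.index ≠ 1 := by rwa [Ne, Subgroup.index_eq_one]
  have hmul := Subgroup.relIndex_mul_index h1
  have hidx := (centralizer ({L.t} : Set G)).card_mul_index
  rw [card_centralizer L (by rcases hG with ⟨h, -⟩ | ⟨h, -⟩ <;> omega)] at hidx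
  have hS : ∀ k : ℕ, 2 ^ k ∣ n.factorial → 2 ^ k ∣ H.index - 1 := by
    intro k hk
    have : Fact (Nat.Prime 2) := ⟨Nat.prime_two⟩
    obtain ⟨P, hP⟩ := Sylow.exists_subgroup_card_pow_prime (G := centralizer ({L.t} : Set G)) 2 (n := k) (by
      rwa [card_centralizer L (by rcases hG with ⟨h, -⟩ | ⟨h, -⟩ <;> omega)])
    have hP2 : IsPGroup 2 (P.map (centralizer ({L.t} : Set G)).subtype) := (IsPGroup.of_card hP).map _
    have h3 := Cfsg.Agent.SectRankFour.AutSz8.card_dvd_index_sub_one hSE hP2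
      ((Subgroup.map_subtype_le _).trans h1)
    rwa [Subgroup.card_map_of_injective (Subgroup.subtype_injective _), hP] at h3
  rcases hG with ⟨rfl, hG⟩ | ⟨rfl, hG⟩
  · have h8 : (8 : ℕ).factorial = 40320 := rfl
    rw [hG, h8] at hidx
    have h3 : (centralizer ({L.t} : Set G)).index = 22275 := by omega
    rw [h3] at hmul
    have h4 := arith8 (by rw [mul_comm]; exact hmul) (hS 7 (by rw [h8]; norm_num)) hd1
    rw [h4] at hinv
    -- four involutions of `H`
    have hlift : ∀ i, ∃ g : centralizer ({L.t} : Set G), L.K.π g = v8 i := fun i =>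
      L.K.exists_lift (by
        rw [Perm.mem_alternatingGroup]
        revert i
        decide)
    choose g hg using hlift
    have hgg : ∀ i, (g i : G) * (g i : G) = 1 := by
      intro i
      have h5 : g i * g i = 1 := by
        rw [L.K.sq_eq_one_iff, hg]
        revert i
        decide
      exact congrArg Subtype.val h5
    have hinj : ∀ i j, (g i : G) = g j → i = j := by
      intro i j hij
      have h5 : v8 i = v8 j := by rw [← hg, ← hg, Subtype.ext hij]
      have h6 : ∀ i j, v8 i = v8 j → i = j := by decide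
      exact h6 i j h5
    have hne1 : ∀ i, L.K.π (g i) ≠ 1 := by
      intro i
      rw [hg]
      revert i
      decide
    let T : Set G := Set.range fun i : Option (Fin 3) => i.elim L.t fun j => (g j : G)
    have hT : T.ncard = 4 := by
      rw [Set.ncard_range_of_injective]
      · simp
      · rintro (_ | i) (_ | j) hij
        · rfl
        · exfalso
          apply hne1 j
          have h5 : g j = L.K.z := Subtype.ext (hij.symm.trans L.hz.symm)
          rw [h5, L.K.π_z]
        · exfalso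
          apply hne1 i
          have h5 : g i = L.K.z := Subtype.ext (hij.trans L.hz.symm)
          rw [h5, L.K.π_z]
        · rw [hinj i j hij]
    have hTI : T ⊆ Cfsg.Agent.SignalizersComponents.BenderCount.invs (H := H) ((1 : G) : G ⧸ H) ((1 : G) : G ⧸ H) := by
      rintro _ ⟨i, rfl⟩
      rcases i with _ | i
      · exact ⟨L.orderOf_t, (Cfsg.Agent.TwoFusion.StronglyEmbeddedBasic.smul_one_eq_iff _).2
          (h1 (L.mem_iff.2 rfl))⟩
      · refine ⟨?_, (Cfsg.Agent.TwoFusion.StronglyEmbeddedBasic.smul_one_eq_iff _).2 (h1 (g i).2)⟩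
        refine orderOf_eq_prime (by rw [pow_two]; exact hgg i) ?_
        intro h
        apply hne1 i
        have h5 : g i = 1 := Subtype.ext h
        rw [h5, map_one]
    have h6 := Set.ncard_le_ncard hTI (Set.toFinite _)
    rw [hT, hinv] at h6
    omega
  · have h8 : (11 : ℕ).factorial = 39916800 := rfl
    rw [hG, h8] at hidx
    have h3 : (centralizer ({L.t} : Set G)).index = 1296826875 := by omega
    rw [h3] at hmul
    exact hd1 (arith11 (by rw [mul_comm]; exact hmul) (hS 8 (by rw [h8]; norm_num)))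

theorem gen (L : MT n G) (hG : OrderEq n G) : Gen L := fun _ hu hu1 hut hc => sup_eq_top L hG hu hu1 hut hc

end generation

/-! ### Automorphisms -/

section aut

variable {n : ℕ} {G : Type*} [Group G]

/-- The automorphism of `C(t)` induced by an automorphism fixing `t`. -/
def resAut (t : G) (φ : MulAut G) (h : φ t = t) : MulAut (centralizer ({t} : Set G)) where
  toFun x := ⟨φ x, by
    have hx := mem_centralizer_singleton_iff.1 x.2
    rw [mem_centralizer_singleton_iff]
    calc φ x * t = φ (x * t) := by rw [map_mul, h]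
      _ = t * φ x := by rw [hx, map_mul, h]⟩
  invFun x := ⟨φ.symm x, by
    have hx := mem_centralizer_singleton_iff.1 x.2
    have h' : φ.symm t = t := by rw [MulEquiv.symm_apply_eq, h]
    rw [mem_centralizer_singleton_iff]
    calc φ.symm x * t = φ.symm (x * t) := by rw [map_mul, h']
      _ = t * φ.symm x := by rw [hx, map_mul, h']⟩
  left_inv x := Subtype.ext (φ.symm_apply_apply _)
  right_inv x := Subtype.ext (φ.apply_symm_apply _)
  map_mul' x y := Subtype.ext (map_mul φ _ _)

theorem resAut_coe (t : G) (φ : MulAut G) (h : φ t = t) (x : centralizer ({t} : Set G)) :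
    (resAut t φ h x : G) = φ x := rfl

/-- An involution `u ≠ t` commuting with `t`. -/
theorem exists_u (L : MT n G) (hn : n = 8 ∨ n = 11) : ∃ u : G, u * u = 1 ∧ u ≠ 1 ∧ u ≠ L.t ∧ u * L.t = L.t * u := by
  have key : ∀ v : Perm (Fin n), v ∈ alternatingGroup (Fin n) → v * v = 1 → 8 ∣ v.support.card → v ≠ 1 →
      ∃ u : G, u * u = 1 ∧ u ≠ 1 ∧ u ≠ L.t ∧ u * L.t = L.t * u := by
    intro v hv hv2 hv8 hv1
    obtain ⟨u, rfl⟩ := L.K.exists_lift hv
    refine ⟨u, congrArg Subtype.val (L.K.sq_eq_one_iff.2 ⟨hv2, hv8⟩), ?_, ?_, L.mem_iff.1 u.2⟩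
    · intro h
      apply hv1
      rw [show u = 1 from Subtype.ext h, map_one]
    · intro h
      apply hv1
      rw [show u = L.K.z from Subtype.ext (h.trans L.hz.symm), L.K.π_z]
  rcases hn with rfl | rfl
  · exact key u8 (by rw [Perm.mem_alternatingGroup]; decide) (by decide) (by decide) (by decide)
  · exact key u11 (by rw [Perm.mem_alternatingGroup]; decide) (by decide) (by decide) (by decide)

/-- An automorphism trivial on two subgroups generating the group is trivial. -/
theorem eq_one_of_sup {A B : Subgroup G} (hAB : A ⊔ B = ⊤) {φ : MulAut G} (hA : ∀ g ∈ A, φ g = g)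
    (hB : ∀ g ∈ B, φ g = g) : φ = 1 := by
  let F : Subgroup G :=
    { carrier := {g | φ g = g}
      mul_mem' := fun {a b} ha hb => by
        show φ (a * b) = a * b
        rw [map_mul, show φ a = a from ha, show φ b = b from hb]
      one_mem' := map_one φ
      inv_mem' := fun {a} ha => by
        show φ a⁻¹ = a⁻¹
        rw [map_inv, show φ a = a from ha] }
  have h1 : A ⊔ B ≤ F := sup_le hA hB
  rw [hAB] at h1
  ext g
  exact h1 (mem_top g)

/-- **(F3)** An automorphism which is trivial on `C(t)` is trivial or the conjugation by `t`. -/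
theorem eq_one_or_conj (L : MT n G) (hn : n = 8 ∨ n = 11) (hG : Gen L) {φ : MulAut G}
    (hφ : ∀ g ∈ centralizer ({L.t} : Set G), φ g = g) : φ = 1 ∨ φ = MulAut.conj L.t := by
  have h5 : 5 ≤ Fintype.card (Fin n) := by rw [Fintype.card_fin]; omega
  obtain ⟨u, hu, hu1, hut, hc⟩ := exists_u L hn
  have htop := hG u hu hu1 hut hc
  obtain ⟨L', hL'⟩ := L.exists_rebase hu hu1
  subst hL'
  have hφu : φ L'.t = L'.t := hφ _ (L.mem_iff.2 hc)
  set e := resAut L'.t φ hφu with he
  obtain ⟨σ, hσ⟩ := exists_perm L'.K (by omega) e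
  let t' : centralizer ({L'.t} : Set G) := ⟨L.t, L'.mem_iff.2 hc.symm⟩
  have hfix : ∀ g, g * t' = t' * g → e g = g := by
    intro g hg
    apply Subtype.ext
    rw [he, resAut_coe]
    exact hφ _ (L.mem_iff.2 (congrArg Subtype.val hg))
  have ht' : t' * t' = 1 := Subtype.ext L.t_mul_t
  rcases perm_of_fix hn L'.K ht' (fun h => L.t_ne (congrArg Subtype.val h))
    (fun h => hut.symm ((congrArg Subtype.val h).trans L'.hz)) hσ hfix with h | h
  · left
    refine eq_one_of_sup htop hφ ?_
    have h1 : e = 1 := eq_one_of_perm L'.K h5 (fun g => by rw [hσ, h]; group)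
    intro g hg
    exact congrArg (fun f : MulAut (centralizer ({L'.t} : Set G)) => ((f ⟨g, hg⟩ : centralizer ({L'.t} : Set G)) : G)) h1
  · right
    have h1 : e = MulAut.conj t' := eq_of_perm L'.K h5 hσ (fun g => by rw [π_conj, h])
    have h2 : (MulAut.conj L.t)⁻¹ * φ = 1 := by
      refine eq_one_of_sup htop ?_ ?_
      · intro g hg
        rw [MulAut.mul_apply, hφ g hg, MulAut.conj_inv_apply, mul_assoc, L.mem_iff.1 hg, inv_mul_cancel_left]
      · intro g hg
        have h3 : φ g = L.t * g * L.t⁻¹ :=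
          congrArg (fun f : MulAut (centralizer ({L'.t} : Set G)) =>
            ((f ⟨g, hg⟩ : centralizer ({L'.t} : Set G)) : G)) h1
        rw [MulAut.mul_apply, h3, MulAut.conj_inv_apply]
        group
    rw [inv_mul_eq_one] at h2
    exact h2.symm

/-- Up to an inner automorphism, every automorphism fixes `t`. -/
theorem exists_conj_fix (L : MT n G) (φ : MulAut G) : ∃ g : G, (MulAut.conj g * φ) L.t = L.t := by
  obtain ⟨g, hg⟩ := L.one (φ L.t) (by rw [← map_mul, L.t_mul_t, map_one])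
    (fun h => L.t_ne (φ.injective (h.trans (map_one φ).symm)))
  refine ⟨g⁻¹, ?_⟩
  rw [MulAut.mul_apply, MulAut.conj_apply, ← hg]
  group

/-- An automorphism fixing `t` acts on `C(t)` as a permutation `σ`. -/
theorem exists_sigma (L : MT n G) (hn : 7 ≤ n) {φ : MulAut G} (h : φ L.t = L.t) :
    ∃ σ : Perm (Fin n), ∀ g, L.K.π (resAut L.t φ h g) = σ * L.K.π g * σ⁻¹ :=
  exists_perm L.K hn _

/-- It is inner (by an element of `C(t)`) if `σ` is even. -/
theorem exists_conj_of_even (L : MT n G) (hn : n = 8 ∨ n = 11) (hG : Gen L) {φ : MulAut G} (h : φ L.t = L.t) {σ : Perm (Fin n)}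
    (hσ : ∀ g, L.K.π (resAut L.t φ h g) = σ * L.K.π g * σ⁻¹) (he : σ ∈ alternatingGroup (Fin n)) :
    ∃ c ∈ centralizer ({L.t} : Set G), φ = MulAut.conj c := by
  have h5 : 5 ≤ Fintype.card (Fin n) := by rw [Fintype.card_fin]; omega
  obtain ⟨c, -, hc⟩ := eq_conj_of_even L.K h5 hσ he
  have h1 : ∀ g ∈ centralizer ({L.t} : Set G), ((MulAut.conj (c : G))⁻¹ * φ) g = g := by
    intro g hg
    have h2 : φ g = c * g * (c : G)⁻¹ :=
      congrArg (fun f : MulAut (centralizer ({L.t} : Set G)) =>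
        ((f ⟨g, hg⟩ : centralizer ({L.t} : Set G)) : G)) hc
    rw [MulAut.mul_apply, h2, MulAut.conj_inv_apply]
    group
  rcases eq_one_or_conj L hn hG h1 with h2 | h2
  · rw [inv_mul_eq_one] at h2
    exact ⟨c, c.2, h2.symm⟩
  · refine ⟨c * L.t, mul_mem c.2 (L.mem_iff.2 rfl), ?_⟩
    rw [inv_mul_eq_iff_eq_mul, ← map_mul] at h2
    exact h2

/-- **(F4)** The product of two non-inner automorphisms is inner. -/
theorem mul_inner (L : MT n G) (hn : n = 8 ∨ n = 11) (hG : Gen L) {φ ψ : MulAut G} (hφ : ∀ g, φ ≠ MulAut.conj g)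
    (hψ : ∀ g, ψ ≠ MulAut.conj g) : ∃ g, φ * ψ = MulAut.conj g := by
  have h7 : 7 ≤ n := by omega
  obtain ⟨a, ha⟩ := exists_conj_fix L φ
  obtain ⟨b, hb⟩ := exists_conj_fix L ψ
  obtain ⟨σ, hσ⟩ := exists_sigma L h7 ha
  obtain ⟨τ, hτ⟩ := exists_sigma L h7 hb
  have hσ1 : Perm.sign σ = -1 := by
    rcases Int.units_eq_one_or (Perm.sign σ) with h | h
    · exfalso
      obtain ⟨c, -, hc⟩ := exists_conj_of_even L hn hG ha hσ (Perm.mem_alternatingGroup.2 h)
      apply hφ (a⁻¹ * c)
      rw [map_mul, map_inv, ← hc, inv_mul_cancel_left]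
    · exact h
  have hτ1 : Perm.sign τ = -1 := by
    rcases Int.units_eq_one_or (Perm.sign τ) with h | h
    · exfalso
      obtain ⟨c, -, hc⟩ := exists_conj_of_even L hn hG hb hτ (Perm.mem_alternatingGroup.2 h)
      apply hψ (b⁻¹ * c)
      rw [map_mul, map_inv, ← hc, inv_mul_cancel_left]
    · exact h
  have hab : ((MulAut.conj a * φ) * (MulAut.conj b * ψ)) L.t = L.t := by
    rw [MulAut.mul_apply, hb, ha]
  obtain ⟨c, -, hc⟩ := exists_conj_of_even L hn hG hab (σ := σ * τ) (fun g => by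
    have h1 : resAut L.t _ hab g = resAut L.t _ ha (resAut L.t _ hb g) := Subtype.ext rfl
    rw [h1, hσ, hτ]
    group) (by rw [Perm.mem_alternatingGroup, map_mul, hσ1, hτ1]; decide)
  refine ⟨(a * φ b)⁻¹ * c, ?_⟩
  have h2 : φ * MulAut.conj b = MulAut.conj (φ b) * φ := by
    ext x
    simp [MulAut.mul_apply, MulAut.conj_apply]
  have h3 : (MulAut.conj a * φ) * (MulAut.conj b * ψ) = MulAut.conj a * MulAut.conj (φ b) * (φ * ψ) := by
    calc (MulAut.conj a * φ) * (MulAut.conj b * ψ) = MulAut.conj a * (φ * MulAut.conj b) * ψ := by group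
      _ = _ := by rw [h2]; group
  rw [h3] at hc
  rw [map_mul, map_inv, map_mul, ← hc]
  group

/-- An automorphism fixing `t` which is not inner is given by an odd permutation. -/
theorem sign_eq (L : MT n G) (hn : n = 8 ∨ n = 11) (hG : Gen L) {φ : MulAut G} (hφ : ∀ g, φ ≠ MulAut.conj g) (h : φ L.t = L.t)
    {σ : Perm (Fin n)} (hσ : ∀ g, L.K.π (resAut L.t φ h g) = σ * L.K.π g * σ⁻¹) : Perm.sign σ = -1 := by
  rcases Int.units_eq_one_or (Perm.sign σ) with h1 | h1
  · obtain ⟨c, -, hc⟩ := exists_conj_of_even L hn hG h hσ (Perm.mem_alternatingGroup.2 h1)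
    exact absurd hc (hφ c)
  · exact h1

/-- The permutation of an involutory automorphism is an involution. -/
theorem sigma_mul_self (L : MT n G) (hn : 7 ≤ n) {φ : MulAut G} (h : φ L.t = L.t)
    (h2 : ∀ g ∈ centralizer ({L.t} : Set G), φ (φ g) = g) {σ : Perm (Fin n)}
    (hσ : ∀ g, L.K.π (resAut L.t φ h g) = σ * L.K.π g * σ⁻¹) : σ * σ = 1 := by
  refine perm_unique L.K hn (e := 1) ?_ ?_
  · intro g
    have h3 : resAut L.t φ h (resAut L.t φ h g) = g := Subtype.ext (h2 _ g.2)
    have h4 := hσ (resAut L.t φ h g)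
    rw [h3, hσ] at h4
    rw [MulAut.one_apply]
    calc L.K.π g = σ * (σ * L.K.π g * σ⁻¹) * σ⁻¹ := h4
      _ = σ * σ * L.K.π g * (σ * σ)⁻¹ := by group
  · intro g
    rw [MulAut.one_apply, inv_one, one_mul, mul_one]

/-- **(F4')** For a non-inner automorphism fixing `t`, of square one on `C(t)`: some `a` in `C(t)` is mapped to `a t`, and
`t` is the square of a fixed element of `C(t)`. -/
theorem exists_neg_pos (L : MT n G) (hn : n = 8 ∨ n = 11) (hG : Gen L) {φ : MulAut G} (hφ : ∀ g, φ ≠ MulAut.conj g)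
    (h : φ L.t = L.t) (h2 : ∀ g ∈ centralizer ({L.t} : Set G), φ (φ g) = g) :
    (∃ a, a * L.t = L.t * a ∧ φ a = a * L.t) ∧ ∃ q, q * L.t = L.t * q ∧ φ q = q ∧ q * q = L.t := by
  have h7 : 7 ≤ n := by omega
  obtain ⟨σ, hσ⟩ := exists_sigma L h7 h
  have h3 : σ ≠ 1 := by
    rintro rfl
    have h4 := sign_eq L hn hG hφ h hσ
    rw [map_one] at h4
    exact absurd h4 (by decide)
  obtain ⟨⟨a, ha⟩, q, hq, hqq⟩ := Cfsg.Agent.TypeM.CoverAut.exists_neg_pos L.K (by omega) hσ h3
    (sigma_mul_self L h7 h h2 hσ)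
  refine ⟨⟨a, L.mem_iff.1 a.2, ?_⟩, ⟨q, L.mem_iff.1 q.2, congrArg Subtype.val hq, ?_⟩⟩
  · have h4 := congrArg Subtype.val ha
    rw [Subgroup.coe_mul, L.hz] at h4
    exact h4
  · have h4 := congrArg Subtype.val hqq
    rw [Subgroup.coe_mul, L.hz] at h4
    exact h4

end aut

end Cfsg.Agent.TypeM.FactsAut
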