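import Cfsg.Agent.TypeM.OutLy
import Cfsg.Agent.TypeM.FactsLy
import Cfsg.Agent.TypeM.FactsAut
import Cfsg.Agent.S0477

/-!
# `Out(Ly) = 1`
-/

set_option autoImplicit false
set_option maxRecDepth 100000

namespace Cfsg.Agent.TypeM.OutLyFin

open scoped commutatorElement
open Subgroup Equiv Cfsg.Agent.SporRec.TwoAn Cfsg.Agent.TypeM.Two Cfsg.Agent.TypeM.OuterMcL Cfsg.Agent.TypeM.McLFromLy
  Cfsg.Agent.TypeM.CoverTools
open Cfsg.Agent.Ly.Mat7

/-! ### `C(x)` is perfect -/

/-- generators of a Sylow 3-subgroup of `C_H(x)` -/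
def w1 : List ℕ := [3, 2, 5, 2, 1, 7, 5, 6, 1, 6]
def w2 : List ℕ := [5, 6, 1, 6, 7, 2, 5, 2, 5, 4, 1, 1]

theorem chk1 : eqW (w1 ++ Cfsg.Agent.Ly.McL.Data.xw) (Cfsg.Agent.Ly.McL.Data.xw ++ w1) = true := by decide +kernel
theorem chk2 : eqW (w2 ++ Cfsg.Agent.Ly.McL.Data.xw) (Cfsg.Agent.Ly.McL.Data.xw ++ w2) = true := by decide +kernel
theorem chk3 : eqW (Cfsg.Agent.Ly.McL.Data.xw ++ (w1 ++ w2)) (w2 ++ w1) = true := by decide +kernel

section

variable {P : Type*} [Group P] {x : Fin 5 → P} (D : Cfsg.Agent.Ly.Upper.Data x)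

include D in
/-- `x` is a commutator in its centraliser -/
theorem exists_commutator : ∃ g h : centralizer ({ev (Cfsg.Agent.Ly.WalkCtx.X4 x) Cfsg.Agent.Ly.McL.Data.xw} : Set P),
    ((⁅g, h⁆ : centralizer ({ev (Cfsg.Agent.Ly.WalkCtx.X4 x) Cfsg.Agent.Ly.McL.Data.xw} : Set P)) : P) =
      ev (Cfsg.Agent.Ly.WalkCtx.X4 x) Cfsg.Agent.Ly.McL.Data.xw := by
  have h1 := Cfsg.Agent.Ly.McL.Main.com_word D chk1
  have h2 := Cfsg.Agent.Ly.McL.Main.com_word D chk2
  have h3 := D.wp _ _ chk3
  rw [ev_append, ev_append, ev_append] at h3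
  refine ⟨⟨_, mem_centralizer_singleton_iff.2 h2⟩, ⟨_, mem_centralizer_singleton_iff.2 h1⟩, ?_⟩
  rw [commutatorElement_def, Subgroup.coe_mul, Subgroup.coe_mul, Subgroup.coe_mul, Subgroup.coe_inv, Subgroup.coe_inv]
  show ev _ w2 * ev _ w1 * (ev _ w2)⁻¹ * (ev _ w1)⁻¹ = _
  rw [← h3]
  group

end

section

variable {G : Type*} [Group G]

/-- the quotient by the centre -/
theorem perfect {x : G} (hx : orderOf x = 3) (hZ : Nat.card (center (centralizer ({x} : Set G))) = 3)
    (hs : IsSimpleGroup (centralizer ({x} : Set G) ⧸ center (centralizer ({x} : Set G))))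
    (hnc : ∃ a b : centralizer ({x} : Set G) ⧸ center (centralizer ({x} : Set G)), a * b ≠ b * a)
    {g h : centralizer ({x} : Set G)} (hgh : ((⁅g, h⁆ : centralizer ({x} : Set G)) : G) = x) :
    commutator (centralizer ({x} : Set G)) = ⊤ := by
  have h1 : center (centralizer ({x} : Set G)) ≤ commutator (centralizer ({x} : Set G)) := by
    intro y hy
    obtain ⟨i, hi⟩ := mem_zpowers_iff.1 ((mem_center_iff_zpowers hx hZ).1 hy)
    have h2 : y = ⁅g, h⁆ ^ i := Subtype.ext (by rw [Subgroup.coe_zpow, hgh, hi])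
    rw [h2]
    refine zpow_mem ?_ i
    rw [commutator_def]
    exact commutator_mem_commutator (mem_top _) (mem_top _)
  have h2 : (commutator (centralizer ({x} : Set G))).map (QuotientGroup.mk' (center (centralizer ({x} : Set G)))) = ⊤ := by
    have hn : ((commutator (centralizer ({x} : Set G))).map
        (QuotientGroup.mk' (center (centralizer ({x} : Set G))))).Normal :=
      Subgroup.Normal.map inferInstance _ (QuotientGroup.mk'_surjective _)
    rcases hn.eq_bot_or_eq_top with h3 | h3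
    · exfalso
      obtain ⟨a, b, hab⟩ := hnc
      apply hab
      obtain ⟨a, rfl⟩ := QuotientGroup.mk_surjective a
      obtain ⟨b, rfl⟩ := QuotientGroup.mk_surjective b
      have h4 : QuotientGroup.mk' (center (centralizer ({x} : Set G))) ⁅a, b⁆ = 1 := by
        rw [← Subgroup.mem_bot, ← h3]
        refine mem_map_of_mem _ ?_
        rw [commutator_def]
        exact commutator_mem_commutator (mem_top _) (mem_top _)
      rw [map_commutatorElement, commutatorElement_eq_one_iff_mul_comm] at h4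
      exact h4
    · exact h3
  rw [eq_top_iff]
  intro y _
  have h3 : QuotientGroup.mk' (center (centralizer ({x} : Set G))) y ∈
      (commutator (centralizer ({x} : Set G))).map (QuotientGroup.mk' (center (centralizer ({x} : Set G)))) := by
    rw [h2]; exact mem_top _
  obtain ⟨c, hc, hcy⟩ := mem_map.1 h3
  have h4 : c⁻¹ * y ∈ center (centralizer ({x} : Set G)) := by
    rw [← QuotientGroup.eq]
    exact hcy
  have h5 : y = c * (c⁻¹ * y) := by group
  rw [h5]
  exact mul_mem hc (h1 h4)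

/-- a group of type `MT n` is not commutative -/
theorem not_comm {n : ℕ} (hn : 4 ≤ n) (L : MT n G) : ∃ a b : G, a * b ≠ b * a := by
  by_contra hcon
  push Not at hcon
  have h1 := L.K.z_mem_commutator (by rw [Fintype.card_fin]; exact hn)
  have h2 : commutator (centralizer ({L.t} : Set G)) = ⊥ := by
    rw [commutator_def, commutator_eq_bot_iff_le_centralizer]
    intro a _
    rw [mem_centralizer_iff]
    intro b _
    exact Subtype.ext (hcon _ _)
  rw [h2, mem_bot] at h1
  exact L.K.z_ne h1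

end

section

variable {G : Type*} [Group G] [Finite G]

/-- the data for `OutLy.inner_of_data` -/
theorem exists_out_data (L : MT 11 G) {x : G} (hx : orderOf x = 3)
    (hcard : Nat.card (centralizer ({x} : Set G)) = 2694384000)
    (hZ : Nat.card (center (centralizer ({x} : Set G))) = 3)
    (hs : IsSimpleGroup (centralizer ({x} : Set G) ⧸ center (centralizer ({x} : Set G))))
    {g h : centralizer ({x} : Set G)} (hgh : ((⁅g, h⁆ : centralizer ({x} : Set G)) : G) = x) :
    ∃ (L' : MT 11 G) (htx : L'.t * x = x * L'.t), (L'.K.π (xc htx)).support.card = 3 ∧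
      commutator (centralizer ({x} : Set G)) = ⊤ ∧
      ∃ L8 : MT 8 (centralizer ({x} : Set G) ⧸ center (centralizer ({x} : Set G))), L8.t = tb htx := by
  obtain ⟨s, h1, h2, h3, h4⟩ := exists_involution (x := x) (by rw [hcard]; norm_num)
  obtain ⟨L', rfl⟩ := L.exists_rebase h1 h2
  have h5 : (L'.K.π (xc h3)).support.card = 3 := by
    refine card_support_of_three L'.K (xc_cube hx h3) (fun e => ?_) ?_
    · have : x = 1 := congrArg Subtype.val e
      rw [this, orderOf_one] at hx
      omega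
    · refine h4.trans ?_
      have hle : (centralizer ({x} : Set G) ⊓ centralizer ({L'.t} : Set G)).subgroupOf (centralizer ({L'.t} : Set G)) ≤
          centralizer ({xc h3} : Set (centralizer ({L'.t} : Set G))) := by
        intro y hy
        rw [mem_subgroupOf] at hy
        rw [mem_centralizer_singleton_iff]
        exact Subtype.ext (mem_centralizer_singleton_iff.1 hy.1)
      have h5 := card_dvd_of_le hle
      rwa [Nat.card_congr (subgroupOfEquivOfLe (inf_le_right :
        centralizer ({x} : Set G) ⊓ centralizer ({L'.t} : Set G) ≤ centralizer ({L'.t} : Set G))).toEquiv] at h5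
  obtain ⟨K, hK⟩ := exists_cover L'.K hx hZ h3 h1 L'.hz h5
  have ho : orderOf (tb h3) = 2 := by rw [← hK, Subgroup.orderOf_coe, K.orderOf_z]
  obtain ⟨L8, hL8⟩ := exists_mt (n := 8) (by norm_num) (by norm_num) (tb h3) ho (isNonsplit_of_cover K (by norm_num))
  exact ⟨L', h3, h5, perfect hx hZ hs (not_comm (by norm_num) L8) hgh, L8, hL8⟩

end

/-! ### the two facts on automorphisms -/

section

variable {n : ℕ} {G : Type*} [Group G]

theorem exPerm (L : MT n G) (hn : 7 ≤ n) : ExPerm L := by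
  intro φ h
  obtain ⟨σ, hσ⟩ := FactsAut.exists_sigma L hn h
  refine ⟨σ, fun g k hk => ?_⟩
  have h1 : k = FactsAut.resAut L.t φ h g := Subtype.ext hk
  rw [h1, hσ]

theorem evenInner [Finite G] (L : MT n G) (hn : n = 8 ∨ n = 11) (hG : FactsAut.OrderEq n G) : EvenInner L := by
  intro φ σ h hσ hs
  obtain ⟨c, -, hc⟩ := FactsAut.exists_conj_of_even L hn (FactsAut.gen L hG) h (σ := σ) (fun g => hσ g _ rfl)
    (Perm.mem_alternatingGroup.2 hs)
  exact ⟨c, hc.symm⟩

end

/-- **All automorphisms of the Lyons group are inner.** -/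
theorem inner_ly (φ : MulAut Cfsg.Spor.Ly) : φ ∈ (MulAut.conj : Cfsg.Spor.Ly →* MulAut Cfsg.Spor.Ly).range := by
  have hfin : Finite Cfsg.Spor.Ly := Cfsg.Agent.Ly.Setup.finite_ly
  have hA0 : Nat.card Cfsg.Agent.Ly.McL.Cent.A0 ≤ 378000 :=
    Cfsg.Agent.Ly.McL.ClassX.card_centralizer_x_le Cfsg.Agent.Ly.T1.card_Hhat
  obtain ⟨h1, h2, h3, h4⟩ := Cfsg.Agent.Ly.McL.Main.main Cfsg.Agent.Ly.Index.data Cfsg.Agent.Ly.Pres.closure_gens
    Cfsg.Agent.Ly.Setup.card_ly hA0
  have hx := Cfsg.Agent.Ly.McL.Main.order_x' Cfsg.Agent.Ly.Index.data Cfsg.Agent.Ly.Pres.closure_gens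
    Cfsg.Agent.Ly.Setup.card_ly
  obtain ⟨L⟩ := FactsLy.exists_mt_ly
  obtain ⟨g, h, hgh⟩ := exists_commutator Cfsg.Agent.Ly.Index.data
  obtain ⟨L', htx, h5, h6, L8, hL8⟩ := exists_out_data L hx h1 h2 h3 hgh
  exact OutLy.inner_of_data L' (exPerm L' (by norm_num)) (evenInner L' (Or.inr rfl)
    (Or.inr ⟨rfl, Cfsg.Agent.Ly.Setup.card_ly⟩)) hx h2 htx h5 h6 L8 hL8 (evenInner L8 (Or.inl rfl) (Or.inl ⟨rfl, h4⟩)) φ

/-- **All automorphisms of a group isomorphic to the Lyons group are inner.** -/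
theorem inner {M : Type*} [Group M] (h : Cfsg.Spor.IsoLy M) (φ : MulAut M) :
    φ ∈ (MulAut.conj : M →* MulAut M).range := by
  obtain ⟨e⟩ := h
  obtain ⟨g, hg⟩ := inner_ly ((e.symm.trans φ).trans e)
  refine ⟨e.symm g, ?_⟩
  ext y
  have h1 := DFunLike.congr_fun hg (e y)
  rw [MulAut.conj_apply] at h1
  have h2 := congrArg e.symm h1
  simpa only [map_mul, map_inv, MulEquiv.symm_apply_apply, MulEquiv.trans_apply, MulAut.conj_apply] using h2

end Cfsg.Agent.TypeM.OutLyFin
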