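import Mathlib

/-!
# 2-subgroups which are congruent modulo an odd subgroup are conjugate under it

`conj_exact`, `frattini_exact`, `exists_oddPart` (the odd part of a group with a central subgroup containing all
2-elements); used in piece [WA] of Theorem W, S1739.
-/

set_option autoImplicit false

namespace Cfsg.Agent.TypeM.OddConj

open Subgroup Pointwise

variable {G : Type*} [Group G]

/-- an element of 2-power order and of odd order is trivial -/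
theorem eq_one_of_two {x : G} {P : Subgroup G} (hP : IsPGroup 2 P) (hx : x ∈ P) (ho : Odd (orderOf x)) : x = 1 := by
  obtain ⟨n, hn⟩ := hP ⟨x, hx⟩
  have h1 : x ^ 2 ^ n = 1 := congrArg Subtype.val hn
  have h2 : orderOf x ∣ 2 ^ n := orderOf_dvd_of_pow_eq_one h1
  have h3 : Nat.Coprime (orderOf x) (2 ^ n) := Nat.Coprime.pow_right n ho.coprime_two_right
  exact orderOf_eq_one_iff.1 (Nat.eq_one_of_dvd_coprimes h3 dvd_rfl h2)

/-- **Conjugacy of congruent 2-subgroups.** -/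
theorem conj_exact [Finite G] {O T₁ T₂ : Subgroup G} (hO : ∀ x ∈ O, Odd (orderOf x)) (h₁ : IsPGroup 2 T₁)
    (h₂ : IsPGroup 2 T₂) (hn : ∀ y ∈ T₂, ∀ o ∈ O, y * o * y⁻¹ ∈ O) (h : ∀ x ∈ T₁, ∃ y ∈ T₂, y⁻¹ * x ∈ O) :
    ∃ n ∈ O, ∀ x ∈ T₁, ∀ y ∈ T₂, y⁻¹ * x ∈ O → n * x * n⁻¹ = y := by
  classical
  have hinv : ∀ y ∈ T₂, ∀ o ∈ O, y⁻¹ * o * y ∈ O := fun y hy o ho => by
    have := hn y⁻¹ (inv_mem hy) o ho
    rwa [inv_inv] at this
  -- `W = T₂ O`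
  let W : Subgroup G :=
    { carrier := {x | ∃ y ∈ T₂, ∃ o ∈ O, x = y * o}
      one_mem' := ⟨1, one_mem _, 1, one_mem _, by simp⟩
      mul_mem' := by
        rintro _ _ ⟨y, hy, o, ho, rfl⟩ ⟨y', hy', o', ho', rfl⟩
        refine ⟨y * y', mul_mem hy hy', (y'⁻¹ * o * y') * o', mul_mem (hinv y' hy' o ho) ho', by group⟩
      inv_mem' := by
        rintro _ ⟨y, hy, o, ho, rfl⟩
        exact ⟨y⁻¹, inv_mem hy, y * o⁻¹ * y⁻¹, hn y hy _ (inv_mem ho), by group⟩ }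
  have hW₂ : T₂ ≤ W := fun y hy => ⟨y, hy, 1, one_mem _, by simp⟩
  have hW₁ : T₁ ≤ W := by
    intro x hx
    obtain ⟨y, hy, ho⟩ := h x hx
    exact ⟨y, hy, _, ho, by group⟩
  obtain ⟨P₁, hP₁⟩ := (h₁.of_equiv (Subgroup.subgroupOfEquivOfLe hW₁).symm).exists_le_sylow
  obtain ⟨P₂, hP₂⟩ := (h₂.of_equiv (Subgroup.subgroupOfEquivOfLe hW₂).symm).exists_le_sylow
  -- `P₂ = T₂`
  have hP : ∀ x : W, x ∈ (P₂ : Subgroup W) → (x : G) ∈ T₂ := by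
    rintro ⟨x, hxW⟩ hx
    obtain ⟨y, hy, o, ho, rfl⟩ := hxW
    have h3 : (⟨y, hW₂ hy⟩ : W) ∈ (P₂ : Subgroup W) := hP₂ (Subgroup.mem_subgroupOf.2 hy)
    have h4 := (P₂ : Subgroup W).mul_mem ((P₂ : Subgroup W).inv_mem h3) hx
    have h5 : IsPGroup 2 ((P₂ : Subgroup W).map W.subtype) := P₂.2.map _
    have h6 : o ∈ (P₂ : Subgroup W).map W.subtype := ⟨_, h4, by simp⟩
    have h7 : o = 1 := eq_one_of_two h5 h6 (hO o ho)
    show y * o ∈ T₂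
    rw [h7, mul_one]
    exact hy
  obtain ⟨w, hw⟩ := MulAction.exists_smul_eq W P₁ P₂
  obtain ⟨y₀, hy₀, n, hnO, hw'⟩ := w.2
  refine ⟨n, hnO, ?_⟩
  intro x hx y hy hxy
  have h1 : w * ⟨x, hW₁ hx⟩ * w⁻¹ ∈ (P₂ : Subgroup W) := by
    rw [← hw]
    exact Subgroup.smul_mem_pointwise_smul _ (MulAut.conj w) _ (hP₁ (Subgroup.mem_subgroupOf.2 hx))
  have h2 := hP _ h1
  have h3 : ((w * ⟨x, hW₁ hx⟩ * w⁻¹ : W) : G) = y₀ * (n * x * n⁻¹) * y₀⁻¹ := by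
    simp only [Subgroup.coe_mul, Subgroup.coe_inv]
    rw [hw']
    group
  rw [h3] at h2
  have h4 : n * x * n⁻¹ ∈ T₂ := by
    have h5 := mul_mem (mul_mem (inv_mem hy₀) h2) hy₀
    have h6 : y₀⁻¹ * (y₀ * (n * x * n⁻¹) * y₀⁻¹) * y₀ = n * x * n⁻¹ := by group
    rwa [h6] at h5
  have h5 : y⁻¹ * (n * x * n⁻¹) ∈ O := by
    have h6 : y⁻¹ * (n * x * n⁻¹) = (y⁻¹ * n * y) * (y⁻¹ * x) * n⁻¹ := by group
    rw [h6]
    exact mul_mem (mul_mem (hinv y hy n hnO) hxy) (inv_mem hnO)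
  have h6 := eq_one_of_two h₂ (mul_mem (inv_mem hy) h4) (hO _ h5)
  exact (inv_mul_eq_one.1 h6).symm

/-- **Frattini argument**: an element `g` with `T ^ g ≤ T O` can be corrected by an element of `O`. -/
theorem frattini_exact [Finite G] {O T : Subgroup G} (hO : ∀ x ∈ O, Odd (orderOf x)) (hT : IsPGroup 2 T)
    (hn : ∀ y ∈ T, ∀ o ∈ O, y * o * y⁻¹ ∈ O) {g : G} (hg : ∀ x ∈ T, ∃ y ∈ T, y⁻¹ * (g * x * g⁻¹) ∈ O) :
    ∃ n ∈ O, ∀ x ∈ T, ∀ y ∈ T, y⁻¹ * (g * x * g⁻¹) ∈ O → (n * g) * x * (n * g)⁻¹ = y := by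
  obtain ⟨n, hn1, hn2⟩ := conj_exact (T₁ := T.map (MulAut.conj g).toMonoidHom) hO (hT.map _) hT hn (by
    rintro _ ⟨x, hx, rfl⟩
    exact hg x hx)
  refine ⟨n, hn1, fun x hx y hy h => ?_⟩
  have h1 := hn2 (g * x * g⁻¹) ⟨x, hx, rfl⟩ y hy h
  rw [← h1]
  group

/-- A power of `g` of odd order which is congruent to `g` modulo the 2-part: `g ^ j`, `j = 4 ^ a`. -/
theorem exists_odd_pow [Finite G] (g : G) : ∃ a : ℕ, Odd (orderOf (g ^ 4 ^ a)) := by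
  obtain ⟨k, m, hm, hk⟩ := Nat.exists_eq_two_pow_mul_odd (orderOf_pos g).ne'
  refine ⟨k, ?_⟩
  have h1 : (g ^ 4 ^ k) ^ m = 1 := by
    rw [← pow_mul, show (4 : ℕ) ^ k * m = orderOf g * 2 ^ k by
      rw [hk, show (4 : ℕ) = 2 * 2 by norm_num, mul_pow]; ring, pow_mul, pow_orderOf_eq_one, one_pow]
  exact Odd.of_dvd_nat hm (orderOf_dvd_of_pow_eq_one h1)

/-- an odd power which is a 2-element -/
theorem exists_two_pow [Finite G] (g : G) : ∃ m : ℕ, Odd m ∧ ∃ n : ℕ, (g ^ m) ^ 2 ^ n = 1 := by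
  obtain ⟨k, m, hm, hk⟩ := Nat.exists_eq_two_pow_mul_odd (orderOf_pos g).ne'
  exact ⟨m, hm, k, by rw [← pow_mul, mul_comm, ← hk, pow_orderOf_eq_one]⟩

end Cfsg.Agent.TypeM.OddConj
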