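import Cfsg.Agent.TypeM.OuterInst

/-!
# Outer involutory automorphisms of `McL`

If a group of type `MT n`, `n = 8` or `11`, has an outer automorphism, it has one of order two.
-/

set_option autoImplicit false

namespace Cfsg.Agent.TypeM.OuterInvol

open Subgroup Equiv Cfsg.Agent.SporRec.TwoAn Cfsg.Agent.TypeM.Two Cfsg.Agent.TypeM.FactsAut
open Cfsg.Agent.TypeM.CoverAut

variable {n : ℕ} {M : Type*} [Group M]

/-- composition with inner automorphisms -/
theorem not_mem_of {φ : MulAut M} (hφ : φ ∉ (MulAut.conj : M →* MulAut M).range) (g : M) :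
    MulAut.conj g * φ ∉ (MulAut.conj : M →* MulAut M).range := by
  intro h
  apply hφ
  have h1 : φ = MulAut.conj g⁻¹ * (MulAut.conj g * φ) := by
    rw [← mul_assoc, ← map_mul, inv_mul_cancel, map_one, one_mul]
  rw [h1]
  exact mul_mem ⟨g⁻¹, rfl⟩ h

/-- `φ ∘ conj x = conj (φ x) ∘ φ` -/
theorem mul_conj (φ : MulAut M) (x : M) : φ * MulAut.conj x = MulAut.conj (φ x) * φ := by
  ext w
  simp only [MulAut.mul_apply, MulAut.conj_apply, map_mul, map_inv]

/-- An outer automorphism of square one on `C(t)`, for a given odd involution `τ`. -/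
theorem exists_outer_sq (L : MT n M) (hn : n = 8 ∨ n = 11) (hG : Gen L)
    (h : ∃ φ : MulAut M, φ ∉ (MulAut.conj : M →* MulAut M).range) {τ : Perm (Fin n)}
    (hτ : Perm.sign τ = -1) (hττ : τ * τ = 1) :
    ∃ (φ : MulAut M) (ht : φ L.t = L.t), φ ∉ (MulAut.conj : M →* MulAut M).range ∧
      (∀ g, L.K.π (resAut L.t φ ht g) = τ * L.K.π g * τ⁻¹) ∧
      ∀ g ∈ centralizer ({L.t} : Set M), φ (φ g) = g := by
  have h7 : 7 ≤ n := by omega
  obtain ⟨φ, hφ⟩ := h
  obtain ⟨a, ha⟩ := exists_conj_fix L φ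
  have hφ1 := not_mem_of hφ a
  obtain ⟨φ', hφ'⟩ : ∃ φ', φ' = MulAut.conj a * φ := ⟨_, rfl⟩
  rw [← hφ'] at ha hφ1
  clear hφ' hφ
  obtain ⟨σ, hσ⟩ := exists_sigma L h7 ha
  have hs : Perm.sign σ = -1 := sign_eq L hn hG (fun g h => hφ1 ⟨g, h.symm⟩) ha hσ
  have hev : τ * σ⁻¹ ∈ alternatingGroup (Fin n) := by
    rw [Perm.mem_alternatingGroup, map_mul, map_inv, hs, hτ]
    decide
  obtain ⟨c, hc⟩ := L.K.exists_lift hev
  have hct : (c : M) * L.t = L.t * c := L.mem_iff.1 c.2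
  have ht : (MulAut.conj (c : M) * φ') L.t = L.t := by
    rw [MulAut.mul_apply, ha, MulAut.conj_apply, hct, mul_inv_cancel_right]
  have hact : ∀ g, L.K.π (resAut L.t (MulAut.conj (c : M) * φ') ht g) = τ * L.K.π g * τ⁻¹ := by
    intro g
    have h1 : resAut L.t (MulAut.conj (c : M) * φ') ht g = MulAut.conj c (resAut L.t φ' ha g) :=
      Subtype.ext rfl
    rw [h1, π_conj, hσ, hc]
    group
  refine ⟨MulAut.conj (c : M) * φ', ht, not_mem_of hφ1 c, hact, ?_⟩
  intro g hg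
  have h1 : resAut L.t (MulAut.conj (c : M) * φ') ht * resAut L.t (MulAut.conj (c : M) * φ') ht = 1 := by
    apply eq_one_of_perm L.K (by rw [Fintype.card_fin]; omega)
    intro x
    rw [MulAut.mul_apply, hact, hact]
    calc τ * (τ * L.K.π x * τ⁻¹) * τ⁻¹ = (τ * τ) * L.K.π x * (τ * τ)⁻¹ := by group
      _ = L.K.π x := by rw [hττ, inv_one, one_mul, mul_one]
  exact congrArg Subtype.val (DFunLike.congr_fun h1 ⟨g, hg⟩)

/-- **(G2)** An outer automorphism of order two. -/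
theorem exists_outer_involution (L : MT n M) (hn : n = 8 ∨ n = 11) (hG : Gen L)
    (h : ∃ φ : MulAut M, φ ∉ (MulAut.conj : M →* MulAut M).range) :
    ∃ φ : MulAut M, φ ∉ (MulAut.conj : M →* MulAut M).range ∧ φ * φ = 1 := by
  obtain ⟨i, j, hij⟩ : ∃ i j : Fin n, i ≠ j :=
    ⟨⟨0, by omega⟩, ⟨1, by omega⟩, fun h => absurd (congrArg Fin.val h) (by norm_num)⟩
  obtain ⟨φ, ht, hφ, -, h2⟩ := exists_outer_sq L hn hG h (τ := swap i j) (Perm.sign_swap hij) (swap_mul_self i j)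
  obtain ⟨-, q, hqt, hq, hqq⟩ := exists_neg_pos L hn hG (fun g h => hφ ⟨g, h.symm⟩) ht h2
  rcases eq_one_or_conj L hn hG (φ := φ * φ) h2 with h3 | h3
  · exact ⟨φ, hφ, h3⟩
  · refine ⟨MulAut.conj q * φ, not_mem_of hφ q, ?_⟩
    calc MulAut.conj q * φ * (MulAut.conj q * φ) = MulAut.conj q * (φ * MulAut.conj q) * φ := by group
      _ = MulAut.conj q * MulAut.conj q * (φ * φ) := by rw [mul_conj, hq]; group
      _ = MulAut.conj (q * q * L.t) := by rw [h3, ← map_mul, ← map_mul]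
      _ = 1 := by rw [hqq, L.t_mul_t, map_one]

end Cfsg.Agent.TypeM.OuterInvol
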