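import Cfsg.Agent.TypeM.LiftE32

/-!
# Lift: from `LHyp` and `LFacts` to the two `EConf`'s in `G` (Theorem W, S1739)
-/

set_option autoImplicit false

namespace Cfsg.Agent.TypeM

open Subgroup

/-- Two involutions congruent modulo an odd normal subgroup `N` are conjugate under `N`. -/
theorem exists_conj_of_odd {K : Type*} [Group K] {N : Subgroup K} (hN : Odd (Nat.card N)) {x y : K}
    (hx : x * x = 1) (hy : y * y = 1) (hxy : x * y ∈ N) : ∃ r ∈ N, r * x * r⁻¹ = y := by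
  have h1 : orderOf (x * y) ∣ Nat.card N := Subgroup.orderOf_dvd_natCard N hxy
  obtain ⟨m, hm⟩ : Odd (orderOf (x * y)) := Odd.of_dvd_nat hN h1
  have hinv : x * (x * y) * x = (x * y)⁻¹ := by
    rw [mul_inv_rev, inv_eq_of_mul_eq_one_right hx, inv_eq_of_mul_eq_one_right hy]
    calc x * (x * y) * x = (x * x) * y * x := by group
      _ = y * x := by rw [hx, one_mul]
  have hx' : x⁻¹ = x := inv_eq_of_mul_eq_one_right hx
  have hpow : ∀ k : ℕ, x * (x * y) ^ k * x = ((x * y) ^ k)⁻¹ := by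
    intro k
    have h2 : x * (x * y) ^ k * x⁻¹ = (x * (x * y) * x⁻¹) ^ k := (conj_pow).symm
    rw [hx'] at h2
    rw [h2, hinv, inv_pow]
  set r := (x * y) ^ (m + 1) with hr
  have hrr : r * r = x * y := by
    rw [hr, ← pow_add]
    have h2 : m + 1 + (m + 1) = orderOf (x * y) + 1 := by omega
    rw [h2, pow_succ, pow_orderOf_eq_one, one_mul]
  refine ⟨r⁻¹, N.inv_mem (N.pow_mem hxy _), ?_⟩
  have h3 : x * r⁻¹ * x = r := by
    have h4 := hpow (m + 1)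
    rw [← hr] at h4
    calc x * r⁻¹ * x = x * (x * r * x) * x := by rw [h4]
      _ = (x * x) * r * (x * x) := by group
      _ = r := by rw [hx, one_mul, mul_one]
  calc r⁻¹ * x * r⁻¹⁻¹ = (x * x) * r⁻¹ * x * r := by rw [hx]; group
    _ = x * (x * r⁻¹ * x) * r := by group
    _ = x * (r * r) := by rw [h3]; group
    _ = (x * x) * y := by rw [hrr]; group
    _ = y := by rw [hx, one_mul]

namespace LHyp

variable {G L : Type*} [Group G] [Group L] {t : G} {K : Subgroup G} {π : K →* L}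

/-- all involutions of `K` are conjugate in `K` to `e 1` -/
theorem exists_conj_e1 (H : LHyp t K π) {ε s : ℕ → L} {e f : ℕ → G} (I : IsLift π ε s e f)
    (one : ∀ x : L, x * x = 1 → x ≠ 1 → ∃ g, g * x * g⁻¹ = ε 1) {k : G} (hk : k ∈ K) (hkk : k * k = 1)
    (hk1 : k ≠ 1) : ∃ c ∈ K, c * k * c⁻¹ = e 1 := by
  have h0 : π ⟨k, hk⟩ ≠ 1 := by
    intro h
    have h1 : (⟨k, hk⟩ : K) = 1 := eq_one_of_two_odd (twoElt_of_sq (Subtype.ext hkk)) H.odd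
      (MonoidHom.mem_ker.mpr h)
    exact hk1 (congrArg Subtype.val h1)
  obtain ⟨g, hg⟩ := one (π ⟨k, hk⟩) (by
    rw [← map_mul]
    have h1 : (⟨k, hk⟩ : K) * ⟨k, hk⟩ = 1 := Subtype.ext hkk
    rw [h1, map_one]) h0
  obtain ⟨k0, rfl⟩ := H.surj g
  obtain ⟨h1, h2⟩ := I.ev 1 (by norm_num)
  obtain ⟨r, _, hr⟩ := exists_conj_of_odd H.odd (x := k0 * ⟨k, hk⟩ * k0⁻¹) (y := ⟨e 1, h1⟩)
    (by
      have h3 : (⟨k, hk⟩ : K) * ⟨k, hk⟩ = 1 := Subtype.ext hkk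
      calc k0 * ⟨k, hk⟩ * k0⁻¹ * (k0 * ⟨k, hk⟩ * k0⁻¹) = k0 * (⟨k, hk⟩ * ⟨k, hk⟩) * k0⁻¹ := by group
        _ = 1 := by rw [h3]; group)
    (Subtype.ext (lift_sq I (by norm_num)))
    (by
      rw [MonoidHom.mem_ker, map_mul, map_mul, map_mul, map_inv, hg, h2]
      have h3 : (⟨e 1, h1⟩ : K) * ⟨e 1, h1⟩ = 1 := Subtype.ext (lift_sq I (by norm_num))
      rw [← h2, ← map_mul, h3, map_one])
  refine ⟨((r * k0 : K) : G), (r * k0).2, ?_⟩
  have h4 := congrArg Subtype.val hr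
  have h5 : ((r * (k0 * ⟨k, hk⟩ * k0⁻¹) * r⁻¹ : K) : G) = (r : G) * ((k0 : G) * k * (k0 : G)⁻¹) * (r : G)⁻¹ := rfl
  rw [h5] at h4
  have h6 : ((r * k0 : K) : G) * k * ((r * k0 : K) : G)⁻¹ = (r : G) * ((k0 : G) * k * (k0 : G)⁻¹) * (r : G)⁻¹ := by
    push_cast
    group
  exact h6.trans h4

theorem exists_conj_te1 (H : LHyp t K π) {ε s : ℕ → L} {e f : ℕ → G} (I : IsLift π ε s e f)
    (one : ∀ x : L, x * x = 1 → x ≠ 1 → ∃ g, g * x * g⁻¹ = ε 1)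
    (hfus : ∃ k ∈ K, k * k = 1 ∧ k ≠ 1 ∧ IsConj t (t * k)) : IsConj t (t * e 1) := by
  obtain ⟨k, hk, hkk, hk1, hc⟩ := hfus
  obtain ⟨c, hc', h1⟩ := H.exists_conj_e1 I one hk hkk hk1
  refine hc.trans (isConj_iff.mpr ⟨c, ?_⟩)
  calc c * (t * k) * c⁻¹ = (c * t) * k * c⁻¹ := by group
    _ = t * (c * k * c⁻¹) := by rw [← H.Kt c hc']; group
    _ = t * e 1 := by rw [h1]

/-- **Lift, summary**: the two configurations `EConf` for `E` and `E'`, the list of the `E₃₂`'s of `C(t)` on `t`,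
and the action of `C(t)` on `E`, `E'`. -/
theorem exists_econf [Finite L] [Finite G] (H : LHyp t K π) {ε s ε' s' : ℕ → L} (F : LFacts ε s ε' s')
    (o1 : ∀ φ : MulAut L, (∀ i < 16, ∃ j < 16, φ (ε i) = ε j) → φ ∈ (MulAut.conj : L →* MulAut L).range)
    (o1' : ∀ φ : MulAut L, (∀ i < 16, ∃ j < 16, φ (ε' i) = ε' j) → φ ∈ (MulAut.conj : L →* MulAut L).range)
    (o2 : ∀ φ : MulAut L, φ * φ = 1 → ∀ A : Subgroup L, (∀ x ∈ A, x * x = 1) → Nat.card A = 8 →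
      (∀ x ∈ A, φ x = x) → φ ∈ (MulAut.conj : L →* MulAut L).range)
    (o3 : ∀ φ ψ : MulAut L, φ ∉ (MulAut.conj : L →* MulAut L).range → ψ ∉ (MulAut.conj : L →* MulAut L).range →
      φ * ψ ∈ (MulAut.conj : L →* MulAut L).range)
    (hfus : ∃ k ∈ K, k * k = 1 ∧ k ≠ 1 ∧ IsConj t (t * k)) :
    ∃ e f e' f' : ℕ → G, IsLift π ε s e f ∧ IsLift π ε' s' e' f' ∧ EConf t e f (NE K e) ∧
      EConf t e' f' (NE K e') ∧
      (∀ R : Subgroup G, t ∈ R → (∀ x ∈ R, x * x = 1) → Nat.card R = 32 → ∃ c, c * t = t * c ∧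
        ((∀ x ∈ R, ∃ i < 16, c * x * c⁻¹ = e i ∨ c * x * c⁻¹ = t * e i) ∨
          (∀ x ∈ R, ∃ i < 16, c * x * c⁻¹ = e' i ∨ c * x * c⁻¹ = t * e' i))) ∧
      (∀ c : G, c * t = t * c → (∀ i < 16, ∃ j < 16, c * e i * c⁻¹ = e j) →
        ∃ w : List ℕ, (∀ k ∈ w, k < 5) ∧ ∀ i < 16, c * e i * c⁻¹ = e (act w i)) ∧
      (∀ c : G, c * t = t * c → (∀ i < 16, ∃ j < 16, c * e' i * c⁻¹ = e' j) →
        ∃ w : List ℕ, (∀ k ∈ w, k < 5) ∧ ∀ i < 16, c * e' i * c⁻¹ = e' (act w i)) := by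
  obtain ⟨e, f, I, HE⟩ := H.exists_pre F.E o1
  obtain ⟨e', f', I', HE'⟩ := H.exists_pre F.E' o1'
  have h1 := H.exists_conj32 F I I' HE HE' o2 o3
  have h2 := H.exists_conj_te1 I F.one hfus
  have h3 := H.exists_conj_te1 I' (by
    intro x hx hx1
    obtain ⟨g, hg⟩ := F.one x hx hx1
    exact ⟨g, by rw [hg, F.low 1 (by norm_num)]⟩) hfus
  refine ⟨e, f, e', f', I, I', HE.toEConf ?_, HE'.toEConf ?_, h1, ?_, ?_⟩
  · exact HE.exists_x0 HE' ⟨1, by norm_num, by norm_num, h2⟩ h1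
  · refine HE'.exists_x0 HE ⟨1, by norm_num, by norm_num, h3⟩ ?_
    intro R htR hR hc
    obtain ⟨c, hc1, hc2⟩ := h1 R htR hR hc
    exact ⟨c, hc1, hc2.symm⟩
  · exact fun c hct hc => H.exists_word F.E I o1 hct hc
  · exact fun c hct hc => H.exists_word F.E' I' o1' hct hc

end LHyp

end Cfsg.Agent.TypeM
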