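import Cfsg.Agent.McLLyComp.Defs
import Cfsg.Agent.TypeM.Lift

/-!
# Bridge: from a 2-component `K` of `C(t)` of type `𝒯` to `LHyp` with `L = K / O(K)` (Theorem W, S1739)
-/

set_option autoImplicit false

open Cfsg Subgroup
open Cfsg.Agent.SignalizersComponents Cfsg.Agent.Lib
open Cfsg.Agent.SignalizersComponents.IntrinsicBasic
open Cfsg.Agent.Intrinsic.Basic Cfsg.Agent.Intrinsic.Cen
open Cfsg.Agent.McLLyComp.Defs
open scoped commutatorElement

universe u

namespace Cfsg.Agent.TypeM.Bridge

variable {𝒯 : Ty.{u}} {G : Type u} [Group G] [Finite G]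

theorem odd_oddCore (K : Subgroup G) : Odd (Nat.card (oddCore ↥K)) := by
  have h1 := odd_card_core K
  have h2 : Nat.card (core K) = Nat.card (oddCore ↥K) :=
    (Nat.card_congr ((oddCore ↥K).equivMapOfInjective K.subtype K.subtype_injective).toEquiv).symm
  rwa [h2] at h1

/-- A perfect group with simple quotient `K / N`: the quotient has trivial centre. -/
theorem center_quot {K : Type*} [Group K] (hK : ⁅(⊤ : Subgroup K), (⊤ : Subgroup K)⁆ = ⊤) (N : Subgroup K) [N.Normal]
    (hs : IsSimpleGroup (K ⧸ N)) (l : K ⧸ N) (hl : ∀ m, l * m = m * l) : l = 1 := by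
  have h1 : l ∈ center (K ⧸ N) := mem_center_iff.mpr (fun g => (hl g).symm)
  rcases hs.eq_bot_or_eq_top_of_normal (center (K ⧸ N)) inferInstance with h | h
  · rw [h, mem_bot] at h1; exact h1
  · exfalso
    have h2 : ⁅(⊤ : Subgroup (K ⧸ N)), (⊤ : Subgroup (K ⧸ N))⁆ = ⊥ := by
      rw [eq_bot_iff, Subgroup.commutator_le]
      intro a _ b _
      have h3 : a ∈ center (K ⧸ N) := h ▸ mem_top a
      rw [mem_bot, commutatorElement_eq_one_iff_mul_comm]
      exact (mem_center_iff.mp h3 b).symm
    have h3 : (⊤ : Subgroup (K ⧸ N)) = ⊥ := by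
      rw [← h2]
      have h4 : (⊤ : Subgroup K).map (QuotientGroup.mk' N) = ⊤ :=
        Subgroup.map_top_of_surjective _ (QuotientGroup.mk'_surjective N)
      rw [← h4, ← Subgroup.map_commutator, hK]
    have h5 : Nontrivial (K ⧸ N) := hs.toNontrivial
    exact absurd h3 top_ne_bot

/-- **Bridge.** -/
theorem lhyp (F : Facts 𝒯) {t : G} {K : Subgroup G} (ht : orderOf t = 2)
    (hK : TComp 𝒯 (centralizer ({t} : Set G)) K)
    (hnorm : ∀ c : G, c * t = t * c → c ∈ normalizer (K : Set G))
    (hR : ∀ x : G, TwoElt x → x * t = t * x → Fixes x K → x = 1 ∨ x = t)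
    (hnb : ∀ z ∈ K, ¬ Bad 𝒯 z) : LHyp t K (QuotientGroup.mk' (oddCore ↥K)) := by
  have htt := sq_of_order ht
  have hKt : ∀ k ∈ K, t * k = k * t := fun k hk => (mem_centralizer_singleton_iff.mp (hK.1.le hk)).symm
  have hnorm' : ∀ c : G, c * t = t * c → ∀ k ∈ K, c * k * c⁻¹ ∈ K := fun c hc k hk =>
    (mem_normalizer_iff.mp (hnorm c hc) k).mp hk
  exact
  { tt := htt
    Kt := hKt
    norm := hnorm'
    surj := QuotientGroup.mk'_surjective _
    odd := by
      rw [QuotientGroup.ker_mk']
      exact odd_oddCore K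
    stab := by
      intro c hc k hk h
      have h1 : (⟨k, hk⟩ : K) ∈ oddCore ↥K := (QuotientGroup.eq_one_iff _).mp h
      have h2 : k ∈ core K := (mem_core_iff hk).mpr h1
      have h3 := conj_mem_core (hnorm c hc) h2
      exact (QuotientGroup.eq_one_iff _).mpr ((mem_core_iff (hnorm' c hc k hk)).mp h3)
    cent := by
      refine center_quot ?_ _ (hK.simple F)
      have h1 := hK.1.perfect
      apply Subgroup.map_injective K.subtype_injective
      have h2 : (⊤ : Subgroup ↥K).map K.subtype = K := by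
        rw [← MonoidHom.range_eq_map, Subgroup.range_subtype]
      rw [Subgroup.map_commutator, h2, h1]
    nn := by
      intro x hx h2 h
      refine hR x h2 hx ⟨hnorm x hx, ?_⟩
      intro y hy
      have h1 := h y hy
      have h3 : (⟨x * y * x⁻¹, hnorm' x hx y hy⟩ : K) * ⟨y, hy⟩⁻¹ ∈ oddCore ↥K := by
        rw [← QuotientGroup.eq_one_iff]
        change (QuotientGroup.mk' (oddCore ↥K)) (_ * _) = 1
        rw [map_mul, h1, map_inv, mul_inv_cancel]
      have h4 := (mem_core_iff (K := K) (x := x * y * x⁻¹ * y⁻¹)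
        (mul_mem (hnorm' x hx y hy) (inv_mem hy))).mpr h3
      exact h4
    nc := by
      intro k hk hkk h
      obtain ⟨g, hg⟩ := isConj_iff.mp h
      have h1 : Bad 𝒯 t := ⟨ht, K, hK⟩
      have h2 := h1.conj F g
      rw [hg] at h2
      exact hnb k hk h2 }

end Cfsg.Agent.TypeM.Bridge
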