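import Cfsg.Agent.TypeM.LemQH

/-!
# Lemma Q: `EConf` implies `QConf`
-/

set_option autoImplicit false
set_option linter.unusedSectionVars false

namespace Cfsg.Agent.TypeM

/-- part of `QConf` -/
structure QPre {G : Type*} [Group G] (t : G) (ε μ : ℕ → G) : Prop where
  tt : t * t = 1
  εmul : ∀ i < 16, ∀ j < 16, ε i * ε j = ε (i ^^^ j)
  μmul : ∀ i < 16, ∀ j < 16, μ i * μ j = μ (i ^^^ j)
  εμ : ∀ i < 16, ∀ j < 16, ε i * μ j = μ j * ε i
  inj : ∀ i < 16, ∀ j < 16, ε i * μ j = 1 → i = 0 ∧ j = 0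
  tε : ∀ i < 16, t * ε i = ε i * t
  tμ : ∀ i < 16, t * μ i = μ i * ε i * t
  cenF : ∀ x, TwoElt x → t * x = x * t → (∀ i < 16, x * ε i = ε i * x) →
    ∃ i < 16, x = ε i ∨ x = t * ε i

theorem QConf.toQPre {G : Type*} [Group G] {t : G} {ε μ s : ℕ → G} (h : QConf t ε μ s) : QPre t ε μ :=
  ⟨h.tt, h.εmul, h.μmul, h.εμ, h.inj, h.tε, h.tμ, h.cenF⟩

namespace QPre

variable {G : Type*} [Group G] {t : G} {ε μ : ℕ → G} (h : QPre t ε μ)
include h

theorem ε0 : ε 0 = 1 := by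
  have := h.εmul 0 (by norm_num) 0 (by norm_num)
  simpa using this

theorem μ0 : μ 0 = 1 := by
  have := h.μmul 0 (by norm_num) 0 (by norm_num)
  simpa using this

theorem εsq {i : ℕ} (hi : i < 16) : ε i * ε i = 1 := by rw [h.εmul i hi i hi, Nat.xor_self, h.ε0]

theorem μsq {i : ℕ} (hi : i < 16) : μ i * μ i = 1 := by rw [h.μmul i hi i hi, Nat.xor_self, h.μ0]

theorem μt {i : ℕ} (hi : i < 16) : μ i * t = t * (ε i * μ i) := by
  have h1 := h.tμ i hi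
  calc μ i * t = (t * t) * (μ i * t) := by rw [h.tt, one_mul]
    _ = t * (t * μ i) * t := by simp only [mul_assoc]
    _ = t * (μ i * ε i * t) * t := by rw [h1]
    _ = t * (μ i * ε i) * (t * t) := by simp only [mul_assoc]
    _ = _ := by rw [h.tt, mul_one, h.εμ i hi i hi]

theorem QQ {i j i' j' : ℕ} (hi : i < 16) (hj : j < 16) (hi' : i' < 16) (hj' : j' < 16) :
    (ε i * μ j) * (ε i' * μ j') = ε (i ^^^ i') * μ (j ^^^ j') := by
  rw [← h.εmul i hi i' hi', ← h.μmul j hj j' hj', mul_assoc, ← mul_assoc (μ j), ← h.εμ i' hi' j hj]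
  simp only [mul_assoc]

theorem Qt {i j : ℕ} (hi : i < 16) (hj : j < 16) : (ε i * μ j) * t = t * (ε (i ^^^ j) * μ j) := by
  rw [mul_assoc, h.μt hj, ← mul_assoc, ← h.tε i hi, mul_assoc t, ← mul_assoc (ε i), h.εmul i hi j hj]

theorem tQtQ {i j i' j' : ℕ} (hi : i < 16) (hj : j < 16) (hi' : i' < 16)
    (hj' : j' < 16) : (t * (ε i * μ j)) * (t * (ε i' * μ j')) = ε (i ^^^ j ^^^ i') * μ (j ^^^ j') := by
  calc (t * (ε i * μ j)) * (t * (ε i' * μ j'))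
      = t * ((ε i * μ j) * t) * (ε i' * μ j') := by simp only [mul_assoc]
    _ = t * (t * (ε (i ^^^ j) * μ j)) * (ε i' * μ j') := by rw [h.Qt hi hj]
    _ = (t * t) * ((ε (i ^^^ j) * μ j) * (ε i' * μ j')) := by simp only [mul_assoc]
    _ = _ := by rw [h.tt, one_mul, h.QQ (xor_lt hi hj) hj hi' hj']

/-- the group `⟨t⟩ Q` -/
def R (h : QPre t ε μ) : Subgroup G where
  carrier := {y | ∃ i < 16, ∃ j < 16, y = ε i * μ j ∨ y = t * (ε i * μ j)}
  mul_mem' := by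
    rintro _ _ ⟨i, hi, j, hj, rfl | rfl⟩ ⟨i', hi', j', hj', rfl | rfl⟩
    · exact ⟨_, xor_lt hi hi', _, xor_lt hj hj', Or.inl (h.QQ hi hj hi' hj')⟩
    · refine ⟨_, xor_lt (xor_lt hi hj) hi', _, xor_lt hj hj', Or.inr ?_⟩
      rw [← mul_assoc, h.Qt hi hj, mul_assoc, h.QQ (xor_lt hi hj) hj hi' hj']
    · refine ⟨_, xor_lt hi hi', _, xor_lt hj hj', Or.inr ?_⟩
      rw [mul_assoc, h.QQ hi hj hi' hj']
    · exact ⟨_, xor_lt (xor_lt hi hj) hi', _, xor_lt hj hj', Or.inl (h.tQtQ hi hj hi' hj')⟩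
  one_mem' := ⟨0, by norm_num, 0, by norm_num, Or.inl (by rw [h.ε0, h.μ0, one_mul])⟩
  inv_mem' := by
    rintro _ ⟨i, hi, j, hj, rfl | rfl⟩
    · refine ⟨i, hi, j, hj, Or.inl (inv_eq_of_mul_eq_one_right ?_)⟩
      rw [h.QQ hi hj hi hj, Nat.xor_self, Nat.xor_self, h.ε0, h.μ0, one_mul]
    · refine ⟨i ^^^ j, xor_lt hi hj, j, hj, Or.inr (inv_eq_of_mul_eq_one_right ?_)⟩
      rw [h.tQtQ hi hj (xor_lt hi hj) hj, Nat.xor_self, Nat.xor_self, h.ε0, h.μ0, one_mul]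

theorem mem_R (h : QPre t ε μ) {y : G} :
    y ∈ h.R ↔ ∃ i < 16, ∃ j < 16, y = ε i * μ j ∨ y = t * (ε i * μ j) := Iff.rfl

theorem mem_R_eps {i : ℕ} (hi : i < 16) : ε i ∈ h.R :=
  ⟨i, hi, 0, by norm_num, Or.inl (by rw [h.μ0, mul_one])⟩

theorem mem_R_mu {i : ℕ} (hi : i < 16) : μ i ∈ h.R :=
  ⟨0, by norm_num, i, hi, Or.inl (by rw [h.ε0, one_mul])⟩

theorem mem_R_t : t ∈ h.R :=
  ⟨0, by norm_num, 0, by norm_num, Or.inr (by rw [h.ε0, h.μ0, one_mul, mul_one])⟩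

theorem Qsq {i j : ℕ} (hi : i < 16) (hj : j < 16) : (ε i * μ j) * (ε i * μ j) = 1 := by
  rw [h.QQ hi hj hi hj, Nat.xor_self, Nat.xor_self, h.ε0, h.μ0, one_mul]

theorem tQsq {i j : ℕ} (hi : i < 16) (hj : j < 16) : (t * (ε i * μ j)) * (t * (ε i * μ j)) = ε j := by
  rw [h.tQtQ hi hj hi hj, Nat.xor_self, h.μ0, mul_one, Nat.xor_comm i j, Nat.xor_assoc,
    Nat.xor_self, Nat.xor_zero]

theorem R_two : IsPGroup 2 h.R := by
  rintro ⟨_, i, hi, j, hj, rfl | rfl⟩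
  · refine ⟨1, Subtype.ext ?_⟩
    change (ε i * μ j) ^ 2 ^ 1 = 1
    rw [pow_one, pow_two, h.Qsq hi hj]
  · refine ⟨2, Subtype.ext ?_⟩
    change (t * (ε i * μ j)) ^ 2 ^ 2 = 1
    have h1 : (t * (ε i * μ j)) ^ 2 = ε j := by rw [pow_two, h.tQsq hi hj]
    rw [show (2 : ℕ) ^ 2 = 2 * 2 by norm_num, pow_mul, h1, pow_two, h.εsq hj]

theorem ε_inj {i j : ℕ} (hi : i < 16) (hj : j < 16) (e : ε i = ε j) : i = j := by
  have h1 : ε (i ^^^ j) * μ 0 = 1 := by rw [h.μ0, mul_one, ← h.εmul i hi j hj, e, h.εsq hj]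
  exact Nat.xor_eq_zero_iff.mp (h.inj _ (xor_lt hi hj) 0 (by norm_num) h1).1

/-- `C(E) ∩ N(⟨t⟩ Q)`-like group: centralizer of `Q` extended by `t` -/
def K (h : QPre t ε μ) : Subgroup G where
  carrier := {g | (∀ i < 16, g * ε i = ε i * g) ∧
    ((∀ j < 16, g * μ j = μ j * g) ∨ (∀ j < 16, g * μ j = ε j * μ j * g))}
  mul_mem' := by
    rintro g g' ⟨h1, h2⟩ ⟨h1', h2'⟩
    refine ⟨fun i hi => by rw [mul_assoc, h1' i hi, ← mul_assoc, h1 i hi, mul_assoc], ?_⟩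
    rcases h2 with h2 | h2 <;> rcases h2' with h2' | h2'
    · left; intro j hj
      rw [mul_assoc, h2' j hj, ← mul_assoc, h2 j hj, mul_assoc]
    · right; intro j hj
      rw [mul_assoc, h2' j hj, ← mul_assoc, ← mul_assoc, h1 j hj, mul_assoc (ε j), h2 j hj]
      simp only [mul_assoc]
    · right; intro j hj
      rw [mul_assoc, h2' j hj, ← mul_assoc, h2 j hj]
      simp only [mul_assoc]
    · left; intro j hj
      rw [mul_assoc, h2' j hj, ← mul_assoc, ← mul_assoc, h1 j hj, mul_assoc (ε j), h2 j hj, ← mul_assoc,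
        ← mul_assoc, h.εsq hj, one_mul, mul_assoc]
  one_mem' := ⟨fun i _ => by rw [one_mul, mul_one], Or.inl fun j _ => by rw [one_mul, mul_one]⟩
  inv_mem' := by
    rintro g ⟨h1, h2⟩
    have h3 : ∀ i < 16, g⁻¹ * ε i = ε i * g⁻¹ := fun i hi => by
      rw [inv_mul_eq_iff_eq_mul, ← mul_assoc, h1 i hi, mul_inv_cancel_right]
    refine ⟨h3, ?_⟩
    rcases h2 with h2 | h2
    · left; intro j hj
      rw [inv_mul_eq_iff_eq_mul, ← mul_assoc, h2 j hj, mul_inv_cancel_right]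
    · right; intro j hj
      rw [inv_mul_eq_iff_eq_mul, ← mul_assoc, ← mul_assoc, h1 j hj, mul_assoc (ε j), h2 j hj, ← mul_assoc,
        ← mul_assoc, h.εsq hj, one_mul, mul_inv_cancel_right]

theorem t_mem_K : t ∈ h.K := ⟨h.tε, Or.inr fun j hj => by rw [h.tμ j hj, h.εμ j hj j hj]⟩

theorem ε_mem_K {i : ℕ} (hi : i < 16) : ε i ∈ h.K :=
  ⟨fun j hj => by rw [h.εmul i hi j hj, h.εmul j hj i hi, Nat.xor_comm], Or.inl fun j hj => h.εμ i hi j hj⟩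

theorem μ_mem_K {i : ℕ} (hi : i < 16) : μ i ∈ h.K :=
  ⟨fun j hj => (h.εμ j hj i hi).symm, Or.inl fun j hj => by rw [h.μmul i hi j hj, h.μmul j hj i hi, Nat.xor_comm]⟩

theorem R_le_K : h.R ≤ h.K := by
  rintro _ ⟨i, hi, j, hj, rfl | rfl⟩
  · exact h.K.mul_mem (h.ε_mem_K hi) (h.μ_mem_K hj)
  · exact h.K.mul_mem h.t_mem_K (h.K.mul_mem (h.ε_mem_K hi) (h.μ_mem_K hj))

/-- 2-elements of `K` normalizing `⟨t⟩Q` lie in `⟨t⟩Q` -/
theorem mem_R_of {g : G} (hg : g ∈ h.K) (h2 : ∃ T : Subgroup G, IsPGroup 2 T ∧ h.R ≤ T ∧ g ∈ T)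
    (hn : ∀ r ∈ h.R, g * r * g⁻¹ ∈ h.R) : g ∈ h.R := by
  obtain ⟨T, hT, hRT, hgT⟩ := h2
  have h3 : (g * t * g⁻¹) * (g * t * g⁻¹) = 1 := by
    have : (g * t * g⁻¹) * (g * t * g⁻¹) = g * (t * t) * g⁻¹ := by group
    rw [this, h.tt]; group
  -- `g t g⁻¹ = t ε i`
  obtain ⟨i, hi, h4⟩ : ∃ i < 16, g * t * g⁻¹ = t * ε i := by
    obtain ⟨i, hi, j, hj, h4 | h4⟩ := hn t h.mem_R_t
    · exfalso
      -- then `t ∈ Q`
      have h5 : t = g⁻¹ * (ε i * μ j) * g := by rw [← h4]; group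
      have h6 : ∀ k < 16, (g * t * g⁻¹) * μ k = μ k * (g * t * g⁻¹) := by
        intro k hk
        rw [h4, mul_assoc, h.μmul j hj k hk, Nat.xor_comm, ← h.μmul k hk j hj, ← mul_assoc, h.εμ i hi k hk,
          mul_assoc]
      have h7 : g * t * g⁻¹ ∈ h.K := h.K.mul_mem (h.K.mul_mem hg h.t_mem_K) (h.K.inv_mem hg)
      have h8 : t * μ 1 = μ 1 * t := by
        have h9 := h6 1 (by norm_num)
        rcases hg.2 with h10 | h10
        · have h11 := h10 1 (by norm_num)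
          calc t * μ 1 = g⁻¹ * ((g * t * g⁻¹) * (g * μ 1)) := by group
            _ = g⁻¹ * ((g * t * g⁻¹) * μ 1 * g) := by rw [h11]; group
            _ = g⁻¹ * (μ 1 * (g * t * g⁻¹) * g) := by rw [h9]
            _ = g⁻¹ * (μ 1 * g) * t := by group
            _ = μ 1 * t := by rw [← h11]; group
        · have h11 := h10 1 (by norm_num)
          have h12 : g⁻¹ * (ε 1 * μ 1) * g = μ 1 := by
            rw [mul_assoc, ← h11]; group
          have h13 : (g * t * g⁻¹) * ε 1 = ε 1 * (g * t * g⁻¹) := by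
            rw [h4, mul_assoc, ← h.εμ 1 (by norm_num) j hj, ← mul_assoc, ← mul_assoc, h.εmul i hi 1 (by norm_num),
              h.εmul 1 (by norm_num) i hi, Nat.xor_comm]
          calc t * μ 1 = g⁻¹ * ((g * t * g⁻¹) * (g * μ 1)) := by group
            _ = g⁻¹ * ((g * t * g⁻¹) * ε 1 * μ 1 * g) := by rw [h11]; group
            _ = g⁻¹ * (ε 1 * (g * t * g⁻¹) * μ 1 * g) := by rw [h13]
            _ = g⁻¹ * (ε 1 * ((g * t * g⁻¹) * μ 1) * g) := by group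
            _ = g⁻¹ * (ε 1 * (μ 1 * (g * t * g⁻¹)) * g) := by rw [h9]
            _ = (g⁻¹ * (ε 1 * μ 1) * g) * t := by group
            _ = μ 1 * t := by rw [h12]
      have h9 := h.tμ 1 (by norm_num)
      rw [h8, mul_left_inj] at h9
      have h10 : ε 1 * μ 0 = 1 := by rw [h.μ0, mul_one]; simpa using h9
      exact absurd (h.inj 1 (by norm_num) 0 (by norm_num) h10).1 (by norm_num)
    · rw [h4, h.tQsq hi hj] at h3
      have h5 := h.inj j hj 0 (by norm_num) (by rw [h.μ0, mul_one, h3])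
      rw [h5.1, h.μ0, mul_one] at h4
      exact ⟨i, hi, h4⟩
  -- `g' = μ i g` commutes with `t`
  have h5 : t * (μ i * g) = (μ i * g) * t := by
    rw [mul_inv_eq_iff_eq_mul] at h4
    symm
    calc (μ i * g) * t = μ i * (g * t) := mul_assoc _ _ _
      _ = (μ i * t) * (ε i * g) := by rw [h4]; simp only [mul_assoc]
      _ = t * ((μ i * ε i) * (ε i * g)) := by rw [h.μt hi, h.εμ i hi i hi, mul_assoc]
      _ = t * (μ i * ((ε i * ε i) * g)) := by simp only [mul_assoc]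
      _ = t * (μ i * g) := by rw [h.εsq hi, one_mul]
  have h6 : ∀ j < 16, (μ i * g) * ε j = ε j * (μ i * g) := fun j hj => by
    rw [mul_assoc, hg.1 j hj, ← mul_assoc, ← h.εμ j hj i hi, mul_assoc]
  have h7 : TwoElt (μ i * g) := by
    obtain ⟨n, hn⟩ := hT ⟨μ i * g, T.mul_mem (hRT (h.mem_R_mu hi)) hgT⟩
    exact ⟨n, congrArg Subtype.val hn⟩
  have h8 : μ i * g ∈ h.R := by
    obtain ⟨k, hk, h9 | h9⟩ := h.cenF _ h7 h5 h6
    · rw [h9]; exact h.mem_R_eps hk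
    · rw [h9]; exact h.R.mul_mem h.mem_R_t (h.mem_R_eps hk)
  have h9 : g = (μ i)⁻¹ * (μ i * g) := by group
  rw [h9]
  exact h.R.mul_mem (h.R.inv_mem (h.mem_R_mu hi)) h8

/-- 2-elements of `C(Q)` lie in `Q` -/
theorem cenQ [Finite G] {x : G} (hx : TwoElt x) (h1 : ∀ i < 16, x * ε i = ε i * x)
    (h2 : ∀ i < 16, x * μ i = μ i * x) : ∃ i < 16, ∃ j < 16, x = ε i * μ j := by
  have : Fact (Nat.Prime 2) := ⟨Nat.prime_two⟩
  obtain ⟨T, hT⟩ := (h.R_two.of_equiv (Subgroup.subgroupOfEquivOfLe h.R_le_K).symm).exists_le_sylow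
  have hRT : h.R ≤ (T : Subgroup h.K).map h.K.subtype := fun y hy =>
    ⟨⟨y, h.R_le_K hy⟩, hT (Subgroup.mem_subgroupOf.2 hy), rfl⟩
  have hT2 : IsPGroup 2 ((T : Subgroup h.K).map h.K.subtype) := T.2.map _
  -- `T = R`
  have hTR : ∀ y : h.K, y ∈ T → (y : G) ∈ h.R := by
    by_contra hne
    have hlt : (h.R.subgroupOf ((T : Subgroup h.K).map h.K.subtype)) < ⊤ := by
      rw [lt_top_iff_ne_top]
      intro h3
      apply hne
      intro y hy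
      have h4 : (⟨(y : G), ⟨y, hy, rfl⟩⟩ : ((T : Subgroup h.K).map h.K.subtype)) ∈
        (h.R.subgroupOf ((T : Subgroup h.K).map h.K.subtype)) := by rw [h3]; trivial
      exact Subgroup.mem_subgroupOf.1 h4
    have := hT2.isNilpotent
    have hN := Group.normalizerCondition_of_isNilpotent (G := ((T : Subgroup h.K).map h.K.subtype)) _ hlt
    obtain ⟨g, hg, hgn⟩ := SetLike.exists_of_lt hN
    apply hgn
    rw [Subgroup.mem_subgroupOf]
    refine h.mem_R_of ?_ ⟨_, hT2, hRT, g.2⟩ ?_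
    · obtain ⟨y, hy, h3⟩ := g.2
      rw [← h3]
      exact y.2
    · intro r hr
      have h3 := (Subgroup.mem_normalizer_iff.1 hg ⟨r, hRT hr⟩).1 (Subgroup.mem_subgroupOf.2 hr)
      exact Subgroup.mem_subgroupOf.1 h3
  have hxK : x ∈ h.K := ⟨h1, Or.inl h2⟩
  obtain ⟨n, hn⟩ := hx
  have hz : IsPGroup 2 (Subgroup.zpowers (⟨x, hxK⟩ : h.K)) := by
    rintro ⟨_, k, rfl⟩
    refine ⟨n, Subtype.ext ?_⟩
    have hn' : (⟨x, hxK⟩ : h.K) ^ 2 ^ n = 1 := Subtype.ext (by simpa using hn)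
    change ((⟨x, hxK⟩ : h.K) ^ k) ^ 2 ^ n = 1
    rw [← zpow_natCast, ← zpow_mul, mul_comm, zpow_mul, zpow_natCast, hn', one_zpow]
  obtain ⟨T', hT'⟩ := hz.exists_le_sylow
  obtain ⟨g, hg⟩ := MulAction.exists_smul_eq h.K T T'
  have h3 : (⟨x, hxK⟩ : h.K) ∈ T' := hT' (Subgroup.mem_zpowers _)
  rw [← hg] at h3
  obtain ⟨y, hy, h4⟩ := h3
  have h5 : (g : G) * y * (g : G)⁻¹ = x := congrArg Subtype.val h4
  have h6 : (g : G) * y = x * g := by rw [← h5]; group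
  have hy' := hTR y hy
  have hgμ : ∀ j < 16, (g : G) * μ j * (g : G)⁻¹ = μ j ∨ (g : G) * μ j * (g : G)⁻¹ = ε j * μ j := by
    intro j hj
    rcases g.2.2 with h7 | h7
    · left; rw [mul_inv_eq_iff_eq_mul]; exact h7 j hj
    · right; rw [mul_inv_eq_iff_eq_mul]; exact h7 j hj
  have hgε : ∀ i < 16, (g : G) * ε i * (g : G)⁻¹ = ε i := fun i hi => by
    rw [mul_inv_eq_iff_eq_mul]; exact g.2.1 i hi
  obtain ⟨i, hi, j, hj, h7 | h7⟩ := hy'
  · rw [h7] at h5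
    have h8 : x = ((g : G) * ε i * (g : G)⁻¹) * ((g : G) * μ j * (g : G)⁻¹) := by rw [← h5]; group
    rw [hgε i hi] at h8
    rcases hgμ j hj with h9 | h9
    · exact ⟨i, hi, j, hj, by rw [h8, h9]⟩
    · exact ⟨i ^^^ j, xor_lt hi hj, j, hj, by rw [h8, h9, ← mul_assoc, h.εmul i hi j hj]⟩
  · exfalso
    -- `y` commutes with `μ 1`
    have h8 : x * ((g : G) * μ 1 * (g : G)⁻¹) = ((g : G) * μ 1 * (g : G)⁻¹) * x := by
      rcases hgμ 1 (by norm_num) with h9 | h9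
      · rw [h9]; exact h2 1 (by norm_num)
      · rw [h9, ← mul_assoc, h1 1 (by norm_num), mul_assoc, h2 1 (by norm_num), ← mul_assoc]
    have h9 : (y : G) * μ 1 = μ 1 * y := by
      calc (y : G) * μ 1 = (g : G)⁻¹ * (((g : G) * y * (g : G)⁻¹) * ((g : G) * μ 1 * (g : G)⁻¹)) * g := by group
        _ = (g : G)⁻¹ * (((g : G) * μ 1 * (g : G)⁻¹) * ((g : G) * y * (g : G)⁻¹)) * g := by rw [h5, h8]
        _ = μ 1 * y := by group
    have h10 : (ε i * μ j) * μ 1 = μ 1 * (ε i * μ j) := by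
      rw [mul_assoc, h.μmul j hj 1 (by norm_num), Nat.xor_comm, ← h.μmul 1 (by norm_num) j hj, ← mul_assoc,
        h.εμ i hi 1 (by norm_num), mul_assoc]
    rw [h7, mul_assoc, h10, ← mul_assoc, ← mul_assoc (μ 1), mul_left_inj] at h9
    have h11 := h.tμ 1 (by norm_num)
    rw [h9, mul_left_inj] at h11
    have h12 : ε 1 * μ 0 = 1 := by rw [h.μ0, mul_one]; simpa using h11
    exact absurd (h.inj 1 (by norm_num) 0 (by norm_num) h12).1 (by norm_num)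

end QPre

/-- **Lemma Q**. -/
theorem EPre.exists_qconf {G : Type*} [Group G] [Finite G] {t : G} {ε s : ℕ → G} {N : Subgroup G}
    (H : EPre t ε s N) (hx0 : ∃ x, (∀ i < 16, ∃ j < 16, x * ε i * x⁻¹ = ε j) ∧
      ∃ k < 16, k ≠ 0 ∧ x * t * x⁻¹ = t * ε k) :
    ∃ μ s' : ℕ → G, QConf t ε μ s' ∧ (∀ i < 16, μ i ∈ H.NF) ∧
      ∀ k < 5, ∃ o ∈ H.C, o ^ H.m = 1 ∧ s' k = o * s k := by
  obtain ⟨μ, s', h1, h2, h3, h4, h5, h6, h7⟩ := H.exists_mu hx0
  have hQ : QPre t ε μ := ⟨H.tt, H.mul, h3, h4, h5, H.tε, h6, H.cen⟩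
  refine ⟨μ, s', ⟨H.tt, H.mul, h3, h4, h5, H.tε, h6, ?_, ?_, h7, H.cen, ?_⟩, h2, h1⟩
  · intro k hk
    obtain ⟨o, ho, -, h8⟩ := h1 k hk
    rw [h8, mul_assoc, ← H.Nt _ (H.sN k hk), ← mul_assoc, ← (H.mem_C.1 ho).1, mul_assoc]
  · intro k hk i hi
    obtain ⟨o, ho, -, h8⟩ := h1 k hk
    rw [h8, mul_assoc, H.sε k hk i hi, ← mul_assoc, (H.mem_C.1 ho).2 _ (gm_lt _ _), mul_assoc]
  · intro x hx h8 h9
    exact hQ.cenQ hx h8 h9

/-- Lemma Q for `EConf`. -/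
theorem EConf.exists_qconf {G : Type*} [Group G] [Finite G] {t : G} {ε s : ℕ → G} {N : Subgroup G}
    (H : EConf t ε s N) : ∃ μ s' : ℕ → G, QConf t ε μ s' := by
  have H' : EPre t ε s N := ⟨H.tt, H.mul, H.inj, H.tε, H.εN, H.sN, H.tN, H.Nt, H.sε, H.cen, H.tE⟩
  obtain ⟨μ, s', h, -⟩ := H'.exists_qconf H.x0
  exact ⟨μ, s', h⟩

end Cfsg.Agent.TypeM
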