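import Cfsg.Agent.TypeM.LemQ

/-!
# The configurations `EConf` (input) and `QConf` (output of Lemma Q) inside a finite group
-/

set_option autoImplicit false

namespace Cfsg.Agent.TypeM

/-- `x` is a 2-element -/
def TwoElt {G : Type*} [Group G] (x : G) : Prop := ∃ n : ℕ, x ^ 2 ^ n = 1

/-- Input of Lemma Q: `E = {ε 0, …, ε 15}` elementary abelian of order 16 centralized by the
involution `t`, five elements `s 0, …, s 4` (`a b x y g`) of `N ≤ C(t)` acting on `E` by the matrices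
`gm k`, `t ∉ N O(C(⟨t⟩E))`, 2-elements of `C(⟨t⟩E)` lie in `⟨t⟩E`, `t` is not conjugate into `E`, some
element of `N(⟨t⟩E)` moves `t`. -/
structure EConf {G : Type*} [Group G] (t : G) (ε s : ℕ → G) (N : Subgroup G) : Prop where
  tt : t * t = 1
  mul : ∀ i < 16, ∀ j < 16, ε i * ε j = ε (i ^^^ j)
  inj : ∀ i < 16, ε i = 1 → i = 0
  tε : ∀ i < 16, t * ε i = ε i * t
  εN : ∀ i < 16, ε i ∈ N
  sN : ∀ k < 5, s k ∈ N
  tN : t ∉ N
  Nt : ∀ n ∈ N, t * n = n * t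
  sε : ∀ k < 5, ∀ i < 16, s k * ε i = ε (gm k i) * s k
  cen : ∀ x, TwoElt x → t * x = x * t → (∀ i < 16, x * ε i = ε i * x) →
    ∃ i < 16, x = ε i ∨ x = t * ε i
  tE : ∀ i < 16, ∀ g : G, g * t * g⁻¹ ≠ ε i
  x0 : ∃ x, (∀ i < 16, ∃ j < 16, x * ε i * x⁻¹ = ε j) ∧ ∃ k < 16, k ≠ 0 ∧ x * t * x⁻¹ = t * ε k

/-- Output of Lemma Q: `Q = {ε i * μ j}` is elementary abelian of order `2^8`. -/
structure QConf {G : Type*} [Group G] (t : G) (ε μ s : ℕ → G) : Prop where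
  tt : t * t = 1
  εmul : ∀ i < 16, ∀ j < 16, ε i * ε j = ε (i ^^^ j)
  μmul : ∀ i < 16, ∀ j < 16, μ i * μ j = μ (i ^^^ j)
  εμ : ∀ i < 16, ∀ j < 16, ε i * μ j = μ j * ε i
  inj : ∀ i < 16, ∀ j < 16, ε i * μ j = 1 → i = 0 ∧ j = 0
  tε : ∀ i < 16, t * ε i = ε i * t
  tμ : ∀ i < 16, t * μ i = μ i * ε i * t
  st : ∀ k < 5, s k * t = t * s k
  sε : ∀ k < 5, ∀ i < 16, s k * ε i = ε (gm k i) * s k
  sμ : ∀ k < 5, ∀ i < 16, s k * μ i = μ (gm k i) * s k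
  /-- 2-elements of `C(⟨t⟩E)` lie in `⟨t⟩E` -/
  cenF : ∀ x, TwoElt x → t * x = x * t → (∀ i < 16, x * ε i = ε i * x) →
    ∃ i < 16, x = ε i ∨ x = t * ε i
  /-- 2-elements of `C(Q)` lie in `Q` -/
  cenQ : ∀ x, TwoElt x → (∀ i < 16, x * ε i = ε i * x) → (∀ i < 16, x * μ i = μ i * x) →
    ∃ i < 16, ∃ j < 16, x = ε i * μ j

end Cfsg.Agent.TypeM
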