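import Mathlib
import Cfsg.Agent.SporRec.NineTwo.Abs

/-!
# Theorem W, step [W3'], the abstract part

`G` finite, `t` an involution, `Q` elementary abelian of order `2^8` normalised by `t` with
`E = C_Q(t)` of order `2^4`.  If `s` is an involution normalising `Q` with `|C_Q(s)| = 2^4`, `g s g⁻¹ = t` and
`g (C_Q(s) ⟨s⟩) g⁻¹ ≤ ⟨t⟩E'` then `g` can be chosen with `g Q g⁻¹ = Q'`.
-/

set_option autoImplicit false

namespace Cfsg.Agent.TypeM.WThreeAbs

open Subgroup Cfsg.Agent.SporRec.NineTwo.Abs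

variable {G : Type*} [Group G]

/-- A subgroup made of two cosets of `H`. -/
theorem card_double {H K : Subgroup G} {s : G} (hHK : H ≤ K) (hs : s ∈ K) (hsH : s ∉ H)
    (h : ∀ x ∈ K, x ∈ H ∨ x * s ∈ H) : Nat.card K = 2 * Nat.card H := by
  have h1 : H.relIndex K = 2 := by
    rw [relIndex_eq_two_iff]
    refine ⟨s, hs, fun b hb => ?_⟩
    by_cases hbH : b ∈ H
    · refine Or.inr ⟨hbH, fun h' => hsH ?_⟩
      have := H.mul_mem (H.inv_mem hbH) h'
      simpa using this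
    · exact Or.inl ⟨(h b hb).resolve_left hbH, hbH⟩
  have h2 := relIndex_mul_relIndex ⊥ H K bot_le hHK
  rw [relIndex_bot_left, relIndex_bot_left, h1] at h2
  rw [← h2, mul_comm]

/-- If `s` is an involution acting on the elementary abelian `Q` with `|Q| = |C_Q(s)|^2`, all elements of
`s C_Q(s)` are conjugate to `s` under `Q`. -/
theorem free_conj [Finite G] {Q : Subgroup G} {s : G} (comm : ∀ x ∈ Q, ∀ y ∈ Q, x * y = y * x)
    (sq : ∀ x ∈ Q, x * x = 1) (ss : s * s = 1) (sQ : ∀ x ∈ Q, s * x * s⁻¹ ∈ Q)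
    (hcard : Nat.card Q = Nat.card (Q ⊓ centralizer {s} : Subgroup G) * Nat.card (Q ⊓ centralizer {s} : Subgroup G))
    {x : G} (hx : x ∈ Q) (hxs : x * s = s * x) : ∃ q ∈ Q, q * s * q⁻¹ = s * x := by
  have ss' : s⁻¹ = s := inv_eq_of_mul_eq_one_left ss
  let f : Q →* Q := MonoidHom.mk' (fun q => ⟨s * q * s⁻¹ * (q : G)⁻¹, Q.mul_mem (sQ q q.2) (Q.inv_mem q.2)⟩) (by
    intro x y
    apply Subtype.ext
    simp only [coe_mul, MulMemClass.mk_mul_mk]
    have h2 := comm _ (Q.inv_mem x.2) _ (Q.mul_mem (sQ y y.2) (Q.inv_mem y.2))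
    calc s * ((x : G) * y) * s⁻¹ * ((x : G) * y)⁻¹
        = s * x * s⁻¹ * (((s * y * s⁻¹) * (y : G)⁻¹) * (x : G)⁻¹) := by group
      _ = s * x * s⁻¹ * ((x : G)⁻¹ * ((s * y * s⁻¹) * (y : G)⁻¹)) := by rw [h2]
      _ = s * x * s⁻¹ * (x : G)⁻¹ * (s * y * s⁻¹ * (y : G)⁻¹) := by group)
  have hf : ∀ q : Q, ((f q : Q) : G) = s * q * s⁻¹ * (q : G)⁻¹ := fun q => rfl
  have hfC : ∀ q : Q, (f q : G) ∈ Q ⊓ centralizer {s} := by
    intro q
    refine ⟨(f q).2, mem_centralizer_singleton_iff.2 ?_⟩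
    have h1 : (s * q * s⁻¹ * (q : G)⁻¹)⁻¹ = s * q * s⁻¹ * (q : G)⁻¹ :=
      inv_eq_of_mul_eq_one_left (sq _ (Q.mul_mem (sQ q q.2) (Q.inv_mem q.2)))
    rw [hf]
    calc s * q * s⁻¹ * (q : G)⁻¹ * s = (s * q * s⁻¹ * (q : G)⁻¹)⁻¹ * s := by rw [h1]
      _ = (q : G) * s * (q : G)⁻¹ * (s⁻¹ * s) := by group
      _ = (s * s) * (q : G) * s * (q : G)⁻¹ := by rw [ss]; group
      _ = s * (s * q * s⁻¹ * (q : G)⁻¹) := by rw [ss']; group
  have hker : Nat.card f.ker = Nat.card (Q ⊓ centralizer {s} : Subgroup G) := by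
    have h1 : f.ker = (Q ⊓ centralizer {s}).subgroupOf Q := by
      ext q
      rw [MonoidHom.mem_ker, mem_subgroupOf, mem_inf, mem_centralizer_singleton_iff]
      constructor
      · intro h
        have h2 : s * q * s⁻¹ * (q : G)⁻¹ = 1 := by rw [← hf, h]; rfl
        have h3 : s * (q : G) * s⁻¹ = q := mul_inv_eq_one.1 h2
        exact ⟨q.2, (mul_inv_eq_iff_eq_mul.1 h3).symm⟩
      · rintro ⟨_, h⟩
        apply Subtype.ext
        rw [hf]
        have : s * (q : G) * s⁻¹ = q := by rw [← h]; group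
        rw [this]; simp
    rw [h1]
    exact Nat.card_congr (subgroupOfEquivOfLe inf_le_left).toEquiv
  have hpos : 0 < Nat.card (Q ⊓ centralizer {s} : Subgroup G) := Nat.card_pos
  have hrange : Nat.card f.range = Nat.card (Q ⊓ centralizer {s} : Subgroup G) := by
    have h1 : Nat.card f.range * Nat.card f.ker = Nat.card Q := by
      rw [← f.ker.card_mul_index, mul_comm, index_ker]
    rw [hker, hcard] at h1
    exact Nat.eq_of_mul_eq_mul_right hpos h1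
  have hle : f.range.map Q.subtype ≤ Q ⊓ centralizer {s} := by
    rintro _ ⟨_, ⟨q, rfl⟩, rfl⟩
    exact hfC q
  have heq : f.range.map Q.subtype = Q ⊓ centralizer {s} := by
    refine Subgroup.eq_of_le_of_card_ge hle ?_
    rw [Nat.card_congr (f.range.equivMapOfInjective Q.subtype Q.subtype_injective).toEquiv.symm, hrange]
  have hxmem : x ∈ f.range.map Q.subtype := by
    rw [heq]; exact ⟨hx, mem_centralizer_singleton_iff.2 hxs⟩
  obtain ⟨_, ⟨q, rfl⟩, hq⟩ := hxmem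
  refine ⟨q, q.2, ?_⟩
  have hq' : s * q * s⁻¹ * (q : G)⁻¹ = x := hq
  rw [← hq']
  calc (q : G) * s * (q : G)⁻¹ = (s * s) * q * s * (q : G)⁻¹ := by rw [ss]; group
    _ = s * (s * q * s⁻¹ * (q : G)⁻¹) := by rw [ss']; group

/-- In a finite group, mapping into itself is enough for normalising. -/
theorem mem_norm [Finite G] {H : Subgroup G} {g : G} (h : ∀ x ∈ H, g * x * g⁻¹ ∈ H) :
    g ∈ normalizer (H : Set G) := by
  have h1 : H.map (MulAut.conj g).toMonoidHom = H := by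
    refine Subgroup.eq_of_le_of_card_ge ?_ ?_
    · rintro _ ⟨x, hx, rfl⟩
      exact h x hx
    · rw [Subgroup.card_map_of_injective (MulAut.conj g).injective]
  rw [mem_normalizer_iff]
  intro x
  constructor
  · exact h x
  · intro hx
    have hx' : g * x * g⁻¹ ∈ H := hx
    rw [← h1] at hx'
    obtain ⟨y, hy, hyx⟩ := hx'
    have : g * y * g⁻¹ = g * x * g⁻¹ := hyx
    have hyx' : y = x := by simpa using this
    exact hyx' ▸ hy

/-- A cyclic group generated by a `2`-element. -/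
theorem isPGroup_zpowers {g : G} (hg : ∃ k : ℕ, g ^ 2 ^ k = 1) : IsPGroup 2 (zpowers g) := by
  obtain ⟨k, hk⟩ := hg
  rintro ⟨x, hx⟩
  obtain ⟨n, rfl⟩ := mem_zpowers_iff.1 hx
  refine ⟨k, Subtype.ext ?_⟩
  rw [SubgroupClass.coe_pow]
  show (g ^ n) ^ 2 ^ k = 1
  rw [← zpow_natCast, ← zpow_mul, mul_comm, zpow_mul, zpow_natCast, hk, one_zpow]

/-- A `2`-element normalising a `2`-group generates a `2`-group with it. -/
theorem isPGroup_sup [Finite G] {P : Subgroup G} (hP : IsPGroup 2 P) {g : G} (hg : ∃ k : ℕ, g ^ 2 ^ k = 1)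
    (h : ∀ x ∈ P, g * x * g⁻¹ ∈ P) : IsPGroup 2 (P ⊔ zpowers g : Subgroup G) := by
  refine hP.to_sup_of_normal_left' (isPGroup_zpowers hg) ?_
  rw [zpowers_le]; exact mem_norm h

theorem exists_pow {P : Subgroup G} (hP : IsPGroup 2 P) {g : G} (hg : g ∈ P) : ∃ k : ℕ, g ^ 2 ^ k = 1 := by
  obtain ⟨k, hk⟩ := hP ⟨g, hg⟩
  exact ⟨k, by simpa using congrArg Subtype.val hk⟩

/-- For an involution `s` acting on the elementary abelian `Q`. -/
theorem conj_eq {Q : Subgroup G} {s : G} (comm : ∀ x ∈ Q, ∀ y ∈ Q, x * y = y * x) (sq : ∀ x ∈ Q, x * x = 1)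
    (ss : s * s = 1) (sQ : ∀ x ∈ Q, s * x * s⁻¹ ∈ Q) {q : G} (hq : q ∈ Q) :
    ∃ e ∈ Q, e * s = s * e ∧ q * s * q⁻¹ = s * e := by
  have ss' : s⁻¹ = s := inv_eq_of_mul_eq_one_left ss
  have hsq := sQ q hq
  rw [ss'] at hsq
  have hqi : q⁻¹ = q := inv_eq_of_mul_eq_one_left (sq q hq)
  have hc := comm _ hsq _ hq
  refine ⟨s * q * s * q, Q.mul_mem hsq hq, ?_, ?_⟩
  · calc s * q * s * q * s = (s * q * s * q) * s := rfl
      _ = (q * (s * q * s)) * s := by rw [hc]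
      _ = q * (s * q * (s * s)) := by group
      _ = (s * s) * q * s * q := by rw [ss]; group
      _ = s * (s * q * s * q) := by group
  · rw [hqi]
    calc q * s * q = (s * s) * q * s * q := by rw [ss]; group
      _ = s * (s * q * s * q) := by group

/-- The elementary abelian group `Q` with `t`. -/
structure Fr (t : G) (Q : Subgroup G) : Prop where
  comm : ∀ x ∈ Q, ∀ y ∈ Q, x * y = y * x
  sq : ∀ x ∈ Q, x * x = 1
  tt : t * t = 1
  tQ : ∀ x ∈ Q, t * x * t⁻¹ ∈ Q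
  card : Nat.card Q = 2 ^ 8
  cardE : Nat.card (Q ⊓ centralizer {t} : Subgroup G) = 2 ^ 4
  centE : ∀ g : G, (∃ k : ℕ, g ^ 2 ^ k = 1) → g * t = t * g → (∀ x ∈ Q, x * t = t * x → g * x = x * g) →
    g ∈ Q ∨ g * t ∈ Q
  notE : ∀ g : G, ∀ x ∈ Q, x * t = t * x → g * t * g⁻¹ ≠ x

/-- The group `C(E) ∩ {h | t^h ∈ tE}`. -/
def HH (t : G) (Q : Subgroup G) : Subgroup G where
  carrier := {h | (∀ e ∈ Q, e * t = t * e → h * e = e * h) ∧ ∃ e ∈ Q, e * t = t * e ∧ h * t * h⁻¹ = t * e}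
  one_mem' := ⟨fun e _ _ => by simp, 1, Q.one_mem, by simp, by simp⟩
  mul_mem' := by
    rintro x y ⟨hx, e, he, het, hxe⟩ ⟨hy, f, hf, hft, hyf⟩
    refine ⟨fun c hc hct => by rw [mul_assoc, hy c hc hct, ← mul_assoc, hx c hc hct, mul_assoc], e * f,
      Q.mul_mem he hf, by rw [mul_assoc, hft, ← mul_assoc, het, mul_assoc], ?_⟩
    have hxf : x * f * x⁻¹ = f := by rw [hx f hf hft]; group
    calc x * y * t * (x * y)⁻¹ = x * (y * t * y⁻¹) * x⁻¹ := by group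
      _ = x * (t * f) * x⁻¹ := by rw [hyf]
      _ = (x * t * x⁻¹) * (x * f * x⁻¹) := by group
      _ = t * (e * f) := by rw [hxe, hxf, mul_assoc]
  inv_mem' := by
    rintro x ⟨hx, e, he, het, hxe⟩
    refine ⟨fun c hc hct => ?_, e⁻¹, Q.inv_mem he, ?_, ?_⟩
    · have h1 := hx c hc hct
      calc x⁻¹ * c = x⁻¹ * (c * x) * x⁻¹ := by group
        _ = c * x⁻¹ := by rw [← h1]; group
    · calc e⁻¹ * t = e⁻¹ * (t * e) * e⁻¹ := by group
        _ = t * e⁻¹ := by rw [← het]; group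
    · have h1 := hx e he het
      have h2 : x⁻¹ * e * x = e := by
        rw [mul_assoc, ← h1]; group
      have h3 : x⁻¹ * (t * e) * x = t := by rw [← hxe]; group
      calc x⁻¹ * t * x⁻¹⁻¹ = (x⁻¹ * (t * e) * x) * (x⁻¹ * e * x)⁻¹ := by group
        _ = t * e⁻¹ := by rw [h3, h2]

theorem mem_HH {t : G} {Q : Subgroup G} {h : G} : h ∈ HH t Q ↔
    (∀ e ∈ Q, e * t = t * e → h * e = e * h) ∧ ∃ e ∈ Q, e * t = t * e ∧ h * t * h⁻¹ = t * e := Iff.rfl

variable {t : G} {Q : Subgroup G}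

theorem isPGroup_of_sq (sq : ∀ x ∈ Q, x * x = 1) : IsPGroup 2 Q := by
  rintro ⟨x, hx⟩
  refine ⟨1, Subtype.ext ?_⟩
  rw [SubgroupClass.coe_pow]
  show x ^ 2 ^ 1 = 1
  rw [pow_one, pow_two]
  exact sq x hx

/-- `Q⟨s⟩` for an involution `s` normalising `Q`. -/
def Qs (Q : Subgroup G) (s : G) (ss : s * s = 1) (sQ : ∀ x ∈ Q, s * x * s⁻¹ ∈ Q) : Subgroup G where
  carrier := {x | x ∈ Q ∨ x * s ∈ Q}
  one_mem' := Or.inl Q.one_mem
  mul_mem' := by
    have ss' : s⁻¹ = s := inv_eq_of_mul_eq_one_left ss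
    rintro x y (hx | hx) (hy | hy)
    · exact Or.inl (Q.mul_mem hx hy)
    · exact Or.inr (by rw [mul_assoc]; exact Q.mul_mem hx hy)
    · right
      have := Q.mul_mem hx (sQ y hy)
      have e : x * s * (s * y * s⁻¹) = x * (s * s) * y * s := by rw [ss']; group
      rw [e, ss, mul_one] at this
      exact this
    · left
      have := Q.mul_mem hx (sQ _ hy)
      have e : x * s * (s * (y * s) * s⁻¹) = x * (s * s) * y := by group
      rw [e, ss, mul_one] at this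
      exact this
  inv_mem' := by
    have ss' : s⁻¹ = s := inv_eq_of_mul_eq_one_left ss
    rintro x (hx | hx)
    · exact Or.inl (Q.inv_mem hx)
    · right
      have := sQ _ (Q.inv_mem hx)
      have e : s * (x * s)⁻¹ * s⁻¹ = x⁻¹ * s⁻¹ := by group
      rw [e, ss'] at this
      exact this

theorem mem_Qs {s : G} {ss : s * s = 1} {sQ : ∀ x ∈ Q, s * x * s⁻¹ ∈ Q} {x : G} :
    x ∈ Qs Q s ss sQ ↔ x ∈ Q ∨ x * s ∈ Q := Iff.rfl

theorem isPGroup_Qs [Finite G] {s : G} (ss : s * s = 1) (sQ : ∀ x ∈ Q, s * x * s⁻¹ ∈ Q)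
    (sq : ∀ x ∈ Q, x * x = 1) : IsPGroup 2 (Qs Q s ss sQ) := by
  have h1 : IsPGroup 2 (Q ⊔ zpowers s : Subgroup G) :=
    isPGroup_sup (isPGroup_of_sq sq) ⟨1, by rw [pow_one, pow_two, ss]⟩ sQ
  refine h1.to_le ?_
  have ss' : s⁻¹ = s := inv_eq_of_mul_eq_one_left ss
  rintro x (hx | hx)
  · exact le_sup_left (a := Q) hx
  · have e : x = x * s * s := by rw [mul_assoc, ss, mul_one]
    rw [e]
    exact Subgroup.mul_mem _ (le_sup_left (a := Q) hx) (le_sup_right (a := Q) (mem_zpowers s))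

/-- **The core.** -/
theorem exists_conj [Finite G] {Q' : Subgroup G} (F : Fr t Q') (comm : ∀ x ∈ Q, ∀ y ∈ Q, x * y = y * x)
    (sq : ∀ x ∈ Q, x * x = 1) (cardQ : Nat.card Q = 2 ^ 8) {s : G} (ss : s * s = 1)
    (sQ : ∀ x ∈ Q, s * x * s⁻¹ ∈ Q) (cards : Nat.card (Q ⊓ centralizer {s} : Subgroup G) = 2 ^ 4)
    {g : G} (hg : g * s * g⁻¹ = t)
    (hF : ∀ x ∈ Q, x * s = s * x → g * x * g⁻¹ ∈ Q' ∨ g * x * g⁻¹ * t ∈ Q') :
    ∃ a : G, a * s * a⁻¹ = t ∧ ∀ x ∈ Q, a * x * a⁻¹ ∈ Q' := by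
  have hfreeQ := fun {x : G} => free_conj (x := x) comm sq ss sQ (by rw [cards, cardQ]; norm_num)
  have hfreeQ' := fun {x : G} => free_conj (x := x) F.comm F.sq F.tt F.tQ (by rw [F.cardE, F.card]; norm_num)
  -- `g C_Q(s) g⁻¹ = E'`
  have hgt : ∀ x, x * s = s * x → (g * x * g⁻¹) * t = t * (g * x * g⁻¹) := by
    intro x hx
    rw [← hg]
    calc g * x * g⁻¹ * (g * s * g⁻¹) = g * (x * s) * g⁻¹ := by group
      _ = (g * s * g⁻¹) * (g * x * g⁻¹) := by rw [hx]; group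
  have h1 : ∀ x ∈ Q, x * s = s * x → g * x * g⁻¹ ∈ Q' := by
    intro x hx hxs
    rcases hF x hx hxs with h | h
    · exact h
    · exfalso
      obtain ⟨q, hq, hqs⟩ := hfreeQ hx hxs
      have ht : t⁻¹ = t := inv_eq_of_mul_eq_one_left F.tt
      have hc := hgt x hxs
      refine F.notE (g * q * g⁻¹) (g * x * g⁻¹ * t) h ?_ ?_
      · rw [hc, mul_assoc, ← hc]
      · calc g * q * g⁻¹ * t * (g * q * g⁻¹)⁻¹ = g * (q * (g⁻¹ * t * g) * q⁻¹) * g⁻¹ := by group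
          _ = g * (q * s * q⁻¹) * g⁻¹ := by rw [← hg]; group
          _ = (g * s * g⁻¹) * (g * x * g⁻¹) := by rw [hqs]; group
          _ = g * x * g⁻¹ * t := by rw [hg, hc]
  have hE : (Q ⊓ centralizer {s}).map (MulAut.conj g).toMonoidHom = Q' ⊓ centralizer {t} := by
    refine Subgroup.eq_of_le_of_card_ge ?_ ?_
    · rintro _ ⟨x, ⟨hx1, hx2⟩, rfl⟩
      have hxs := mem_centralizer_singleton_iff.1 hx2
      exact ⟨h1 x hx1 hxs, mem_centralizer_singleton_iff.2 (hgt x hxs)⟩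
    · rw [Subgroup.card_map_of_injective (MulAut.conj g).injective, cards, F.cardE]
  have hE' : ∀ e ∈ Q', e * t = t * e → ∃ x ∈ Q, x * s = s * x ∧ g * x * g⁻¹ = e := by
    intro e he het
    have : e ∈ (Q ⊓ centralizer {s}).map (MulAut.conj g).toMonoidHom := by
      rw [hE]; exact ⟨he, mem_centralizer_singleton_iff.2 het⟩
    obtain ⟨x, ⟨hx1, hx2⟩, rfl⟩ := this
    exact ⟨x, hx1, mem_centralizer_singleton_iff.1 hx2, rfl⟩
  -- the two subgroups of `H`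
  have ht : t⁻¹ = t := inv_eq_of_mul_eq_one_left F.tt
  have hP2 : Qs Q' t F.tt F.tQ ≤ HH t Q' := by
    have hQ' : ∀ x ∈ Q', x ∈ HH t Q' := by
      intro x hx
      refine mem_HH.2 ⟨fun e he _ => F.comm x hx e he, ?_⟩
      obtain ⟨e, he, het, h⟩ := conj_eq F.comm F.sq F.tt F.tQ hx
      exact ⟨e, he, het, h⟩
    have htH : t ∈ HH t Q' := mem_HH.2 ⟨fun e _ h => h.symm, 1, Q'.one_mem, by simp, by simp⟩
    rintro x (hx | hx)
    · exact hQ' x hx
    · have := (HH t Q').mul_mem (hQ' _ hx) htH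
      rwa [mul_assoc, F.tt, mul_one] at this
  have hP1 : (Qs Q s ss sQ).map (MulAut.conj g).toMonoidHom ≤ HH t Q' := by
    have hQ1 : ∀ x ∈ Q, g * x * g⁻¹ ∈ HH t Q' := by
      intro x hx
      refine mem_HH.2 ⟨fun e he het => ?_, ?_⟩
      · obtain ⟨y, hy, _, rfl⟩ := hE' e he het
        have h2 := comm x hx y hy
        calc g * x * g⁻¹ * (g * y * g⁻¹) = g * (x * y) * g⁻¹ := by group
          _ = g * y * g⁻¹ * (g * x * g⁻¹) := by rw [h2]; group
      · obtain ⟨e, he, hes, h2⟩ := conj_eq comm sq ss sQ hx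
        refine ⟨g * e * g⁻¹, h1 e he hes, hgt e hes, ?_⟩
        calc g * x * g⁻¹ * t * (g * x * g⁻¹)⁻¹ = g * x * g⁻¹ * (g * s * g⁻¹) * (g * x * g⁻¹)⁻¹ := by rw [hg]
          _ = g * (x * s * x⁻¹) * g⁻¹ := by group
          _ = (g * s * g⁻¹) * (g * e * g⁻¹) := by rw [h2]; group
          _ = t * (g * e * g⁻¹) := by rw [hg]
    have htH : t ∈ HH t Q' := mem_HH.2 ⟨fun e _ h => h.symm, 1, Q'.one_mem, by simp, by simp⟩
    rintro _ ⟨x, hx | hx, rfl⟩
    · exact hQ1 x hx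
    · have h2 := (HH t Q').mul_mem (hQ1 _ hx) htH
      have e : g * (x * s) * g⁻¹ * t = g * x * g⁻¹ := by
        calc g * (x * s) * g⁻¹ * t = g * x * g⁻¹ * (g * s * g⁻¹) * t := by group
          _ = g * x * g⁻¹ := by rw [hg, mul_assoc, F.tt, mul_one]
      rw [e] at h2
      exact h2
  obtain ⟨h, hh, hhP⟩ := exists_conj_le (p := 2) hP2 (isPGroup_Qs F.tt F.tQ F.sq) (by
    intro h hh hh2 hnorm
    obtain ⟨hhE, e, he, het, hte⟩ := mem_HH.1 hh
    obtain ⟨q, hq, hqt⟩ := hfreeQ' he het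
    have hqP : q ∈ Qs Q' t F.tt F.tQ := Or.inl hq
    have hp : IsPGroup 2 (Qs Q' t F.tt F.tQ ⊔ zpowers h : Subgroup G) :=
      isPGroup_sup (isPGroup_Qs F.tt F.tQ F.sq) hh2 hnorm
    have hmem : q⁻¹ * h ∈ (Qs Q' t F.tt F.tQ ⊔ zpowers h : Subgroup G) :=
      Subgroup.mul_mem _ (Subgroup.inv_mem _ (le_sup_left (a := Qs Q' t F.tt F.tQ) hqP))
        (le_sup_right (a := Qs Q' t F.tt F.tQ) (mem_zpowers h))
    have hct : q⁻¹ * h * t = t * (q⁻¹ * h) := by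
      have h3 : h * t = q * t * q⁻¹ * h := by rw [hqt, ← hte]; group
      calc q⁻¹ * h * t = q⁻¹ * (h * t) := by group
        _ = t * (q⁻¹ * h) := by rw [h3]; group
    have hcE := F.centE (q⁻¹ * h) (exists_pow hp hmem) hct (by
      intro x hx hxt
      rw [mul_assoc, hhE x hx hxt, ← mul_assoc, F.comm _ (Q'.inv_mem hq) _ hx, mul_assoc])
    have h4 : q⁻¹ * h ∈ Qs Q' t F.tt F.tQ := hcE
    have := (Qs Q' t F.tt F.tQ).mul_mem hqP h4
    simpa using this) hP1 ((isPGroup_Qs ss sQ sq).map _)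
  -- correct `h`
  obtain ⟨_, e, he, het, hte⟩ := mem_HH.1 hh
  obtain ⟨q, hq, hqt⟩ := hfreeQ' he het
  have hqP : q ∈ Qs Q' t F.tt F.tQ := Or.inl hq
  refine ⟨q⁻¹ * h * g, ?_, ?_⟩
  · calc q⁻¹ * h * g * s * (q⁻¹ * h * g)⁻¹ = q⁻¹ * (h * (g * s * g⁻¹) * h⁻¹) * q := by group
      _ = q⁻¹ * (q * t * q⁻¹) * q := by rw [hg, hte, hqt]
      _ = t := by group
  · -- `A = a Q a⁻¹ ≤ Q'⟨t⟩`
    set a := q⁻¹ * h * g with ha
    have hA : ∀ x ∈ Q, a * x * a⁻¹ ∈ Qs Q' t F.tt F.tQ := by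
      intro x hx
      have h2 := hhP (g * x * g⁻¹) ⟨x, Or.inl hx, rfl⟩
      have h3 := (Qs Q' t F.tt F.tQ).mul_mem ((Qs Q' t F.tt F.tQ).mul_mem
        ((Qs Q' t F.tt F.tQ).inv_mem hqP) h2) hqP
      have e : q⁻¹ * (h * (g * x * g⁻¹) * h⁻¹) * q = a * x * a⁻¹ := by rw [ha]; group
      rwa [e] at h3
    by_contra hcon
    push Not at hcon
    obtain ⟨x, hx, hxQ⟩ := hcon
    have hxt : a * x * a⁻¹ * t ∈ Q' := (hA x hx).resolve_left hxQ
    let A : Subgroup G := Q.map (MulAut.conj a).toMonoidHom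
    have hAcard : Nat.card A = 2 ^ 8 := by
      rw [Subgroup.card_map_of_injective (MulAut.conj a).injective, cardQ]
    have hAcomm : ∀ y ∈ A, (a * x * a⁻¹) * y = y * (a * x * a⁻¹) := by
      rintro _ ⟨y, hy, rfl⟩
      show a * x * a⁻¹ * (a * y * a⁻¹) = a * y * a⁻¹ * (a * x * a⁻¹)
      have h2 := comm x hx y hy
      calc a * x * a⁻¹ * (a * y * a⁻¹) = a * (x * y) * a⁻¹ := by group
        _ = a * y * a⁻¹ * (a * x * a⁻¹) := by rw [h2]; group
    have hd : Nat.card A = 2 * Nat.card (A ⊓ Q' : Subgroup G) := by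
      refine card_double (s := a * x * a⁻¹) inf_le_left ⟨x, hx, rfl⟩ (fun h => hxQ h.2) ?_
      rintro y hy
      obtain ⟨z, hz, rfl⟩ := hy
      rcases hA z hz with h2 | h2
      · exact Or.inl ⟨⟨z, hz, rfl⟩, h2⟩
      · right
        refine ⟨A.mul_mem ⟨z, hz, rfl⟩ ⟨x, hx, rfl⟩, ?_⟩
        have h3 := Q'.mul_mem h2 (F.tQ _ hxt)
        have e : a * z * a⁻¹ * t * (t * (a * x * a⁻¹ * t) * t⁻¹) = a * z * a⁻¹ * (t * t) * (a * x * a⁻¹) := by
          group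
        rw [e, F.tt, mul_one] at h3
        exact h3
    have hle : A ⊓ Q' ≤ Q' ⊓ centralizer {t} := by
      rintro y ⟨hy1, hy2⟩
      refine ⟨hy2, mem_centralizer_singleton_iff.2 ?_⟩
      have h2 := hAcomm y hy1
      have h3 := F.comm _ hxt y hy2
      -- y commutes with `axa⁻¹` and `axa⁻¹ t`
      have h4 : a * x * a⁻¹ * (t * y) = a * x * a⁻¹ * (y * t) := by
        calc a * x * a⁻¹ * (t * y) = a * x * a⁻¹ * t * y := by group
          _ = y * (a * x * a⁻¹) * t := by rw [h3]; group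
          _ = a * x * a⁻¹ * (y * t) := by rw [← h2]; group
      exact (mul_left_cancel h4).symm
    have h5 := Subgroup.card_le_of_le hle
    rw [F.cardE] at h5
    rw [hAcard] at hd
    omega

end Cfsg.Agent.TypeM.WThreeAbs
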