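import Mathlib
import Cfsg.Agent.TypeM.WThreeAbs
import Cfsg.Agent.TypeM.QConf

/-!
# Theorem W, step [W3']

From a configuration `QConf t ε μ s` and an involution `y` acting diagonally by the matrix `gm 0`, with `t y`
conjugate to `t`, an element `a` with `a (t y) a⁻¹ = t` and `a Q a⁻¹ = Q` or `Q'`.
-/

set_option autoImplicit false

namespace Cfsg.Agent.TypeM.WThree

open Subgroup Cfsg.Agent.TypeM.WThreeAbs

variable {G : Type*} [Group G] {t : G} {ε μ s : ℕ → G}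

section

variable (H : QConf t ε μ s)
include H

theorem eps_zero : ε 0 = 1 := by
  have h := H.εmul 0 (by norm_num) 0 (by norm_num)
  simpa using h

theorem mu_zero : μ 0 = 1 := by
  have h := H.μmul 0 (by norm_num) 0 (by norm_num)
  simpa using h

theorem eps_sq {i : ℕ} (hi : i < 16) : ε i * ε i = 1 := by
  rw [H.εmul i hi i hi, Nat.xor_self, eps_zero H]

theorem mu_sq {i : ℕ} (hi : i < 16) : μ i * μ i = 1 := by
  rw [H.μmul i hi i hi, Nat.xor_self, mu_zero H]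

theorem mul_form {i j k l : ℕ} (hi : i < 16) (hj : j < 16) (hk : k < 16) (hl : l < 16) :
    (ε i * μ j) * (ε k * μ l) = ε (i ^^^ k) * μ (j ^^^ l) := by
  rw [← H.εmul i hi k hk, ← H.μmul j hj l hl]
  calc ε i * μ j * (ε k * μ l) = ε i * (μ j * ε k) * μ l := by group
    _ = ε i * (ε k * μ j) * μ l := by rw [H.εμ k hk j hj]
    _ = ε i * ε k * (μ j * μ l) := by group

theorem eq_of {i j k l : ℕ} (hi : i < 16) (hj : j < 16) (hk : k < 16) (hl : l < 16)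
    (h : ε i * μ j = ε k * μ l) : i = k ∧ j = l := by
  have h1 : (ε i * μ j) * (ε k * μ l) = 1 := by
    rw [h, mul_form H hk hl hk hl, Nat.xor_self, Nat.xor_self, eps_zero H, mu_zero H, one_mul]
  rw [mul_form H hi hj hk hl] at h1
  obtain ⟨h2, h3⟩ := H.inj _ (xor_lt hi hk) _ (xor_lt hj hl) h1
  exact ⟨Nat.xor_eq_zero_iff.1 h2, Nat.xor_eq_zero_iff.1 h3⟩

end

/-- The group `Q`. -/
def QQ (H : QConf t ε μ s) : Subgroup G where
  carrier := {x | ∃ i < 16, ∃ j < 16, x = ε i * μ j}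
  one_mem' := ⟨0, by norm_num, 0, by norm_num, by rw [eps_zero H, mu_zero H, one_mul]⟩
  mul_mem' := by
    rintro _ _ ⟨i, hi, j, hj, rfl⟩ ⟨k, hk, l, hl, rfl⟩
    exact ⟨_, xor_lt hi hk, _, xor_lt hj hl, mul_form H hi hj hk hl⟩
  inv_mem' := by
    rintro _ ⟨i, hi, j, hj, rfl⟩
    refine ⟨i, hi, j, hj, inv_eq_of_mul_eq_one_left ?_⟩
    rw [mul_form H hi hj hi hj, Nat.xor_self, Nat.xor_self, eps_zero H, mu_zero H, one_mul]

theorem mem_QQ {H : QConf t ε μ s} {x : G} : x ∈ QQ H ↔ ∃ i < 16, ∃ j < 16, x = ε i * μ j := Iff.rfl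

section

variable (H : QConf t ε μ s)
include H

theorem QQ_comm : ∀ x ∈ QQ H, ∀ y ∈ QQ H, x * y = y * x := by
  rintro _ ⟨i, hi, j, hj, rfl⟩ _ ⟨k, hk, l, hl, rfl⟩
  rw [mul_form H hi hj hk hl, mul_form H hk hl hi hj, Nat.xor_comm i, Nat.xor_comm j]

theorem QQ_sq : ∀ x ∈ QQ H, x * x = 1 := by
  rintro _ ⟨i, hi, j, hj, rfl⟩
  rw [mul_form H hi hj hi hj, Nat.xor_self, Nat.xor_self, eps_zero H, mu_zero H, one_mul]

theorem eps_mem {i : ℕ} (hi : i < 16) : ε i ∈ QQ H := ⟨i, hi, 0, by norm_num, by rw [mu_zero H, mul_one]⟩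

theorem mu_mem {i : ℕ} (hi : i < 16) : μ i ∈ QQ H := ⟨0, by norm_num, i, hi, by rw [eps_zero H, one_mul]⟩

/-- orders of subgroups of `Q` given by a table -/
theorem card_sub {S : Subgroup G} (c : Fin 16 → Fin 16 → Bool)
    (h : ∀ x, x ∈ S ↔ ∃ i j : Fin 16, c i j = true ∧ x = ε i * μ j) :
    Nat.card S = (Finset.univ.filter (fun p : Fin 16 × Fin 16 => c p.1 p.2 = true)).card := by
  have h1 : Function.Bijective (fun p : {p : Fin 16 × Fin 16 // c p.1 p.2 = true} =>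
      (⟨ε p.1.1 * μ p.1.2, (h _).2 ⟨p.1.1, p.1.2, p.2, rfl⟩⟩ : S)) := by
    constructor
    · rintro ⟨⟨i, j⟩, hp⟩ ⟨⟨k, l⟩, hq⟩ he
      have h2 : ε i * μ j = ε k * μ l := congrArg Subtype.val he
      obtain ⟨h3, h4⟩ := eq_of H i.2 j.2 k.2 l.2 h2
      have h3' : i = k := Fin.ext h3
      have h4' : j = l := Fin.ext h4
      subst h3' h4'
      rfl
    · rintro ⟨x, hx⟩
      obtain ⟨i, j, hc, rfl⟩ := (h x).1 hx
      exact ⟨⟨(i, j), hc⟩, rfl⟩
  rw [← Nat.card_eq_of_bijective _ h1, Nat.card_eq_fintype_card, Fintype.card_subtype]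

theorem card_QQ : Nat.card (QQ H) = 2 ^ 8 := by
  rw [card_sub H (fun _ _ => true)]
  · decide +kernel
  · intro x
    constructor
    · rintro ⟨i, hi, j, hj, rfl⟩
      exact ⟨⟨i, hi⟩, ⟨j, hj⟩, rfl, rfl⟩
    · rintro ⟨i, j, _, rfl⟩
      exact ⟨i, i.2, j, j.2, rfl⟩

theorem t_form {i j : ℕ} (hi : i < 16) (hj : j < 16) : t * (ε i * μ j) = ε (i ^^^ j) * μ j * t := by
  calc t * (ε i * μ j) = (t * ε i) * μ j := by group
    _ = ε i * (t * μ j) := by rw [H.tε i hi]; group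
    _ = ε i * (μ j * ε j) * t := by rw [H.tμ j hj]; group
    _ = ε i * (ε j * μ j) * t := by rw [H.εμ j hj j hj]
    _ = ε (i ^^^ j) * μ j * t := by rw [← H.εmul i hi j hj]; group

theorem QQ_t : ∀ x ∈ QQ H, t * x * t⁻¹ ∈ QQ H := by
  rintro _ ⟨i, hi, j, hj, rfl⟩
  refine ⟨_, xor_lt hi hj, j, hj, ?_⟩
  rw [t_form H hi hj]; group

theorem comm_t_iff {x : G} (hx : x ∈ QQ H) : x * t = t * x ↔ ∃ i < 16, x = ε i := by
  obtain ⟨i, hi, j, hj, rfl⟩ := hx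
  constructor
  · intro h
    rw [t_form H hi hj] at h
    have h1 := eq_of H hi hj (xor_lt hi hj) hj (mul_right_cancel h)
    have h2 : j = 0 := by
      have := h1.1
      have h3 : i ^^^ (i ^^^ j) = i ^^^ i := by rw [← this]
      rwa [← Nat.xor_assoc, Nat.xor_self, Nat.zero_xor] at h3
    exact ⟨i, hi, by rw [h2, mu_zero H, mul_one]⟩
  · rintro ⟨k, hk, h⟩
    rw [h, H.tε k hk]

theorem card_E : Nat.card (QQ H ⊓ centralizer {t} : Subgroup G) = 2 ^ 4 := by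
  rw [card_sub H (fun _ j => decide (j = 0))]
  · decide +kernel
  · intro x
    constructor
    · rintro ⟨hx, hxt⟩
      obtain ⟨i, hi, rfl⟩ := (comm_t_iff H hx).1 (mem_centralizer_singleton_iff.1 hxt)
      exact ⟨⟨i, hi⟩, 0, by simp, by simp [mu_zero H]⟩
    · rintro ⟨i, j, h, rfl⟩
      have h0 : j = 0 := by simpa using h
      subst h0
      refine ⟨⟨i, i.2, 0, by norm_num, rfl⟩, mem_centralizer_singleton_iff.2 ?_⟩
      simp only [Fin.val_zero, mu_zero H, mul_one]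
      exact (H.tε i i.2).symm

theorem fr (tE : ∀ i < 16, ∀ g : G, g * t * g⁻¹ ≠ ε i) : Fr t (QQ H) where
  comm := QQ_comm H
  sq := QQ_sq H
  tt := H.tt
  tQ := QQ_t H
  card := card_QQ H
  cardE := card_E H
  centE := by
    intro g hg hgt hc
    obtain ⟨i, hi, h | h⟩ := H.cenF g hg hgt.symm
      (fun i hi => hc (ε i) (eps_mem H hi) (H.tε i hi).symm)
    · left; rw [h]; exact eps_mem H hi
    · right
      rw [h, H.tε i hi, mul_assoc, H.tt, mul_one]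
      exact eps_mem H hi
  notE := by
    intro g x hx hxt
    obtain ⟨i, hi, rfl⟩ := (comm_t_iff H hx).1 hxt
    exact tE i hi g

omit H

theorem gm_gm : ∀ i < 16, gm 0 (gm 0 i) = i := by decide +kernel

theorem gm_fix : ∀ j < 16, gm 0 j = j → ∃ k < 16, k ^^^ gm 0 k = j := by decide +kernel

include H

/-- **(a)** The involution `y`. -/
theorem exists_y [Finite G] (N : Subgroup G) (hs : s 0 ∈ N) (hε : ∀ i < 16, ε i ∈ N) :
    ∃ y ∈ N, y * y = 1 ∧ y * t = t * y ∧ (∀ i < 16, y * ε i = ε (gm 0 i) * y) ∧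
      (∀ i < 16, y * μ i = μ (gm 0 i) * y) := by
  obtain ⟨n, m, hm, hnm⟩ := Nat.exists_eq_two_pow_mul_odd (n := orderOf (s 0)) (orderOf_pos (s 0)).ne'
  obtain ⟨r, rfl⟩ := hm
  -- `s 0 ^ 2` centralises `Q`
  have h2ε : ∀ i < 16, Commute (s 0 * s 0) (ε i) := by
    intro i hi
    show s 0 * s 0 * ε i = ε i * (s 0 * s 0)
    rw [mul_assoc, H.sε 0 (by norm_num) i hi, ← mul_assoc, H.sε 0 (by norm_num) _ (gm_lt 0 i), gm_gm i hi, mul_assoc]
  have h2μ : ∀ i < 16, Commute (s 0 * s 0) (μ i) := by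
    intro i hi
    show s 0 * s 0 * μ i = μ i * (s 0 * s 0)
    rw [mul_assoc, H.sμ 0 (by norm_num) i hi, ← mul_assoc, H.sμ 0 (by norm_num) _ (gm_lt 0 i), gm_gm i hi, mul_assoc]
  set y0 := s 0 * (s 0 * s 0) ^ r with hy0
  have hy0' : y0 = s 0 ^ (2 * r + 1) := by
    rw [hy0, ← pow_two, ← pow_mul, pow_succ', mul_comm]
  have hy0two : TwoElt y0 := ⟨n, by rw [hy0', ← pow_mul, mul_comm, ← hnm, pow_orderOf_eq_one]⟩
  have hyε : ∀ i < 16, y0 * ε i = ε (gm 0 i) * y0 := by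
    intro i hi
    rw [hy0, mul_assoc, ((h2ε i hi).pow_left r).eq, ← mul_assoc, H.sε 0 (by norm_num) i hi, mul_assoc]
  have hyμ : ∀ i < 16, y0 * μ i = μ (gm 0 i) * y0 := by
    intro i hi
    rw [hy0, mul_assoc, ((h2μ i hi).pow_left r).eq, ← mul_assoc, H.sμ 0 (by norm_num) i hi, mul_assoc]
  have hst : Commute (s 0) t := H.st 0 (by norm_num)
  have hyt : y0 * t = t * y0 := by rw [hy0']; exact (hst.pow_left _).eq
  have hyN : y0 ∈ N := by rw [hy0']; exact N.pow_mem hs _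
  -- `y0 ^ 2 = ε j`
  have hyyε : ∀ i < 16, y0 * y0 * ε i = ε i * (y0 * y0) := by
    intro i hi
    rw [mul_assoc, hyε i hi, ← mul_assoc, hyε _ (gm_lt 0 i), gm_gm i hi, mul_assoc]
  have hyyμ : ∀ i < 16, y0 * y0 * μ i = μ i * (y0 * y0) := by
    intro i hi
    rw [mul_assoc, hyμ i hi, ← mul_assoc, hyμ _ (gm_lt 0 i), gm_gm i hi, mul_assoc]
  have hyytwo : TwoElt (y0 * y0) := by
    obtain ⟨k, hk⟩ := hy0two
    refine ⟨k, ?_⟩
    rw [← pow_two, ← pow_mul, mul_comm, pow_mul, hk, one_pow]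
  obtain ⟨j, hj, hjj⟩ : ∃ j < 16, y0 * y0 = ε j := by
    obtain ⟨j, hj, h | h⟩ := H.cenF (y0 * y0) hyytwo
      (by rw [← mul_assoc, ← hyt, mul_assoc, ← hyt, ← mul_assoc]) hyyε
    · exact ⟨j, hj, h⟩
    · exfalso
      have h1 := hyyμ 1 (by norm_num)
      rw [h] at h1
      have h2 : t * ε j * μ 1 = t * (ε j * μ 1) := by group
      rw [h2, t_form H hj (by norm_num)] at h1
      have h3 : μ 1 * (t * ε j) = ε j * μ 1 * t := by
        rw [H.tε j hj, ← mul_assoc, ← H.εμ j hj 1 (by norm_num)]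
      rw [h3] at h1
      have h4 := (eq_of H (xor_lt hj (by norm_num)) (by norm_num) hj (by norm_num) (mul_right_cancel h1)).1
      have h5 : j ^^^ (j ^^^ 1) = j ^^^ j := by rw [h4]
      rw [← Nat.xor_assoc, Nat.xor_self, Nat.zero_xor] at h5
      exact absurd h5 (by norm_num)
  have hjfix : gm 0 j = j := by
    have h1 := hyε j hj
    have h2 : y0 * ε j = ε j * y0 := by rw [← hjj]; exact (mul_assoc y0 y0 y0).symm
    rw [h2] at h1
    have h3 := mul_right_cancel h1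
    have h4 : ε j * μ 0 = ε (gm 0 j) * μ 0 := by rw [← h3]
    exact (eq_of H hj (by norm_num) (gm_lt 0 j) (by norm_num) h4).1.symm
  obtain ⟨k, hk, hkj⟩ := gm_fix j hj hjfix
  have hεy : ε k * y0 = y0 * ε (gm 0 k) := by
    rw [hyε _ (gm_lt 0 k), gm_gm k hk]
  refine ⟨y0 * ε k, N.mul_mem hyN (hε k hk), ?_, ?_, ?_, ?_⟩
  · calc y0 * ε k * (y0 * ε k) = y0 * (ε k * y0) * ε k := by group
      _ = (y0 * y0) * (ε (gm 0 k) * ε k) := by rw [hεy]; group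
      _ = ε j * ε (gm 0 k ^^^ k) := by rw [hjj, H.εmul _ (gm_lt 0 k) k hk]
      _ = 1 := by rw [Nat.xor_comm, hkj, eps_sq H hj]
  · rw [mul_assoc, ← H.tε k hk, ← mul_assoc, hyt, mul_assoc]
  · intro i hi
    rw [mul_assoc, H.εmul k hk i hi, Nat.xor_comm, ← H.εmul i hi k hk, ← mul_assoc, hyε i hi, mul_assoc]
  · intro i hi
    rw [mul_assoc, H.εμ k hk i hi, ← mul_assoc, hyμ i hi, mul_assoc]

/-- `t y` acts on `Q`. -/
theorem ty_form {y : G} (hyε : ∀ i < 16, y * ε i = ε (gm 0 i) * y) (hyμ : ∀ i < 16, y * μ i = μ (gm 0 i) * y)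
    {i j : ℕ} (hi : i < 16) (hj : j < 16) :
    t * y * (ε i * μ j) = ε (gm 0 i ^^^ gm 0 j) * μ (gm 0 j) * (t * y) := by
  calc t * y * (ε i * μ j) = t * (y * ε i) * μ j := by group
    _ = t * ε (gm 0 i) * (y * μ j) := by rw [hyε i hi]; group
    _ = t * (ε (gm 0 i) * μ (gm 0 j)) * y := by rw [hyμ j hj]; group
    _ = ε (gm 0 i ^^^ gm 0 j) * μ (gm 0 j) * (t * y) := by
        rw [t_form H (gm_lt 0 i) (gm_lt 0 j)]; group

theorem QQ_ty {y : G} (hyε : ∀ i < 16, y * ε i = ε (gm 0 i) * y) (hyμ : ∀ i < 16, y * μ i = μ (gm 0 i) * y) :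
    ∀ x ∈ QQ H, (t * y) * x * (t * y)⁻¹ ∈ QQ H := by
  rintro _ ⟨i, hi, j, hj, rfl⟩
  refine ⟨_, xor_lt (gm_lt 0 i) (gm_lt 0 j), _, gm_lt 0 j, ?_⟩
  rw [ty_form H hyε hyμ hi hj]; group

theorem card_ty {y : G} (hyε : ∀ i < 16, y * ε i = ε (gm 0 i) * y) (hyμ : ∀ i < 16, y * μ i = μ (gm 0 i) * y) :
    Nat.card (QQ H ⊓ centralizer {t * y} : Subgroup G) = 2 ^ 4 := by
  rw [card_sub H (fun i j => decide (gm 0 i ^^^ gm 0 j = i) && decide (gm 0 j = j))]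
  · decide +kernel
  · intro x
    constructor
    · rintro ⟨⟨i, hi, j, hj, rfl⟩, hxt⟩
      have h1 := mem_centralizer_singleton_iff.1 hxt
      rw [ty_form H hyε hyμ hi hj] at h1
      have h2 := eq_of H hi hj (xor_lt (gm_lt 0 i) (gm_lt 0 j)) (gm_lt 0 j) (mul_right_cancel h1)
      refine ⟨⟨i, hi⟩, ⟨j, hj⟩, ?_, rfl⟩
      simp only [Bool.and_eq_true, decide_eq_true_eq]
      exact ⟨h2.1.symm, h2.2.symm⟩
    · rintro ⟨i, j, h, rfl⟩
      simp only [Bool.and_eq_true, decide_eq_true_eq] at h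
      refine ⟨⟨i, i.2, j, j.2, rfl⟩, mem_centralizer_singleton_iff.2 ?_⟩
      rw [ty_form H hyε hyμ i.2 j.2, h.1, h.2]

/-- **(b)** The element `a`. -/
theorem exists_conj [Finite G] {ε' μ' s' : ℕ → G} (H' : QConf t ε' μ' s')
    (tE : ∀ i < 16, ∀ g : G, g * t * g⁻¹ ≠ ε i) (tE' : ∀ i < 16, ∀ g : G, g * t * g⁻¹ ≠ ε' i)
    (h1 : ∀ R : Subgroup G, t ∈ R → (∀ x ∈ R, x * x = 1) → Nat.card R = 32 → ∃ c, c * t = t * c ∧
      ((∀ x ∈ R, ∃ i < 16, c * x * c⁻¹ = ε i ∨ c * x * c⁻¹ = t * ε i) ∨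
        (∀ x ∈ R, ∃ i < 16, c * x * c⁻¹ = ε' i ∨ c * x * c⁻¹ = t * ε' i)))
    {y : G} (hyy : y * y = 1) (hyt : y * t = t * y) (hyε : ∀ i < 16, y * ε i = ε (gm 0 i) * y)
    (hyμ : ∀ i < 16, y * μ i = μ (gm 0 i) * y) (hty : IsConj (t * y) t) :
    ∃ a : G, a * (t * y) * a⁻¹ = t ∧
      ((∀ i < 16, ∀ j < 16, ∃ k < 16, ∃ l < 16, a * (ε i * μ j) * a⁻¹ = ε k * μ l) ∨
        (∀ i < 16, ∀ j < 16, ∃ k < 16, ∃ l < 16, a * (ε i * μ j) * a⁻¹ = ε' k * μ' l)) := by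
  obtain ⟨g, hg⟩ := isConj_iff.1 hty
  have ss : t * y * (t * y) = 1 := by
    calc t * y * (t * y) = t * (y * t) * y := by group
      _ = (t * t) * (y * y) := by rw [hyt]; group
      _ = 1 := by rw [H.tt, hyy, one_mul]
  have ht : t⁻¹ = t := inv_eq_of_mul_eq_one_left H.tt
  have hsQ := QQ_ty H hyε hyμ
  have hcards := card_ty H hyε hyμ
  -- the group `C_Q(ty)⟨ty⟩`
  have hsE : ∀ x ∈ QQ H ⊓ centralizer {t * y}, (t * y) * x * (t * y)⁻¹ ∈ QQ H ⊓ centralizer {t * y} := by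
    intro x hx
    have h2 := mem_centralizer_singleton_iff.1 hx.2
    rw [← h2, mul_inv_cancel_right]
    exact hx
  let F1 : Subgroup G := Qs (QQ H ⊓ centralizer {t * y}) (t * y) ss hsE
  have htyQ : t * y ∉ QQ H := by
    intro h
    have h2 : QQ H ⊓ centralizer {t * y} = QQ H := by
      rw [inf_eq_left]
      intro x hx
      exact mem_centralizer_singleton_iff.2 (QQ_comm H x hx _ h)
    rw [h2, card_QQ H] at hcards
    norm_num at hcards
  have hF1 : Nat.card F1 = 32 := by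
    rw [card_double (H := QQ H ⊓ centralizer {t * y}) (K := F1) (s := t * y) (fun x hx => Or.inl hx)
      (Or.inr (by rw [ss]; exact Subgroup.one_mem _)) (fun h => htyQ h.1) (fun x hx => hx), hcards]
    norm_num
  have hF1sq : ∀ x ∈ F1, x * x = 1 := by
    rintro x (hx | hx)
    · exact QQ_sq H x hx.1
    · have h2 := mem_centralizer_singleton_iff.1 hx.2
      have h3 : Commute (x * (t * y)) (t * y) := h2
      have h4 : Commute x (t * y) := by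
        have := h3.mul_left (Commute.refl (t * y)).inv_left
        rwa [mul_inv_cancel_right] at this
      have h5 := QQ_sq H _ hx.1
      calc x * x = x * x * (t * y * (t * y)) := by rw [ss, mul_one]
        _ = x * (x * (t * y)) * (t * y) := by group
        _ = x * ((t * y) * x) * (t * y) := by rw [h4.eq]
        _ = (x * (t * y)) * (x * (t * y)) := by group
        _ = 1 := h5
  obtain ⟨c, hct, hc⟩ := h1 (F1.map (MulAut.conj g).toMonoidHom)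
    ⟨t * y, Or.inr (by rw [ss]; exact Subgroup.one_mem _), hg⟩ (by
      rintro _ ⟨x, hx, rfl⟩
      rw [← map_mul, hF1sq x hx, map_one]) (by
      rw [Subgroup.card_map_of_injective (MulAut.conj g).injective, hF1])
  have hcg : (c * g) * (t * y) * (c * g)⁻¹ = t := by
    calc (c * g) * (t * y) * (c * g)⁻¹ = c * (g * (t * y) * g⁻¹) * c⁻¹ := by group
      _ = t := by rw [hg, hct]; group
  have e : ∀ x, (c * g) * x * (c * g)⁻¹ = c * (g * x * g⁻¹) * c⁻¹ := fun x => by group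
  have hmem : ∀ x ∈ QQ H, x * (t * y) = (t * y) * x → g * x * g⁻¹ ∈ F1.map (MulAut.conj g).toMonoidHom :=
    fun x hx hxt => ⟨x, Or.inl ⟨hx, mem_centralizer_singleton_iff.2 hxt⟩, rfl⟩
  rcases hc with hc | hc
  · obtain ⟨a, ha, hQ⟩ := WThreeAbs.exists_conj (fr H tE) (QQ_comm H) (QQ_sq H) (card_QQ H) ss hsQ hcards hcg (by
      intro x hx hxt
      obtain ⟨i, hi, h | h⟩ := hc _ (hmem x hx hxt)
      · left; rw [e, h]; exact eps_mem H hi
      · right; rw [e, h, H.tε i hi, mul_assoc, H.tt, mul_one]; exact eps_mem H hi)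
    refine ⟨a, ha, Or.inl fun i hi j hj => ?_⟩
    exact hQ _ ⟨i, hi, j, hj, rfl⟩
  · obtain ⟨a, ha, hQ⟩ := WThreeAbs.exists_conj (fr H' tE') (QQ_comm H) (QQ_sq H) (card_QQ H) ss hsQ hcards hcg (by
      intro x hx hxt
      obtain ⟨i, hi, h | h⟩ := hc _ (hmem x hx hxt)
      · left; rw [e, h]; exact eps_mem H' hi
      · right; rw [e, h, H'.tε i hi, mul_assoc, H.tt, mul_one]; exact eps_mem H' hi)
    refine ⟨a, ha, Or.inr fun i hi j hj => ?_⟩
    exact hQ _ ⟨i, hi, j, hj, rfl⟩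

/-- Transport of a configuration. -/
theorem conj_QConf (c : G) :
    QConf (c⁻¹ * t * c) (fun i => c⁻¹ * ε i * c) (fun i => c⁻¹ * μ i * c) (fun i => c⁻¹ * s i * c) := by
  have e : ∀ x y : G, (c⁻¹ * x * c) * (c⁻¹ * y * c) = c⁻¹ * (x * y) * c := fun x y => by group
  have hp : ∀ (x : G) (n : ℕ), (c * x * c⁻¹) ^ n = c * x ^ n * c⁻¹ := fun x n => conj_pow
  have htwo : ∀ x, TwoElt x → TwoElt (c * x * c⁻¹) := by
    rintro x ⟨n, hn⟩
    exact ⟨n, by rw [hp, hn]; group⟩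
  have hcomm : ∀ x y : G, c⁻¹ * y * c * x = x * (c⁻¹ * y * c) → y * (c * x * c⁻¹) = c * x * c⁻¹ * y := by
    intro x y h
    calc y * (c * x * c⁻¹) = c * (c⁻¹ * y * c * x) * c⁻¹ := by group
      _ = c * x * c⁻¹ * y := by rw [h]; group
  refine ⟨?_, ?_, ?_, ?_, ?_, ?_, ?_, ?_, ?_, ?_, ?_, ?_⟩
  · rw [e, H.tt]; group
  · intro i hi j hj
    rw [e, H.εmul i hi j hj]
  · intro i hi j hj
    rw [e, H.μmul i hi j hj]
  · intro i hi j hj
    rw [e, e, H.εμ i hi j hj]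
  · intro i hi j hj h
    rw [e] at h
    apply H.inj i hi j hj
    calc ε i * μ j = c * (c⁻¹ * (ε i * μ j) * c) * c⁻¹ := by group
      _ = 1 := by rw [h]; group
  · intro i hi
    rw [e, e, H.tε i hi]
  · intro i hi
    rw [e, e, e, H.tμ i hi]
  · intro k hk
    rw [e, e, H.st k hk]
  · intro k hk i hi
    rw [e, e, H.sε k hk i hi]
  · intro k hk i hi
    rw [e, e, H.sμ k hk i hi]
  · intro x hx hxt hxε
    obtain ⟨i, hi, h⟩ := H.cenF (c * x * c⁻¹) (htwo x hx) (hcomm x t hxt)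
      (fun i hi => (hcomm x _ (hxε i hi).symm).symm)
    refine ⟨i, hi, ?_⟩
    rcases h with h | h
    · left; rw [← h]; group
    · right; rw [e, ← h]; group
  · intro x hx hxε hxμ
    obtain ⟨i, hi, j, hj, h⟩ := H.cenQ (c * x * c⁻¹) (htwo x hx)
      (fun i hi => (hcomm x _ (hxε i hi).symm).symm) (fun i hi => (hcomm x _ (hxμ i hi).symm).symm)
    refine ⟨i, hi, j, hj, ?_⟩
    rw [e, ← h]; group

/-- **(c)** The second frame on the same `Q`. -/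
theorem exists_QConf [Finite G] {ε' μ' s' : ℕ → G} (H' : QConf t ε' μ' s')
    (tE : ∀ i < 16, ∀ g : G, g * t * g⁻¹ ≠ ε i) (tE' : ∀ i < 16, ∀ g : G, g * t * g⁻¹ ≠ ε' i)
    (h1 : ∀ R : Subgroup G, t ∈ R → (∀ x ∈ R, x * x = 1) → Nat.card R = 32 → ∃ c, c * t = t * c ∧
      ((∀ x ∈ R, ∃ i < 16, c * x * c⁻¹ = ε i ∨ c * x * c⁻¹ = t * ε i) ∨
        (∀ x ∈ R, ∃ i < 16, c * x * c⁻¹ = ε' i ∨ c * x * c⁻¹ = t * ε' i)))
    {y : G} (hyy : y * y = 1) (hyt : y * t = t * y) (hyε : ∀ i < 16, y * ε i = ε (gm 0 i) * y)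
    (hyμ : ∀ i < 16, y * μ i = μ (gm 0 i) * y) (hty : IsConj (t * y) t) :
    ∃ ε'' μ'' s'' : ℕ → G, QConf (t * y) ε'' μ'' s'' ∧
      (∀ i < 16, ∀ j < 16, ∃ k < 16, ∃ l < 16, ε i * μ j = ε'' k * μ'' l) ∧
      (∀ i < 16, ∀ j < 16, ∃ k < 16, ∃ l < 16, ε'' i * μ'' j = ε k * μ l) := by
  obtain ⟨a, ha, h⟩ := exists_conj H H' tE tE' h1 hyy hyt hyε hyμ hty
  have hat : a⁻¹ * t * a = t * y := by
    calc a⁻¹ * t * a = a⁻¹ * (a * (t * y) * a⁻¹) * a := by rw [ha]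
      _ = t * y := by group
  have key : ∀ {ε₁ μ₁ s₁ : ℕ → G} (H₁ : QConf t ε₁ μ₁ s₁),
      (∀ i < 16, ∀ j < 16, ∃ k < 16, ∃ l < 16, a * (ε i * μ j) * a⁻¹ = ε₁ k * μ₁ l) →
      ∃ ε'' μ'' s'' : ℕ → G, QConf (t * y) ε'' μ'' s'' ∧
      (∀ i < 16, ∀ j < 16, ∃ k < 16, ∃ l < 16, ε i * μ j = ε'' k * μ'' l) ∧
      (∀ i < 16, ∀ j < 16, ∃ k < 16, ∃ l < 16, ε'' i * μ'' j = ε k * μ l) := by
    intro ε₁ μ₁ s₁ H₁ hm
    have hc := conj_QConf H₁ a
    rw [hat] at hc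
    have e : ∀ x y : G, (a⁻¹ * x * a) * (a⁻¹ * y * a) = a⁻¹ * (x * y) * a := fun x y => by group
    have hmap : (QQ H).map (MulAut.conj a).toMonoidHom = QQ H₁ := by
      refine Subgroup.eq_of_le_of_card_ge ?_ ?_
      · rintro _ ⟨x, ⟨i, hi, j, hj, rfl⟩, rfl⟩
        exact hm i hi j hj
      · rw [Subgroup.card_map_of_injective (MulAut.conj a).injective, card_QQ H, card_QQ H₁]
    refine ⟨_, _, _, hc, ?_, ?_⟩
    · intro i hi j hj
      obtain ⟨k, hk, l, hl, h2⟩ := hm i hi j hj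
      refine ⟨k, hk, l, hl, ?_⟩
      rw [e, ← h2]; group
    · intro i hi j hj
      have h2 : ε₁ i * μ₁ j ∈ (QQ H).map (MulAut.conj a).toMonoidHom := by
        rw [hmap]; exact ⟨i, hi, j, hj, rfl⟩
      obtain ⟨x, ⟨k, hk, l, hl, rfl⟩, h3⟩ := h2
      have h3' : a * (ε k * μ l) * a⁻¹ = ε₁ i * μ₁ j := h3
      refine ⟨k, hk, l, hl, ?_⟩
      rw [e, ← h3']; group
  rcases h with h | h
  · exact key H h
  · exact key H' h

end

end Cfsg.Agent.TypeM.WThree
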