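import Mathlib
import Cfsg.Agent.TypeM.Lift
import Cfsg.Agent.TypeM.LemQF
import Cfsg.Agent.TypeM.WThree

/-!
# Theorem W: gluing [W1], [W2], [W3]

From `LHyp t K π`, `LFacts` and the facts on automorphisms of `L`: the elementary abelian groups
`Q = {e i * μ j}`, `Q' = {e' i * μ' j}` and on each of them a second frame for `t * y`, `y ∈ K`.
-/

set_option autoImplicit false

namespace Cfsg.Agent.TypeM.Glue

open Subgroup Cfsg.Agent.TypeM.WThree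

section

variable {G : Type*} [Group G] {t : G} {K : Subgroup G}

/-- `(k o)^n ∈ K o^n` if `o` normalises `K` -/
theorem pow_mem_mul {o k : G} (ho : ∀ x ∈ K, o * x * o⁻¹ ∈ K) (hk : k ∈ K) (n : ℕ) :
    (k * o) ^ n * (o ^ n)⁻¹ ∈ K := by
  have hon : ∀ n : ℕ, ∀ x ∈ K, o ^ n * x * (o ^ n)⁻¹ ∈ K := by
    intro n
    induction n with
    | zero => intro x hx; simpa using hx
    | succ n ih =>
      intro x hx
      have h1 := ih _ (ho x hx)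
      have e : o ^ (n + 1) * x * (o ^ (n + 1))⁻¹ = o ^ n * (o * x * o⁻¹) * (o ^ n)⁻¹ := by
        rw [pow_succ]; group
      rw [e]; exact h1
  induction n with
  | zero => simp
  | succ n ih =>
    have e : (k * o) ^ (n + 1) * (o ^ (n + 1))⁻¹ = ((k * o) ^ n * (o ^ n)⁻¹) * (o ^ n * k * (o ^ n)⁻¹) := by
      rw [pow_succ, pow_succ]; group
    rw [e]
    exact K.mul_mem ih (hon n k hk)

/-- An involution in `K⟨o⟩`, `o` of odd order normalising `K`, is in `K`. -/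
theorem mem_of_sup [Finite G] {o y : G} (ho : ∀ x ∈ K, o * x * o⁻¹ ∈ K) {r : ℕ} (hr : Odd r) (hor : o ^ r = 1)
    (hy : y ∈ K ⊔ zpowers o) (hyy : y * y = 1) : y ∈ K := by
  have hoN : zpowers o ≤ normalizer (K : Set G) := by
    rw [zpowers_le]
    exact WThreeAbs.mem_norm ho
  have h1 : y ∈ ((K ⊔ zpowers o : Subgroup G) : Set G) := hy
  rw [coe_mul_of_right_le_normalizer_left K (zpowers o) hoN] at h1
  obtain ⟨k, hk, o', ho', h2⟩ := h1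
  have h2' : k * o' = y := h2
  obtain ⟨n, rfl⟩ := mem_zpowers_iff.1 ho'
  have ho'K : ∀ x ∈ K, o ^ n * x * (o ^ n)⁻¹ ∈ K := fun x hx =>
    (mem_normalizer_iff.1 (hoN ho') x).1 hx
  have h3 := pow_mem_mul ho'K hk r
  have h4 : (o ^ n) ^ r = 1 := by
    rw [← zpow_natCast, ← zpow_mul, mul_comm, zpow_mul, zpow_natCast, hor, one_zpow]
  rw [h2', h4, inv_one, mul_one] at h3
  obtain ⟨q, rfl⟩ := hr
  rw [pow_succ, pow_mul, pow_two, hyy, one_pow, one_mul] at h3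
  exact h3

end

variable {G : Type*} [Group G] {t : G} {ε μ s ε' μ' s' : ℕ → G}

/-- The action on `E` of the normaliser in `C(t)` is by words. -/
def Aut (t : G) (ε : ℕ → G) : Prop :=
  ∀ c : G, c * t = t * c → (∀ i < 16, ∃ j < 16, c * ε i * c⁻¹ = ε j) →
    ∃ w : List ℕ, (∀ k ∈ w, k < 5) ∧ ∀ i < 16, c * ε i * c⁻¹ = ε (act w i)

/-- Every `E₃₂` on `t` is conjugate in `C(t)` to `⟨t⟩E` or `⟨t⟩E'`. -/
def E32 (t : G) (ε ε' : ℕ → G) : Prop :=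
  ∀ R : Subgroup G, t ∈ R → (∀ x ∈ R, x * x = 1) → Nat.card R = 32 → ∃ c, c * t = t * c ∧
    ((∀ x ∈ R, ∃ i < 16, c * x * c⁻¹ = ε i ∨ c * x * c⁻¹ = t * ε i) ∨
      (∀ x ∈ R, ∃ i < 16, c * x * c⁻¹ = ε' i ∨ c * x * c⁻¹ = t * ε' i))

theorem E32.symm (h : E32 t ε ε') : E32 t ε' ε := by
  intro R h1 h2 h3
  obtain ⟨c, hc, h⟩ := h R h1 h2 h3
  exact ⟨c, hc, h.symm⟩

theorem aut_conj (h : Aut t ε) (a : G) : Aut (a⁻¹ * t * a) (fun i => a⁻¹ * ε i * a) := by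
  intro c hct hc
  have e : ∀ x : G, a * c * a⁻¹ * x * (a * c * a⁻¹)⁻¹ = a * (c * (a⁻¹ * x * a) * c⁻¹) * a⁻¹ := fun x => by group
  obtain ⟨w, hw, h1⟩ := h (a * c * a⁻¹)
    (by
      calc a * c * a⁻¹ * t = a * (c * (a⁻¹ * t * a)) * a⁻¹ := by group
        _ = t * (a * c * a⁻¹) := by rw [hct]; group)
    (by
      intro i hi
      obtain ⟨j, hj, h2⟩ := hc i hi
      refine ⟨j, hj, ?_⟩
      rw [e, h2]; group)
  refine ⟨w, hw, fun i hi => ?_⟩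
  have h2 := h1 i hi
  rw [e] at h2
  show c * (a⁻¹ * ε i * a) * c⁻¹ = a⁻¹ * ε (act w i) * a
  rw [← h2]; group

/-- The data of the second frame. -/
def Second (t : G) (ε μ : ℕ → G) : Prop :=
  ∃ y : G, ∃ ε'' μ'' s'' : ℕ → G, y * y = 1 ∧ y * t = t * y ∧ (∀ i < 16, y * ε i = ε (gm 0 i) * y) ∧
    (∀ i < 16, y * μ i = μ (gm 0 i) * y) ∧ QConf (t * y) ε'' μ'' s'' ∧ Aut (t * y) ε'' ∧
    (∀ i < 16, ∀ j < 16, ∃ k < 16, ∃ l < 16, ε'' i * μ'' j = ε k * μ l)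

theorem second [Finite G] (H : QConf t ε μ s) (H' : QConf t ε' μ' s')
    (tE : ∀ i < 16, ∀ g : G, g * t * g⁻¹ ≠ ε i) (tE' : ∀ i < 16, ∀ g : G, g * t * g⁻¹ ≠ ε' i)
    (h1 : E32 t ε ε') (ha : Aut t ε) (ha' : Aut t ε') {y : G} (hyy : y * y = 1) (hyt : y * t = t * y)
    (hyε : ∀ i < 16, y * ε i = ε (gm 0 i) * y) (hyμ : ∀ i < 16, y * μ i = μ (gm 0 i) * y)
    (hty : IsConj (t * y) t) : Second t ε μ := by
  obtain ⟨a, hat, h⟩ := exists_conj H H' tE tE' h1 hyy hyt hyε hyμ hty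
  have hat' : a⁻¹ * t * a = t * y := by
    calc a⁻¹ * t * a = a⁻¹ * (a * (t * y) * a⁻¹) * a := by rw [hat]
      _ = t * y := by group
  have key : ∀ {ε₁ μ₁ s₁ : ℕ → G} (H₁ : QConf t ε₁ μ₁ s₁), Aut t ε₁ →
      (∀ i < 16, ∀ j < 16, ∃ k < 16, ∃ l < 16, a * (ε i * μ j) * a⁻¹ = ε₁ k * μ₁ l) → Second t ε μ := by
    intro ε₁ μ₁ s₁ H₁ hA hm
    have hc := conj_QConf H₁ a
    have hA' := aut_conj hA a
    rw [hat'] at hc hA'
    have hmap : (QQ H).map (MulAut.conj a).toMonoidHom = QQ H₁ := by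
      refine Subgroup.eq_of_le_of_card_ge ?_ ?_
      · rintro _ ⟨x, ⟨i, hi, j, hj, rfl⟩, rfl⟩
        exact hm i hi j hj
      · rw [Subgroup.card_map_of_injective (MulAut.conj a).injective, card_QQ H, card_QQ H₁]
    refine ⟨y, _, _, _, hyy, hyt, hyε, hyμ, hc, hA', ?_⟩
    intro i hi j hj
    have h2 : ε₁ i * μ₁ j ∈ (QQ H).map (MulAut.conj a).toMonoidHom := by
      rw [hmap]; exact ⟨i, hi, j, hj, rfl⟩
    obtain ⟨x, ⟨k, hk, l, hl, rfl⟩, h3⟩ := h2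
    have h3' : a * (ε k * μ l) * a⁻¹ = ε₁ i * μ₁ j := h3
    refine ⟨k, hk, l, hl, ?_⟩
    calc a⁻¹ * ε₁ i * a * (a⁻¹ * μ₁ j * a) = a⁻¹ * (ε₁ i * μ₁ j) * a := by group
      _ = ε k * μ l := by rw [← h3']; group
  rcases h with h | h
  · exact key H ha h
  · exact key H' ha' h

variable {L : Type*} [Group L] {K : Subgroup G} {π : K →* L}

/-- The involution `y` of `K`, for the configuration made from `e`, `f`. -/
theorem exists_y_mem [Finite G] {ε s : ℕ → L} (H : LHyp t K π)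
    (one : ∀ x : L, x * x = 1 → x ≠ 1 → ∃ g, g * x * g⁻¹ = ε 1)
    {e f μ σ : ℕ → G} (I : IsLift π ε s e f) (HE : EPre t e f (LHyp.NE K e)) (hQ : QConf t e μ σ)
    (hσ : ∀ k < 5, ∃ o ∈ HE.C, o ^ HE.m = 1 ∧ σ k = o * f k)
    (hfus : ∃ k ∈ K, k * k = 1 ∧ k ≠ 1 ∧ IsConj t (t * k)) :
    ∃ y ∈ K, y * y = 1 ∧ y * t = t * y ∧ (∀ i < 16, y * e i = e (gm 0 i) * y) ∧
      (∀ i < 16, y * μ i = μ (gm 0 i) * y) ∧ IsConj (t * y) t := by
  obtain ⟨o, ho, hom, h0⟩ := hσ 0 (by norm_num)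
  have hot : o * t = t * o := ((HE.mem_C.1 ho).1).symm
  have hoK : ∀ x ∈ K, o * x * o⁻¹ ∈ K := H.norm o hot
  have hf0 : f 0 ∈ K := (I.fv 0 (by norm_num)).1
  have he : ∀ i < 16, e i ∈ K := fun i hi => (I.ev i hi).1
  obtain ⟨y, hyN, hyy, hyt, hyε, hyμ⟩ := exists_y hQ (K ⊔ zpowers o)
    (by
      rw [h0]
      exact Subgroup.mul_mem _ (le_sup_right (a := K) (mem_zpowers o)) (le_sup_left (a := K) hf0))
    (fun i hi => le_sup_left (a := K) (he i hi))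
  have hyK : y ∈ K := mem_of_sup hoK HE.m_odd hom hyN hyy
  refine ⟨y, hyK, hyy, hyt, hyε, hyμ, ?_⟩
  have hy1 : y ≠ 1 := by
    rintro rfl
    have h1 := hyε 4 (by norm_num)
    rw [one_mul, mul_one] at h1
    have h2 := HE.eq_of (i := 4) (j := gm 0 4) (by norm_num) (gm_lt 0 4) h1
    exact absurd h2 (by decide +kernel)
  obtain ⟨c, hc, hcy⟩ := H.exists_conj_e1 I one hyK hyy hy1
  have h2 := H.exists_conj_te1 I one hfus
  refine (isConj_iff.2 ⟨c, ?_⟩ : IsConj (t * y) (t * e 1)).trans h2.symm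
  calc c * (t * y) * c⁻¹ = (c * t) * y * c⁻¹ := by group
    _ = t * (c * y * c⁻¹) := by rw [← H.Kt c hc]; group
    _ = t * e 1 := by rw [hcy]

/-- **Summary of [W1], [W2], [W3]**: the two configurations `Q`, `Q'` and their second frames. -/
theorem exists_frames [Finite L] [Finite G] (H : LHyp t K π) {ε s ε' s' : ℕ → L} (F : LFacts ε s ε' s')
    (o1 : ∀ φ : MulAut L, (∀ i < 16, ∃ j < 16, φ (ε i) = ε j) → φ ∈ (MulAut.conj : L →* MulAut L).range)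
    (o1' : ∀ φ : MulAut L, (∀ i < 16, ∃ j < 16, φ (ε' i) = ε' j) → φ ∈ (MulAut.conj : L →* MulAut L).range)
    (o2 : ∀ φ : MulAut L, φ * φ = 1 → ∀ A : Subgroup L, (∀ x ∈ A, x * x = 1) → Nat.card A = 8 →
      (∀ x ∈ A, φ x = x) → φ ∈ (MulAut.conj : L →* MulAut L).range)
    (o3 : ∀ φ ψ : MulAut L, φ ∉ (MulAut.conj : L →* MulAut L).range → ψ ∉ (MulAut.conj : L →* MulAut L).range →
      φ * ψ ∈ (MulAut.conj : L →* MulAut L).range)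
    (hfus : ∃ k ∈ K, k * k = 1 ∧ k ≠ 1 ∧ IsConj t (t * k)) :
    ∃ e f μ σ e' f' μ' σ' : ℕ → G, IsLift π ε s e f ∧ IsLift π ε' s' e' f' ∧
      QConf t e μ σ ∧ QConf t e' μ' σ' ∧ EPre t e f (LHyp.NE K e) ∧ EPre t e' f' (LHyp.NE K e') ∧
      E32 t e e' ∧ Aut t e ∧ Aut t e' ∧ Second t e μ ∧ Second t e' μ' ∧
      (∀ k < 5, ∃ o : G, (∃ r : ℕ, Odd r ∧ o ^ r = 1) ∧ o * t = t * o ∧ (∀ i < 16, o * e i = e i * o) ∧
        σ k = o * f k) ∧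
      (∀ k < 5, ∃ o : G, (∃ r : ℕ, Odd r ∧ o ^ r = 1) ∧ o * t = t * o ∧ (∀ i < 16, o * e' i = e' i * o) ∧
        σ' k = o * f' k) := by
  obtain ⟨e, f, e', f', I, I', HC, HC', h32, haut, haut'⟩ := H.exists_econf F o1 o1' o2 o3 hfus
  have HE : EPre t e f (LHyp.NE K e) :=
    ⟨HC.tt, HC.mul, HC.inj, HC.tε, HC.εN, HC.sN, HC.tN, HC.Nt, HC.sε, HC.cen, HC.tE⟩
  have HE' : EPre t e' f' (LHyp.NE K e') :=
    ⟨HC'.tt, HC'.mul, HC'.inj, HC'.tε, HC'.εN, HC'.sN, HC'.tN, HC'.Nt, HC'.sε, HC'.cen, HC'.tE⟩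
  obtain ⟨μ, σ, hQ, _, hσ⟩ := HE.exists_qconf HC.x0
  obtain ⟨μ', σ', hQ', _, hσ'⟩ := HE'.exists_qconf HC'.x0
  have one' : ∀ x : L, x * x = 1 → x ≠ 1 → ∃ g, g * x * g⁻¹ = ε' 1 := by
    intro x hx hx1
    obtain ⟨g, hg⟩ := F.one x hx hx1
    exact ⟨g, by rw [hg, F.low 1 (by norm_num)]⟩
  obtain ⟨y, _, hyy, hyt, hyε, hyμ, hty⟩ := exists_y_mem H F.one I HE hQ hσ hfus
  obtain ⟨y', _, hyy', hyt', hyε', hyμ', hty'⟩ := exists_y_mem H one' I' HE' hQ' hσ' hfus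
  refine ⟨e, f, μ, σ, e', f', μ', σ', I, I', hQ, hQ', HE, HE', h32, haut, haut', ?_, ?_, ?_, ?_⟩
  · exact second hQ hQ' HC.tE HC'.tE h32 haut haut' hyy hyt hyε hyμ hty
  · exact second hQ' hQ HC'.tE HC.tE (E32.symm h32) haut' haut hyy' hyt' hyε' hyμ' hty'
  · intro k hk
    obtain ⟨o, ho, hom, h⟩ := hσ k hk
    exact ⟨o, ⟨_, HE.m_odd, hom⟩, (HE.mem_C.1 ho).1.symm, (HE.mem_C.1 ho).2, h⟩
  · intro k hk
    obtain ⟨o, ho, hom, h⟩ := hσ' k hk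
    exact ⟨o, ⟨_, HE'.m_odd, hom⟩, (HE'.mem_C.1 ho).1.symm, (HE'.mem_C.1 ho).2, h⟩

end Cfsg.Agent.TypeM.Glue
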