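import Cfsg.Agent.TypeM.WFourAbs

/-!
# Step W4 of Theorem W of S1739

`QConf t ε μ s` and `QConf (t * y) ε'' μ'' s''` with the same `Q`, where `y` acts on `Q` as `s 0`, give
`A₇ × A₇ ≤ N(Q) / C(Q)`.
-/

set_option autoImplicit false

namespace Cfsg.Agent.TypeM.WFour

open Cfsg.Agent.TypeM

theorem wd_of_mem {c : List ℕ} (hc : c ∈ c24w) : Wd c := by
  have hw : ∀ u ∈ c24w, ∀ k ∈ u, k < 5 := by decide +kernel
  exact hw c hc

theorem wd_single {k : ℕ} (hk : k < 5) : Wd [k] := by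
  intro i hi
  simp only [List.mem_singleton] at hi
  omega

namespace MHyp

variable {R : List ℕ → Prop} {Γ Δ : List ℕ}

/-- third stage: the frame may be taken to be one of the four representatives -/
theorem stage3 (h : MHyp R Γ Δ) {x D DI : List ℕ} (hx : x ∈ C48) (hD : comp x Δ = D)
    (hDI : comp D DI = idL) (hDIl : Mt DI) :
    ∀ w, Wd w → R (comp (comp DI (wm w)) D) := by
  intro w hw
  have key : ∀ X' : List ℕ, Mt X' → comp X' x = idL → comp Γ X' = DI := by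
    intro X' hX' e
    have h1 : comp (comp Γ X') (comp D DI) = comp Γ X' := by
      rw [hDI, comp_id (by rw [comp_length, hX'.1])]
    rw [← h1, ← hD]
    have h2 : comp (comp Γ X') (comp (comp x Δ) DI) =
        comp (comp Γ (comp (comp X' x) Δ)) DI := by simp only [comp_assoc]
    rw [h2, e, id_comp h.hΔ.2, h.ΓΔ, id_comp hDIl.2]
  rcases List.mem_append.mp hx with hx | hx
  · obtain ⟨c, hc, rfl⟩ := List.mem_map.mp hx
    have hcw := wd_of_mem hc
    rw [← key (wm c.reverse) (Mt.wm _) (wm_rev' c hcw), ← hD]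
    have h1 := h.r3 (c.reverse ++ (w ++ c)) (hcw.rev.append (hw.append hcw))
    rw [wm_append, wm_append] at h1
    have h2 : comp (comp (comp Γ (wm c.reverse)) (wm w)) (comp (wm c) Δ) =
        comp (comp Γ (comp (wm c.reverse) (comp (wm w) (wm c)))) Δ := by simp only [comp_assoc]
    rwa [h2]
  · obtain ⟨c, hc, rfl⟩ := List.mem_map.mp hx
    have hcw := wd_of_mem hc
    have ett : comp (comp (wm c.reverse) tL) (comp tL (wm c)) = idL := by
      rw [comp_assoc, ← comp_assoc tL tL, tt_id, id_comp (wm_lt c), wm_rev' c hcw]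
    rw [← key (comp (wm c.reverse) tL) ((Mt.wm _).comp Mt.t) ett, ← hD]
    have h1 := h.r3 (c.reverse ++ (w ++ c)) (hcw.rev.append (hw.append hcw))
    rw [wm_append, wm_append] at h1
    have h2 : comp (comp (comp Γ (comp (wm c.reverse) tL)) (wm w)) (comp (comp tL (wm c)) Δ) =
        comp (comp Γ (comp (wm c.reverse) (comp (comp tL (comp (wm w) tL)) (wm c)))) Δ := by
      simp only [comp_assoc]
    have h3 : comp tL (comp (wm w) tL) = wm w := by
      rw [← tL_wm w hw, ← comp_assoc, tt_id, id_comp (wm_lt w)]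
    rw [h2, h3]
    exact h1

theorem final (h : MHyp R Γ Δ) : ∀ k < 5, R (Dk k) := by
  -- first stage
  obtain ⟨v, hv, hvv⟩ := TW_sq (h.r2 _ (h.word _ wd_f) fL_t)
  have hfw : Mt (wm [1, 0, 1, 3]) := Mt.wm _
  rw [← h.cj_mul hfw] at hvv
  have e0 : comp (comp Δ (dgL 0)) Γ = wm v := by
    rw [← hvv, ← fL_sq]; rfl
  have hsq : comp (wm v) (wm v) = idL := by
    rw [← e0, ← h.cj_mul (Mt.dg 0), dg_sq 0 (by norm_num), comp_id h.hΔ.1, h.ΔΓ]
  have hne : wm v ≠ idL := by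
    intro e
    rw [e] at e0
    have h1 := congrArg (fun M => comp Γ (comp M Δ)) e0
    simp only [id_comp h.hΔ.2, h.ΓΔ] at h1
    have h2 : comp Γ (comp (comp (comp Δ (dgL 0)) Γ) Δ) =
        comp (comp Γ Δ) (comp (dgL 0) (comp Γ Δ)) := by simp only [comp_assoc]
    rw [h2, h.ΓΔ, comp_id (Mt.dg 0).1, id_comp (Mt.dg 0).2] at h1
    revert h1; decide +kernel
  obtain ⟨u, hu, hu2⟩ := conj_invol hv hsq hne
  have h1 := h.conj hu
  have c2 : comp (comp (comp (wm u.reverse) Δ) (dgL 0)) (comp Γ (wm u)) = dgL 0 := by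
    have h2 : comp (comp (comp (wm u.reverse) Δ) (dgL 0)) (comp Γ (wm u)) =
        comp (wm u.reverse) (comp (comp (comp Δ (dgL 0)) Γ) (wm u)) := by simp only [comp_assoc]
    rw [h2, e0, hu2]
  obtain ⟨x, hx, D, hD, hxD⟩ := h1.stage2 c2
  -- the representative
  obtain ⟨j, hj, rfl⟩ : ∃ j < 4, reps.getD j [] = D := by
    have : ∀ D ∈ reps, ∃ j < 4, reps.getD j [] = D := by decide +kernel
    exact this D hD
  have hI : Mt (repsI.getD j []) :=
    ⟨(by decide +kernel : ∀ j < 4, (repsI.getD j []).length = 8) j hj, repsI_lt j hj⟩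
  have h3 := h1.stage3 hx hxD (repsI_spec j hj) hI
  have hwk : ∀ k < 5, R (dgL k) := fun k hk => by
    rw [← wm_one]; exact h.word _ (wd_single hk)
  have hB : ∀ k < 5, R (Bk j k) := by
    intro k hk
    have := h3 [k] (wd_single hk)
    rwa [wm_one] at this
  have hxj : R (xj j) := by
    by_cases hj1 : j = 1
    · subst hj1
      exact h.mul _ _ (hB 2 (by norm_num)) (h.mul _ _ (hwk 1 (by norm_num)) (hB 2 (by norm_num)))
    · rw [xj, if_neg hj1]
      exact h.mul _ _ (hB 2 (by norm_num)) (h.mul _ _ (hwk 1 (by norm_num)) (hB 4 (by norm_num)))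
  have hxjI : R (xjI j) := by
    by_cases hj1 : j = 1
    · subst hj1
      exact h.mul _ _ (hB 2 (by norm_num)) (h.mul _ _ (hwk 1 (by norm_num)) (hB 2 (by norm_num)))
    · rw [xjI, if_neg hj1]
      exact h.mul _ _ (hB 4 (by norm_num)) (h.mul _ _ (hwk 1 (by norm_num)) (hB 2 (by norm_num)))
  have hpj : R (pj j) := h.mul _ _ h.t (h.mul _ _ hxjI (h.mul _ _ h.t hxj))
  have hrj : R (rj j) := by
    by_cases hj1 : j = 1
    · subst hj1
      exact h.mul _ _ hpj (h.mul _ _ hpj hpj)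
    · rw [rj, if_neg hj1]; exact hpj
  rcases rj_check j hj with rfl | ⟨h4, h5⟩
  · -- the good case
    have hW2 : R W2 := h.mul _ _ (h3 [1] (wd_single (by norm_num)))
      (h.word [1] (wd_single (by norm_num)))
    intro k hk
    have hg : Wd (gw k) := gw_lt k hk
    exact h.mul _ _ (h.mul _ _ (h.word _ hg) hW2) (h.word _ hg.rev)
  · exfalso
    have h6 := okY_TW (h.r1 _ hrj h4)
    rw [h5] at h6
    exact Bool.noConfusion h6

end MHyp

/-! ### the group -/

variable {G : Type*} [Group G] {t : G} {ε μ s : ℕ → G}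

/-- two frames of the same `Q` -/
theorem exists_frame {q q' : ℕ → G} (hq : QS q) (hq' : QS q')
    (hQ : ∀ v < 256, ∃ w < 256, q' v = q w) :
    ∃ Γ Δ, Mt Γ ∧ Mt Δ ∧ comp Γ Δ = idL ∧ comp Δ Γ = idL ∧ (∀ v < 256, q' v = q (app Γ v)) ∧
      ∀ v < 256, q v = q' (app Δ v) := by
  choose! f hf hf' using hQ
  have f0 : f 0 = 0 := hq.inj _ (hf 0 (by norm_num)) (by rw [← hf' 0 (by norm_num), hq'.zero])
  have fadd : ∀ v < 256, ∀ w < 256, f (v ^^^ w) = f v ^^^ f w := by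
    intro v hv w hw
    apply hq.eq (hf _ (xor_lt hv hw)) (xor_lt (hf v hv) (hf w hw))
    rw [← hq.mul _ (hf v hv) _ (hf w hw), ← hf' v hv, ← hf' w hw, ← hf' _ (xor_lt hv hw),
      ← hq'.mul v hv w hw]
  have finj : ∀ v < 256, ∀ w < 256, f v = f w → v = w := by
    intro v hv w hw e
    apply hq'.eq hv hw
    rw [hf' v hv, hf' w hw, e]
  have hinj : Function.Injective (fun w : Fin 256 => (⟨f w, hf w w.2⟩ : Fin 256)) := by
    intro x y e
    exact Fin.ext (finj x x.2 y y.2 (Fin.mk.inj e))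
  have fsurj : ∀ v < 256, ∃ w < 256, f w = v := by
    intro v hv
    obtain ⟨w, hw⟩ := (Finite.injective_iff_surjective.mp hinj) ⟨v, hv⟩
    exact ⟨w, w.2, Fin.mk.inj hw⟩
  choose! g hg hg' using fsurj
  have g0 : g 0 = 0 := finj _ (hg 0 (by norm_num)) _ (by norm_num) (by
    rw [hg' 0 (by norm_num), f0])
  have gadd : ∀ v < 256, ∀ w < 256, g (v ^^^ w) = g v ^^^ g w := by
    intro v hv w hw
    apply finj _ (hg _ (xor_lt hv hw)) _ (xor_lt (hg v hv) (hg w hw))
    rw [fadd _ (hg v hv) _ (hg w hw), hg' v hv, hg' w hw, hg' _ (xor_lt hv hw)]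
  have gf : ∀ v < 256, g (f v) = v := fun v hv =>
    finj _ (hg _ (hf v hv)) v hv (hg' _ (hf v hv))
  have hid : ∀ x ∈ idL, x < 256 := by simp [idL]
  have hmt : ∀ k : ℕ → ℕ, (∀ v < 256, k v < 256) → Mt (idL.map k) := by
    intro k hk
    refine ⟨by simp [idL], fun x hx => ?_⟩
    rw [List.mem_map] at hx
    obtain ⟨y, hy, rfl⟩ := hx
    exact hk y (hid y hy)
  have happ : ∀ k : ℕ → ℕ, k 0 = 0 → (∀ v < 256, ∀ w < 256, k (v ^^^ w) = k v ^^^ k w) →
      ∀ v < 256, app (idL.map k) v = k v := by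
    intro k k0 kadd v hv
    rw [← app_map k0 kadd hid, app_id v hv]
  refine ⟨idL.map f, idL.map g, hmt f hf, hmt g hg, ?_, ?_, fun v hv => ?_, fun v hv => ?_⟩
  · refine ext_of (by simp [comp, idL]) rfl fun v hv => ?_
    rw [← app_comp, happ g g0 gadd v hv, happ f f0 fadd _ (hg v hv), hg' v hv, app_id v hv]
  · refine ext_of (by simp [comp, idL]) rfl fun v hv => ?_
    rw [← app_comp, happ f f0 fadd v hv, happ g g0 gadd _ (hf v hv), gf v hv, app_id v hv]
  · rw [happ f f0 fadd v hv, hf' v hv]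
  · rw [happ g g0 gadd v hv, hf' _ (hg v hv), hg' v hv]

/-- change of frame -/
theorem Acts.change {q q' : ℕ → G} {Γ Δ : List ℕ} (hΓ : Mt Γ) (hΔ : Mt Δ) (hΓΔ : comp Γ Δ = idL)
    (h1 : ∀ v < 256, q' v = q (app Γ v)) {g : G} {L : List ℕ}
    (h : Acts q g L) : Acts q' g (comp (comp Δ L) Γ) := by
  refine ⟨by rw [comp_length, hΓ.1], comp_lt (comp_lt hΔ.2 _) _, fun v hv => ?_⟩
  rw [h1 v hv, h.act _ (WFour.app_lt hΓ.2 v), h1 _ (WFour.app_lt (comp_lt (comp_lt hΔ.2 _) _) v)]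
  congr 2
  rw [app_comp, app_comp]
  have : comp Γ (comp (comp Δ L) Γ) = comp L Γ := by
    rw [← comp_assoc, ← comp_assoc, hΓΔ, id_comp h.lt]
  rw [this]

/-- **Step W4.** -/
theorem main [Finite G] (H : QConf t ε μ s)
    (aut : ∀ c : G, c * t = t * c → (∀ i < 16, ∃ j < 16, c * ε i * c⁻¹ = ε j) →
      ∃ w : List ℕ, (∀ k ∈ w, k < 5) ∧ ∀ i < 16, c * ε i * c⁻¹ = ε (act w i))
    {y : G} (hyε : ∀ i < 16, y * ε i = ε (gm 0 i) * y) (hyμ : ∀ i < 16, y * μ i = μ (gm 0 i) * y)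
    {ε' μ' s' : ℕ → G} (H' : QConf (t * y) ε' μ' s')
    (aut' : ∀ c : G, c * (t * y) = t * y * c → (∀ i < 16, ∃ j < 16, c * ε' i * c⁻¹ = ε' j) →
      ∃ w : List ℕ, (∀ k ∈ w, k < 5) ∧ ∀ i < 16, c * ε' i * c⁻¹ = ε' (act w i))
    (hQ : ∀ i < 16, ∀ j < 16, ∃ k < 16, ∃ l < 16, ε' i * μ' j = ε k * μ l) :
    ∀ k < 5, ∃ d : G, (∀ i < 16, d * μ i = μ (gm k i) * d) ∧
      (∀ i < 16, d * (μ i * ε i) = (μ i * ε i) * d) := by
  have hq := qs H
  have hq' := qs H'
  obtain ⟨Γ, Δ, hΓ, hΔ, hΓΔ, hΔΓ, h1, h2⟩ := exists_frame hq hq' (fun v hv => by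
    obtain ⟨k, hk, l, hl, e⟩ := hQ _ (lt16 v) _ (div16 hv)
    refine ⟨k + 16 * l, by omega, ?_⟩
    rw [qv, e, qv, show (k + 16 * l) % 16 = k by omega, show (k + 16 * l) / 16 = l by omega])
  have hy : Acts (qv ε μ) y (dgL 0) := by
    refine ⟨rfl, dgL_lt 0 (by norm_num), fun v hv => ?_⟩
    obtain ⟨e1, e2⟩ := dgL_spec 0 (by norm_num) v hv
    rw [qv, qv, e1, e2, ← mul_assoc, hyε _ (lt16 v), mul_assoc, hyμ _ (div16 hv), mul_assoc]
  have hty : Acts (qv ε μ) (t * y) tpL := (acts_t H).mul hy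
  have c1 : comp (comp Δ tpL) Γ = tL :=
    (hty.change hΓ hΔ hΓΔ h1).unique hq' (acts_t H')
  have M : MHyp (fun L => ∃ g, Acts (qv ε μ) g L) Γ Δ :=
    { mul := by
        rintro L M ⟨g, hg⟩ ⟨g', hg'⟩
        exact ⟨g * g', hg.mul hg'⟩
      word := fun w hw => ⟨_, acts_word H w hw⟩
      t := ⟨t, acts_t H⟩
      r1 := by
        rintro L ⟨g, hg⟩ hL
        exact real_comm H aut hg hL
      hΓ := hΓ
      hΔ := hΔ
      ΓΔ := hΓΔ
      ΔΓ := hΔΓ
      c1 := c1
      r2 := by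
        rintro L ⟨g, hg⟩ hL
        refine real_comm H' aut' (hg.change hΓ hΔ hΓΔ h1) ?_
        rw [← c1]
        have hcj : ∀ A B : List ℕ, Mt B → comp (comp (comp Δ A) Γ) (comp (comp Δ B) Γ) =
            comp (comp Δ (comp A B)) Γ := by
          intro A B hB
          simp only [comp_assoc]
          rw [← comp_assoc Γ Δ, hΓΔ, id_comp (comp_lt hB.2 Γ)]
        rw [hcj L tpL ⟨hty.len, hty.lt⟩, hcj tpL L ⟨hg.len, hg.lt⟩, hL]
      r3 := by
        intro w hw
        exact ⟨_, (acts_word H' w hw).change hΔ hΓ hΔΓ h2⟩ }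
  intro k hk
  obtain ⟨d, hd⟩ := M.final k hk
  have hμ0 : μ 0 = 1 := by
    have := H.μmul 0 (by norm_num) 0 (by norm_num); simpa using this
  have hε0 : ε 0 = 1 := by
    have := H.εmul 0 (by norm_num) 0 (by norm_num); simpa using this
  refine ⟨d, fun i hi => ?_, fun i hi => ?_⟩
  · have h4 := hd.act (16 * i) (by omega)
    have h5 := gm_lt k i
    rw [(Dk_spec k hk i hi).1, qv, qv, Nat.mul_mod_right, Nat.mul_mod_right,
      Nat.mul_div_cancel_left _ (by norm_num), Nat.mul_div_cancel_left _ (by norm_num), hε0,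
      one_mul, one_mul] at h4
    exact h4
  · have h4 := hd.act (17 * i) (by omega)
    rw [(Dk_spec k hk i hi).2, qv, show 17 * i % 16 = i by omega, show 17 * i / 16 = i by omega,
      H.εμ i hi i hi] at h4
    exact h4

end Cfsg.Agent.TypeM.WFour
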