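import Mathlib
import Cfsg.Agent.TypeM.Glue
import Cfsg.Agent.TypeM.WFour

/-!
# Theorem W: gluing [W1], [W2], [W3], [W4]: the two `A₇ × A₇`
-/

set_option autoImplicit false

namespace Cfsg.Agent.TypeM.GlueW

open Subgroup Cfsg.Agent.TypeM.Glue

variable {G : Type*} [Group G] {t : G} {ε μ s : ℕ → G}

/-- The elements acting as the five generators of `A₇` on `M = {μ i}` and trivially on `M^t = {μ i * ε i}`. -/
def Dbl (ε μ : ℕ → G) : Prop :=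
  ∀ k < 5, ∃ d : G, (∀ i < 16, d * μ i = μ (gm k i) * d) ∧ (∀ i < 16, d * (μ i * ε i) = (μ i * ε i) * d)

theorem dbl_of_second [Finite G] (H : QConf t ε μ s) (ha : Aut t ε) (h : Second t ε μ) : Dbl ε μ := by
  obtain ⟨y, ε'', μ'', s'', _, _, hyε, hyμ, H'', ha'', hQ⟩ := h
  exact WFour.main H ha hyε hyμ H'' ha'' hQ

variable {L : Type*} [Group L] {K : Subgroup G} {π : K →* L}

/-- **[W1]–[W4]**. -/
theorem exists_double [Finite L] [Finite G] (H : LHyp t K π) {ε s ε' s' : ℕ → L} (F : LFacts ε s ε' s')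
    (o1 : ∀ φ : MulAut L, (∀ i < 16, ∃ j < 16, φ (ε i) = ε j) → φ ∈ (MulAut.conj : L →* MulAut L).range)
    (o1' : ∀ φ : MulAut L, (∀ i < 16, ∃ j < 16, φ (ε' i) = ε' j) → φ ∈ (MulAut.conj : L →* MulAut L).range)
    (o2 : ∀ φ : MulAut L, φ * φ = 1 → ∀ A : Subgroup L, (∀ x ∈ A, x * x = 1) → Nat.card A = 8 →
      (∀ x ∈ A, φ x = x) → φ ∈ (MulAut.conj : L →* MulAut L).range)
    (o3 : ∀ φ ψ : MulAut L, φ ∉ (MulAut.conj : L →* MulAut L).range → ψ ∉ (MulAut.conj : L →* MulAut L).range →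
      φ * ψ ∈ (MulAut.conj : L →* MulAut L).range)
    (hfus : ∃ k ∈ K, k * k = 1 ∧ k ≠ 1 ∧ IsConj t (t * k)) :
    ∃ e f μ σ e' f' μ' σ' : ℕ → G, IsLift π ε s e f ∧ IsLift π ε' s' e' f' ∧
      QConf t e μ σ ∧ QConf t e' μ' σ' ∧ EPre t e f (LHyp.NE K e) ∧ EPre t e' f' (LHyp.NE K e') ∧
      E32 t e e' ∧ Aut t e ∧ Aut t e' ∧ Dbl e μ ∧ Dbl e' μ' ∧
      (∀ k < 5, ∃ o : G, (∃ r : ℕ, Odd r ∧ o ^ r = 1) ∧ o * t = t * o ∧ (∀ i < 16, o * e i = e i * o) ∧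
        σ k = o * f k) ∧
      (∀ k < 5, ∃ o : G, (∃ r : ℕ, Odd r ∧ o ^ r = 1) ∧ o * t = t * o ∧ (∀ i < 16, o * e' i = e' i * o) ∧
        σ' k = o * f' k) := by
  obtain ⟨e, f, μ, σ, e', f', μ', σ', h1, h2, h3, h4, h5, h6, h7, h8, h9, h10, h11, h12, h13⟩ :=
    exists_frames H F o1 o1' o2 o3 hfus
  exact ⟨e, f, μ, σ, e', f', μ', σ', h1, h2, h3, h4, h5, h6, h7, h8, h9, dbl_of_second h3 h8 h10,
    dbl_of_second h4 h9 h11, h12, h13⟩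

end Cfsg.Agent.TypeM.GlueW
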