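import Cfsg.Agent.TypeM.LPair

/-!
# Type `MT 11`: the frames of `LPair` with an involution swapping them

`w` is the lift of the involution `(01)(23)(45)(89)` of `A₁₁`.
-/

set_option autoImplicit false
set_option maxRecDepth 100000

namespace Cfsg.Agent.TypeM.LPairW

open Equiv Subgroup
open Cfsg.Agent.CharactersDeep.DoubleCover
open Cfsg.Agent.SporadicRecognition.AltCover
open Cfsg.Agent.R10.TCalc Cfsg.Agent.R10.TEval
open Cfsg.Agent.TypeM.Two Cfsg.Agent.SporRec Cfsg.Agent.SporRec.TwoAn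
open Cfsg.Agent.TypeM.LyL Cfsg.Agent.TypeM.LPair

variable {G : Type*} [Group G]

/-- the word of `w` -/
def oW : Wd := [(0, 1), (2, 3), (4, 5), (8, 9)]

theorem evnO : evn oW = true := by decide +kernel

theorem sqO : vl (xor false false) (oW ++ oW) = vl false [] := by decide +kernel

theorem neO : pm oW ≠ 1 := by decide +kernel

theorem actO : ∀ i < 16, ∃ j < 16, vl (xor false (gE i)) (oW ++ wE i) = vl (xor (gF j) false) (wF j ++ oW) := by
  decide +kernel

theorem actO' : ∀ i < 16, ∃ j < 16, vl (xor false (gF i)) (oW ++ wF i) = vl (xor (gE j) false) (wE j ++ oW) := by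
  decide +kernel

theorem actOb : vl (xor false false) (oW ++ bW) = vl (xor false false) (bW ++ oW) := by
  decide +kernel

/-- An involution swapping the two frames. -/
structure WElt (ε s ε' : ℕ → G) (w : G) : Prop where
  sq : w * w = 1
  ne : w ≠ 1
  ne' : w ≠ ε 1
  comm : w * ε 1 = ε 1 * w
  sw : ∀ i < 16, ∃ j < 16, w * ε i * w⁻¹ = ε' j
  sw' : ∀ i < 16, ∃ j < 16, w * ε' i * w⁻¹ = ε j
  b : w * s 1 = s 1 * w

theorem exists_pair_w (L : MT 11 G) :
    ∃ ε s ε' s' : ℕ → G, Pair L TE TF ε s ε' s' ∧ ∃ w, WElt ε s ε' w := by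
  obtain ⟨E, hE, hp, hz⟩ := exists_E (by norm_num) L.K
  have ht : EV E L.t true [] := by
    refine ⟨L.mem_iff.2 rfl, ?_⟩
    have : (⟨L.t, L.mem_iff.2 rfl⟩ : centralizer ({L.t} : Set G)) = L.K.z := Subtype.ext L.hz.symm
    rw [this, hz, sg_true, val_nil, mul_one]
  have hex : ∀ (gS : ℕ → Bool) (wS : ℕ → Wd) (N : ℕ), (∀ i < N, evn (wS i) = true) →
      ∃ ε : ℕ → G, ∀ i < N, EV E (ε i) (gS i) (wS i) := by
    intro gS wS N h
    have : ∀ i, ∃ x : G, i < N → EV E x (gS i) (wS i) := by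
      intro i
      by_cases hi : i < N
      · obtain ⟨x, hx⟩ := exists_EV hp hz (gS i) (wS i) (h i hi)
        exact ⟨x, fun _ => hx⟩
      · exact ⟨1, fun h => absurd h hi⟩
    choose ε hε using this
    exact ⟨ε, hε⟩
  obtain ⟨ε, hε⟩ := hex gE wE 16 evnE
  obtain ⟨ε', hε'⟩ := hex gF wF 16 evnF
  obtain ⟨s, hs⟩ := hex (fun _ => false) wS 4 evnS
  obtain ⟨s', hs'⟩ := hex gS' wS' 4 evnS'
  have hone : ε 1 = L.t := (hε 1 (by norm_num)).eq hE ht (by decide +kernel)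
  refine ⟨ε, s, ε', s', ⟨?_, ?_, ?_, ?_, ?_, ?_, cover_spec, TF_ne⟩, ?_⟩
  · refine ⟨regE, ?_, ?_, ?_, ?_, ?_, ?_⟩
    · exact hone
    · intro i hi j hj
      exact ((hε i hi).mul (hε j hj)).eq hE (hε _ (xor_lt hi hj)) (mulE i hi j hj)
    · intro i hi
      exact L.mem_iff.1 (hε i hi).mem
    · intro i hi h
      exact EV_pi hp (hε _ (by omega)) h
    · intro k hk
      exact L.mem_iff.1 (hs k hk).mem
    · intro k hk i hi
      exact ((hs k hk).mul (hε i hi)).eq hE ((hε _ (gm_lt k i)).mul (hs k hk)) (actE k hk i hi)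
  · refine ⟨regF, ?_, ?_, ?_, ?_, ?_, ?_⟩
    · exact (hε' 1 (by norm_num)).eq hE ht (by decide +kernel)
    · intro i hi j hj
      exact ((hε' i hi).mul (hε' j hj)).eq hE (hε' _ (xor_lt hi hj)) (mulF i hi j hj)
    · intro i hi
      exact L.mem_iff.1 (hε' i hi).mem
    · intro i hi h
      exact EV_pi hp (hε' _ (by omega)) h
    · intro k hk
      exact L.mem_iff.1 (hs' k hk).mem
    · intro k hk i hi
      exact ((hs' k hk).mul (hε' i hi)).eq hE ((hε' _ (gm_lt k i)).mul (hs' k hk)) (actF k hk i hi)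
  · exact (hε' 2 (by norm_num)).eq hE (hε 2 (by norm_num)) (by decide +kernel)
  · exact (hε 8 (by norm_num)).eq hE (hs' 0 (by norm_num)) (by decide +kernel)
  · exact (hs' 1 (by norm_num)).eq hE (hs 1 (by norm_num)) (by decide +kernel)
  · exact (hε' 8 (by norm_num)).eq hE (hs 0 (by norm_num)) (by decide +kernel)
  · obtain ⟨w, hw⟩ := exists_EV hp hz false oW evnO
    have hwt : w * L.t = L.t * w := L.mem_iff.1 hw.mem
    have hpi : ∀ hx, L.K.π ⟨w, hx⟩ = pm oW := fun hx => EV_pi hp hw hx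
    have hpit : ∀ hx, L.K.π (⟨L.t, hx⟩ : centralizer ({L.t} : Set G)) = 1 := by
      intro hx
      have : (⟨L.t, hx⟩ : centralizer ({L.t} : Set G)) = L.K.z := Subtype.ext L.hz.symm
      rw [this, (L.K.ker _).2 (Or.inr rfl)]
    refine ⟨w, ?_, ?_, ?_, ?_, ?_, ?_, ?_⟩
    · exact (hw.mul hw).eq hE EV.one sqO
    · rintro rfl
      have h1 := hpi hw.mem
      have : (⟨1, hw.mem⟩ : centralizer ({L.t} : Set G)) = 1 := rfl
      rw [this, map_one] at h1
      exact neO h1.symm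
    · rw [hone]
      rintro rfl
      have h1 := hpi hw.mem
      rw [hpit] at h1
      exact neO h1.symm
    · rw [hone]; exact hwt
    · intro i hi
      obtain ⟨j, hj, e⟩ := actO i hi
      refine ⟨j, hj, mul_inv_eq_iff_eq_mul.2 ?_⟩
      exact (hw.mul (hε i hi)).eq hE ((hε' j hj).mul hw) e
    · intro i hi
      obtain ⟨j, hj, e⟩ := actO' i hi
      refine ⟨j, hj, mul_inv_eq_iff_eq_mul.2 ?_⟩
      exact (hw.mul (hε' i hi)).eq hE ((hε j hj).mul hw) e
    · have hs1 := hs 1 (by norm_num)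
      exact (hw.mul hs1).eq hE (hs1.mul hw) actOb

/-- `Ly`: `LPair.exists_eleven` with the involution `w`. -/
theorem exists_eleven (L : MT 11 G) (hin : ∀ φ : MulAut G, φ ∈ (MulAut.conj : G →* MulAut G).range) :
    ∃ ε s ε' s' : ℕ → G, LP ε s ε' s' ∧ ∃ w, WElt ε s ε' w := by
  obtain ⟨ε, s, ε', s', P, w, W⟩ := exists_pair_w L
  obtain ⟨g, hg, hg'⟩ := P.exists_g
  have hsε : ∀ {T : ℕ → Perm (Fin 11)} {ε s : ℕ → G}, LyL.Loc L T ε s → (∀ i < 16, g * ε i * g⁻¹ = ε (gm 4 i)) →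
      ∀ k < 5, ∀ i < 16, (if k = 4 then g else s k) * ε i = ε (gm k i) * (if k = 4 then g else s k) := by
    intro T ε s D hg k hk i hi
    by_cases h4 : k = 4
    · rw [if_pos h4, h4, ← hg i hi, inv_mul_cancel_right]
    · rw [if_neg h4]
      exact D.sε k (by omega) i hi
  refine ⟨ε, fun k => if k = 4 then g else s k, ε', fun k => if k = 4 then g else s' k,
    ⟨⟨⟨P.D.mul, P.D.inj, hsε P.D hg, P.D.cen, LyL.aut_of P.D hg⟩,
    ⟨P.D'.mul, P.D'.inj, hsε P.D' hg', P.D'.cen, LyL.aut_of P.D' hg'⟩, P.low', ?_, ?_⟩, ⟨P.b, P.e8'⟩,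
    fun φ _ => hin φ, fun φ _ => hin φ, fun φ _ _ _ _ _ => hin φ, fun φ ψ _ _ => hin (φ * ψ)⟩, ?_⟩
  · intro x hx hx1
    obtain ⟨h, hh⟩ := L.one x hx hx1
    refine ⟨h⁻¹, ?_⟩
    rw [← hh, P.D.one]
    group
  · intro f hf
    have f0 : f 0 = 1 := by
      have := hf.mul 0 (by norm_num) 0 (by norm_num)
      simpa using this
    have hsq : f 1 * f 1 = 1 := by rw [hf.mul 1 (by norm_num) 1 (by norm_num), Nat.xor_self, f0]
    obtain ⟨h, hh⟩ := L.one (f 1) hsq (fun e => absurd (hf.inj 1 (by norm_num) e) (by norm_num))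
    obtain ⟨c, -, hc⟩ := P.D.nf (fun i => h⁻¹ * f i * h) ⟨by
      intro i hi j hj
      show h⁻¹ * f i * h * (h⁻¹ * f j * h) = h⁻¹ * f (i ^^^ j) * h
      rw [← hf.mul i hi j hj]
      group, by
      intro i hi e
      apply hf.inj i hi
      have : f i = h * (h⁻¹ * f i * h) * h⁻¹ := by group
      rw [this, show h⁻¹ * f i * h = 1 from e]
      group⟩ (by
      show h⁻¹ * f 1 * h = L.t
      rw [← hh]; group)
    refine ⟨c * h⁻¹, Or.inl fun i hi => ?_⟩
    obtain ⟨j, hj, e⟩ := hc i hi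
    refine ⟨j, hj, ?_⟩
    rw [← e]
    group
  · exact ⟨w, W.sq, W.ne, W.ne', W.comm, W.sw, W.sw', W.b⟩

end Cfsg.Agent.TypeM.LPairW
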