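import Cfsg.Agent.TypeM.Base

/-!
# The frame over `E` can be chosen invariant under `S`; the two frames

(piece [WA] of Theorem W, S1739)
-/

set_option autoImplicit false

namespace Cfsg.Agent.TypeM.BaseS

open Subgroup Cfsg.Agent.TypeM.LyL Cfsg.Agent.TypeM.SRel Cfsg.Agent.TypeM.OddF Cfsg.Agent.TypeM.Glue
open Cfsg.Agent.TypeM.GlueW Cfsg.Agent.TypeM.SLift Cfsg.Agent.TypeM.Base

section

variable {G : Type*} [Group G] {t : G} {e μ s : ℕ → G} {O : Subgroup G}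

theorem S_adjust [Finite G] (H : QConf t e μ s) (hO : IsO t e O) (S : Subgroup G) (hS : IsPGroup 2 S)
    (hSt : ∀ x ∈ S, x * t = t * x)
    (hw : ∀ x ∈ S, ∃ w : List ℕ, (∀ k ∈ w, k < 5) ∧ (∀ i < 16, x * e i * x⁻¹ = e (act w i)) ∧
      ∀ i < 16, Cong O (μ (act w i)) (x * μ i * x⁻¹)) :
    ∃ n ∈ O, ∀ x ∈ S, ∃ w : List ℕ, (∀ k ∈ w, k < 5) ∧ (∀ i < 16, x * e i * x⁻¹ = e (act w i)) ∧
      ∀ i < 16, x * (n * μ i * n⁻¹) * x⁻¹ = n * μ (act w i) * n⁻¹ := by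
  classical
  have : Fact (Nat.Prime 2) := ⟨Nat.prime_two⟩
  -- normalisation
  have nS : ∀ x ∈ S, ∀ o ∈ O, x * o * x⁻¹ ∈ O := by
    intro x hx
    obtain ⟨w, hw, h1, -⟩ := hw x hx
    exact (hO.norm H (fun i hi => ⟨_, act_lt w hi, h1 i hi⟩)
      ⟨0, by norm_num, by rw [hSt x hx, mul_inv_cancel_right, WThree.eps_zero H, mul_one]⟩).1
  have nQ : ∀ x ∈ WThree.QQ H, ∀ o ∈ O, x * o * x⁻¹ ∈ O := by
    rintro _ ⟨i, hi, j, hj, rfl⟩ o ho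
    have h1 := (hO.norm_e hi).1 _ ((hO.norm_mu H hj).1 o ho)
    have h2 : e i * (μ j * o * (μ j)⁻¹) * (e i)⁻¹ = e i * μ j * o * (e i * μ j)⁻¹ := by group
    rwa [h2] at h1
  let N : Subgroup G := normalizer (O : Set G)
  have hSN : S ≤ N := fun x hx => WThreeAbs.mem_norm (nS x hx)
  have hQN : WThree.QQ H ≤ N := fun x hx => WThreeAbs.mem_norm (nQ x hx)
  have hON : O ≤ N := fun x hx => WThreeAbs.mem_norm (fun o ho => mul_mem (mul_mem hx ho) (inv_mem hx))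
  let O' : Subgroup N := O.subgroupOf N
  have hO' : O'.Normal := Subgroup.normal_subgroupOf_of_le_normalizer le_rfl
  let π : N →* N ⧸ O' := QuotientGroup.mk' O'
  have hker : ∀ x : N, π x = 1 ↔ (x : G) ∈ O := by
    intro x
    rw [show π x = (x : N ⧸ O') from rfl, QuotientGroup.eq_one_iff, Subgroup.mem_subgroupOf]
  let Q' : Subgroup (N ⧸ O') := ((WThree.QQ H).subgroupOf N).map π
  let S' : Subgroup (N ⧸ O') := (S.subgroupOf N).map π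
  have hQ'p : IsPGroup 2 Q' := by
    refine IsPGroup.map ?_ π
    exact (WThreeAbs.isPGroup_of_sq (WThree.QQ_sq H)).of_equiv (Subgroup.subgroupOfEquivOfLe hQN).symm
  have hS'p : IsPGroup 2 S' := IsPGroup.map (hS.of_equiv (Subgroup.subgroupOfEquivOfLe hSN).symm) π
  have hSQ : S' ≤ normalizer (Q' : Set (N ⧸ O')) := by
    rintro _ ⟨x, hx, rfl⟩
    have hxS : (x : G) ∈ S := Subgroup.mem_subgroupOf.1 hx
    obtain ⟨w, hw, h1, h2⟩ := hw x hxS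
    apply WThreeAbs.mem_norm
    rintro _ ⟨y, hy, rfl⟩
    obtain ⟨i, hi, j, hj, h3⟩ := Subgroup.mem_subgroupOf.1 hy
    have hz : e (act w i) * μ (act w j) ∈ WThree.QQ H := ⟨_, act_lt w hi, _, act_lt w hj, rfl⟩
    refine ⟨⟨_, hQN hz⟩, Subgroup.mem_subgroupOf.2 hz, ?_⟩
    rw [← map_mul, ← map_inv, ← map_mul]
    show (QuotientGroup.mk _ : N ⧸ O') = QuotientGroup.mk _
    rw [QuotientGroup.eq, Subgroup.mem_subgroupOf]
    show (e (act w i) * μ (act w j))⁻¹ * (x * y * (x : G)⁻¹) ∈ O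
    have h4 : (x : G) * y * (x : G)⁻¹ = e (act w i) * ((x : G) * μ j * (x : G)⁻¹) := by
      rw [← h1 i hi, h3]; group
    rw [h4]
    have h5 : (e (act w i) * μ (act w j))⁻¹ * (e (act w i) * ((x : G) * μ j * (x : G)⁻¹)) =
        (μ (act w j))⁻¹ * ((x : G) * μ j * (x : G)⁻¹) := by group
    rw [h5]
    exact h2 j hj
  have hR : IsPGroup 2 (S' ⊔ Q' : Subgroup (N ⧸ O')) := hS'p.to_sup_of_normal_right' hQ'p hSQ
  obtain ⟨P, hP1, hP2, hP3, hP4, hP5, -⟩ := exists_two_lift π (QuotientGroup.mk'_surjective O') (by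
      intro x hx
      have h1 := hO.odd _ ((hker x).1 hx)
      rwa [Subgroup.orderOf_coe] at h1) (S' ⊔ Q') hR (S.subgroupOf N)
    (hS.of_equiv (Subgroup.subgroupOfEquivOfLe hSN).symm) (fun x hx => (le_sup_left : S' ≤ S' ⊔ Q') ⟨x, hx, rfl⟩)
  let T : Subgroup G := P.map N.subtype
  have hT : IsPGroup 2 T := hP1.map _
  have hTN : ∀ y ∈ T, ∀ o ∈ O, y * o * y⁻¹ ∈ O := by
    rintro _ ⟨y, _, rfl⟩ o ho
    exact (Subgroup.mem_normalizer_iff.1 y.2 o).1 ho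
  obtain ⟨n, hn, hn'⟩ := OddConj.conj_exact (T₁ := WThree.QQ H) hO.odd (WThreeAbs.isPGroup_of_sq (WThree.QQ_sq H)) hT
    hTN (by
      intro x hx
      obtain ⟨y, hy, hy'⟩ := hP4 (π ⟨x, hQN hx⟩) ((le_sup_right : Q' ≤ S' ⊔ Q') ⟨_, Subgroup.mem_subgroupOf.2 hx, rfl⟩)
      refine ⟨y, ⟨y, hy, rfl⟩, ?_⟩
      have h1 : (QuotientGroup.mk y : N ⧸ O') = QuotientGroup.mk ⟨x, hQN hx⟩ := hy'
      rw [QuotientGroup.eq, Subgroup.mem_subgroupOf] at h1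
      exact h1)
  have hnT : ∀ x ∈ WThree.QQ H, n * x * n⁻¹ ∈ T := by
    intro x hx
    obtain ⟨y, hy, hy'⟩ := hP4 (π ⟨x, hQN hx⟩) ((le_sup_right : Q' ≤ S' ⊔ Q') ⟨_, Subgroup.mem_subgroupOf.2 hx, rfl⟩)
    have h1 : (QuotientGroup.mk y : N ⧸ O') = QuotientGroup.mk ⟨x, hQN hx⟩ := hy'
    rw [QuotientGroup.eq, Subgroup.mem_subgroupOf] at h1
    have h2 := hn' x hx y ⟨y, hy, rfl⟩ h1
    rw [h2]
    exact ⟨y, hy, rfl⟩
  refine ⟨n, hn, fun x hx => ?_⟩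
  obtain ⟨w, hw, h1, h2⟩ := hw x hx
  refine ⟨w, hw, h1, fun i hi => ?_⟩
  have hxT : x ∈ T := ⟨⟨x, hSN hx⟩, hP2 (Subgroup.mem_subgroupOf.2 hx), rfl⟩
  have c1 : Cong O (x * μ i * x⁻¹) (x * (n * μ i * n⁻¹) * x⁻¹) :=
    (Cong.of_mem (hO.norm_mu H hi).2 hn).conj (nS x hx)
  have c2 : Cong O (μ (act w i)) (n * μ (act w i) * n⁻¹) := Cong.of_mem (hO.norm_mu H (act_lt w hi)).2 hn
  have c3 := (c2.symm.trans (h2 i hi)).trans c1
  have m1 : n * μ (act w i) * n⁻¹ ∈ T := hnT _ (WThree.mu_mem H (act_lt w hi))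
  have m2 : x * (n * μ i * n⁻¹) * x⁻¹ ∈ T := mul_mem (mul_mem hxT (hnT _ (WThree.mu_mem H hi))) (inv_mem hxT)
  exact (inv_mul_eq_one.1 (OddConj.eq_one_of_two hT (mul_mem (inv_mem m1) m2) (hO.odd _ c3))).symm

end

/-- The local data: a 2-group `S = E E' ⟨b⟩` of order 128 in `K`, a frame over `E` invariant under `S`, and a frame
over `E'`; both have their double. -/
structure Data {G : Type*} [Group G] (t : G) (K : Subgroup G) (e e' : ℕ → G) (b : G) (μ σ μ' σ' : ℕ → G) : Prop where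
  S : SRel e e' b
  eK : ∀ i < 16, e i ∈ K
  eK' : ∀ i < 16, e' i ∈ K
  bK : b ∈ K
  Kt : ∀ k ∈ K, k * t = t * k
  Q : QConf t e μ σ
  Q' : QConf t e' μ' σ'
  aut : Aut t e
  aut' : Aut t e'
  dbl : Dbl e μ
  dbl' : Dbl e' μ'
  km' : ∃ O : Subgroup G, IsO t e' O ∧ KM K e' μ' O
  inv : ∀ x ∈ S.S, ∃ w : List ℕ, (∀ k ∈ w, k < 5) ∧ (∀ i < 16, x * e i * x⁻¹ = e (act w i)) ∧
    ∀ i < 16, x * μ i * x⁻¹ = μ (act w i)

section

variable {G L : Type*} [Group G] [Group L] {t : G} {K : Subgroup G} {π : K →* L}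

theorem congr_S {e e' e₁ e₁' : ℕ → G} {b : G} (H : SRel e e' b) (h : ∀ i < 16, e i = e₁ i) (h' : ∀ i < 16, e' i = e₁' i) :
    SRel e₁ e₁' b where
  mul i hi j hj := by rw [← h i hi, ← h j hj, H.mul i hi j hj, h _ (xor_lt hi hj)]
  inj i hi e := H.inj i hi (by rw [h i hi, e])
  mul' i hi j hj := by rw [← h' i hi, ← h' j hj, H.mul' i hi j hj, h' _ (xor_lt hi hj)]
  inj' i hi e := H.inj' i hi (by rw [h' i hi, e])
  low i hi := by rw [← h' i (by omega), ← h i (by omega), H.low i hi]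
  nact j hj i hi := by rw [← h' j hj, ← h i hi, ← h _ (act_lt _ hi), H.nact j hj i hi]
  ββ := H.ββ
  βμ i hi := by rw [← h i hi, ← h _ (gm_lt 1 i), H.βμ i hi]
  βν i hi := by rw [← h' i hi, ← h' _ (gm_lt 1 i), H.βν i hi]

/-- two lifts of the same elementary abelian group are conjugate under the kernel -/
theorem conj_lift [Finite G] (H : LHyp t K π) {ε : ℕ → L} {e e₁ : ℕ → G} (mul : ∀ i < 16, ∀ j < 16, e i * e j = e (i ^^^ j))
    (mul₁ : ∀ i < 16, ∀ j < 16, e₁ i * e₁ j = e₁ (i ^^^ j)) (h : ∀ i < 16, ∃ h : e i ∈ K, π ⟨e i, h⟩ = ε i)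
    (h₁ : ∀ i < 16, ∃ h : e₁ i ∈ K, π ⟨e₁ i, h⟩ = ε i) : ∃ n ∈ K, ∀ i < 16, n * e i * n⁻¹ = e₁ i := by
  let O : Subgroup G := π.ker.map K.subtype
  have hO : ∀ x ∈ O, Odd (orderOf x) := by
    rintro _ ⟨x, hx, rfl⟩
    have h1 : orderOf (⟨x, hx⟩ : π.ker) ∣ Nat.card π.ker := orderOf_dvd_natCard _
    have h2 : orderOf (K.subtype x) = orderOf (⟨x, hx⟩ : π.ker) := by
      show orderOf (x : G) = _
      rw [Subgroup.orderOf_coe]
      exact (Subgroup.orderOf_coe (⟨x, hx⟩ : π.ker))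
    rw [h2]
    exact Odd.of_dvd_nat H.odd h1
  let T : (f : ℕ → G) → (∀ i < 16, ∀ j < 16, f i * f j = f (i ^^^ j)) → Subgroup G := fun f hf =>
    { carrier := {x | ∃ i < 16, x = f i}
      one_mem' := ⟨0, by norm_num, by
        have := hf 0 (by norm_num) 0 (by norm_num)
        rw [Nat.xor_self] at this
        exact (mul_eq_left.1 this).symm⟩
      mul_mem' := by
        rintro _ _ ⟨i, hi, rfl⟩ ⟨j, hj, rfl⟩
        exact ⟨_, xor_lt hi hj, hf i hi j hj⟩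
      inv_mem' := by
        rintro _ ⟨i, hi, rfl⟩
        refine ⟨i, hi, inv_eq_of_mul_eq_one_left ?_⟩
        have h0 := hf 0 (by norm_num) 0 (by norm_num)
        rw [Nat.xor_self] at h0
        rw [hf i hi i hi, Nat.xor_self]
        exact mul_eq_left.1 h0 }
  have hT : ∀ f hf, IsPGroup 2 (T f hf) := by
    intro f hf
    apply isPGroup_of_sq'
    rintro _ ⟨i, hi, rfl⟩
    have h0 := hf 0 (by norm_num) 0 (by norm_num)
    rw [Nat.xor_self] at h0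
    rw [hf i hi i hi, Nat.xor_self]
    exact mul_eq_left.1 h0
  have hcong : ∀ i < 16, (e₁ i)⁻¹ * e i ∈ O := by
    intro i hi
    obtain ⟨h2, h3⟩ := h i hi
    obtain ⟨h4, h5⟩ := h₁ i hi
    refine ⟨⟨e₁ i, h4⟩⁻¹ * ⟨e i, h2⟩, ?_, rfl⟩
    show _ ∈ π.ker
    rw [MonoidHom.mem_ker, map_mul, map_inv, h3, h5, inv_mul_cancel]
  obtain ⟨n, hn, hn'⟩ := OddConj.conj_exact (T₁ := T e mul) (T₂ := T e₁ mul₁) hO (hT e mul) (hT e₁ mul₁) (by
      rintro _ ⟨i, hi, rfl⟩ _ ⟨o, ho, rfl⟩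
      obtain ⟨h4, h5⟩ := h₁ i hi
      exact ⟨⟨e₁ i, h4⟩ * o * ⟨e₁ i, h4⟩⁻¹, (inferInstance : π.ker.Normal).conj_mem o ho _, rfl⟩) (by
      rintro _ ⟨i, hi, rfl⟩
      exact ⟨e₁ i, ⟨i, hi, rfl⟩, hcong i hi⟩)
  refine ⟨n, ?_, fun i hi => hn' _ ⟨i, hi, rfl⟩ _ ⟨i, hi, rfl⟩ (hcong i hi)⟩
  obtain ⟨x, _, rfl⟩ := hn
  exact x.2

/-- **Existence of the local data.** -/
theorem exists_data [Finite L] [Finite G] (H : LHyp t K π) {ε s ε' s' : ℕ → L} (F : LFacts ε s ε' s')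
    (R : PairRel ε s ε' s')
    (o1 : ∀ φ : MulAut L, (∀ i < 16, ∃ j < 16, φ (ε i) = ε j) → φ ∈ (MulAut.conj : L →* MulAut L).range)
    (o1' : ∀ φ : MulAut L, (∀ i < 16, ∃ j < 16, φ (ε' i) = ε' j) → φ ∈ (MulAut.conj : L →* MulAut L).range)
    (o2 : ∀ φ : MulAut L, φ * φ = 1 → ∀ A : Subgroup L, (∀ x ∈ A, x * x = 1) → Nat.card A = 8 →
      (∀ x ∈ A, φ x = x) → φ ∈ (MulAut.conj : L →* MulAut L).range)
    (o3 : ∀ φ ψ : MulAut L, φ ∉ (MulAut.conj : L →* MulAut L).range → ψ ∉ (MulAut.conj : L →* MulAut L).range →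
      φ * ψ ∈ (MulAut.conj : L →* MulAut L).range)
    (hfus : ∃ k ∈ K, k * k = 1 ∧ k ≠ 1 ∧ IsConj t (t * k)) :
    ∃ (e e' : ℕ → G) (b : G) (μ σ μ' σ' : ℕ → G), Data t K e e' b μ σ μ' σ' := by
  obtain ⟨e₀, f, μ, σ, e₀', f', μ', σ', I, I', Q, Q', -, -, -, A, A', D, D', hs, hs'⟩ :=
    exists_double H F o1 o1' o2 o3 hfus
  obtain ⟨b₀, SL⟩ := exists_SRel_L F R
  obtain ⟨e, e', b, SK, he, he', hb⟩ := exists_SRel_K H.surj H.odd SL
  have hKt : ∀ k ∈ K, k * t = t * k := fun k hk => (H.Kt k hk).symm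
  -- one frame
  have frame : ∀ {ε s : ℕ → L} {e₀ f μ σ e : ℕ → G}, IsLift π ε s e₀ f → QConf t e₀ μ σ → Aut t e₀ → Dbl e₀ μ →
      (∀ k < 5, ∃ o : G, (∃ r : ℕ, Odd r ∧ o ^ r = 1) ∧ o * t = t * o ∧ (∀ i < 16, o * e₀ i = e₀ i * o) ∧
        σ k = o * f k) → (∀ i < 16, ∀ j < 16, e i * e j = e (i ^^^ j)) → (∀ i < 16, ∃ h : e i ∈ K, π ⟨e i, h⟩ = ε i) →
      ∃ μ₁ σ₁ : ℕ → G, QConf t e μ₁ σ₁ ∧ Aut t e ∧ Dbl e μ₁ ∧ ∃ O : Subgroup G, IsO t e O ∧ KM K e μ₁ O := by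
    intro ε s e₀ f μ σ e I Q A D hs mul he
    obtain ⟨n, hn, hn'⟩ := conj_lift H I.mul mul I.ev he
    have hnt := hKt n hn
    have Q₁ := congr_Q (conj_Q Q hnt) hn' fun _ _ => rfl
    obtain ⟨O, hO⟩ := exists_oddF Q₁
    refine ⟨_, _, Q₁, congr_aut (conj_aut A hnt) hn', congr_dbl (conj_dbl D n) hn' fun _ _ => rfl, O, hO, ?_⟩
    have e' : ∀ x y : G, (n * x * n⁻¹) * (n * y * n⁻¹) = n * (x * y) * n⁻¹ := fun x y => by group
    refine km (f := fun k => n * f k * n⁻¹) hKt H.tK Q₁ hO (fun i hi => (he i hi).1) (fun k hk => ?_) (fun k hk i hi => ?_)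
      (fun k hk => ?_)
    · obtain ⟨h1, -⟩ := I.fv k hk
      exact mul_mem (mul_mem hn h1) (inv_mem hn)
    · show n * f k * n⁻¹ * e i = e (gm k i) * (n * f k * n⁻¹)
      rw [← hn' i hi, ← hn' _ (gm_lt k i), e', e', I.act k hk i hi]
    · obtain ⟨o, ⟨r, hr, hor⟩, h1, h2, h3⟩ := hs k hk
      refine ⟨n * o * n⁻¹, ⟨r, hr, by rw [conj_pow, hor]; group⟩, ?_, fun i hi => ?_, ?_⟩
      · have h4 : t = n * t * n⁻¹ := by rw [hnt, mul_inv_cancel_right]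
        rw [h4, e', e', h1]
      · rw [← hn' i hi, e', e', h2 i hi]
      · rw [h3, e']
  obtain ⟨μ₁, σ₁, q1, q2, q3, O, hO, q4⟩ := frame I Q A D hs SK.mul he
  obtain ⟨μ₁', σ₁', r1, r2, r3, r4⟩ := frame I' Q' A' D' hs' SK.mul' he'
  have hSK : SK.S ≤ K := SK.S_le (fun i hi => (he i hi).1) (fun i hi => (he' i hi).1) hb
  obtain ⟨n, hn, hn'⟩ := S_adjust q1 hO SK.S SK.isPGroup_S (fun x hx => hKt x (hSK hx)) (by
    intro x hx
    obtain ⟨w, hw, h1⟩ := SK.exists_word hx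
    exact ⟨w, hw, h1, q4 x (hSK hx) w hw h1⟩)
  exact ⟨e, e', b, _, _, _, _, SK, fun i hi => (he i hi).1, fun i hi => (he' i hi).1, hb, hKt, conj_O q1 hO hn, r1, q2, r2,
    conj_O_dbl q3 hO hn, r3, r4, hn'⟩

end

end Cfsg.Agent.TypeM.BaseS
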