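import Cfsg.Agent.TypeM.LFactsLyD
import Cfsg.Agent.R10.TEval

/-!
# The facts on groups of type `MT 11` (the Lyons group) used in Theorem W of S1739

The elementary abelian groups are lifts of the two translation groups of the affine space of order eight on the
points `0, …, 7`; all identities in the centralizer `2.A₁₁` are checked by computation in the Clifford cover.
-/

set_option autoImplicit false

namespace Cfsg.Agent.TypeM.LyL

open Equiv Subgroup
open Cfsg.Agent.CharactersDeep.DoubleCover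
open Cfsg.Agent.SporadicRecognition.AltCover
open Cfsg.Agent.R10.TCalc Cfsg.Agent.R10.TEval
open Cfsg.Agent.TypeM.Two Cfsg.Agent.SporRec Cfsg.Agent.SporRec.TwoAn

/-- words in transpositions -/
abbrev Wd := List (Fin 11 × Fin 11)

def uW : Wd := [(0, 1), (2, 3), (4, 5), (6, 7)]
def cW : Wd := [(0, 2), (1, 3), (4, 6), (5, 7)]
def dW : Wd := [(0, 4), (1, 5), (2, 6), (3, 7)]
def aW : Wd := [(0, 3), (1, 2), (4, 6), (5, 7)]
def bW : Wd := [(0, 1), (2, 5), (3, 4), (6, 7)]
def xW : Wd := [(1, 7), (3, 5)]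
def yW : Wd := [(4, 6), (5, 7)]
def wW : Wd := [(1, 6), (2, 4)]
def babW : Wd := [(0, 1), (2, 5), (3, 4), (6, 7), (0, 3), (1, 2), (4, 6), (5, 7), (6, 7), (3, 4), (2, 5), (0, 1)]
def bybW : Wd := [(0, 1), (2, 5), (3, 4), (6, 7), (4, 6), (5, 7), (6, 7), (3, 4), (2, 5), (0, 1)]

/-- sign and word of the elements of the first group -/
def gE (i : ℕ) : Bool := xor (i.testBit 0) (xor (i.testBit 2) (i.testBit 3))
def wE (i : ℕ) : Wd :=
  (bif i.testBit 1 then uW else []) ++ ((bif i.testBit 2 then cW else []) ++ (bif i.testBit 3 then dW else []))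

/-- sign and word of the elements of the second group -/
def gF (i : ℕ) : Bool := i.testBit 0
def wF (i : ℕ) : Wd :=
  (bif i.testBit 1 then uW else []) ++ ((bif i.testBit 2 then babW else []) ++ (bif i.testBit 3 then aW else []))

/-- words of the generators -/
def wS : ℕ → Wd
  | 0 => aW
  | 1 => bW
  | 2 => xW
  | 3 => yW
  | _ => []

def gS' : ℕ → Bool
  | 0 => true
  | _ => false

def wS' : ℕ → Wd
  | 0 => dW
  | 1 => bW
  | 2 => wW
  | 3 => bybW
  | _ => []

/-- value of a signed word -/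
def vl (s : Bool) (w : Wd) : Bool × List (Fin 11 × Fin 11) := (xor s (nf w).1, (nf w).2)

theorem mulE : ∀ i < 16, ∀ j < 16, vl (xor (gE i) (gE j)) (wE i ++ wE j) = vl (gE (i ^^^ j)) (wE (i ^^^ j)) := by
  decide +kernel

theorem mulF : ∀ i < 16, ∀ j < 16, vl (xor (gF i) (gF j)) (wF i ++ wF j) = vl (gF (i ^^^ j)) (wF (i ^^^ j)) := by
  decide +kernel

theorem actE : ∀ k < 4, ∀ i < 16, vl (xor false (gE i)) (wS k ++ wE i) = vl (xor (gE (gm k i)) false) (wE (gm k i) ++ wS k) := by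
  decide +kernel

theorem actF : ∀ k < 4, ∀ i < 16, vl (xor (gS' k) (gF i)) (wS' k ++ wF i) =
    vl (xor (gF (gm k i)) (gS' k)) (wF (gm k i) ++ wS' k) := by
  decide +kernel

/-- the permutations of the first group -/
def TE (i : ℕ) : Perm (Fin 11) := pm (wE (2 * i))

/-- the permutations of the second group -/
def TF (i : ℕ) : Perm (Fin 11) := pm (wF (2 * i))

theorem regE : Reg TE where
  mul := by decide +kernel
  fix := by decide +kernel
  low := by decide +kernel
  surj := by decide +kernel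
  inj := by decide +kernel

theorem regF : Reg TF where
  mul := by decide +kernel
  fix := by decide +kernel
  low := by decide +kernel
  surj := by decide +kernel
  inj := by decide +kernel

theorem TF_ne : ∀ j < 8, TF 4 ≠ TE j := by decide +kernel

/-! ### the fixed-point-free involutions commuting with `TE 1` -/

/-- the involution -/
def ub (x : Fin 11) : Fin 11 := TE 1 x

/-- a point outside two blocks -/
def bf (a : Fin 11) : Fin 11 := if a.val < 4 then 4 else 2

/-- admissible values -/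
def okac (a c : Fin 11) : Bool :=
  decide (2 ≤ a.val) && decide (a.val < 8) && decide (c.val < 8) && c != 0 && c != 1 && c != a && c != ub a && c != bf a &&
    c != ub (bf a)

/-- the values of the permutation -/
def eqs (q : Fin 11 → Fin 11) (a c : Fin 11) : Bool :=
  q 0 == a && q 1 == ub a && q a == 0 && q (ub a) == 1 && q (bf a) == c && q (ub (bf a)) == ub c && q c == bf a &&
    q (ub c) == ub (bf a) && q 8 == 8 && q 9 == 9 && q 10 == 10

theorem cover_aux : ∀ a c : Fin 11, (!(okac a c) || ((List.range 8).any fun j => eqs (TE j) a c || eqs (TF j) a c)) = true := by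
  decide +kernel

theorem all_mem : ∀ a c : Fin 11, okac a c = true → ∀ x : Fin 11,
    x ∈ [0, 1, a, ub a, bf a, ub (bf a), c, ub c, 8, 9, 10] := by
  decide +kernel

theorem bf_spec : ∀ a : Fin 11, 2 ≤ a.val → a.val < 8 → (bf a).val < 8 ∧ bf a ≠ 0 ∧ bf a ≠ 1 ∧ bf a ≠ a ∧ bf a ≠ ub a := by
  decide +kernel

theorem ub_zero : ub 0 = 1 := by decide +kernel
theorem ub_ub : ∀ x, ub (ub x) = x := by decide +kernel

theorem eqs_ext {p q : Fin 11 → Fin 11} {a c : Fin 11} (ho : okac a c = true) (hp : eqs p a c = true) (hq : eqs q a c = true) :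
    p = q := by
  funext x
  have hx := all_mem a c ho x
  simp only [eqs, Bool.and_eq_true, beq_iff_eq] at hp hq
  obtain ⟨⟨⟨⟨⟨⟨⟨⟨⟨⟨p1, p2⟩, p3⟩, p4⟩, p5⟩, p6⟩, p7⟩, p8⟩, p9⟩, p10⟩, p11⟩ := hp
  obtain ⟨⟨⟨⟨⟨⟨⟨⟨⟨⟨q1, q2⟩, q3⟩, q4⟩, q5⟩, q6⟩, q7⟩, q8⟩, q9⟩, q10⟩, q11⟩ := hq
  simp only [List.mem_cons, List.not_mem_nil, or_false] at hx
  rcases hx with h | h | h | h | h | h | h | h | h | h | h <;> rw [h]
  · rw [p1, q1]
  · rw [p2, q2]
  · rw [p3, q3]
  · rw [p4, q4]
  · rw [p5, q5]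
  · rw [p6, q6]
  · rw [p7, q7]
  · rw [p8, q8]
  · rw [p9, q9]
  · rw [p10, q10]
  · rw [p11, q11]

theorem cover_spec (p : Perm (Fin 11)) (h1 : ∀ x : Fin 11, 8 ≤ x.val → p x = x) (h2 : ∀ x, p (p x) = x)
    (h3 : ∀ x, p (TE 1 x) = TE 1 (p x)) (h4 : ∀ x : Fin 11, x.val < 8 → p x ≠ x)
    (h5 : ∀ x : Fin 11, x.val < 8 → p x ≠ TE 1 x) : ∃ j < 8, p = TE j ∨ p = TF j := by
  have h3' : ∀ x, p (ub x) = ub (p x) := h3
  have h5' : ∀ x : Fin 11, x.val < 8 → p x ≠ ub x := h5
  have hlow : ∀ x : Fin 11, x.val < 8 → (p x).val < 8 := by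
    intro x hx
    by_contra hcon
    have e := h1 (p x) (by omega)
    rw [h2] at e
    rw [← e] at hcon
    exact hcon hx
  set a := p 0 with ha
  have ha8 : a.val < 8 := hlow 0 (by norm_num)
  have ha0 : a ≠ 0 := h4 0 (by norm_num)
  have ha1 : a ≠ 1 := by
    have := h5' 0 (by norm_num)
    rwa [ub_zero] at this
  have ha2 : 2 ≤ a.val := by
    have e0 : a.val ≠ 0 := fun h => ha0 (Fin.ext h)
    have e1 : a.val ≠ 1 := fun h => ha1 (Fin.ext h)
    omega
  have p1 : p 1 = ub a := by rw [← ub_zero, h3']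
  have pa : p a = 0 := h2 0
  have pua : p (ub a) = 1 := by rw [h3', pa, ub_zero]
  obtain ⟨b8, b0, b1, ba, bua⟩ := bf_spec a ha2 ha8
  set b := bf a with hb
  set c := p b with hc
  have pc : p c = b := h2 b
  have c8 : c.val < 8 := hlow b b8
  have c0 : c ≠ 0 := by
    intro e
    rw [e] at pc
    exact ba pc.symm
  have c1 : c ≠ 1 := by
    intro e
    rw [e, p1] at pc
    exact bua pc.symm
  have ca : c ≠ a := by
    intro e
    rw [e, pa] at pc
    exact b0 pc.symm
  have cua : c ≠ ub a := by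
    intro e
    rw [e, pua] at pc
    exact b1 pc.symm
  have cb : c ≠ b := h4 b b8
  have cub : c ≠ ub b := h5' b b8
  have ho : okac a c = true := by
    unfold okac
    simp [ha2, ha8, c8, c0, c1, ca, cua, ← hb, cb, cub]
  have hp : eqs p a c = true := by
    unfold eqs
    simp [← ha, p1, pa, pua, ← hb, ← hc, h3', pc, h1 8 (by norm_num), h1 9 (by norm_num), h1 10 (by norm_num)]
  have h := cover_aux a c
  rw [ho, Bool.not_true, Bool.false_or, List.any_eq_true] at h
  obtain ⟨j, hj, h⟩ := h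
  rw [List.mem_range] at hj
  rw [Bool.or_eq_true] at h
  refine ⟨j, hj, ?_⟩
  rcases h with h | h
  · left
    exact DFunLike.coe_injective (eqs_ext ho hp h)
  · right
    exact DFunLike.coe_injective (eqs_ext ho hp h)

/-! ### the elements -/

variable {G : Type*} [Group G]

theorem sign_pm (w : Wd) (hw : ∀ p ∈ w, p.1 ≠ p.2) : Perm.sign (pm w) = (-1) ^ w.length := by
  induction w with
  | nil => simp [pm]
  | cons p w ih =>
    have e : pm (p :: w) = swap p.1 p.2 * pm w := by simp [pm]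
    rw [e, map_mul, ih fun q hq => hw q (List.mem_cons_of_mem _ hq), Perm.sign_swap (hw p List.mem_cons_self),
      List.length_cons, pow_succ', mul_comm]

/-- evenness -/
def evn (w : Wd) : Bool := w.all (fun p => p.1 != p.2) && w.length % 2 == 0

theorem pm_mem {w : Wd} (h : evn w = true) : pm w ∈ alternatingGroup (Fin 11) := by
  simp only [evn, Bool.and_eq_true, List.all_eq_true, bne_iff_ne, beq_iff_eq] at h
  rw [Perm.mem_alternatingGroup, sign_pm w h.1]
  have : w.length = 2 * (w.length / 2) := by omega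
  rw [this, pow_mul]
  simp

theorem exists_EV {L : MT 11 G} {E : centralizer ({L.t} : Set G) →* cover 11}
    (hp : ∀ x, proj 11 (E x) = L.K.π x) (hz : E L.K.z = zz 11) (s : Bool) (w : Wd) (hw : evn w = true) :
    ∃ x : G, EV E x s w := by
  obtain ⟨c, hc⟩ := L.K.exists_lift (pm_mem hw)
  rw [← hp] at hc
  obtain ⟨s', hs'⟩ := exists_sign hc
  by_cases h : s' = s
  · exact ⟨c, c.2, by rw [← h]; exact hs'⟩
  · refine ⟨((L.K.z * c : centralizer ({L.t} : Set G)) : G), (L.K.z * c).2, ?_⟩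
    have e : s = xor true s' := by cases s <;> cases s' <;> simp_all
    show E (L.K.z * c) = _
    rw [map_mul, hz, hs', e, ← sg_mul, sg_true, mul_assoc]

/-- the projection of an element with known value -/
theorem EV_pi {L : MT 11 G} {E : centralizer ({L.t} : Set G) →* cover 11}
    (hp : ∀ x, proj 11 (E x) = L.K.π x) {x : G} {s : Bool} {w : Wd} (h : EV E x s w) (hx) :
    L.K.π ⟨x, hx⟩ = pm w := by
  obtain ⟨hx', e⟩ := h
  rw [← hp, e, map_mul, proj_sg, one_mul, proj_val]

theorem evnE : ∀ i < 16, evn (wE i) = true := by decide +kernel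
theorem evnF : ∀ i < 16, evn (wF i) = true := by decide +kernel
theorem evnS : ∀ i < 4, evn (wS i) = true := by decide +kernel
theorem evnS' : ∀ i < 4, evn (wS' i) = true := by decide +kernel

theorem exists_pair (L : MT 11 G) : ∃ ε s ε' s' : ℕ → G, Pair L TE TF ε s ε' s' := by
  obtain ⟨E, hE, hp, hz⟩ := exists_E (by norm_num) L.K
  have ht : EV E L.t true [] := by
    refine ⟨L.mem_iff.2 rfl, ?_⟩
    have : (⟨L.t, L.mem_iff.2 rfl⟩ : centralizer ({L.t} : Set G)) = L.K.z := Subtype.ext L.hz.symm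
    rw [this, hz, sg_true, val_nil, mul_one]
  have hex : ∀ (gS : ℕ → Bool) (wS : ℕ → Wd) (N : ℕ), (∀ i < N, evn (wS i) = true) →
      ∃ ε : ℕ → G, ∀ i < N, EV E (ε i) (gS i) (wS i) := by
    intro gS wS N h
    have : ∀ i, ∃ x : G, i < N → EV E x (gS i) (wS i) := by
      intro i
      by_cases hi : i < N
      · obtain ⟨x, hx⟩ := exists_EV hp hz (gS i) (wS i) (h i hi)
        exact ⟨x, fun _ => hx⟩
      · exact ⟨1, fun h => absurd h hi⟩
    choose ε hε using this
    exact ⟨ε, hε⟩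
  obtain ⟨ε, hε⟩ := hex gE wE 16 evnE
  obtain ⟨ε', hε'⟩ := hex gF wF 16 evnF
  obtain ⟨s, hs⟩ := hex (fun _ => false) wS 4 evnS
  obtain ⟨s', hs'⟩ := hex gS' wS' 4 evnS'
  refine ⟨ε, s, ε', s', ⟨?_, ?_, ?_, ?_, ?_, ?_, cover_spec, TF_ne⟩⟩
  · refine ⟨regE, ?_, ?_, ?_, ?_, ?_, ?_⟩
    · exact (hε 1 (by norm_num)).eq hE ht (by decide +kernel)
    · intro i hi j hj
      exact ((hε i hi).mul (hε j hj)).eq hE (hε _ (xor_lt hi hj)) (mulE i hi j hj)
    · intro i hi
      exact L.mem_iff.1 (hε i hi).mem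
    · intro i hi h
      exact EV_pi hp (hε _ (by omega)) h
    · intro k hk
      exact L.mem_iff.1 (hs k hk).mem
    · intro k hk i hi
      exact ((hs k hk).mul (hε i hi)).eq hE ((hε _ (gm_lt k i)).mul (hs k hk)) (actE k hk i hi)
  · refine ⟨regF, ?_, ?_, ?_, ?_, ?_, ?_⟩
    · exact (hε' 1 (by norm_num)).eq hE ht (by decide +kernel)
    · intro i hi j hj
      exact ((hε' i hi).mul (hε' j hj)).eq hE (hε' _ (xor_lt hi hj)) (mulF i hi j hj)
    · intro i hi
      exact L.mem_iff.1 (hε' i hi).mem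
    · intro i hi h
      exact EV_pi hp (hε' _ (by omega)) h
    · intro k hk
      exact L.mem_iff.1 (hs' k hk).mem
    · intro k hk i hi
      exact ((hs' k hk).mul (hε' i hi)).eq hE ((hε' _ (gm_lt k i)).mul (hs' k hk)) (actF k hk i hi)
  · exact (hε' 2 (by norm_num)).eq hE (hε 2 (by norm_num)) (by decide +kernel)
  · exact (hε 8 (by norm_num)).eq hE (hs' 0 (by norm_num)) (by decide +kernel)
  · exact (hs' 1 (by norm_num)).eq hE (hs 1 (by norm_num)) (by decide +kernel)
  · exact (hε' 8 (by norm_num)).eq hE (hs 0 (by norm_num)) (by decide +kernel)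

/-- the automorphisms induced on the elementary abelian group -/
theorem aut_of {L : MT 11 G} {T : ℕ → Perm (Fin 11)} {ε s : ℕ → G} (D : Loc L T ε s) {g : G}
    (hg : ∀ i < 16, g * ε i * g⁻¹ = ε (gm 4 i)) (x : G) (h : ∀ i < 16, ∃ j < 16, x * ε i * x⁻¹ = ε j) :
    ∃ w : List ℕ, (∀ k ∈ w, k < 5) ∧ ∀ i < 16, x * ε i * x⁻¹ = ε (act w i) := by
  obtain ⟨m, hm, hme, hml⟩ := D.exists_act x h
  have hm8 : ∀ {m : ℕ → ℕ}, (∀ i < 16, m i < 16) → (∀ k ∈ [2, 4, 8], m k / 2 < 8) := by
    intro m hm k hk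
    have : k < 16 := by
      simp at hk; omega
    have := hm k this
    omega
  by_cases h1 : m 1 = 1
  · have hxC : x ∈ centralizer ({L.t} : Set G) := by
      rw [L.mem_iff]
      have := hme 1 (by norm_num)
      rw [h1, D.one] at this
      exact mul_inv_eq_iff_eq_mul.1 this
    obtain ⟨ho, ha⟩ := D.autt x hxC hm hme
    obtain ⟨hw, -⟩ := wd_spec (hm8 hm 2 (by simp)) (hm8 hm 4 (by simp)) (hm8 hm 8 (by simp)) ho
    exact ⟨_, fun k hk => (hw k hk).trans (by norm_num), fun i hi => by rw [hme i hi, ← ha i hi]⟩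
  · have h0 : m 1 ≠ 0 := by
      intro h
      have h2 := hme 1 (by norm_num)
      rw [h, D.zero, mul_inv_eq_one, mul_eq_left] at h2
      exact absurd (D.inj 1 (by norm_num) h2) (by norm_num)
    have htw := tw_spec (m 1) (hm 1 (by norm_num))
    have htw5 : ∀ k ∈ tw (m 1), k < 5 := fun k hk => (htw k hk).trans (by norm_num)
    have htw3 := tw_three (m 1) (hm 1 (by norm_num)) h0 h1
    set W := ((tw (m 1)).map s).prod with hW
    have hy : ∀ i < 16, (g * W * x) * ε i * (g * W * x)⁻¹ = ε (gm 4 (act (tw (m 1)) (m i))) := by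
      intro i hi
      have e := D.W_conj _ htw (hm i hi)
      rw [← hW, ← hme i hi] at e
      rw [← hg _ (act_lt _ (hm i hi)), ← e]
      group
    have hyC : g * W * x ∈ centralizer ({L.t} : Set G) := by
      rw [L.mem_iff]
      have := hy 1 (by norm_num)
      rw [htw3, show gm 4 3 = 1 by decide, D.one] at this
      exact mul_inv_eq_iff_eq_mul.1 this
    obtain ⟨ho, ha⟩ := D.autt _ hyC (m := fun i => gm 4 (act (tw (m 1)) (m i))) (fun i _ => gm_lt 4 _) hy
    obtain ⟨hw, -⟩ := wd_spec (hm8 (m := fun i => gm 4 (act (tw (m 1)) (m i))) (fun i _ => gm_lt 4 _) 2 (by simp))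
      (hm8 (m := fun i => gm 4 (act (tw (m 1)) (m i))) (fun i _ => gm_lt 4 _) 4 (by simp))
      (hm8 (m := fun i => gm 4 (act (tw (m 1)) (m i))) (fun i _ => gm_lt 4 _) 8 (by simp)) ho
    set w := wd (gm 4 (act (tw (m 1)) (m 2)) / 2) (gm 4 (act (tw (m 1)) (m 4)) / 2) (gm 4 (act (tw (m 1)) (m 8)) / 2)
    refine ⟨(tw (m 1)).reverse ++ (4 :: w), ?_, fun i hi => ?_⟩
    · intro k hk
      rw [List.mem_append, List.mem_reverse, List.mem_cons] at hk
      rcases hk with hk | rfl | hk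
      · exact htw5 k hk
      · norm_num
      · exact (hw k hk).trans (by norm_num)
    · rw [hme i hi, act_append, act_cons, ← ha i hi, gm_gm 4 (by norm_num) _ (act_lt _ (hm i hi)),
        act_reverse _ htw5 _ (hm i hi)]

/-- **The facts on groups of type `MT 11`.** -/
theorem exists_lfacts (L : MT 11 G) : ∃ ε s ε' s' : ℕ → G, LFacts ε s ε' s' := by
  obtain ⟨ε, s, ε', s', P⟩ := exists_pair L
  obtain ⟨g, hg, hg'⟩ := P.exists_g
  have hsε : ∀ {T : ℕ → Perm (Fin 11)} {ε s : ℕ → G}, Loc L T ε s → (∀ i < 16, g * ε i * g⁻¹ = ε (gm 4 i)) →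
      ∀ k < 5, ∀ i < 16, (if k = 4 then g else s k) * ε i = ε (gm k i) * (if k = 4 then g else s k) := by
    intro T ε s D hg k hk i hi
    by_cases h4 : k = 4
    · rw [if_pos h4, h4, ← hg i hi, inv_mul_cancel_right]
    · rw [if_neg h4]
      exact D.sε k (by omega) i hi
  refine ⟨ε, fun k => if k = 4 then g else s k, ε', fun k => if k = 4 then g else s' k,
    ⟨P.D.mul, P.D.inj, hsε P.D hg, P.D.cen, aut_of P.D hg⟩,
    ⟨P.D'.mul, P.D'.inj, hsε P.D' hg', P.D'.cen, aut_of P.D' hg'⟩, P.low', ?_, ?_⟩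
  · intro x hx hx1
    obtain ⟨h, hh⟩ := L.one x hx hx1
    refine ⟨h⁻¹, ?_⟩
    rw [← hh, P.D.one]
    group
  · intro f hf
    have f0 : f 0 = 1 := by
      have := hf.mul 0 (by norm_num) 0 (by norm_num)
      simpa using this
    have hsq : f 1 * f 1 = 1 := by rw [hf.mul 1 (by norm_num) 1 (by norm_num), Nat.xor_self, f0]
    obtain ⟨h, hh⟩ := L.one (f 1) hsq (fun e => absurd (hf.inj 1 (by norm_num) e) (by norm_num))
    obtain ⟨c, -, hc⟩ := P.D.nf (fun i => h⁻¹ * f i * h) ⟨by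
      intro i hi j hj
      show h⁻¹ * f i * h * (h⁻¹ * f j * h) = h⁻¹ * f (i ^^^ j) * h
      rw [← hf.mul i hi j hj]
      group, by
      intro i hi e
      apply hf.inj i hi
      have : f i = h * (h⁻¹ * f i * h) * h⁻¹ := by group
      rw [this, show h⁻¹ * f i * h = 1 from e]
      group⟩ (by
      show h⁻¹ * f 1 * h = L.t
      rw [← hh]; group)
    refine ⟨c * h⁻¹, Or.inl fun i hi => ?_⟩
    obtain ⟨j, hj, e⟩ := hc i hi
    refine ⟨j, hj, ?_⟩
    rw [← e]
    group

end Cfsg.Agent.TypeM.LyL
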