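import Cfsg.Agent.TypeM.OuterMcL
import Cfsg.Agent.TypeM.FactsAut

/-!
# Automorphisms of `McL` and `Ly`: the two inputs `ExPerm`, `EvenInner` of `OuterMcL`
-/

set_option autoImplicit false

namespace Cfsg.Agent.TypeM.OuterInst

open Subgroup Equiv Cfsg.Agent.SporRec.TwoAn Cfsg.Agent.TypeM.Two Cfsg.Agent.TypeM.FactsAut Cfsg.Agent.TypeM.OuterMcL

variable {n : ℕ} {M : Type*} [Group M]

/-- the relation between `Compat` and `resAut` -/
theorem compat_iff (L : MT n M) {φ : MulAut M} (h : φ L.t = L.t) {σ : Perm (Fin n)} :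
    Compat L φ σ ↔ ∀ g, L.K.π (resAut L.t φ h g) = σ * L.K.π g * σ⁻¹ := by
  constructor
  · intro hc g
    exact hc g _ rfl
  · intro hc g k hk
    rw [← hc g, show k = resAut L.t φ h g from Subtype.ext hk]

theorem exPerm (L : MT n M) (hn : 7 ≤ n) : ExPerm L := by
  intro φ h
  obtain ⟨σ, hσ⟩ := exists_sigma L hn h
  exact ⟨σ, (compat_iff L h).2 hσ⟩

theorem evenInner (L : MT n M) (hn : n = 8 ∨ n = 11) (hG : Gen L) : EvenInner L := by
  intro φ σ h hσ hs
  obtain ⟨c, -, hc⟩ := exists_conj_of_even L hn hG h ((compat_iff L h).1 hσ) (Perm.mem_alternatingGroup.2 hs)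
  exact ⟨c, hc.symm⟩

/-- the third property (o3) -/
theorem mul_mem_range (L : MT n M) (hn : n = 8 ∨ n = 11) (hG : Gen L) {φ ψ : MulAut M}
    (hφ : φ ∉ (MulAut.conj : M →* MulAut M).range) (hψ : ψ ∉ (MulAut.conj : M →* MulAut M).range) :
    φ * ψ ∈ (MulAut.conj : M →* MulAut M).range := by
  obtain ⟨g, hg⟩ := mul_inner L hn hG (fun g h => hφ ⟨g, h.symm⟩) (fun g h => hψ ⟨g, h.symm⟩)
  exact ⟨g, hg.symm⟩

end Cfsg.Agent.TypeM.OuterInst
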