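import Cfsg.Agent.TypeM.SLift
import Cfsg.Agent.TypeM.LFactsLy
import Cfsg.Agent.TypeM.OuterInst

/-!
# All facts on the groups of type `MT 8`, `MT 11` used in Theorem W, with the relations `PairRel`

`LP ε s ε' s'`: `LFacts`, `PairRel` and the facts (o1), (o1'), (o2), (o3) on automorphisms.
-/

set_option autoImplicit false
set_option maxRecDepth 100000

namespace Cfsg.Agent.TypeM.LPair

open Subgroup Equiv Cfsg.Agent.SporRec.TwoAn Cfsg.Agent.TypeM.Two Cfsg.Agent.TypeM.OuterMcL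
open Cfsg.Agent.TypeM.SLift Cfsg.Agent.TypeM.FactsAut

/-- the facts on `L` and its automorphisms -/
structure LP {L : Type*} [Group L] (ε s ε' s' : ℕ → L) : Prop where
  F : LFacts ε s ε' s'
  R : PairRel ε s ε' s'
  o1 : ∀ φ : MulAut L, (∀ i < 16, ∃ j < 16, φ (ε i) = ε j) → φ ∈ (MulAut.conj : L →* MulAut L).range
  o1' : ∀ φ : MulAut L, (∀ i < 16, ∃ j < 16, φ (ε' i) = ε' j) → φ ∈ (MulAut.conj : L →* MulAut L).range
  o2 : ∀ φ : MulAut L, φ * φ = 1 → ∀ A : Subgroup L, (∀ x ∈ A, x * x = 1) → Nat.card A = 8 →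
    (∀ x ∈ A, φ x = x) → φ ∈ (MulAut.conj : L →* MulAut L).range
  o3 : ∀ φ ψ : MulAut L, φ ∉ (MulAut.conj : L →* MulAut L).range → ψ ∉ (MulAut.conj : L →* MulAut L).range →
    φ * ψ ∈ (MulAut.conj : L →* MulAut L).range

/-- `McL` -/
theorem exists_eight {M : Type*} [Group M] (L : MT 8 M) (hG : Gen L) :
    ∃ ε s ε' s' : ℕ → M, LP ε s ε' s' := by
  obtain ⟨a, b, c, x, y, w, u, d, D⟩ := LFactsMcL.exists_data L
  have F := LFactsMcL.lfacts L D
  have hE : ExPerm L := OuterInst.exPerm L (by norm_num)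
  have hI : EvenInner L := OuterInst.evenInner L (Or.inl rfl) hG
  have h1 : LFactsMcL.e1 L.t u b c 1 = L.t := by rw [LFactsMcL.e1, Cfsg.Agent.McLType.Relators.four_one]
  have h2 : LFactsMcL.e2 L.t u a b 1 = L.t := by
    rw [LFactsMcL.e2, show LFactsMcL.sw 1 = 1 from rfl, Cfsg.Agent.McLType.Relators.four_one]
  -- the centre is trivial
  have hc : ∀ x : M, (∀ y, x * y = y * x) → x = 1 := by
    intro x hx
    have hxt : x ∈ centralizer ({L.t} : Set M) := mem_centralizer_singleton_iff.2 (hx _)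
    have h3 : (⟨x, hxt⟩ : centralizer ({L.t} : Set M)) ∈ center (centralizer ({L.t} : Set M)) :=
      mem_center_iff.2 fun g => Subtype.ext (hx g).symm
    rcases (L.K.mem_center_iff (by simp)).1 h3 with h4 | h4
    · exact congrArg Subtype.val h4
    · exfalso
      have h5 : x = L.t := (congrArg Subtype.val h4).trans L.hz
      obtain ⟨v, hv1, hv2, hv3, -⟩ := FactsAut.exists_u L (Or.inl rfl)
      obtain ⟨g, hg⟩ := L.one v hv1 hv2
      rw [← h5, ← hx g, mul_inv_cancel_right] at hg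
      exact hv3 (by rw [← hg, h5])
  refine ⟨_, _, _, _, F, ⟨rfl, ?_⟩, fun φ h => inner_of_norm L hE hI hc h1 F.E.mul F.E.inj F.E.sε h,
    fun φ h => inner_of_norm L hE hI hc h2 F.E'.mul F.E'.inj F.E'.sε h,
    fun φ _ A hA hA8 h => inner_of_fix L hE hI hA (by rw [hA8]) h, fun φ ψ h h' => inner_mul L hE hI h h'⟩
  rw [LFactsMcL.e2, show LFactsMcL.sw 8 = 4 from rfl, Cfsg.Agent.McLType.Relators.four_four]
  rfl

/-- `Ly` -/
theorem exists_eleven {G : Type*} [Group G] (L : MT 11 G)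
    (hin : ∀ φ : MulAut G, φ ∈ (MulAut.conj : G →* MulAut G).range) :
    ∃ ε s ε' s' : ℕ → G, LP ε s ε' s' := by
  obtain ⟨ε, s, ε', s', P⟩ := LyL.exists_pair L
  obtain ⟨g, hg, hg'⟩ := P.exists_g
  have hsε : ∀ {T : ℕ → Perm (Fin 11)} {ε s : ℕ → G}, LyL.Loc L T ε s → (∀ i < 16, g * ε i * g⁻¹ = ε (gm 4 i)) →
      ∀ k < 5, ∀ i < 16, (if k = 4 then g else s k) * ε i = ε (gm k i) * (if k = 4 then g else s k) := by
    intro T ε s D hg k hk i hi
    by_cases h4 : k = 4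
    · rw [if_pos h4, h4, ← hg i hi, inv_mul_cancel_right]
    · rw [if_neg h4]
      exact D.sε k (by omega) i hi
  refine ⟨ε, fun k => if k = 4 then g else s k, ε', fun k => if k = 4 then g else s' k,
    ⟨⟨P.D.mul, P.D.inj, hsε P.D hg, P.D.cen, LyL.aut_of P.D hg⟩,
    ⟨P.D'.mul, P.D'.inj, hsε P.D' hg', P.D'.cen, LyL.aut_of P.D' hg'⟩, P.low', ?_, ?_⟩, ⟨P.b, P.e8'⟩,
    fun φ _ => hin φ, fun φ _ => hin φ, fun φ _ _ _ _ _ => hin φ, fun φ ψ _ _ => hin (φ * ψ)⟩
  · intro x hx hx1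
    obtain ⟨h, hh⟩ := L.one x hx hx1
    refine ⟨h⁻¹, ?_⟩
    rw [← hh, P.D.one]
    group
  · intro f hf
    have f0 : f 0 = 1 := by
      have := hf.mul 0 (by norm_num) 0 (by norm_num)
      simpa using this
    have hsq : f 1 * f 1 = 1 := by rw [hf.mul 1 (by norm_num) 1 (by norm_num), Nat.xor_self, f0]
    obtain ⟨h, hh⟩ := L.one (f 1) hsq (fun e => absurd (hf.inj 1 (by norm_num) e) (by norm_num))
    obtain ⟨c, -, hc⟩ := P.D.nf (fun i => h⁻¹ * f i * h) ⟨by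
      intro i hi j hj
      show h⁻¹ * f i * h * (h⁻¹ * f j * h) = h⁻¹ * f (i ^^^ j) * h
      rw [← hf.mul i hi j hj]
      group, by
      intro i hi e
      apply hf.inj i hi
      have : f i = h * (h⁻¹ * f i * h) * h⁻¹ := by group
      rw [this, show h⁻¹ * f i * h = 1 from e]
      group⟩ (by
      show h⁻¹ * f 1 * h = L.t
      rw [← hh]; group)
    refine ⟨c * h⁻¹, Or.inl fun i hi => ?_⟩
    obtain ⟨j, hj, e⟩ := hc i hi
    refine ⟨j, hj, ?_⟩
    rw [← e]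
    group

end Cfsg.Agent.TypeM.LPair
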