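import Cfsg.Agent.TypeM.ExistX
import Cfsg.Agent.Transfer.ElemAbAut

/-!
# Lemma Q in a finite group: preparations
-/

set_option autoImplicit false
set_option linter.unusedSectionVars false

namespace Cfsg.Agent.TypeM

section Central

variable {C : Type*} [Group C] [Finite C]

/-- `x ↦ x ^ |C : Z|` is multiplicative for central `Z`. -/
theorem mul_pow_index (Z : Subgroup C) (hZ : Z ≤ Subgroup.center C) (x y : C) :
    (x * y) ^ Z.index = x ^ Z.index * y ^ Z.index := by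
  obtain ⟨r, hr⟩ : (Subgroup.center C).index ∣ Z.index := Subgroup.index_dvd_of_le hZ
  have h1 := congrArg Subtype.val (map_mul (MonoidHom.transferCenterPow C) x y)
  simp only [MonoidHom.transferCenterPow_apply, Subgroup.coe_mul] at h1
  have h2 : x ^ (Subgroup.center C).index ∈ Subgroup.center C := by
    have := (MonoidHom.transferCenterPow C x).2
    rwa [MonoidHom.transferCenterPow_apply] at this
  rw [hr, pow_mul, pow_mul, pow_mul, h1]
  exact (show Commute _ _ from (Subgroup.mem_center_iff.1 h2 _).symm).mul_pow r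

theorem odd_index (Z : Subgroup C) (hZ : ∀ x : C, TwoElt x → x ∈ Z) : ¬ 2 ∣ Z.index := by
  have : Fact (Nat.Prime 2) := ⟨Nat.prime_two⟩
  obtain ⟨S⟩ : Nonempty (Sylow 2 C) := inferInstance
  intro h
  apply S.not_dvd_index
  refine h.trans (Subgroup.index_dvd_of_le ?_)
  intro x hx
  obtain ⟨n, hn⟩ := S.2 ⟨x, hx⟩
  exact hZ x ⟨n, congrArg Subtype.val hn⟩

end Central

/-- indices of centralizers by orbits -/
theorem relIndex_orbit {G : Type*} [Group G] (K : Subgroup G) (x : G) (S : Set G)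
    (hS : ∀ y, y ∈ S ↔ ∃ k ∈ K, k * x * k⁻¹ = y) :
    (K ⊓ Subgroup.centralizer {x}).relIndex K = Nat.card S := by
  rw [Subgroup.relIndex, Subgroup.index]
  let f : K ⧸ ((K ⊓ Subgroup.centralizer {x}).subgroupOf K) → S := Quotient.lift
    (fun k : K => (⟨(k : G) * x * (k : G)⁻¹, (hS _).2 ⟨k, k.2, rfl⟩⟩ : S)) (by
      intro a b hab
      have h1 := QuotientGroup.leftRel_apply.mp hab
      rw [Subgroup.mem_subgroupOf, Subgroup.mem_inf, Subgroup.mem_centralizer_iff] at h1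
      have h2 := h1.2 x rfl
      simp only [Subgroup.coe_mul, Subgroup.coe_inv] at h2
      apply Subtype.ext
      change (a : G) * x * (a : G)⁻¹ = b * x * (b : G)⁻¹
      rw [mul_inv_eq_iff_eq_mul]
      calc (a : G) * x = a * (x * ((a : G)⁻¹ * b)) * (b : G)⁻¹ * a := by group
        _ = a * ((a : G)⁻¹ * b * x) * (b : G)⁻¹ * a := by rw [h2]
        _ = _ := by group)
  refine Nat.card_congr (Equiv.ofBijective f ⟨?_, ?_⟩)
  · intro a b
    induction a using QuotientGroup.induction_on with | _ a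
    induction b using QuotientGroup.induction_on with | _ b
    intro h
    have h1 : (a : G) * x * (a : G)⁻¹ = b * x * (b : G)⁻¹ := congrArg Subtype.val h
    rw [QuotientGroup.eq, Subgroup.mem_subgroupOf, Subgroup.mem_inf, Subgroup.mem_centralizer_iff]
    refine ⟨(a⁻¹ * b).2, ?_⟩
    intro y hy
    rw [Set.mem_singleton_iff] at hy
    subst hy
    simp only [Subgroup.coe_mul, Subgroup.coe_inv]
    calc y * ((a : G)⁻¹ * b) = (a : G)⁻¹ * (a * y * (a : G)⁻¹) * b := by group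
      _ = (a : G)⁻¹ * (b * y * (b : G)⁻¹) * b := by rw [h1]
      _ = _ := by group
  · rintro ⟨y, hy⟩
    obtain ⟨k, hk, rfl⟩ := (hS y).1 hy
    exact ⟨QuotientGroup.mk ⟨k, hk⟩, rfl⟩

namespace EPre

variable {G : Type*} [Group G] {t : G} {ε s : ℕ → G} {N : Subgroup G}

/-- the centralizer of `⟨t⟩E` -/
def C (H : EPre t ε s N) : Subgroup G := Subgroup.centralizer (H.F : Set G)

/-- the normalizer of `⟨t⟩E` -/
def NF (H : EPre t ε s N) : Subgroup G := Subgroup.normalizer (H.F : Set G)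

theorem mem_C (H : EPre t ε s N) {x : G} :
    x ∈ H.C ↔ t * x = x * t ∧ ∀ i < 16, x * ε i = ε i * x := by
  rw [C, Subgroup.mem_centralizer_iff]
  constructor
  · intro h
    exact ⟨h t H.t_mem, fun i hi => (h _ ⟨i, hi, Or.inl rfl⟩).symm⟩
  · rintro ⟨h1, h2⟩ y ⟨i, hi, rfl | rfl⟩
    · exact (h2 i hi).symm
    · rw [mul_assoc, ← h2 i hi, ← mul_assoc, h1, mul_assoc]

theorem mem_NF (H : EPre t ε s N) [Finite G] {x : G} : x ∈ H.NF ↔ ∀ y ∈ H.F, x * y * x⁻¹ ∈ H.F := by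
  rw [NF, Subgroup.mem_normalizer_iff]
  constructor
  · intro h y hy
    exact (h y).1 hy
  · intro h y
    refine ⟨h y, fun hy => ?_⟩
    have h1 : Subgroup.map (MulAut.conj x).toMonoidHom H.F = H.F := by
      apply Subgroup.eq_of_le_of_card_ge
      · rintro _ ⟨z, hz, rfl⟩; exact h z hz
      · exact (Nat.card_congr (H.F.equivMapOfInjective _ (MulAut.conj x).injective).toEquiv).le
    have h2 : x * y * x⁻¹ ∈ Subgroup.map (MulAut.conj x).toMonoidHom H.F := by rw [h1]; exact hy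
    obtain ⟨z, hz, h3⟩ := h2
    have h4 : x * z * x⁻¹ = x * y * x⁻¹ := h3
    have h5 : z = y := by simpa using h4
    exact h5 ▸ hz

theorem C_le_NF [Finite G] (H : EPre t ε s N) : H.C ≤ H.NF := by
  intro x hx
  rw [H.mem_NF]
  intro y hy
  have : y * x = x * y := Subgroup.mem_centralizer_iff.1 hx y hy
  rw [← this, mul_inv_cancel_right]
  exact hy

section

variable [Finite G] (H : EPre t ε s N)
include H

theorem F_comm {x y : G} (hx : x ∈ H.F) (hy : y ∈ H.F) : x * y = y * x := by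
  have h1 := H.F_sq (H.F.mul_mem hx hy)
  have h2 := H.F_sq hx
  have h3 := H.F_sq hy
  calc x * y = (x * x) * (x * y) * (y * y) := by rw [h2, h3, one_mul, mul_one]
    _ = x * (x * (x * y) * y) * y := by group
    _ = x * ((x * x) * (y * y)) * y := by simp only [mul_assoc]
    _ = x * (x * y * (x * y)) * y := by rw [h1, h2, h3, one_mul]
    _ = (x * x) * (y * x) * (y * y) := by simp only [mul_assoc]
    _ = y * x := by rw [h2, h3, one_mul, mul_one]

theorem F_le_C : H.F ≤ H.C := by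
  intro x hx
  rw [C, Subgroup.mem_centralizer_iff]
  intro y hy
  exact H.F_comm hy hx

theorem F_le_NF : H.F ≤ H.NF := H.F_le_C.trans H.C_le_NF

theorem s_mem {k : ℕ} (hk : k < 5) : s k ∈ H.NF := by
  rw [H.mem_NF]
  intro y hy
  have := H.W_mem_F (w := [k]) (by simpa using hk) hy
  simpa using this

theorem mem_F_of_two {x : G} (hx : TwoElt x) (hC : x ∈ H.C) : x ∈ H.F := by
  obtain ⟨h1, h2⟩ := H.mem_C.1 hC
  exact H.cen x hx h1 h2

end

/-- `|C : F|` -/
noncomputable def m (H : EPre t ε s N) : ℕ := H.F.relIndex H.C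

section

variable [Finite G] (H : EPre t ε s N)
include H

theorem m_odd : Odd H.m := by
  rw [← Nat.not_even_iff_odd, even_iff_two_dvd]
  refine odd_index (H.F.subgroupOf H.C) ?_
  rintro x ⟨n, hn⟩
  rw [Subgroup.mem_subgroupOf]
  exact H.mem_F_of_two ⟨n, by simpa using congrArg Subtype.val hn⟩ x.2

theorem mul_pow_m {x y : G} (hx : x ∈ H.C) (hy : y ∈ H.C) : (x * y) ^ H.m = x ^ H.m * y ^ H.m := by
  have h1 := mul_pow_index (H.F.subgroupOf H.C) (by
    intro x hx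
    rw [Subgroup.mem_center_iff]
    intro y
    apply Subtype.ext
    rw [Subgroup.mem_subgroupOf] at hx
    exact (Subgroup.mem_centralizer_iff.1 y.2 x hx).symm) ⟨x, hx⟩ ⟨y, hy⟩
  exact congrArg Subtype.val h1

theorem pow_m_mem {x : G} (hx : x ∈ H.C) : x ^ H.m ∈ H.F := by
  apply H.mem_F_of_two _ (H.C.pow_mem hx _)
  refine ⟨5, ?_⟩
  have h1 : Nat.card (H.F.subgroupOf H.C) * (H.F.subgroupOf H.C).index = Nat.card H.C :=
    Subgroup.card_mul_index _
  have h2 : Nat.card (H.F.subgroupOf H.C) = 32 := by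
    rw [Nat.card_congr (Subgroup.subgroupOfEquivOfLe H.F_le_C).toEquiv, H.card_F]
  rw [← pow_mul, m, Subgroup.relIndex, show (2 : ℕ) ^ 5 = 32 by norm_num, mul_comm, ← h2, h1]
  exact congrArg Subtype.val (pow_card_eq_one' (x := (⟨x, hx⟩ : H.C)))

theorem pow_m_F {x : G} (hx : x ∈ H.F) : x ^ H.m = x := by
  obtain ⟨k, hk⟩ := H.m_odd
  rw [hk, pow_succ, pow_mul, pow_two, H.F_sq hx, one_pow, one_mul]

/-- decomposition `C = F × O` -/
theorem exists_dec {x : G} (hx : x ∈ H.C) : ∃ f ∈ H.F, ∃ o ∈ H.C, o ^ H.m = 1 ∧ x = f * o := by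
  have hf := H.pow_m_mem hx
  refine ⟨x ^ H.m, hf, (x ^ H.m)⁻¹ * x, H.C.mul_mem (H.C.inv_mem (H.F_le_C hf)) hx, ?_, by simp⟩
  rw [H.mul_pow_m (H.C.inv_mem (H.F_le_C hf)) hx, inv_pow, H.pow_m_F hf, inv_mul_cancel]

theorem F_inf {x : G} (hx : x ∈ H.F) (h : x ^ H.m = 1) : x = 1 := by rw [← H.pow_m_F hx, h]

end

/-- the subgroup `O(C(F))` of `N(F)` -/
def O [Finite G] (H : EPre t ε s N) : Subgroup H.NF where
  carrier := {x | (x : G) ∈ H.C ∧ (x : G) ^ H.m = 1}
  one_mem' := ⟨H.C.one_mem, by simp⟩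
  mul_mem' := by
    rintro x y ⟨h1, h2⟩ ⟨h3, h4⟩
    refine ⟨H.C.mul_mem h1 h3, ?_⟩
    rw [Subgroup.coe_mul, H.mul_pow_m h1 h3, h2, h4, one_mul]
  inv_mem' := by
    rintro x ⟨h1, h2⟩
    exact ⟨H.C.inv_mem h1, by simp [h2]⟩

theorem mem_O [Finite G] (H : EPre t ε s N) {x : H.NF} :
    x ∈ H.O ↔ (x : G) ∈ H.C ∧ (x : G) ^ H.m = 1 := Iff.rfl

instance [Finite G] (H : EPre t ε s N) : H.O.Normal := by
  constructor
  rintro x ⟨h1, h2⟩ g
  refine ⟨?_, ?_⟩
  · rw [C, Subgroup.mem_centralizer_iff] at h1 ⊢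
    intro y hy
    have h3 : (g : G)⁻¹ * y * g ∈ H.F := by
      have := (H.mem_NF.1 (H.NF.inv_mem g.2)) y hy
      simpa using this
    have h4 := h1 _ h3
    simp only [Subgroup.coe_mul, Subgroup.coe_inv]
    calc y * ((g : G) * x * (g : G)⁻¹) = g * ((g : G)⁻¹ * y * g * x) * (g : G)⁻¹ := by group
      _ = g * (x * ((g : G)⁻¹ * y * g)) * (g : G)⁻¹ := by rw [h4]
      _ = _ := by group
  · simp only [Subgroup.coe_mul, Subgroup.coe_inv]
    rw [conj_pow, h2, mul_one, mul_inv_cancel]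

/-! ### the element centralizing `E` and moving `t` -/

/-- `E` as a subgroup -/
def E (H : EPre t ε s N) : Subgroup G where
  carrier := {y | ∃ i < 16, y = ε i}
  mul_mem' := by
    rintro _ _ ⟨i, hi, rfl⟩ ⟨j, hj, rfl⟩
    exact ⟨_, xor_lt hi hj, H.mul i hi j hj⟩
  one_mem' := ⟨0, by norm_num, H.zero.symm⟩
  inv_mem' := by
    rintro _ ⟨i, hi, rfl⟩
    exact ⟨i, hi, inv_eq_of_mul_eq_one_right (H.sq hi)⟩

theorem mem_E (H : EPre t ε s N) {y : G} : y ∈ H.E ↔ ∃ i < 16, y = ε i := Iff.rfl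

theorem card_E (H : EPre t ε s N) : Nat.card H.E = 16 := by
  have h1 : Function.Bijective (fun p : Fin 16 => (⟨ε p, p, p.2, rfl⟩ : H.E)) := by
    constructor
    · intro i j h
      exact Fin.ext (H.eq_of i.2 j.2 (congrArg Subtype.val h))
    · rintro ⟨y, i, hi, rfl⟩
      exact ⟨⟨i, hi⟩, rfl⟩
  rw [← Nat.card_eq_of_bijective _ h1]
  simp

section

variable [Finite G] (H : EPre t ε s N)
include H

/-- a conjugate of `t` in `F` is some `t ε j` -/
theorem conj_t {x : G} (hx : x ∈ H.NF) : ∃ j < 16, x * t * x⁻¹ = t * ε j := by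
  obtain ⟨j, hj, h | h⟩ := H.mem_NF.1 hx t H.t_mem
  · exact absurd h (H.tE j hj x)
  · exact ⟨j, hj, h⟩

variable (hx0 : ∃ x, (∀ i < 16, ∃ j < 16, x * ε i * x⁻¹ = ε j) ∧
  ∃ k < 16, k ≠ 0 ∧ x * t * x⁻¹ = t * ε k)
include hx0

theorem exists_move {j : ℕ} (hj : j < 16) : ∃ x ∈ H.NF, x * t * x⁻¹ = t * ε j := by
  by_cases h0 : j = 0
  · exact ⟨1, H.NF.one_mem, by rw [h0, H.zero]; group⟩
  obtain ⟨x, h1, k, hk, hk0, h2⟩ := hx0
  have hx : x ∈ H.NF := by
    rw [H.mem_NF]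
    rintro y ⟨i, hi, rfl | rfl⟩
    · obtain ⟨j, hj, h3⟩ := h1 i hi
      exact ⟨j, hj, Or.inl h3⟩
    · obtain ⟨j, hj, h3⟩ := h1 i hi
      refine ⟨_, xor_lt hk hj, Or.inr ?_⟩
      rw [← H.mul k hk j hj, ← mul_assoc t, ← h2, ← h3]
      group
  have hW : ∀ w : List ℕ, (∀ k ∈ w, k < 5) → (w.map s).prod ∈ H.NF := fun w hw => by
    rw [H.mem_NF]
    exact fun y hy => H.W_mem_F hw hy
  have hWc : ∀ w : List ℕ, (∀ k ∈ w, k < 5) → ∀ i < 16,
      (w.map s).prod * (t * ε i) * ((w.map s).prod)⁻¹ = t * ε (act w i) := by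
    intro w hw i hi
    rw [← mul_assoc, ← H.W_t _ hw, mul_assoc t, H.W_eps _ hw hi]
    group
  have e1 := hWc (wv k) (wv_lt k hk) 1 (by norm_num)
  have e2 := hWc (wv j) (wv_lt j hj) 1 (by norm_num)
  rw [wv_one k hk hk0] at e1
  rw [wv_one j hj h0] at e2
  refine ⟨((wv j).map s).prod * (((wv k).map s).prod)⁻¹ * x,
    H.NF.mul_mem (H.NF.mul_mem (hW _ (wv_lt j hj)) (H.NF.inv_mem (hW _ (wv_lt k hk)))) hx, ?_⟩
  calc ((wv j).map s).prod * (((wv k).map s).prod)⁻¹ * x * t *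
        (((wv j).map s).prod * (((wv k).map s).prod)⁻¹ * x)⁻¹
      = ((wv j).map s).prod * ((((wv k).map s).prod)⁻¹ * (x * t * x⁻¹) * ((wv k).map s).prod) *
        (((wv j).map s).prod)⁻¹ := by group
    _ = ((wv j).map s).prod * (t * ε 1) * (((wv j).map s).prod)⁻¹ := by
      rw [h2, ← e1]; group
    _ = t * ε j := e2

/-- `N(F)` normalizes `E` -/
theorem NF_E {x : G} (hx : x ∈ H.NF) {i : ℕ} (hi : i < 16) : ∃ j < 16, x * ε i * x⁻¹ = ε j := by
  obtain ⟨j, hj, h | h⟩ := H.mem_NF.1 hx (ε i) ⟨i, hi, Or.inl rfl⟩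
  · exact ⟨j, hj, h⟩
  · exfalso
    obtain ⟨y, hy, h1⟩ := H.exists_move hx0 hj
    apply H.tE i hi (x⁻¹ * y)
    calc x⁻¹ * y * t * (x⁻¹ * y)⁻¹ = x⁻¹ * (y * t * y⁻¹) * x := by group
      _ = x⁻¹ * (x * ε i * x⁻¹) * x := by rw [h1, h]
      _ = ε i := by group

/-- `|N(F) : C_{N(F)}(t)| = 16` -/
theorem index_t : (H.NF ⊓ Subgroup.centralizer {t}).relIndex H.NF = 16 := by
  rw [relIndex_orbit H.NF t (Set.range fun i : Fin 16 => t * ε i)]
  · rw [Nat.card_range_of_injective]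
    · simp
    · intro i j h
      exact Fin.ext (H.eq_of i.2 j.2 (mul_left_cancel h))
  · intro y
    constructor
    · rintro ⟨i, rfl⟩
      exact H.exists_move hx0 i.2
    · rintro ⟨k, hk, rfl⟩
      obtain ⟨j, hj, h⟩ := H.conj_t hk
      exact ⟨⟨j, hj⟩, h.symm⟩

end

theorem ab_spec : ∀ k < 2, ∀ i < 12, 4 ≤ i → 4 ≤ gm k i ∧ gm k i < 12 ∧
    ∃ j < 12, 4 ≤ j ∧ gm k j = i := by decide +kernel

theorem ab_trans : ∀ i < 12, 4 ≤ i → ∃ w ∈ [[], [0], [1], [0, 1], [1, 0], [0, 1, 0], [1, 0, 1],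
    [0, 1, 0, 1]], act w 4 = i := by decide +kernel

/-- an orbit of `⟨a, b⟩` of length 8 -/
def S8 (ε : ℕ → G) : Set G := {y | ∃ i < 12, 4 ≤ i ∧ y = ε i}

/-- the stabilizer of `S8` in `N(F) ∩ C(t)` -/
def D (H : EPre t ε s N) : Subgroup G :=
  (H.NF ⊓ Subgroup.centralizer {t}) ⊓ Subgroup.normalizer (S8 ε)

theorem mem_D (H : EPre t ε s N) {x : G} : x ∈ H.D ↔ (x ∈ H.NF ∧ x * t = t * x) ∧
    ∀ y, y ∈ S8 ε ↔ x * y * x⁻¹ ∈ S8 ε := by
  rw [D, Subgroup.mem_inf, Subgroup.mem_inf, Subgroup.mem_centralizer_singleton_iff]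
  rfl

section

variable [Finite G] (H : EPre t ε s N)
include H

theorem s_mem_D {k : ℕ} (hk : k < 2) : s k ∈ H.D := by
  have hk5 : k < 5 := by omega
  rw [H.mem_D]
  refine ⟨⟨H.s_mem hk5, ?_⟩, ?_⟩
  · exact (H.Nt _ (H.sN k hk5)).symm
  · intro y
    constructor
    · rintro ⟨i, hi, hi4, rfl⟩
      obtain ⟨h1, h2, -⟩ := ab_spec k hk i hi hi4
      exact ⟨gm k i, h2, h1, by rw [H.sε k hk5 i (by omega), mul_inv_cancel_right]⟩
    · rintro ⟨i, hi, hi4, h⟩
      obtain ⟨-, -, j, hj, hj4, h3⟩ := ab_spec k hk i hi hi4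
      refine ⟨j, hj, hj4, ?_⟩
      rw [mul_inv_eq_iff_eq_mul, ← h3, ← H.sε k hk5 j (by omega)] at h
      exact mul_left_cancel h

theorem index_D : (H.D ⊓ Subgroup.centralizer {ε 4}).relIndex H.D = 8 := by
  rw [relIndex_orbit H.D (ε 4) (S8 ε)]
  · have h1 : Function.Bijective (fun p : Fin 8 => (⟨ε (4 + p), 4 + p, by omega, by omega, rfl⟩ : S8 ε)) := by
      constructor
      · intro i j h
        have := H.eq_of (i := 4 + i) (j := 4 + j) (by omega) (by omega) (congrArg Subtype.val h)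
        exact Fin.ext (by omega)
      · rintro ⟨y, i, hi, hi4, rfl⟩
        refine ⟨⟨i - 4, by omega⟩, Subtype.ext ?_⟩
        change ε (4 + (i - 4)) = ε i
        rw [Nat.add_sub_cancel' hi4]
    rw [← Nat.card_eq_of_bijective _ h1]
    simp
  · intro y
    constructor
    · rintro ⟨i, hi, hi4, rfl⟩
      obtain ⟨w, hw, h⟩ := ab_trans i hi hi4
      have hw2 : ∀ k ∈ w, k < 2 := by
        simp only [List.mem_cons, List.not_mem_nil, or_false] at hw
        rcases hw with rfl | rfl | rfl | rfl | rfl | rfl | rfl | rfl <;> simp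
      refine ⟨(w.map s).prod, ?_, ?_⟩
      · clear h hw
        induction w with
        | nil => exact H.D.one_mem
        | cons k w ih =>
          rw [List.map_cons, List.prod_cons]
          exact H.D.mul_mem (H.s_mem_D (hw2 k (by simp))) (ih fun k hk => hw2 k (by simp [hk]))
      · rw [H.W_eps w (fun k hk => by have := hw2 k hk; omega) (by norm_num), h, mul_inv_cancel_right]
    · rintro ⟨k, hk, rfl⟩
      exact ((H.mem_D.1 hk).2 _).1 ⟨4, by norm_num, by norm_num, rfl⟩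

theorem C_le_D : H.C ≤ H.D := by
  intro x hx
  have h1 := H.mem_C.1 hx
  rw [H.mem_D]
  refine ⟨⟨H.C_le_NF hx, ?_⟩, ?_⟩
  · exact h1.1.symm
  · intro y
    constructor
    · rintro ⟨i, hi, hi4, rfl⟩
      exact ⟨i, hi, hi4, by rw [h1.2 i (by omega), mul_inv_cancel_right]⟩
    · rintro ⟨i, hi, hi4, h⟩
      refine ⟨i, hi, hi4, ?_⟩
      rw [mul_inv_eq_iff_eq_mul, ← h1.2 i (by omega)] at h
      exact mul_left_cancel h

/-- some element of `N(F)` centralizes `E` and moves `t` -/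
theorem exists_centE (hx0 : ∃ x, (∀ i < 16, ∃ j < 16, x * ε i * x⁻¹ = ε j) ∧
    ∃ k < 16, k ≠ 0 ∧ x * t * x⁻¹ = t * ε k) :
    ∃ x ∈ H.NF, (∀ i < 16, x * ε i = ε i * x) ∧ ∃ k < 16, k ≠ 0 ∧ x * t * x⁻¹ = t * ε k := by
  by_contra hne
  push Not at hne
  have hle : H.NF ≤ Subgroup.normalizer (H.E : Set G) := by
    intro x hx
    rw [Subgroup.mem_normalizer_iff]
    have h1 : Subgroup.map (MulAut.conj x).toMonoidHom H.E = H.E := by
      apply Subgroup.eq_of_le_of_card_ge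
      · rintro _ ⟨z, ⟨i, hi, rfl⟩, rfl⟩
        exact H.NF_E hx0 hx hi
      · exact (Nat.card_congr (H.E.equivMapOfInjective _ (MulAut.conj x).injective).toEquiv).le
    intro y
    constructor
    · rintro ⟨i, hi, rfl⟩
      exact H.NF_E hx0 hx hi
    · intro hy
      have h2 : x * y * x⁻¹ ∈ Subgroup.map (MulAut.conj x).toMonoidHom H.E := by rw [h1]; exact hy
      obtain ⟨z, hz, h3⟩ := h2
      have h4 : x * z * x⁻¹ = x * y * x⁻¹ := h3
      have h5 : z = y := by simpa using h4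
      exact h5 ▸ hz
  set f : H.NF →* MulAut H.E := (Subgroup.normalizerMonoidHom H.E).comp (Subgroup.inclusion hle) with hf
  have hker : f.ker = H.C.subgroupOf H.NF := by
    ext x
    rw [Subgroup.mem_subgroupOf, MonoidHom.mem_ker]
    constructor
    · intro h
      have h1 : ∀ i < 16, (x : G) * ε i = ε i * x := by
        intro i hi
        have h2 := congrArg Subtype.val (DFunLike.congr_fun h ⟨ε i, i, hi, rfl⟩)
        have h3 : (x : G) * ε i * (x : G)⁻¹ = ε i := h2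
        rw [mul_inv_eq_iff_eq_mul] at h3
        exact h3
      obtain ⟨k, hk, h4⟩ := H.conj_t x.2
      have hk0 : k = 0 := by
        by_contra hk0
        exact hne x x.2 h1 k hk hk0 h4
      rw [hk0, H.zero, mul_one, mul_inv_eq_iff_eq_mul] at h4
      exact H.mem_C.2 ⟨h4.symm, h1⟩
    · intro h
      apply MulEquiv.ext
      rintro ⟨y, i, hi, rfl⟩
      apply Subtype.ext
      change (x : G) * ε i * (x : G)⁻¹ = ε i
      rw [(H.mem_C.1 h).2 i hi, mul_inv_cancel_right]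
  have h1 : H.C.relIndex H.NF ∣ Nat.card (MulAut H.E) := by
    rw [Subgroup.relIndex, ← hker, Subgroup.index_ker]
    exact Subgroup.card_subgroup_dvd_card _
  have h2 : Nat.card (MulAut H.E) = 20160 := by
    have : Fact (Nat.Prime 2) := ⟨Nat.prime_two⟩
    rw [Cfsg.Agent.Transfer.ElemAbAut.card_mulAut 2 4 _ _ (by rw [H.card_E]; norm_num)]
    · simp [Fin.prod_univ_succ]
    · rintro ⟨_, i, hi, rfl⟩ ⟨_, j, hj, rfl⟩
      apply Subtype.ext
      change ε i * ε j = ε j * ε i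
      rw [H.mul i hi j hj, H.mul j hj i hi, Nat.xor_comm]
    · rintro ⟨_, i, hi, rfl⟩
      apply Subtype.ext
      rw [pow_two]
      exact H.sq hi
  have h3 : H.C ≤ H.D ⊓ Subgroup.centralizer {ε 4} := by
    refine le_inf H.C_le_D ?_
    intro x hx
    rw [Subgroup.mem_centralizer_singleton_iff]
    exact (H.mem_C.1 hx).2 4 (by norm_num)
  have h4 := Subgroup.relIndex_mul_relIndex _ _ _ h3 inf_le_left
  have h5 := Subgroup.relIndex_mul_relIndex _ _ _ H.C_le_D (inf_le_left (a := H.NF ⊓ Subgroup.centralizer {t}))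
  have h6 := Subgroup.relIndex_mul_relIndex _ _ _ (H.C_le_D.trans
    (inf_le_left (a := H.NF ⊓ Subgroup.centralizer {t}))) inf_le_left
  rw [H.index_D] at h4
  rw [H.index_t hx0] at h6
  rw [h2, ← h6] at h1
  change H.C.relIndex H.D * _ = _ at h5
  rw [← h5, ← h4] at h1
  have h7 : 128 ∣ 20160 := by
    refine Dvd.dvd.trans ?_ h1
    exact ⟨H.C.relIndex (H.D ⊓ Subgroup.centralizer {ε 4}) *
      H.D.relIndex (H.NF ⊓ Subgroup.centralizer {t}), by ring⟩
  omega

end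

end EPre

end Cfsg.Agent.TypeM
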