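import Cfsg.Agent.TypeM.LemQ

/-!
# Matrix checks for the facts on the Lyons group
-/

set_option autoImplicit false

namespace Cfsg.Agent.TypeM.LyL

theorem gm_gm : ∀ k < 5, ∀ i < 16, gm k (gm k i) = i := by decide +kernel

theorem act_reverse (w : List ℕ) (hw : ∀ k ∈ w, k < 5) : ∀ i < 16, act w.reverse (act w i) = i := by
  induction w with
  | nil => exact fun i _ => rfl
  | cons k w ih =>
    intro i hi
    rw [List.reverse_cons, act_append, act_cons, act_cons, act_nil,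
      gm_gm k (hw k List.mem_cons_self) _ (act_lt w hi)]
    exact ih (fun j hj => hw j (List.mem_cons_of_mem _ hj)) i hi

theorem act_reverse' (w : List ℕ) (hw : ∀ k ∈ w, k < 5) : ∀ i < 16, act w (act w.reverse i) = i := by
  intro i hi
  have := act_reverse w.reverse (fun k hk => hw k (List.mem_reverse.1 hk)) i hi
  rwa [List.reverse_reverse] at this

/-- transversals of `GL₃(2)`, generated by the first four matrices -/
def r1 : ℕ → List ℕ
  | 2 => [1, 3, 0, 2]
  | 3 => [1, 3, 2]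
  | 4 => [3, 0, 2]
  | 5 => [3, 2]
  | 6 => [0, 2]
  | 7 => [2]
  | _ => []

/-- second transversal -/
def r2 : ℕ → List ℕ
  | 3 => [1, 0, 1]
  | 4 => [1]
  | 5 => [0, 1]
  | 6 => [3, 1]
  | 7 => [3, 0, 1]
  | _ => []

/-- third transversal -/
def r3 : ℕ → List ℕ
  | 5 => [0]
  | 6 => [3]
  | 7 => [3, 0]
  | _ => []

/-- the word of the matrix of `GL₃(2)` with given images of the basis -/
def wd2 (a b : ℕ) : List ℕ := r1 a ++ r2 (act (r1 a).reverse (2 * b) / 2)

/-- the word of the matrix of `GL₃(2)` with given images of the basis -/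
def wd (a b c : ℕ) : List ℕ := wd2 a b ++ r3 (act (wd2 a b).reverse (2 * c) / 2)

/-- linear independence -/
def okk (a b c : ℕ) : Bool := a != 0 && b != 0 && b != a && c != 0 && c != a && c != b && c != (a ^^^ b)

theorem wd_spec' : ∀ a < 8, ∀ b < 8, ∀ c < 8, (!(okk a b c) || ((wd a b c).all (fun k => k < 4) &&
    (act (wd a b c) 2 / 2 == a && act (wd a b c) 4 / 2 == b && act (wd a b c) 8 / 2 == c))) = true := by
  decide +kernel

theorem wd_spec {a b c : ℕ} (ha : a < 8) (hb : b < 8) (hc : c < 8) (h : okk a b c = true) :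
    (∀ k ∈ wd a b c, k < 4) ∧
    act (wd a b c) 2 / 2 = a ∧ act (wd a b c) 4 / 2 = b ∧ act (wd a b c) 8 / 2 = c := by
  have := wd_spec' a ha b hb c hc
  rw [h] at this
  simpa [and_assoc] using this

/-- the linear map with images `3, 2, p, q` of the basis -/
def nu (p q i : ℕ) : ℕ :=
  (bif i.testBit 0 then 3 else 0) ^^^ (bif i.testBit 1 then 2 else 0) ^^^ (bif i.testBit 2 then p else 0) ^^^
    (bif i.testBit 3 then q else 0)

/-- membership in the group of order 168 -/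
def memH (a b c : ℕ) : Bool :=
  okk (a / 2) (b / 2) (c / 2) && act (wd (a / 2) (b / 2) (c / 2)) 2 == a &&
    act (wd (a / 2) (b / 2) (c / 2)) 4 == b && act (wd (a / 2) (b / 2) (c / 2)) 8 == c

/-- the matrices fixing `3` in the group of order 168 -/
def w12 : List (List ℕ) := [[], [0], [3, 1], [1, 3], [3, 1, 0], [1, 3, 0], [1, 0, 1], [3, 0, 1], [0, 1, 3],
  [1, 0, 1, 0], [3, 0, 1, 0], [0, 1, 3, 0]]

/-- the condition on the product -/
def cnd (p q : ℕ) (w : List ℕ) : Bool :=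
  memH (nu p q (act w (nu p q 2))) (nu p q (act w (nu p q 4))) (nu p q (act w (nu p q 8)))

theorem chk' : ∀ p < 16, ∀ q < 16, (!(cnd p q []) || !(cnd p q [0]) || !(cnd p q [3, 1]) ||
    w12.any (fun w => p == gm 4 (act w 4) && q == gm 4 (act w 8))) = true := by
  decide +kernel

theorem chk {p q : ℕ} (hp : p < 16) (hq : q < 16) (h1 : cnd p q [] = true) (h2 : cnd p q [0] = true)
    (h3 : cnd p q [3, 1] = true) : ∃ w ∈ w12, p = gm 4 (act w 4) ∧ q = gm 4 (act w 8) := by
  have := chk' p hp q hq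
  rw [h1, h2, h3] at this
  rw [Bool.not_true, Bool.false_or, Bool.false_or, Bool.false_or, List.any_eq_true] at this
  obtain ⟨w, hw, h⟩ := this
  rw [Bool.and_eq_true, beq_iff_eq, beq_iff_eq] at h
  exact ⟨w, hw, h⟩

theorem w12_lt : ∀ w ∈ w12, (∀ k ∈ w, k < 4) ∧ act w 1 = 1 ∧ act w 3 = 3 ∧ act w 2 = 2 := by decide +kernel

/-- words moving `j` to `3` -/
def tw : ℕ → List ℕ
  | 2 => [1]
  | 4 => [2, 3, 0, 1]
  | 5 => [2, 1, 3, 0, 1]
  | 6 => [2, 3, 1]
  | 7 => [2, 3, 2]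
  | 8 => [2, 3, 0]
  | 9 => [2, 1, 3, 0]
  | 10 => [2, 1, 3]
  | 11 => [2, 3]
  | 12 => [2, 0]
  | 13 => [2, 1, 0]
  | 14 => [2]
  | 15 => [2, 1]
  | _ => []

theorem tw_spec : ∀ j < 16, (∀ k ∈ tw j, k < 4) := by decide +kernel

theorem tw_three : ∀ j < 16, j ≠ 0 → j ≠ 1 → act (tw j) j = 3 := by decide +kernel

/-- action of the cosets of `V` -/
def cl : ℕ → List ℕ
  | 1 => [1, 0, 1]
  | 2 => [0]
  | 3 => [1, 0, 1, 0]
  | _ => []

theorem cl_one : ∀ p < 16, (∀ i < 16, act (cl (p / 4)) i = act [4, 1, 0, 1, 4] i) → p / 4 = 1 := by decide +kernel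

theorem cl_two : ∀ p < 16, (∀ i < 16, act (cl (p / 4)) i = act [4, 0, 4] i) → p / 4 = 3 := by decide +kernel

theorem w12_cl : ∀ w ∈ w12, gm 4 (act w 4) / 4 = 1 → gm 4 (act w 8) / 4 = 3 →
    ∃ e < 4, ∀ i < 16, act w i = act (cl e) i := by decide +kernel

end Cfsg.Agent.TypeM.LyL
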