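import Cfsg.Agent.TypeM.LFacts
import Cfsg.Agent.TypeM.LFactsLyB
import Cfsg.Agent.TypeM.WThreeAbs

/-!
# The 2-group `2⁴ : D₈` given by two elementary abelian groups of order 16 and an involution

(piece [WA] of Theorem W, S1739)
-/

set_option autoImplicit false

namespace Cfsg.Agent.TypeM

open Subgroup Cfsg.Agent.TypeM.LyL

/-- `{μ i}` and `{ν i}` are elementary abelian groups of order 16 with intersection `{μ i | i < 4}`, `ν j` acts on
`{μ i}` by a matrix which depends on `j / 4`, the involution `β` acts on both groups by the matrix `gm 1`. -/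
structure SRel {G : Type*} [Group G] (μ ν : ℕ → G) (β : G) : Prop where
  mul : ∀ i < 16, ∀ j < 16, μ i * μ j = μ (i ^^^ j)
  inj : ∀ i < 16, μ i = 1 → i = 0
  mul' : ∀ i < 16, ∀ j < 16, ν i * ν j = ν (i ^^^ j)
  inj' : ∀ i < 16, ν i = 1 → i = 0
  low : ∀ i < 4, ν i = μ i
  nact : ∀ j < 16, ∀ i < 16, ν j * μ i = μ (act (cl (j / 4)) i) * ν j
  ββ : β * β = 1
  βμ : ∀ i < 16, β * μ i = μ (gm 1 i) * β
  βν : ∀ i < 16, β * ν i = ν (gm 1 i) * β

namespace SRel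

theorem cl_lt : ∀ c < 4, ∀ k ∈ cl c, k < 5 := by decide

theorem div_lt : ∀ i < 16, i / 4 < 4 := by decide

theorem four_mul_lt : ∀ i < 4, 4 * i < 16 := by decide

theorem four_mul_div : ∀ i < 4, 4 * i / 4 = i := by decide

theorem split : ∀ i < 16, i = (4 * (i / 4)) ^^^ (i % 4) := by decide

theorem four_xor : ∀ i < 4, ∀ j < 4, (4 * i) ^^^ (4 * j) = 4 * (i ^^^ j) := by decide

theorem xor_lt4 : ∀ i < 4, ∀ j < 4, i ^^^ j < 4 := by decide

theorem clxor : ∀ a < 4, ∀ b < 4, ∀ i < 16, act (cl a) (act (cl b) i) = act (cl (a ^^^ b)) i := by decide +kernel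

theorem cl_xor : ∀ c < 4, ∀ i < 16, ∀ j < 16, act (cl c) (i ^^^ j) = act (cl c) i ^^^ act (cl c) j := by decide +kernel

theorem cl_com : ∀ c < 4, ∀ i < 16, i ^^^ act (cl c) i < 4 := by decide +kernel

theorem cl_fix : ∀ c < 4, c ≠ 0 → ∀ i < 16, act (cl c) i = i → i < 4 := by decide +kernel

theorem cl_lowfix : ∀ c < 4, ∀ i < 4, act (cl c) i = i := by decide +kernel

theorem cl_inj : ∀ a < 4, ∀ b < 4, (∀ i < 16, act (cl a) i = act (cl b) i) → a = b := by decide +kernel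

theorem gm1_low : ∀ i < 4, gm 1 i < 4 := by decide +kernel

theorem gm1_split : ∀ i < 4, gm 1 (4 * i) = 4 * (gm 1 (4 * i) / 4) := by decide +kernel

theorem gm1_not_cl : ∀ c < 4, ∃ i < 16, act (cl c) (gm 1 i) ≠ i := by decide +kernel

section

variable {G : Type*} [Group G] {μ ν : ℕ → G} {β : G} (H : SRel μ ν β)
include H

theorem zero : μ 0 = 1 := by
  have := H.mul 0 (by norm_num) 0 (by norm_num)
  simpa using this

theorem zero' : ν 0 = 1 := by
  have := H.mul' 0 (by norm_num) 0 (by norm_num)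
  simpa using this

theorem sq {i : ℕ} (hi : i < 16) : μ i * μ i = 1 := by rw [H.mul i hi i hi, Nat.xor_self, H.zero]

theorem sq' {i : ℕ} (hi : i < 16) : ν i * ν i = 1 := by rw [H.mul' i hi i hi, Nat.xor_self, H.zero']

theorem inv {i : ℕ} (hi : i < 16) : (μ i)⁻¹ = μ i := inv_eq_of_mul_eq_one_left (H.sq hi)

theorem inv' {i : ℕ} (hi : i < 16) : (ν i)⁻¹ = ν i := inv_eq_of_mul_eq_one_left (H.sq' hi)

theorem invβ : β⁻¹ = β := inv_eq_of_mul_eq_one_left H.ββ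

theorem comm {i j : ℕ} (hi : i < 16) (hj : j < 16) : μ i * μ j = μ j * μ i := by
  rw [H.mul i hi j hj, H.mul j hj i hi, Nat.xor_comm]

theorem comm' {i j : ℕ} (hi : i < 16) (hj : j < 16) : ν i * ν j = ν j * ν i := by
  rw [H.mul' i hi j hj, H.mul' j hj i hi, Nat.xor_comm]

theorem eq_of {i j : ℕ} (hi : i < 16) (hj : j < 16) (h : μ i = μ j) : i = j := by
  have h1 : μ (i ^^^ j) = 1 := by rw [← H.mul i hi j hj, h, H.sq hj]
  exact Nat.xor_eq_zero_iff.1 (H.inj _ (xor_lt hi hj) h1)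

theorem eq_of' {i j : ℕ} (hi : i < 16) (hj : j < 16) (h : ν i = ν j) : i = j := by
  have h1 : ν (i ^^^ j) = 1 := by rw [← H.mul' i hi j hj, h, H.sq' hj]
  exact Nat.xor_eq_zero_iff.1 (H.inj' _ (xor_lt hi hj) h1)

/-- `ν i` as product of its class representative and an element of `V` -/
theorem nu_split {i : ℕ} (hi : i < 16) : ν i = μ (i % 4) * ν (4 * (i / 4)) := by
  have h1 : i % 4 < 4 := Nat.mod_lt _ (by norm_num)
  rw [← H.low _ h1, H.comm' (by omega) (four_mul_lt _ (div_lt i hi)), H.mul' _ (four_mul_lt _ (div_lt i hi)) _ (by omega),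
    ← split i hi]

/-- action of `μ i` on `ν j` -/
theorem nact' {i j : ℕ} (hi : i < 16) (hj : j < 16) :
    μ i * ν j = ν (j ^^^ (i ^^^ act (cl (j / 4)) i)) * μ i := by
  have hc : j / 4 < 4 := div_lt j hj
  have hlt : i ^^^ act (cl (j / 4)) i < 4 := cl_com _ hc i hi
  have h1 := H.nact j hj i hi
  have h2 : μ (act (cl (j / 4)) i) * (μ (act (cl (j / 4)) i) * ν j) = ν j := by
    rw [← mul_assoc, H.sq (act_lt _ hi), one_mul]
  rw [← H.mul' j hj _ (by omega), H.low _ hlt, H.nact j hj _ (by omega), cl_lowfix _ hc _ hlt, ← H.mul i hi _ (act_lt _ hi),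
    mul_assoc, mul_assoc, h1, h2]

/-- multiplication in `{μ i * ν (4 j)}` -/
theorem mulP {i i' j j' : ℕ} (hi : i < 16) (hi' : i' < 16) (hj : j < 4) (hj' : j' < 4) :
    (μ i * ν (4 * j)) * (μ i' * ν (4 * j')) = μ (i ^^^ act (cl j) i') * ν (4 * (j ^^^ j')) := by
  have h1 := H.nact (4 * j) (four_mul_lt j hj) i' hi'
  rw [four_mul_div j hj] at h1
  calc (μ i * ν (4 * j)) * (μ i' * ν (4 * j')) = μ i * (ν (4 * j) * μ i') * ν (4 * j') := by group
    _ = (μ i * μ (act (cl j) i')) * (ν (4 * j) * ν (4 * j')) := by rw [h1]; group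
    _ = _ := by rw [H.mul i hi _ (act_lt _ hi'), H.mul' _ (four_mul_lt j hj) _ (four_mul_lt j' hj'), four_xor j hj j' hj']

/-- `β` on `{μ i * ν (4 j)}` -/
theorem conjP {i j : ℕ} (hi : i < 16) (hj : j < 4) :
    β * (μ i * ν (4 * j)) = (μ (gm 1 i) * ν (4 * (gm 1 (4 * j) / 4))) * β := by
  rw [← mul_assoc, H.βμ i hi, mul_assoc, H.βν _ (four_mul_lt j hj), ← gm1_split j hj, mul_assoc]

theorem uniqP {i i' j j' : ℕ} (hi : i < 16) (hi' : i' < 16) (hj : j < 4) (hj' : j' < 4)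
    (h : μ i * ν (4 * j) = μ i' * ν (4 * j')) : i = i' ∧ j = j' := by
  have hj4 := four_mul_lt j hj
  have hj4' := four_mul_lt j' hj'
  have h1 : ν (4 * (j ^^^ j')) = μ (i ^^^ i') := by
    rw [← four_xor j hj j' hj', ← H.mul' _ hj4 _ hj4', ← H.mul i hi i' hi']
    calc ν (4 * j) * ν (4 * j') = (μ i)⁻¹ * (μ i * ν (4 * j)) * ν (4 * j') := by group
      _ = (μ i)⁻¹ * μ i' * (ν (4 * j') * ν (4 * j')) := by rw [h]; group
      _ = μ i * μ i' := by rw [H.inv hi, H.sq' hj4', mul_one]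
  have hlt : j ^^^ j' < 4 := xor_lt4 j hj j' hj'
  have h2 : j ^^^ j' = 0 := by
    refine (cl_inj _ hlt 0 (by norm_num) fun k hk => ?_)
    have h3 := H.nact _ (four_mul_lt _ hlt) k hk
    rw [four_mul_div _ hlt, h1, H.comm (xor_lt hi hi') hk] at h3
    have h4 := mul_right_cancel h3
    rw [← H.eq_of hk (act_lt _ hk) h4]
    rfl
  have h3 : j = j' := Nat.xor_eq_zero_iff.1 h2
  refine ⟨?_, h3⟩
  subst h3
  exact H.eq_of hi hi' (mul_right_cancel h)

end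

/-- the group `P = {μ i * ν j}` of order 64 -/
def P {G : Type*} [Group G] {μ ν : ℕ → G} {β : G} (H : SRel μ ν β) : Subgroup G where
  carrier := {x | ∃ i < 16, ∃ j < 4, x = μ i * ν (4 * j)}
  one_mem' := ⟨0, by norm_num, 0, by norm_num, by rw [mul_zero, H.zero, H.zero', one_mul]⟩
  mul_mem' := by
    rintro _ _ ⟨i, hi, j, hj, rfl⟩ ⟨i', hi', j', hj', rfl⟩
    exact ⟨_, xor_lt hi (act_lt _ hi'), _, xor_lt4 j hj j' hj', H.mulP hi hi' hj hj'⟩
  inv_mem' := by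
    rintro _ ⟨i, hi, j, hj, rfl⟩
    refine ⟨act (cl j) i, act_lt _ hi, j, hj, ?_⟩
    have h1 := H.nact (4 * j) (four_mul_lt j hj) i hi
    rw [four_mul_div j hj] at h1
    rw [mul_inv_rev, H.inv hi, H.inv' (four_mul_lt j hj), h1]

section

variable {G : Type*} [Group G] {μ ν : ℕ → G} {β : G} (H : SRel μ ν β)

theorem mem_P {x : G} : x ∈ H.P ↔ ∃ i < 16, ∃ j < 4, x = μ i * ν (4 * j) := Iff.rfl

theorem mu_mem_P {i : ℕ} (hi : i < 16) : μ i ∈ H.P :=
  ⟨i, hi, 0, by norm_num, by rw [mul_zero, H.zero', mul_one]⟩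

theorem nu_mem_P {i : ℕ} (hi : i < 16) : ν i ∈ H.P := by
  rw [H.nu_split hi]
  exact ⟨i % 4, by omega, i / 4, div_lt i hi, rfl⟩

theorem card_P : Nat.card H.P = 64 := by
  have h1 : Function.Bijective (fun p : Fin 16 × Fin 4 => (⟨μ p.1 * ν (4 * p.2), p.1, p.1.2, p.2, p.2.2, rfl⟩ : H.P)) := by
    constructor
    · rintro ⟨i, j⟩ ⟨i', j'⟩ h
      obtain ⟨h1, h2⟩ := H.uniqP i.2 i'.2 j.2 j'.2 (congrArg Subtype.val h)
      exact Prod.ext (Fin.ext h1) (Fin.ext h2)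
    · rintro ⟨_, i, hi, j, hj, rfl⟩
      exact ⟨(⟨i, hi⟩, ⟨j, hj⟩), rfl⟩
  rw [← Nat.card_congr (Equiv.ofBijective _ h1)]
  simp

theorem β_P : ∀ x ∈ H.P, β * x * β⁻¹ ∈ H.P := by
  rintro _ ⟨i, hi, j, hj, rfl⟩
  rw [H.conjP hi hj, mul_inv_cancel_right]
  exact ⟨_, gm_lt 1 i, _, div_lt _ (gm_lt 1 _), rfl⟩

theorem β_not_mem : β ∉ H.P := by
  rintro ⟨i, hi, j, hj, h⟩
  obtain ⟨k, hk, hk'⟩ := gm1_not_cl j hj
  have h1 := H.βμ k hk
  have h2 : μ i * ν (4 * j) * μ k = μ (act (cl j) k) * (μ i * ν (4 * j)) := by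
    have h3 := H.nact (4 * j) (four_mul_lt j hj) k hk
    rw [four_mul_div j hj] at h3
    rw [mul_assoc, h3, ← mul_assoc, H.comm hi (act_lt _ hk), mul_assoc]
  rw [h] at h1
  rw [h1] at h2
  have h4 := H.eq_of (gm_lt 1 k) (act_lt _ hk) (mul_right_cancel h2)
  apply hk'
  rw [h4, clxor j hj j hj k hk, Nat.xor_self]
  rfl

end

/-- the group `{μ i * ν j * β ^ k}` of order 128 -/
def S {G : Type*} [Group G] {μ ν : ℕ → G} {β : G} (H : SRel μ ν β) : Subgroup G := WThreeAbs.Qs H.P β H.ββ H.β_P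

section

variable {G : Type*} [Group G] {μ ν : ℕ → G} {β : G} (H : SRel μ ν β)

theorem mem_S {x : G} : x ∈ H.S ↔ x ∈ H.P ∨ x * β ∈ H.P := WThreeAbs.mem_Qs

theorem P_le_S : H.P ≤ H.S := fun _ hx => H.mem_S.2 (Or.inl hx)

theorem β_mem : β ∈ H.S := H.mem_S.2 (Or.inr (by rw [H.ββ]; exact H.P.one_mem))

theorem mu_mem {i : ℕ} (hi : i < 16) : μ i ∈ H.S := H.P_le_S (H.mu_mem_P hi)

theorem nu_mem {i : ℕ} (hi : i < 16) : ν i ∈ H.S := H.P_le_S (H.nu_mem_P hi)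

theorem card_S : Nat.card H.S = 128 := by
  rw [WThreeAbs.card_double (H := H.P) (K := H.S) (s := β) H.P_le_S H.β_mem H.β_not_mem (fun x hx => H.mem_S.1 hx), H.card_P]

theorem isPGroup_S : IsPGroup 2 H.S := IsPGroup.of_card (n := 7) (by rw [H.card_S]; norm_num)

theorem isPGroup_P : IsPGroup 2 H.P := IsPGroup.of_card (n := 6) (by rw [H.card_P]; norm_num)

theorem S_le {A : Subgroup G} (h1 : ∀ i < 16, μ i ∈ A) (h2 : ∀ i < 16, ν i ∈ A) (h3 : β ∈ A) : H.S ≤ A := by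
  intro x hx
  rcases H.mem_S.1 hx with h | h
  · obtain ⟨i, hi, j, hj, rfl⟩ := h
    exact mul_mem (h1 i hi) (h2 _ (four_mul_lt j hj))
  · obtain ⟨i, hi, j, hj, h⟩ := h
    have h4 : x = μ i * ν (4 * j) * β := by rw [← h, mul_assoc, H.ββ, mul_one]
    rw [h4]
    exact mul_mem (mul_mem (h1 i hi) (h2 _ (four_mul_lt j hj))) h3

/-- every element of `S` acts on `{μ i}` and on `{ν i}` by words -/
theorem exists_word {x : G} (hx : x ∈ H.S) : ∃ w : List ℕ, (∀ k ∈ w, k < 5) ∧ ∀ i < 16, x * μ i * x⁻¹ = μ (act w i) := by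
  have hP : ∀ x ∈ H.P, ∃ w : List ℕ, (∀ k ∈ w, k < 5) ∧ ∀ i < 16, x * μ i * x⁻¹ = μ (act w i) := by
    rintro _ ⟨i, hi, j, hj, rfl⟩
    refine ⟨cl j, cl_lt j hj, fun k hk => ?_⟩
    have h3 := H.nact (4 * j) (four_mul_lt j hj) k hk
    rw [four_mul_div j hj] at h3
    calc μ i * ν (4 * j) * μ k * (μ i * ν (4 * j))⁻¹ = μ i * (ν (4 * j) * μ k) * (ν (4 * j))⁻¹ * (μ i)⁻¹ := by group
      _ = μ i * μ (act (cl j) k) * (μ i)⁻¹ := by rw [h3]; group
      _ = _ := by rw [H.comm hi (act_lt _ hk), mul_inv_cancel_right]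
  rcases H.mem_S.1 hx with h | h
  · exact hP x h
  · obtain ⟨w, hw, h1⟩ := hP _ h
    refine ⟨w ++ [1], ?_, fun i hi => ?_⟩
    · intro k hk
      rw [List.mem_append] at hk
      rcases hk with hk | hk
      · exact hw k hk
      · rw [List.mem_singleton] at hk
        omega
    · rw [act_append, act_cons, act_nil, ← h1 _ (gm_lt 1 i)]
      have h4 : β * μ i * β = μ (gm 1 i) := by rw [H.βμ i hi, mul_assoc, H.ββ, mul_one]
      rw [← h4, mul_inv_rev, H.invβ]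
      have h5 : ∀ a b : G, a * β * (β * b * β) * (β * a⁻¹) = a * (β * β) * b * (β * β) * a⁻¹ := fun a b => by group
      rw [h5, H.ββ, mul_one, mul_one]

theorem conj_nu {x : G} (hx : x ∈ H.S) {k : ℕ} (hk : k < 16) : ∃ l < 16, x * ν k * x⁻¹ = ν l := by
  have hP : ∀ x ∈ H.P, ∀ k < 16, ∃ l < 16, x * ν k * x⁻¹ = ν l := by
    rintro _ ⟨i, hi, j, hj, rfl⟩ k hk
    refine ⟨k ^^^ (i ^^^ act (cl (k / 4)) i), xor_lt hk (xor_lt hi (act_lt _ hi)), ?_⟩
    calc μ i * ν (4 * j) * ν k * (μ i * ν (4 * j))⁻¹ = μ i * (ν (4 * j) * ν k) * (ν (4 * j))⁻¹ * (μ i)⁻¹ := by group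
      _ = μ i * ν k * (μ i)⁻¹ := by rw [H.comm' (four_mul_lt j hj) hk]; group
      _ = _ := by rw [H.nact' hi hk, mul_inv_cancel_right]
  rcases H.mem_S.1 hx with h | h
  · exact hP x h k hk
  · obtain ⟨l, hl, h1⟩ := hP _ h (gm 1 k) (gm_lt 1 k)
    refine ⟨l, hl, ?_⟩
    rw [← h1]
    have h4 : β * ν k * β = ν (gm 1 k) := by rw [H.βν k hk, mul_assoc, H.ββ, mul_one]
    rw [← h4, mul_inv_rev, H.invβ]
    have h5 : ∀ a b : G, a * β * (β * b * β) * (β * a⁻¹) = a * (β * β) * b * (β * β) * a⁻¹ := fun a b => by group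
    rw [h5, H.ββ, mul_one, mul_one]

/-- Transport by a homomorphism which is injective on `S`. -/
theorem map {G' : Type*} [Group G'] (f : G → G') (hf : ∀ x ∈ H.S, ∀ y ∈ H.S, f (x * y) = f x * f y)
    (hinj : ∀ x ∈ H.S, f x = 1 → x = 1) : SRel (fun i => f (μ i)) (fun i => f (ν i)) (f β) where
  mul i hi j hj := by rw [← hf _ (H.mu_mem hi) _ (H.mu_mem hj), H.mul i hi j hj]
  inj i hi h := H.inj i hi (hinj _ (H.mu_mem hi) h)
  mul' i hi j hj := by rw [← hf _ (H.nu_mem hi) _ (H.nu_mem hj), H.mul' i hi j hj]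
  inj' i hi h := H.inj' i hi (hinj _ (H.nu_mem hi) h)
  low i hi := by rw [H.low i hi]
  nact j hj i hi := by
    rw [← hf _ (H.nu_mem hj) _ (H.mu_mem hi), H.nact j hj i hi, hf _ (H.mu_mem (act_lt _ hi)) _ (H.nu_mem hj)]
  ββ := by
    have h1 : f 1 = 1 := by
      have := hf 1 (one_mem _) 1 (one_mem _)
      rw [mul_one] at this
      exact mul_eq_left.1 this.symm
    rw [← hf _ H.β_mem _ H.β_mem, H.ββ, h1]
  βμ i hi := by rw [← hf _ H.β_mem _ (H.mu_mem hi), H.βμ i hi, hf _ (H.mu_mem (gm_lt 1 i)) _ H.β_mem]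
  βν i hi := by rw [← hf _ H.β_mem _ (H.nu_mem hi), H.βν i hi, hf _ (H.nu_mem (gm_lt 1 i)) _ H.β_mem]

end

end SRel

end Cfsg.Agent.TypeM
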