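import Cfsg.Agent.TypeM.WFiveB
import Cfsg.Agent.Wreath.EndBasic
import Cfsg.Agent.Wreath.DThreeGlue
import Cfsg.Agent.Wreath.FactsRel

/-!
# The input of the end of the wreath pattern

(piece [WA] of Theorem W, S1739)
-/

set_option autoImplicit false

namespace Cfsg.Agent.TypeM.InpOf

open Subgroup Cfsg.Agent.TypeM.LyL Cfsg.Agent.TypeM.SRel Cfsg.Agent.TypeM.OddF Cfsg.Agent.TypeM.Glue
open Cfsg.Agent.TypeM.GlueW Cfsg.Agent.TypeM.AMap Cfsg.Agent.TypeM.Cmp Cfsg.Agent.TypeM.WAOut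
open Cfsg.Agent.TypeM.WFour Cfsg.Agent.TypeM.WFiveB

theorem map_odd {G : Type*} [Group G] {k : G} (hk : k ∈ closure {g : G | Odd (orderOf g)}) (f : G →* ℤˣ) : f k = 1 := by
  have h1 : closure {g : G | Odd (orderOf g)} ≤ f.ker := by
    rw [closure_le]
    intro g hg
    have hg' : Odd (orderOf g) := hg
    have h2 : Odd (orderOf (f g)) := Odd.of_dvd_nat hg' (orderOf_map_dvd f g)
    have h3 : f g * f g = 1 := Int.units_mul_self _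
    exact eq_one_of_sq h3 h2
  exact h1 hk

variable {G : Type*} [Group G] {t : G} {K : Subgroup G} {e e' : ℕ → G} {b : G} {μ σ μ' σ' ν σ₂ : ℕ → G} {β : G}
  {O R A O' O₂ R₂ : Subgroup G}

/-- (W5) -/
theorem exists_w5 [Finite G] (h : WOut t K e e' b μ σ μ' σ' ν σ₂ β O R A O' O₂ R₂) {a : G} (ha : a ∈ A)
    (haa : a * a = 1) (ha1 : a ≠ 1) :
    ∃ n ∈ closure {g : G | Odd (orderOf g)}, (∀ c ∈ A, n * (t * c * t⁻¹) = (t * c * t⁻¹) * n) ∧ n * a * n⁻¹ = μ 1 := by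
  obtain ⟨n, hn, hnA, -, j, hj, h1⟩ := exists_w5b h ha haa
  have hj0 : j ≠ 0 := by
    rintro rfl
    apply ha1
    calc a = n⁻¹ * (n * a * n⁻¹) * n := by group
      _ = 1 := by rw [h1, h.srel.zero']; group
  obtain ⟨w, hw, h2⟩ := trans' hj (i' := 1) (by norm_num) hj0 (by norm_num)
  obtain ⟨k, hk, hkA, hkw⟩ := h.exists_k₂ hw
  refine ⟨k * n, mul_mem hk hn, fun c hc => ?_, ?_⟩
  · have c1 : Commute n (t * c * t⁻¹) := hnA c hc
    have c2 : Commute k (t * c * t⁻¹) := hkA c hc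
    exact (c2.mul_left c1).eq
  · calc k * n * a * (k * n)⁻¹ = k * (n * a * n⁻¹) * k⁻¹ := by group
      _ = _ := by rw [h1, hkw j hj, h2, h.srel.low 1 (by norm_num)]

/-- (W1) -/
theorem w1 [Finite G] (h : WOut t K e e' b μ σ μ' σ' ν σ₂ β O R A O' O₂ R₂) (f : G →* ℤˣ) : ∀ a ∈ A, f a = 1 := by
  have h1 : ∀ i < 16, i ≠ 0 → f (μ i) = f (μ 1) := by
    intro i hi hi0
    obtain ⟨w, hw, h2⟩ := trans' (i := 1) (by norm_num) hi (by norm_num) hi0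
    obtain ⟨k, hk, -, hkw⟩ := h.exists_k₁ hw
    have h3 := hkw 1 (by norm_num)
    rw [h2] at h3
    rw [← h3, map_mul, map_mul, map_odd hk, one_mul, map_inv, map_odd hk, inv_one, mul_one]
  have h2 : f (μ 1) = 1 := by
    have h3 : f (μ 3) = f (μ 1) * f (μ 2) := by
      rw [← map_mul, h.srel.mul 1 (by norm_num) 2 (by norm_num)]
      rfl
    rw [h1 3 (by norm_num) (by norm_num), h1 2 (by norm_num) (by norm_num)] at h3
    exact (left_eq_mul.1 h3)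
  intro a ha
  have h3 : A ≤ f.ker := by
    refine (h.hyp.hA.le.trans h.hyp.hR.gen).trans ?_
    rw [closure_le]
    rintro x (⟨-, hx⟩ | ⟨i, hi, rfl⟩)
    · exact map_odd (subset_closure hx) f
    · show f (μ i) = 1
      by_cases hi0 : i = 0
      · rw [hi0, h.srel.zero, map_one]
      · rw [h1 i hi hi0, h2]
  exact h3 ha

/-- **The input of the end of the wreath pattern.** -/
theorem inp [Finite G] (h : WOut t K e e' b μ σ μ' σ' ν σ₂ β O R A O' O₂ R₂) {M₁ M₂ : Subgroup G}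
    (hM₁ : ∀ x, x ∈ M₁ ↔ ∃ i < 16, x = μ i) (F : Wreath.AData.Facts A M₁ M₂ (μ 1))
    (w7 : ∀ T : Subgroup G, IsPGroup 2 T → (∀ x ∈ T, x * t = t * x) → Nat.card T ≤ 2 ^ 9) :
    Wreath.End.Inp t (μ 1) A M₁ M₂ := by
  have hti : t = t⁻¹ := (h.hyp.tinv).symm
  refine ⟨F, h.t_ne, h.tt, ?_, ?_, fun f => w1 h f, ?_, ?_, ?_, w7⟩
  · intro a ha b hb
    have := h.comm a ha b hb
    rwa [← hti] at this
  · intro a ha h1
    refine h.disj a ha ?_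
    rwa [← hti]
  · intro g hg h1 h2
    obtain ⟨i, hi, j, hj, h3⟩ := h.cen₁ hg (fun i hi => h1 _ ((hM₁ _).2 ⟨i, hi, rfl⟩)) (fun i hi => by
      have := h2 _ ((hM₁ _).2 ⟨i, hi, rfl⟩)
      rwa [← hti])
    refine ⟨_, (hM₁ _).2 ⟨i, hi, rfl⟩, _, (hM₁ _).2 ⟨j, hj, rfl⟩, ?_⟩
    rw [← hti] at h3
    exact h3
  · intro a ha haa ha1
    obtain ⟨n, hn, hnA, h1⟩ := exists_w5 h ha haa ha1
    refine ⟨n, fun c hc => ?_, h1, fun f => map_odd hn f⟩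
    have := hnA c hc
    rwa [← hti] at this
  · intro T hT hTt hTe
    refine h.card_le₁ T hT hTt fun x hx i hi => ?_
    obtain ⟨n, hn, h1⟩ := hTe x hx _ ((hM₁ _).2 ⟨i, hi, rfl⟩)
    obtain ⟨j, hj, rfl⟩ := (hM₁ _).1 hn
    refine ⟨j, hj, ?_⟩
    rw [← hti]
    exact h1

/-- **The further input for (D3).** -/
theorem inp3 [Finite G] (h : WOut t K e e' b μ σ μ' σ' ν σ₂ β O R A O' O₂ R₂) {M₁ M₂ : Subgroup G}
    (hM₁ : ∀ x, x ∈ M₁ ↔ ∃ i < 16, x = μ i) (hM₂ : ∀ x, x ∈ M₂ ↔ ∃ i < 16, x = ν i) :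
    Wreath.DThreeGlue.Inp3 t (μ 1) A M₁ M₂ := by
  have hti : t = t⁻¹ := (h.hyp.tinv).symm
  refine ⟨?_, ?_, ?_, ?_⟩
  · intro a ha b hb a' ha' b' hb' ha1 hb1 ha1' hb1' hab hab'
    obtain ⟨i, hi, rfl⟩ := (hM₁ _).1 ha
    obtain ⟨j, hj, rfl⟩ := (hM₁ _).1 hb
    obtain ⟨i', hi', rfl⟩ := (hM₁ _).1 ha'
    obtain ⟨j', hj', rfl⟩ := (hM₁ _).1 hb'
    obtain ⟨w, hw, h1, h2⟩ := two_trans' hi hj hi' hj' (fun h0 => ha1 (by rw [h0, h.srel.zero]))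
      (fun h0 => hb1 (by rw [h0, h.srel.zero])) (fun h0 => ha1' (by rw [h0, h.srel.zero]))
      (fun h0 => hb1' (by rw [h0, h.srel.zero])) (fun h0 => hab (by rw [h0])) (fun h0 => hab' (by rw [h0]))
    obtain ⟨k, -, hkA, hkw⟩ := h.exists_k₁ hw
    refine ⟨k, fun c hc => ?_, fun m hm => ?_, ?_, ?_⟩
    · have := hkA c hc
      rwa [← hti] at this
    · obtain ⟨l, hl, rfl⟩ := (hM₁ _).1 hm
      exact (hM₁ _).2 ⟨_, act_lt w hl, hkw l hl⟩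
    · rw [hkw i hi, h1]
    · rw [hkw j hj, h2]
  · intro a ha b hb a' ha' b' hb' ha1 hb1 ha1' hb1' hab hab'
    obtain ⟨i, hi, rfl⟩ := (hM₂ _).1 ha
    obtain ⟨j, hj, rfl⟩ := (hM₂ _).1 hb
    obtain ⟨i', hi', rfl⟩ := (hM₂ _).1 ha'
    obtain ⟨j', hj', rfl⟩ := (hM₂ _).1 hb'
    obtain ⟨w, hw, h1, h2⟩ := two_trans' hi hj hi' hj' (fun h0 => ha1 (by rw [h0, h.srel.zero']))
      (fun h0 => hb1 (by rw [h0, h.srel.zero'])) (fun h0 => ha1' (by rw [h0, h.srel.zero']))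
      (fun h0 => hb1' (by rw [h0, h.srel.zero'])) (fun h0 => hab (by rw [h0])) (fun h0 => hab' (by rw [h0]))
    obtain ⟨k, -, hkA, hkw⟩ := h.exists_k₂ hw
    refine ⟨k, fun c hc => ?_, fun m hm => ?_, ?_, ?_⟩
    · have := hkA c hc
      rwa [← hti] at this
    · obtain ⟨l, hl, rfl⟩ := (hM₂ _).1 hm
      exact (hM₂ _).2 ⟨_, act_lt w hl, hkw l hl⟩
    · rw [hkw i hi, h1]
    · rw [hkw j hj, h2]
  · intro a ha haa
    obtain ⟨n, -, hnA, hnM, j, hj, h1⟩ := exists_w5b h ha haa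
    refine ⟨n, fun c hc => ?_, fun m hm => ?_, ?_⟩
    · have := hnA c hc
      rwa [← hti] at this
    · obtain ⟨i, hi, rfl⟩ := (hM₁ _).1 hm
      exact (hM₁ _).2 (hnM i hi)
    · exact (hM₂ _).2 ⟨j, hj, h1⟩
  · obtain ⟨k, -, hkA, h1, h2, h3⟩ := h.exists_k₉
    refine ⟨k, fun c hc => ?_, fun m hm => ?_, fun m hm => ?_, h3⟩
    · have := hkA c hc
      rwa [← hti] at this
    · obtain ⟨i, hi, rfl⟩ := (hM₁ _).1 hm
      exact (hM₁ _).2 (h1 i hi)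
    · obtain ⟨i, hi, rfl⟩ := (hM₂ _).1 hm
      exact (hM₂ _).2 (h2 i hi)

/-- the group `{f i}` -/
def gp16 (f : ℕ → G) (mul : ∀ i < 16, ∀ j < 16, f i * f j = f (i ^^^ j)) : Subgroup G where
  carrier := {x | ∃ i < 16, x = f i}
  one_mem' := ⟨0, by norm_num, by
    have := mul 0 (by norm_num) 0 (by norm_num)
    rw [Nat.xor_self] at this
    exact (mul_eq_left.1 this).symm⟩
  mul_mem' := by
    rintro _ _ ⟨i, hi, rfl⟩ ⟨j, hj, rfl⟩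
    exact ⟨_, xor_lt hi hj, mul i hi j hj⟩
  inv_mem' := by
    rintro _ ⟨i, hi, rfl⟩
    refine ⟨i, hi, inv_eq_of_mul_eq_one_left ?_⟩
    have h0 := mul 0 (by norm_num) 0 (by norm_num)
    rw [Nat.xor_self] at h0
    rw [mul i hi i hi, Nat.xor_self]
    exact mul_eq_left.1 h0

/-- **[WA], final form.** -/
theorem exists_inp [Finite G] (D : BaseS.Data t K e e' b μ σ μ' σ')
    (w7 : ∀ T : Subgroup G, IsPGroup 2 T → (∀ x ∈ T, x * t = t * x) → Nat.card T ≤ 2 ^ 9) :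
    ∃ (u : G) (A M₁ M₂ : Subgroup G), Wreath.End.Inp t u A M₁ M₂ ∧ Wreath.DThreeGlue.Inp3 t u A M₁ M₂ ∧
      ∀ a ∈ A, Wreath.End.pr t a a ∈ D.S.S := by
  obtain ⟨ν, σ₂, β, O, R, A, O', O₂, R₂, h⟩ := exists_wout D
  have hM₁ : ∀ x, x ∈ gp16 μ h.srel.mul ↔ ∃ i < 16, x = μ i := fun x => Iff.rfl
  have hM₂ : ∀ x, x ∈ gp16 ν h.srel.mul' ↔ ∃ i < 16, x = ν i := fun x => Iff.rfl
  refine ⟨μ 1, A, _, _, inp h hM₁ (Wreath.FactsRel.facts_of_rel h.srel (fun i hi => h.mu hi) (fun i hi => h.nu hi)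
    h.hyp.betaA h.card hM₁ hM₂) w7, inp3 h hM₁ hM₂, fun a ha => ?_⟩
  have h1 := h.hyp.hA.back a ha
  have h2 : Wreath.End.pr t a a = a * (t * a * t⁻¹) := by rw [h.hyp.tinv]; rfl
  rw [h2]
  exact h1

end Cfsg.Agent.TypeM.InpOf
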