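import Cfsg.Agent.TypeM.ResidCQ

/-!
# The group `R` (bridge [WA](E) of Theorem W of S1739)

`M = {mu i}`, `M^t = {mu i * e i}`; `R` is generated by `M` and the elements of odd order normalising
`M` and centralising `M^t`.
-/

set_option autoImplicit false
set_option linter.unusedSectionVars false

namespace Cfsg.Agent.TypeM

open Subgroup WThree

open scoped commutatorElement

variable {G : Type*} [Group G] {t : G} {e mu s : ℕ → G}

/-- The data of [WA](E). -/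
structure Resid (t : G) (e mu : ℕ → G) (O R : Subgroup G) : Prop where
  memO : ∀ x, x ∈ O ↔ Odd (orderOf x) ∧ (∀ i < 16, x * e i = e i * x) ∧
    (∀ i < 16, x * mu i = mu i * x)
  cenQ : ∀ x, (∀ i < 16, x * e i = e i * x) → (∀ i < 16, x * mu i = mu i * x) →
    ∃ i < 16, ∃ j < 16, ∃ o ∈ O, x = e i * mu j * o
  le : ∀ r ∈ R, (∀ i < 16, ∃ j < 16, r * mu i * r⁻¹ = mu j) ∧
    ∀ i < 16, r * (mu i * e i) = mu i * e i * r
  odd : ∀ g, Odd (orderOf g) → (∀ i < 16, ∃ j < 16, g * mu i * g⁻¹ = mu j) →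
    (∀ i < 16, g * (mu i * e i) = mu i * e i * g) → g ∈ R
  gen : R ≤ closure ({g | g ∈ R ∧ Odd (orderOf g)} ∪ {x | ∃ i < 16, x = mu i})
  mu_mem : ∀ i < 16, mu i ∈ R
  comm : ∀ r ∈ R, ∀ r' ∈ R, ⁅r, t * r' * t⁻¹⁆ ∈ O
  cen : ∀ r ∈ R, (∀ i < 16, r * mu i = mu i * r) → ∃ i < 16, ∃ o ∈ O, r = mu i * o
  word : ∀ w : List ℕ, (∀ k ∈ w, k < 5) → ∃ r ∈ R, r ∈ closure {g | g ∈ R ∧ Odd (orderOf g)} ∧
    ∀ i < 16, r * mu i * r⁻¹ = mu (act w i)

namespace ResidP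

/-- `M = {mu i}` -/
def MM (H : QConf t e mu s) : Subgroup G where
  carrier := {x | ∃ i < 16, x = mu i}
  mul_mem' := by
    rintro _ _ ⟨i, hi, rfl⟩ ⟨j, hj, rfl⟩
    exact ⟨i ^^^ j, xor_lt hi hj, H.μmul i hi j hj⟩
  one_mem' := ⟨0, by norm_num, (mu_zero H).symm⟩
  inv_mem' := by
    rintro _ ⟨i, hi, rfl⟩
    exact ⟨i, hi, inv_eq_of_mul_eq_one_right (mu_sq H hi)⟩

theorem mem_MM {H : QConf t e mu s} {x : G} : x ∈ MM H ↔ ∃ i < 16, x = mu i := Iff.rfl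

theorem mu_inj (H : QConf t e mu s) {i j : ℕ} (hi : i < 16) (hj : j < 16) (h : mu i = mu j) :
    i = j := by
  have h1 : mu (i ^^^ j) = 1 := by rw [← H.μmul i hi j hj, h, mu_sq H hj]
  have h2 := (H.inj 0 (by norm_num) _ (xor_lt hi hj) (by rw [eps_zero H, one_mul, h1])).2
  exact Nat.xor_eq_zero_iff.mp h2

/-- `M^t = {mu i * e i}` -/
def NN (H : QConf t e mu s) : Subgroup G where
  carrier := {x | ∃ i < 16, x = mu i * e i}
  mul_mem' := by
    rintro _ _ ⟨i, hi, rfl⟩ ⟨j, hj, rfl⟩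
    refine ⟨i ^^^ j, xor_lt hi hj, ?_⟩
    calc mu i * e i * (mu j * e j) = mu i * (e i * mu j) * e j := by group
      _ = (mu i * mu j) * (e i * e j) := by rw [H.εμ i hi j hj]; group
      _ = _ := by rw [H.μmul i hi j hj, H.εmul i hi j hj]
  one_mem' := ⟨0, by norm_num, by rw [mu_zero H, eps_zero H, one_mul]⟩
  inv_mem' := by
    rintro _ ⟨i, hi, rfl⟩
    refine ⟨i, hi, inv_eq_of_mul_eq_one_right ?_⟩
    calc mu i * e i * (mu i * e i) = mu i * (e i * mu i) * e i := by group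
      _ = (mu i * mu i) * (e i * e i) := by rw [H.εμ i hi i hi]; group
      _ = _ := by rw [mu_sq H hi, eps_sq H hi, one_mul]

theorem mem_NN {H : QConf t e mu s} {x : G} : x ∈ NN H ↔ ∃ i < 16, x = mu i * e i := Iff.rfl

/-- `t (mu i) t⁻¹ = mu i * e i` -/
theorem t_mu (H : QConf t e mu s) {i : ℕ} (hi : i < 16) : t * mu i * t⁻¹ = mu i * e i := by
  rw [H.tμ i hi, mul_inv_cancel_right]

theorem t_nu (H : QConf t e mu s) {i : ℕ} (hi : i < 16) : t * (mu i * e i) * t⁻¹ = mu i := by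
  rw [← mul_assoc, H.tμ i hi, mul_assoc (mu i * e i), H.tε i hi]
  calc mu i * e i * (e i * t) * t⁻¹ = mu i * (e i * e i) := by group
    _ = mu i := by rw [eps_sq H hi, mul_one]

theorem MM_le_QQ (H : QConf t e mu s) : MM H ≤ QQ H := by
  rintro _ ⟨i, hi, rfl⟩
  exact mu_mem H hi

theorem NN_le_QQ (H : QConf t e mu s) : NN H ≤ QQ H := by
  rintro _ ⟨i, hi, rfl⟩
  exact (QQ H).mul_mem (mu_mem H hi) (eps_mem H hi)

theorem MM_NN (H : QConf t e mu s) {x : G} (h1 : x ∈ MM H) (h2 : x ∈ NN H) : x = 1 := by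
  obtain ⟨i, hi, rfl⟩ := h1
  obtain ⟨j, hj, h⟩ := h2
  have h3 : e j * mu (i ^^^ j) = 1 := by
    calc e j * mu (i ^^^ j) = e j * (mu j * mu i) := by
          rw [H.μmul j hj i hi, Nat.xor_comm]
      _ = (mu j * e j) * (mu j * e j) := by rw [h, ← mul_assoc, ← mul_assoc, H.εμ j hj j hj]; group
      _ = mu j * (e j * mu j) * e j := by group
      _ = (mu j * mu j) * (e j * e j) := by rw [H.εμ j hj j hj]; group
      _ = 1 := by rw [mu_sq H hj, eps_sq H hj, one_mul]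
  have h4 := (H.inj j hj _ (xor_lt hi hj) h3)
  have h5 : i = j := Nat.xor_eq_zero_iff.mp h4.2
  rw [h5, h4.1, mu_zero H]

/-- `Q = M^t M` -/
theorem form (H : QConf t e mu s) {i j : ℕ} (hi : i < 16) (hj : j < 16) :
    e i * mu j = mu i * e i * mu (i ^^^ j) := by
  calc e i * mu j = e i * (mu i * mu i) * mu j := by rw [mu_sq H hi, mul_one]
    _ = (e i * mu i) * (mu i * mu j) := by group
    _ = _ := by rw [H.εμ i hi i hi, H.μmul i hi j hj]

variable [Finite G]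

/-- `N(M) ∩ C(M^t)` -/
def DD (H : QConf t e mu s) : Subgroup G := normalizer (MM H : Set G) ⊓ centralizer (NN H : Set G)

theorem mem_DD {H : QConf t e mu s} {x : G} : x ∈ DD H ↔
    (∀ i < 16, ∃ j < 16, x * mu i * x⁻¹ = mu j) ∧ ∀ i < 16, x * (mu i * e i) = mu i * e i * x := by
  rw [DD, mem_inf, mem_centralizer_iff]
  constructor
  · rintro ⟨h1, h2⟩
    refine ⟨fun i hi => ?_, fun i hi => (h2 _ ⟨i, hi, rfl⟩).symm⟩
    exact (mem_normalizer_iff.mp h1 (mu i)).mp ⟨i, hi, rfl⟩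
  · rintro ⟨h1, h2⟩
    refine ⟨?_, ?_⟩
    · refine WThreeAbs.mem_norm ?_
      rintro _ ⟨i, hi, rfl⟩
      exact h1 i hi
    · rintro _ ⟨i, hi, rfl⟩
      exact (h2 i hi).symm

/-- the conjugate by `t` -/
theorem mem_DDt {H : QConf t e mu s} {x : G} (hx : t * x * t⁻¹ ∈ DD H) :
    (∀ i < 16, ∃ j < 16, x * (mu i * e i) * x⁻¹ = mu j * e j) ∧ ∀ i < 16, x * mu i = mu i * x := by
  obtain ⟨h1, h2⟩ := mem_DD.mp hx
  have ht : ∀ a b : G, t * a * t⁻¹ = t * b * t⁻¹ → a = b := fun a b h =>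
    mul_left_cancel (mul_right_cancel h)
  constructor
  · intro i hi
    obtain ⟨j, hj, h⟩ := h1 i hi
    refine ⟨j, hj, ht _ _ ?_⟩
    rw [t_nu H hj, ← h]
    calc t * (x * (mu i * e i) * x⁻¹) * t⁻¹ =
          t * x * t⁻¹ * (t * (mu i * e i) * t⁻¹) * (t * x * t⁻¹)⁻¹ := by group
      _ = _ := by rw [t_nu H hi]
  · intro i hi
    apply ht
    have h := h2 i hi
    rw [← t_mu H hi] at h
    calc t * (x * mu i) * t⁻¹ = t * x * t⁻¹ * (t * mu i * t⁻¹) := by group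
      _ = _ := by rw [h]; group

theorem t_sq (H : QConf t e mu s) : t⁻¹ = t := inv_eq_of_mul_eq_one_right H.tt

theorem tt_conj (H : QConf t e mu s) (x : G) : t * (t * x * t⁻¹) * t⁻¹ = x := by
  have h : t * (t * x * t⁻¹) * t⁻¹ = (t * t) * x * (t * t)⁻¹ := by group
  rw [h, H.tt]; group

/-- The core. -/
structure Core (H : QConf t e mu s) (O : Subgroup G) : Prop where
  memO : ∀ x, x ∈ O ↔ Odd (orderOf x) ∧ (∀ i < 16, x * e i = e i * x) ∧
    (∀ i < 16, x * mu i = mu i * x)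
  cenQ : ∀ x, (∀ i < 16, x * e i = e i * x) → (∀ i < 16, x * mu i = mu i * x) →
    ∃ i < 16, ∃ j < 16, ∃ o ∈ O, x = e i * mu j * o

variable {H : QConf t e mu s} {O : Subgroup G}

/-- an element centralising `M` and `M^t` -/
theorem Core.dec (C : Core H O) {x : G} (h1 : ∀ i < 16, x * mu i = mu i * x)
    (h2 : ∀ i < 16, x * (mu i * e i) = mu i * e i * x) :
    ∃ n ∈ NN H, ∃ m ∈ MM H, ∃ o ∈ O, x = n * m * o := by
  have h3 : ∀ i < 16, x * e i = e i * x := by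
    intro i hi
    have h := h2 i hi
    rw [← mul_assoc, h1 i hi, mul_assoc, mul_assoc] at h
    exact mul_left_cancel h
  obtain ⟨i, hi, j, hj, o, ho, rfl⟩ := C.cenQ x h3 h1
  exact ⟨_, ⟨i, hi, rfl⟩, _, ⟨_, xor_lt hi hj, rfl⟩, o, ho, by rw [form H hi hj]⟩

theorem Core.comm (C : Core H O) {x o : G} (hx : x ∈ QQ H) (ho : o ∈ O) : o * x = x * o := by
  obtain ⟨_, h1, h2⟩ := (C.memO o).mp ho
  obtain ⟨i, hi, j, hj, rfl⟩ := hx
  rw [← mul_assoc, h1 i hi, mul_assoc, h2 j hj, mul_assoc]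

theorem Core.inf (C : Core H O) {x : G} (hx : x ∈ QQ H) (ho : x ∈ O) : x = 1 := by
  obtain ⟨h, _⟩ := (C.memO x).mp ho
  have h2 : orderOf x ∣ 2 := orderOf_dvd_of_pow_eq_one (by rw [pow_two, QQ_sq H x hx])
  have h3 : orderOf x = 1 := by
    rcases (Nat.dvd_prime Nat.prime_two).mp h2 with h3 | h3
    · exact h3
    · rw [h3] at h
      exact absurd h (by decide)
  exact orderOf_eq_one_iff.mp h3

/-- An element normalising `Q` normalises `O`. -/
theorem Core.norm (C : Core H O) {x : G} (hx : ∀ y ∈ QQ H, x * y * x⁻¹ ∈ QQ H) :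
    x ∈ normalizer (O : Set G) := by
  have hx' : ∀ y ∈ QQ H, x⁻¹ * y * x ∈ QQ H := by
    have h1 : x ∈ normalizer (QQ H : Set G) := WThreeAbs.mem_norm hx
    have h2 := inv_mem h1
    intro y hy
    have := (mem_normalizer_iff.mp h2 y).mp hy
    rwa [inv_inv] at this
  refine WThreeAbs.mem_norm ?_
  intro o ho
  have key : ∀ y ∈ QQ H, x * o * x⁻¹ * y = y * (x * o * x⁻¹) := by
    intro y hy
    have h := C.comm (hx' y hy) ho
    calc x * o * x⁻¹ * y = x * (o * (x⁻¹ * y * x)) * x⁻¹ := by group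
      _ = _ := by rw [h]; group
  rw [C.memO]
  refine ⟨?_, fun i hi => key _ (eps_mem H hi), fun i hi => key _ (mu_mem H hi)⟩
  have h1 : orderOf (x * o * x⁻¹) = orderOf o := by
    rw [← MulAut.conj_apply, MulEquiv.orderOf_eq]
  rw [h1]
  exact ((C.memO o).mp ho).1

theorem DD_norm {x : G} (hx : x ∈ DD H) : ∀ y ∈ QQ H, x * y * x⁻¹ ∈ QQ H := by
  obtain ⟨h1, h2⟩ := mem_DD.mp hx
  rintro _ ⟨i, hi, j, hj, rfl⟩
  obtain ⟨k, hk, h⟩ := h1 _ (xor_lt hi hj)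
  have h3 : x * (e i * mu j) * x⁻¹ = mu i * e i * mu k := by
    calc x * (e i * mu j) * x⁻¹ = (x * (mu i * e i)) * x⁻¹ * (x * mu (i ^^^ j) * x⁻¹) := by
          rw [form H hi hj]; group
      _ = _ := by rw [h, h2 i hi]; group
  rw [h3]
  exact (QQ H).mul_mem ((QQ H).mul_mem (mu_mem H hi) (eps_mem H hi)) (mu_mem H hk)

theorem t_norm (x : G) (hx : x ∈ QQ H) : t * x * t⁻¹ ∈ QQ H := QQ_t H x hx

/-- **(E1)**, first half. -/
theorem Core.e1 (C : Core H O) {g c : G} (hg : g ∈ DD H) (ho : Odd (orderOf g))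
    (hc : t * c * t⁻¹ ∈ DD H) : ∃ m ∈ MM H, ∃ o ∈ O, g⁻¹ * (c * g * c⁻¹) = m * o := by
  obtain ⟨g1, g2⟩ := mem_DD.mp hg
  obtain ⟨c1, c2⟩ := mem_DDt hc
  have hcN : ∀ n ∈ NN H, c⁻¹ * n * c ∈ NN H := by
    have h1 : c ∈ normalizer (NN H : Set G) := by
      refine WThreeAbs.mem_norm ?_
      rintro _ ⟨i, hi, rfl⟩
      exact c1 i hi
    intro n hn
    have := (mem_normalizer_iff.mp (inv_mem h1) n).mp hn
    rwa [inv_inv] at this
  have g2' : ∀ n ∈ NN H, g * n = n * g := by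
    rintro _ ⟨i, hi, rfl⟩
    exact g2 i hi
  have c2' : ∀ m ∈ MM H, c * m = m * c := by
    rintro _ ⟨i, hi, rfl⟩
    exact c2 i hi
  have gM : ∀ m ∈ MM H, g * m * g⁻¹ ∈ MM H := by
    rintro _ ⟨i, hi, rfl⟩
    exact g1 i hi
  -- `k` centralises `M`
  have k1 : ∀ m ∈ MM H, g⁻¹ * (c * g * c⁻¹) * m = m * (g⁻¹ * (c * g * c⁻¹)) := by
    intro m hm
    have e1 := c2' m hm
    have e2 := c2' _ (gM m hm)
    have e3 : c⁻¹ * m = m * c⁻¹ := by
      calc c⁻¹ * m = c⁻¹ * (m * c) * c⁻¹ := by group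
        _ = m * c⁻¹ := by rw [← e1]; group
    calc g⁻¹ * (c * g * c⁻¹) * m = g⁻¹ * c * g * (c⁻¹ * m) := by group
      _ = g⁻¹ * (c * (g * m * g⁻¹)) * g * c⁻¹ := by rw [e3]; group
      _ = _ := by rw [e2]; group
  have k2 : ∀ n ∈ NN H, g⁻¹ * (c * g * c⁻¹) * n = n * (g⁻¹ * (c * g * c⁻¹)) := by
    intro n hn
    have e1 := g2' _ (hcN n hn)
    have e2 := g2' n hn
    have e3 : g⁻¹ * n = n * g⁻¹ := by
      calc g⁻¹ * n = g⁻¹ * (n * g) * g⁻¹ := by group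
        _ = n * g⁻¹ := by rw [← e2]; group
    calc g⁻¹ * (c * g * c⁻¹) * n = g⁻¹ * c * (g * (c⁻¹ * n * c)) * c⁻¹ := by group
      _ = (g⁻¹ * n) * (c * g * c⁻¹) := by rw [e1]; group
      _ = _ := by rw [e3]; group
  obtain ⟨n, hn, m, hm, o, ho', hk⟩ := C.dec (fun i hi => k1 _ ⟨i, hi, rfl⟩)
    (fun i hi => k2 _ ⟨i, hi, rfl⟩)
  -- `(g m o)^l` is in `g^l M O`
  have hMO : ∀ l : ℕ, ∃ m' ∈ MM H, ∃ o' ∈ O, (g * (m * o)) ^ l = g ^ l * (m' * o') := by
    intro l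
    induction l with
    | zero => exact ⟨1, one_mem _, 1, one_mem _, by simp⟩
    | succ l ih =>
      obtain ⟨m', hm', o', ho'', h⟩ := ih
      have hgi : g⁻¹ * m' * g ∈ MM H := by
        have h1 : g ∈ normalizer (MM H : Set G) := WThreeAbs.mem_norm gM
        have := (mem_normalizer_iff.mp (inv_mem h1) m').mp hm'
        rwa [inv_inv] at this
      have hgo : g⁻¹ * o' * g ∈ O := by
        have h1 : g ∈ normalizer (O : Set G) := C.norm (DD_norm hg)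
        have := (mem_normalizer_iff.mp (inv_mem h1) o').mp ho''
        rwa [inv_inv] at this
      refine ⟨_, (MM H).mul_mem hgi hm, _, O.mul_mem hgo ho', ?_⟩
      have hc1 := C.comm (MM_le_QQ H hm) hgo
      calc (g * (m * o)) ^ (l + 1) = g ^ l * (m' * o') * (g * (m * o)) := by rw [pow_succ, h]
        _ = g ^ (l + 1) * ((g⁻¹ * m' * g) * ((g⁻¹ * o' * g) * m) * o) := by
            rw [pow_succ]; group
        _ = _ := by rw [hc1]; group
  obtain ⟨m', hm', o', ho'', h⟩ := hMO (orderOf g)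
  rw [pow_orderOf_eq_one, one_mul] at h
  have hnQ := NN_le_QQ H hn
  have hcg : c * g * c⁻¹ = n * (g * (m * o)) := by
    calc c * g * c⁻¹ = g * (g⁻¹ * (c * g * c⁻¹)) := by group
      _ = (g * n) * (m * o) := by rw [hk]; group
      _ = _ := by rw [g2' n hn]; group
  have hcomm : Commute n (g * (m * o)) := by
    have e1 := g2' n hn
    have e2 := QQ_comm H n hnQ m (MM_le_QQ H hm)
    have e3 := C.comm hnQ ho'
    show n * (g * (m * o)) = g * (m * o) * n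
    calc n * (g * (m * o)) = (n * g) * m * o := by group
      _ = g * (n * m) * o := by rw [← e1]; group
      _ = g * m * (n * o) := by rw [e2]; group
      _ = _ := by rw [← e3]; group
  have h1 : (c * g * c⁻¹) ^ orderOf g = 1 := by
    rw [conj_pow, pow_orderOf_eq_one, mul_one, mul_inv_cancel]
  have hn1 : n ^ orderOf g = n := by
    obtain ⟨q, hq⟩ := ho
    rw [hq, pow_succ, pow_mul, pow_two, QQ_sq H n hnQ, one_pow, one_mul]
  rw [hcg, hcomm.mul_pow, hn1, h] at h1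
  -- `n m' o' = 1`
  have h2 : o' = 1 := by
    refine C.inf ?_ ho''
    have : o' = (n * m')⁻¹ := by
      rw [eq_inv_iff_mul_eq_one]
      have hc2 := C.comm ((QQ H).mul_mem hnQ (MM_le_QQ H hm')) ho''
      rw [hc2, mul_assoc]
      exact h1
    rw [this]
    exact (QQ H).inv_mem ((QQ H).mul_mem hnQ (MM_le_QQ H hm'))
  rw [h2, mul_one] at h1
  have h3 : n = 1 := by
    refine MM_NN H ?_ hn
    rw [eq_inv_of_mul_eq_one_left h1]
    exact (MM H).inv_mem hm'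
  exact ⟨m, hm, o, ho', by rw [hk, h3, one_mul]⟩

/-- **(E1)** -/
theorem Core.e1' (C : Core H O) {g c : G} (hg : g ∈ DD H) (ho : Odd (orderOf g))
    (hc : t * c * t⁻¹ ∈ DD H) (hoc : Odd (orderOf c)) : g⁻¹ * (c * g * c⁻¹) ∈ O := by
  obtain ⟨m, hm, o, ho1, h1⟩ := C.e1 hg ho hc
  have horder : ∀ x y : G, orderOf (x * y * x⁻¹) = orderOf y := fun x y => by
    rw [← MulAut.conj_apply, MulEquiv.orderOf_eq]
  obtain ⟨m2, hm2, o2, ho2, h2⟩ := C.e1 (g := t * c * t⁻¹) (c := t * g⁻¹ * t⁻¹) hc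
    (by rw [horder]; exact hoc) (by rw [tt_conj H]; exact inv_mem hg)
  -- `h2 : (t c t⁻¹)⁻¹ (t g⁻¹ t⁻¹) (t c t⁻¹) (t g t⁻¹) = m2 o2`
  have h3 : g⁻¹ * (c * g * c⁻¹) = (c * (t * m2 * t⁻¹) * c⁻¹) * (c * (t * o2 * t⁻¹) * c⁻¹) := by
    have e1 : g⁻¹ * (c * g * c⁻¹) =
        c * (t * ((t * c * t⁻¹)⁻¹ * (t * g⁻¹ * t⁻¹ * (t * c * t⁻¹) * (t * g⁻¹ * t⁻¹)⁻¹)) * t⁻¹) * c⁻¹ := by
      have : t * ((t * c * t⁻¹)⁻¹ * (t * g⁻¹ * t⁻¹ * (t * c * t⁻¹) * (t * g⁻¹ * t⁻¹)⁻¹)) * t⁻¹ =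
          t * (t * (c⁻¹ * g⁻¹ * c * g) * t⁻¹) * t⁻¹ := by group
      rw [this, tt_conj H]; group
    rw [e1, h2]; group
  obtain ⟨c1, c2⟩ := mem_DDt hc
  have hn : c * (t * m2 * t⁻¹) * c⁻¹ ∈ NN H := by
    obtain ⟨i, hi, rfl⟩ := hm2
    rw [t_mu H hi]
    exact c1 i hi
  have hcQ : ∀ y ∈ QQ H, c * y * c⁻¹ ∈ QQ H := by
    intro y hy
    have e1 := DD_norm hc _ (QQ_t H y hy)
    have e2 := QQ_t H _ e1
    have e3 : t * (t * c * t⁻¹ * (t * y * t⁻¹) * (t * c * t⁻¹)⁻¹) * t⁻¹ =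
        t * (t * (c * y * c⁻¹) * t⁻¹) * t⁻¹ := by group
    rwa [e3, tt_conj H] at e2
  have htO : t ∈ normalizer (O : Set G) := C.norm (QQ_t H)
  have hcO : c ∈ normalizer (O : Set G) := C.norm hcQ
  have ho3 : c * (t * o2 * t⁻¹) * c⁻¹ ∈ O :=
    (mem_normalizer_iff.mp hcO _).mp ((mem_normalizer_iff.mp htO _).mp ho2)
  have h4 : m * o = (c * (t * m2 * t⁻¹) * c⁻¹) * (c * (t * o2 * t⁻¹) * c⁻¹) := by rw [← h1, h3]
  have h5 : m = 1 := by
    have h6 : (c * (t * m2 * t⁻¹) * c⁻¹)⁻¹ * m = (c * (t * o2 * t⁻¹) * c⁻¹) * o⁻¹ := by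
      calc (c * (t * m2 * t⁻¹) * c⁻¹)⁻¹ * m = (c * (t * m2 * t⁻¹) * c⁻¹)⁻¹ * (m * o) * o⁻¹ := by group
        _ = _ := by rw [h4]; group
    have h7 : (c * (t * m2 * t⁻¹) * c⁻¹)⁻¹ * m = 1 := by
      refine C.inf ((QQ H).mul_mem ((QQ H).inv_mem (NN_le_QQ H hn)) (MM_le_QQ H hm)) ?_
      rw [h6]
      exact O.mul_mem ho3 (O.inv_mem ho1)
    refine MM_NN H hm ?_
    rw [inv_mul_eq_one] at h7
    rw [← h7]; exact hn
  rw [h1, h5, one_mul]
  exact ho1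

/-- commutators of generated subgroups -/
theorem comm_closure {O : Subgroup G} {A B : Set G} (hA : A ⊆ (normalizer (O : Set G) : Set G))
    (hB : B ⊆ (normalizer (O : Set G) : Set G)) (h : ∀ a ∈ A, ∀ b ∈ B, ⁅a, b⁆ ∈ O) :
    ∀ a ∈ closure A, ∀ b ∈ closure B, ⁅a, b⁆ ∈ O := by
  have nm : ∀ x ∈ normalizer (O : Set G), ∀ o ∈ O, x * o * x⁻¹ ∈ O := fun x hx o ho =>
    (mem_normalizer_iff.mp hx o).mp ho
  have key : ∀ b ∈ normalizer (O : Set G), ∀ S : Set G, S ⊆ (normalizer (O : Set G) : Set G) →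
      (∀ a ∈ S, ⁅a, b⁆ ∈ O) → ∀ a ∈ closure S, ⁅a, b⁆ ∈ O := by
    intro b hb S hS h a ha
    have hle : closure S ≤ normalizer (O : Set G) := (closure_le _).mpr hS
    induction ha using closure_induction with
    | mem x hx => exact h x hx
    | one => rw [commutatorElement_def]; simp
    | mul x y hx hy h1 h2 =>
      have e : ⁅x * y, b⁆ = (x * ⁅y, b⁆ * x⁻¹) * ⁅x, b⁆ := by
        simp only [commutatorElement_def]; group
      rw [e]
      exact O.mul_mem (nm x (hle hx) _ h2) h1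
    | inv x hx h1 =>
      have e : ⁅x⁻¹, b⁆ = x⁻¹ * ⁅x, b⁆⁻¹ * x⁻¹⁻¹ := by
        simp only [commutatorElement_def]; group
      rw [e]
      exact nm _ (inv_mem (hle hx)) _ (O.inv_mem h1)
  have hleA : closure A ≤ normalizer (O : Set G) := (closure_le _).mpr hA
  intro a ha b hb
  rw [← inv_mem_iff, commutatorElement_inv]
  refine key a (hleA ha) B hB (fun b hb => ?_) b hb
  rw [← inv_mem_iff, commutatorElement_inv]
  exact key b (hB hb) A hA (fun a ha => h a ha b hb) a ha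

/-- the generators of `R` -/
def gens (H : QConf t e mu s) : Set G :=
  {g | g ∈ DD H ∧ Odd (orderOf g)} ∪ (MM H : Set G)

theorem gens_le : closure (gens H) ≤ DD H := by
  rw [closure_le]
  rintro x (⟨hx, _⟩ | hx)
  · exact hx
  · obtain ⟨i, hi, rfl⟩ := hx
    refine mem_DD.mpr ⟨fun j hj => ⟨j, hj, ?_⟩, fun j hj => ?_⟩
    · rw [QQ_comm H _ (mu_mem H hi) _ (mu_mem H hj), mul_inv_cancel_right]
    · exact QQ_comm H _ (mu_mem H hi) _ ((QQ H).mul_mem (mu_mem H hj) (eps_mem H hj))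

theorem Core.t_normO (C : Core H O) : t ∈ normalizer (O : Set G) := C.norm (QQ_t H)

/-- `[R, R^t] ≤ O` -/
theorem Core.commR (C : Core H O) : ∀ r ∈ closure (gens H), ∀ r' ∈ closure (gens H),
    ⁅r, t * r' * t⁻¹⁆ ∈ O := by
  intro r hr r' hr'
  have h1 : t * r' * t⁻¹ ∈ closure ((fun x => t * x * t⁻¹) '' gens H) := by
    have h := mem_map_of_mem (MulAut.conj t).toMonoidHom hr'
    rw [MonoidHom.map_closure] at h
    exact h
  have hN : ∀ x ∈ DD H, x ∈ normalizer (O : Set G) := fun x hx => C.norm (DD_norm hx)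
  refine comm_closure (A := gens H) (B := (fun x => t * x * t⁻¹) '' gens H)
    (fun x hx => hN x (gens_le (subset_closure hx))) ?_ ?_ r hr _ h1
  · rintro _ ⟨x, hx, rfl⟩
    exact mul_mem (mul_mem C.t_normO (hN x (gens_le (subset_closure hx)))) (inv_mem C.t_normO)
  · rintro x hx _ ⟨y, hy, rfl⟩
    have hxD := gens_le (subset_closure hx)
    have hyD := gens_le (subset_closure hy)
    show ⁅x, t * y * t⁻¹⁆ ∈ O
    have hyD' : t * (t * y * t⁻¹) * t⁻¹ ∈ DD H := by rw [tt_conj H]; exact hyD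
    rcases hx with ⟨_, hx⟩ | hx
    · rcases hy with ⟨_, hy⟩ | hy
      · have h := C.e1' (g := x⁻¹) (c := t * y * t⁻¹) (inv_mem hxD) (by rwa [orderOf_inv]) hyD'
          (by rw [← MulAut.conj_apply, MulEquiv.orderOf_eq]; exact hy)
        rw [inv_inv] at h
        have e : ⁅x, t * y * t⁻¹⁆ = x * (t * y * t⁻¹ * x⁻¹ * (t * y * t⁻¹)⁻¹) := by
          rw [commutatorElement_def]; group
        rw [e]; exact h
      · obtain ⟨i, hi, rfl⟩ := hy
        rw [t_mu H hi, commutatorElement_eq_one_iff_mul_comm.mpr ((mem_DD.mp hxD).2 i hi)]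
        exact one_mem _
    · obtain ⟨i, hi, rfl⟩ := hx
      rw [commutatorElement_eq_one_iff_mul_comm.mpr ((mem_DDt hyD').2 i hi).symm]
      exact one_mem _

theorem exists_D (hd : GlueW.Dbl e mu) (w : List ℕ) (hw : ∀ k ∈ w, k < 5) :
    ∃ d ∈ DD H, ∀ i < 16, d * mu i * d⁻¹ = mu (act w i) := by
  induction w with
  | nil => exact ⟨1, one_mem _, fun i hi => by simp [act_nil]⟩
  | cons k w ih =>
    obtain ⟨d, hd1, hd2⟩ := ih (fun j hj => hw j (List.mem_cons_of_mem _ hj))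
    obtain ⟨c, hc1, hc2⟩ := hd k (hw k List.mem_cons_self)
    have hcD : c ∈ DD H := mem_DD.mpr ⟨fun i hi => ⟨gm k i, gm_lt k i, by
      rw [hc1 i hi, mul_inv_cancel_right]⟩, hc2⟩
    refine ⟨c * d, mul_mem hcD hd1, fun i hi => ?_⟩
    calc c * d * mu i * (c * d)⁻¹ = c * (d * mu i * d⁻¹) * c⁻¹ := by group
      _ = mu (act (k :: w) i) := by
        rw [hd2 i hi, hc1 _ (act_lt w hi), mul_inv_cancel_right, act_cons]

theorem odd_word (hd : GlueW.Dbl e mu) (w : List ℕ) (hw : ∀ k ∈ w, k < 5)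
    (h3 : ∀ i < 16, act w (act w (act w i)) = i) :
    ∃ g ∈ DD H, Odd (orderOf g) ∧ ∀ i < 16, g * mu i * g⁻¹ = mu (act w i) := by
  obtain ⟨d, hd1, hd2⟩ := exists_D (H := H) hd w hw
  have hd3 : ∀ i < 16, Commute (d ^ 3) (mu i) := by
    intro i hi
    have e1 := hd2 i hi
    have e2 := hd2 _ (act_lt w hi)
    have e3 := hd2 _ (act_lt w (act_lt w hi))
    rw [h3 i hi] at e3
    show d ^ 3 * mu i = mu i * d ^ 3
    calc d ^ 3 * mu i = d * (d * (d * mu i * d⁻¹) * d⁻¹) * d⁻¹ * d ^ 3 := by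
          rw [pow_succ, pow_two]; group
      _ = _ := by rw [e1, e2, e3]
  obtain ⟨a, b, hb, hn⟩ := Nat.exists_eq_two_pow_mul_odd (orderOf_pos d).ne'
  have h4 : ∃ q, 4 ^ a = 3 * q + 1 := by
    have : 4 ^ a % 3 = 1 := by
      rw [Nat.pow_mod]; simp
    exact ⟨4 ^ a / 3, by omega⟩
  obtain ⟨q, hq⟩ := h4
  refine ⟨d ^ 4 ^ a, pow_mem hd1 _, ?_, fun i hi => ?_⟩
  · have h1 : (d ^ 4 ^ a) ^ b = 1 := by
      have e1 : 4 ^ a * b = orderOf d * 2 ^ a := by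
        rw [hn, show (4 : ℕ) = 2 * 2 by norm_num, mul_pow]; ring
      rw [← pow_mul, e1, pow_mul, pow_orderOf_eq_one, one_pow]
    exact Odd.of_dvd_nat hb (orderOf_dvd_of_pow_eq_one h1)
  · have e1 : Commute ((d ^ 3) ^ q) (mu (act w i)) := (hd3 _ (act_lt w hi)).pow_left q
    rw [hq, pow_succ, pow_mul]
    calc (d ^ 3) ^ q * d * mu i * ((d ^ 3) ^ q * d)⁻¹ =
          (d ^ 3) ^ q * (d * mu i * d⁻¹) * ((d ^ 3) ^ q)⁻¹ := by group
      _ = mu (act w i) := by rw [hd2 i hi, e1.eq, mul_inv_cancel_right]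

/-- words of order 3 whose product is a generator -/
def w3 : ℕ → List ℕ × List ℕ
  | 0 => ([3, 1], [1, 3, 0])
  | 1 => ([2, 0], [0, 2, 1])
  | 2 => ([3, 1], [1, 3, 2])
  | 3 => ([2, 0], [0, 2, 3])
  | _ => ([3, 2, 0], [0, 2, 3, 4])

theorem w3_lt : ∀ k < 5, (∀ j ∈ (w3 k).1, j < 5) ∧ ∀ j ∈ (w3 k).2, j < 5 := by decide +kernel

theorem w3_1 : ∀ k < 5, ∀ i < 16, act (w3 k).1 (act (w3 k).1 (act (w3 k).1 i)) = i := by
  decide +kernel

theorem w3_2 : ∀ k < 5, ∀ i < 16, act (w3 k).2 (act (w3 k).2 (act (w3 k).2 i)) = i := by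
  decide +kernel

theorem w3_mul : ∀ k < 5, ∀ i < 16, act (w3 k).1 (act (w3 k).2 i) = gm k i := by decide +kernel

theorem w_free : ∀ i < 16, act [4, 1] i = i → i = 0 := by decide +kernel

/-- **(E4)** -/
theorem exists_word (hd : GlueW.Dbl e mu) (w : List ℕ) (hw : ∀ k ∈ w, k < 5) :
    ∃ r ∈ closure {g | g ∈ closure (gens H) ∧ Odd (orderOf g)},
      ∀ i < 16, r * mu i * r⁻¹ = mu (act w i) := by
  induction w with
  | nil => exact ⟨1, one_mem _, fun i hi => by simp [act_nil]⟩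
  | cons k w ih =>
    have hk := hw k List.mem_cons_self
    obtain ⟨r, hr, hr2⟩ := ih (fun j hj => hw j (List.mem_cons_of_mem _ hj))
    obtain ⟨g1, hg1, ho1, h1⟩ := odd_word (H := H) hd _ (w3_lt k hk).1 (w3_1 k hk)
    obtain ⟨g2, hg2, ho2, h2⟩ := odd_word (H := H) hd _ (w3_lt k hk).2 (w3_2 k hk)
    have m1 : g1 ∈ closure {g | g ∈ closure (gens H) ∧ Odd (orderOf g)} :=
      subset_closure ⟨subset_closure (Or.inl ⟨hg1, ho1⟩), ho1⟩
    have m2 : g2 ∈ closure {g | g ∈ closure (gens H) ∧ Odd (orderOf g)} :=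
      subset_closure ⟨subset_closure (Or.inl ⟨hg2, ho2⟩), ho2⟩
    refine ⟨g1 * g2 * r, mul_mem (mul_mem m1 m2) hr, fun i hi => ?_⟩
    calc g1 * g2 * r * mu i * (g1 * g2 * r)⁻¹ = g1 * (g2 * (r * mu i * r⁻¹) * g2⁻¹) * g1⁻¹ := by group
      _ = mu (act (k :: w) i) := by
        rw [hr2 i hi, h2 _ (act_lt w hi), h1 _ (act_lt _ (act_lt w hi)), w3_mul k hk _ (act_lt w hi),
          act_cons]

/-- **(E3)** -/
theorem Core.cenR (C : Core H O) (hd : GlueW.Dbl e mu) {r : G} (hr : r ∈ closure (gens H))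
    (h : ∀ i < 16, r * mu i = mu i * r) : ∃ i < 16, ∃ o ∈ O, r = mu i * o := by
  have hrD := gens_le hr
  obtain ⟨n, hn, m, hm, o, ho, e1⟩ := C.dec h (mem_DD.mp hrD).2
  have hmR : m ∈ closure (gens H) := subset_closure (Or.inr hm)
  have hoR : o ∈ closure (gens H) := by
    obtain ⟨h1, h2, h3⟩ := (C.memO o).mp ho
    refine subset_closure (Or.inl ⟨mem_DD.mpr ⟨fun i hi => ⟨i, hi, ?_⟩, fun i hi => ?_⟩, h1⟩)
    · rw [h3 i hi, mul_inv_cancel_right]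
    · rw [← mul_assoc, h3 i hi, mul_assoc, h2 i hi, ← mul_assoc]
  have hnR : n ∈ closure (gens H) := by
    have e2 : n = r * o⁻¹ * m⁻¹ := by rw [e1]; group
    rw [e2]
    exact mul_mem (mul_mem hr (inv_mem hoR)) (inv_mem hmR)
  obtain ⟨g, hg, hgw⟩ := exists_word (H := H) hd [4, 1] (by decide)
  have hgR : g ∈ closure (gens H) := by
    refine (closure_le _).mpr ?_ hg
    rintro x ⟨hx, _⟩
    exact hx
  have h2 := C.commR n hnR g hgR
  obtain ⟨i, hi, rfl⟩ := hn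
  have hgt : t * (t * g * t⁻¹) * t⁻¹ ∈ DD H := by rw [tt_conj H]; exact gens_le hgR
  obtain ⟨j, hj, h3⟩ := (mem_DDt hgt).1 i hi
  have h4 : ⁅mu i * e i, t * g * t⁻¹⁆ ∈ QQ H := by
    have e3 : ⁅mu i * e i, t * g * t⁻¹⁆ =
        mu i * e i * (t * g * t⁻¹ * (mu i * e i) * (t * g * t⁻¹)⁻¹)⁻¹ := by
      rw [commutatorElement_def]; group
    rw [e3, h3]
    exact (QQ H).mul_mem ((QQ H).mul_mem (mu_mem H hi) (eps_mem H hi))
      ((QQ H).inv_mem ((QQ H).mul_mem (mu_mem H hj) (eps_mem H hj)))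
  have h5 := C.inf h4 h2
  rw [commutatorElement_eq_one_iff_mul_comm] at h5
  -- conjugate by `t`
  have h6 : mu i * g = g * mu i := by
    have e3 : t * (mu i * e i * (t * g * t⁻¹)) * t⁻¹ = mu i * (t * (t * g * t⁻¹) * t⁻¹) := by
      calc t * (mu i * e i * (t * g * t⁻¹)) * t⁻¹ = t * (mu i * e i) * t⁻¹ * (t * (t * g * t⁻¹) * t⁻¹) := by
            group
        _ = _ := by rw [t_nu H hi]
    have e4 : t * (t * g * t⁻¹ * (mu i * e i)) * t⁻¹ = (t * (t * g * t⁻¹) * t⁻¹) * mu i := by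
      calc t * (t * g * t⁻¹ * (mu i * e i)) * t⁻¹ = (t * (t * g * t⁻¹) * t⁻¹) * (t * (mu i * e i) * t⁻¹) := by
            group
        _ = _ := by rw [t_nu H hi]
    rw [tt_conj H] at e3 e4
    rw [← e3, h5, e4]
  have h7 := hgw i hi
  rw [← h6, mul_inv_cancel_right] at h7
  have h8 := w_free i hi (mu_inj H hi (act_lt _ hi) h7).symm
  obtain ⟨j', hj', rfl⟩ := hm
  refine ⟨j', hj', o, ho, ?_⟩
  rw [e1, h8, mu_zero H, eps_zero H, one_mul, one_mul]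

end ResidP

open ResidP in
/-- **[WA](E1)–(E4)** -/
theorem exists_resid [Finite G] (H : QConf t e mu s) (hd : GlueW.Dbl e mu) :
    ∃ O R, Resid t e mu O R := by
  obtain ⟨O, h1, h2⟩ := exists_core H
  have C : Core H O := ⟨h1, h2⟩
  refine ⟨O, closure (gens H), h1, h2, fun r hr => mem_DD.mp (gens_le hr), ?_, ?_, ?_, C.commR,
    fun r hr h => C.cenR hd hr h, ?_⟩
  · intro g ho hg1 hg2
    exact subset_closure (Or.inl ⟨mem_DD.mpr ⟨hg1, hg2⟩, ho⟩)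
  · refine closure_mono ?_
    rintro x (⟨hx, ho⟩ | hx)
    · exact Or.inl ⟨subset_closure (Or.inl ⟨hx, ho⟩), ho⟩
    · exact Or.inr hx
  · intro i hi
    exact subset_closure (Or.inr ⟨i, hi, rfl⟩)
  · intro w hw
    obtain ⟨r, hr, h⟩ := exists_word (H := H) hd w hw
    refine ⟨r, ?_, hr, h⟩
    refine (closure_le _).mpr ?_ hr
    rintro x ⟨hx, _⟩
    exact hx

end Cfsg.Agent.TypeM
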