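import Cfsg.Agent.TypeM.BaseS
import Cfsg.Agent.TypeM.Resid

/-!
# The isomorphism `S → A`, `x = m x * (m x)ᵗ`, and elements of `R` acting on `P = M₁ M₂`

(piece [WA] of Theorem W, S1739)
-/

set_option autoImplicit false

namespace Cfsg.Agent.TypeM.AMap

open Subgroup Cfsg.Agent.TypeM.LyL Cfsg.Agent.TypeM.SRel Cfsg.Agent.TypeM.OddF
open scoped commutatorElement

variable {G : Type*} [Group G]

/-- The output of `exists_A`. -/
structure AOut (t : G) (S A R : Subgroup G) (μ : ℕ → G) : Prop where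
  le : A ≤ R
  card : Nat.card A = 128
  mu : ∀ i < 16, μ i ∈ A
  ex : ∀ x ∈ S, ∃ a ∈ A, x = a * (t * a * t⁻¹)
  back : ∀ a ∈ A, a * (t * a * t⁻¹) ∈ S
  comm : ∀ a ∈ A, ∀ b ∈ A, a * (t * b * t⁻¹) = (t * b * t⁻¹) * a
  disj : ∀ a ∈ A, ∀ b ∈ A, a = t * b * t⁻¹ → a = 1

namespace AOut

variable {t : G} {S A R : Subgroup G} {μ : ℕ → G} (h : AOut t S A R μ)
include h

theorem uniq {a b : G} (ha : a ∈ A) (hb : b ∈ A) (hab : a * (t * a * t⁻¹) = b * (t * b * t⁻¹)) : a = b := by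
  have h1 : b⁻¹ * a = t * (b * a⁻¹) * t⁻¹ := by
    calc b⁻¹ * a = b⁻¹ * (a * (t * a * t⁻¹)) * (t * a * t⁻¹)⁻¹ := by group
      _ = t * (b * a⁻¹) * t⁻¹ := by rw [hab]; group
  have h2 := h.disj _ (mul_mem (inv_mem hb) ha) _ (mul_mem hb (inv_mem ha)) h1
  exact (inv_mul_eq_one.1 h2).symm

theorem mul_diag {a b : G} (ha : a ∈ A) (hb : b ∈ A) :
    a * b * (t * (a * b) * t⁻¹) = a * (t * a * t⁻¹) * (b * (t * b * t⁻¹)) := by
  have h1 := h.comm b hb a ha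
  calc a * b * (t * (a * b) * t⁻¹) = a * (b * (t * a * t⁻¹)) * (t * b * t⁻¹) := by group
    _ = _ := by rw [h1]; group

theorem exists_m : ∃ m : G → G, (∀ x ∈ S, m x ∈ A ∧ x = m x * (t * m x * t⁻¹)) ∧
    (∀ x ∈ S, ∀ y ∈ S, m (x * y) = m x * m y) ∧ (∀ x ∈ S, m x = 1 → x = 1) ∧
    ∀ a ∈ A, m (a * (t * a * t⁻¹)) = a := by
  have h1 : ∀ x : G, ∃ a : G, x ∈ S → a ∈ A ∧ x = a * (t * a * t⁻¹) := by
    intro x
    by_cases hx : x ∈ S
    · obtain ⟨a, ha, hxa⟩ := h.ex x hx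
      exact ⟨a, fun _ => ⟨ha, hxa⟩⟩
    · exact ⟨1, fun h' => absurd h' hx⟩
  choose m hm using h1
  refine ⟨m, hm, fun x hx y hy => ?_, fun x hx h2 => ?_, fun a ha => ?_⟩
  · obtain ⟨h2, h3⟩ := hm x hx
    obtain ⟨h4, h5⟩ := hm y hy
    obtain ⟨h6, h7⟩ := hm _ (mul_mem hx hy)
    refine h.uniq h6 (mul_mem h2 h4) ?_
    rw [← h7, h.mul_diag h2 h4, ← h3, ← h5]
  · obtain ⟨-, h3⟩ := hm x hx
    rw [h3, h2]; group
  · obtain ⟨h2, h3⟩ := hm _ (h.back a ha)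
    exact h.uniq h2 ha h3.symm

/-- conjugation by `x ∈ S` on `A` is conjugation by `m x` -/
theorem conj_eq {x a b : G} (ha : a ∈ A) (hx : x = a * (t * a * t⁻¹)) (hb : b ∈ A) : x * b * x⁻¹ = a * b * a⁻¹ := by
  have h1 := h.comm b hb a ha
  rw [hx]
  calc a * (t * a * t⁻¹) * b * (a * (t * a * t⁻¹))⁻¹ = a * ((t * a * t⁻¹) * b) * (t * a * t⁻¹)⁻¹ * a⁻¹ := by group
    _ = _ := by rw [← h1]; group

end AOut

/-- the relations in `A` -/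
theorem exists_srel {t : G} {S A R : Subgroup G} {μ e e' : ℕ → G} {b : G} (h : AOut t S A R μ) (H : SRel e e' b)
    (hS : S = H.S) (he : ∀ i < 16, e i = μ i * (t * μ i * t⁻¹)) :
    ∃ (ν : ℕ → G) (β : G) (H' : SRel μ ν β), A = H'.S ∧ (∀ i < 16, e' i = ν i * (t * ν i * t⁻¹)) ∧
      b = β * (t * β * t⁻¹) := by
  subst hS
  obtain ⟨m, hm1, hm2, hm3, hm4⟩ := h.exists_m
  have h1 := H.map m hm2 hm3
  have h2 : ∀ i < 16, m (e i) = μ i := by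
    intro i hi
    rw [he i hi]
    exact hm4 _ (h.mu i hi)
  have h3 : SRel μ (fun i => m (e' i)) (m b) := BaseS.congr_S h1 h2 fun _ _ => rfl
  refine ⟨_, _, h3, ?_, fun i hi => (hm1 _ (H.nu_mem hi)).2, (hm1 _ H.β_mem).2⟩
  have h4 : h3.S ≤ A := h3.S_le h.mu (fun i hi => (hm1 _ (H.nu_mem hi)).1) (hm1 _ H.β_mem).1
  have : Finite A := Nat.finite_of_card_ne_zero (by rw [h.card]; norm_num)
  exact (Subgroup.eq_of_le_of_card_ge h4 (by rw [h.card, h3.card_S])).symm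

end Cfsg.Agent.TypeM.AMap
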