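import Cfsg.Agent.TypeM.OddF

/-!
# The two frames over the elementary abelian subgroups `E`, `E'` of one 2-group `S ≤ K`

(piece [WA] of Theorem W, S1739)
-/

set_option autoImplicit false

namespace Cfsg.Agent.TypeM.Base

open Subgroup Cfsg.Agent.TypeM.LyL Cfsg.Agent.TypeM.SRel Cfsg.Agent.TypeM.OddF Cfsg.Agent.TypeM.Glue
open Cfsg.Agent.TypeM.GlueW Cfsg.Agent.TypeM.SLift

variable {G : Type*} [Group G] {t : G} {e μ s : ℕ → G}

theorem congr_Q (H : QConf t e μ s) {e₁ μ₁ : ℕ → G} (he : ∀ i < 16, e i = e₁ i) (hμ : ∀ i < 16, μ i = μ₁ i) :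
    QConf t e₁ μ₁ s where
  tt := H.tt
  εmul i hi j hj := by rw [← he i hi, ← he j hj, H.εmul i hi j hj, he _ (xor_lt hi hj)]
  μmul i hi j hj := by rw [← hμ i hi, ← hμ j hj, H.μmul i hi j hj, hμ _ (xor_lt hi hj)]
  εμ i hi j hj := by rw [← he i hi, ← hμ j hj, H.εμ i hi j hj]
  inj i hi j hj h := by rw [← he i hi, ← hμ j hj] at h; exact H.inj i hi j hj h
  tε i hi := by rw [← he i hi, H.tε i hi]
  tμ i hi := by rw [← he i hi, ← hμ i hi, H.tμ i hi]
  st := H.st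
  sε k hk i hi := by rw [← he i hi, ← he _ (gm_lt k i), H.sε k hk i hi]
  sμ k hk i hi := by rw [← hμ i hi, ← hμ _ (gm_lt k i), H.sμ k hk i hi]
  cenF x hx h1 h2 := by
    obtain ⟨i, hi, h⟩ := H.cenF x hx h1 fun i hi => by rw [he i hi]; exact h2 i hi
    exact ⟨i, hi, by rw [← he i hi]; exact h⟩
  cenQ x hx h1 h2 := by
    obtain ⟨i, hi, j, hj, h⟩ := H.cenQ x hx (fun i hi => by rw [he i hi]; exact h1 i hi)
      fun i hi => by rw [hμ i hi]; exact h2 i hi
    exact ⟨i, hi, j, hj, by rw [← he i hi, ← hμ j hj]; exact h⟩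

theorem congr_aut (H : Aut t e) {e₁ : ℕ → G} (he : ∀ i < 16, e i = e₁ i) : Aut t e₁ := by
  intro c hc h
  obtain ⟨w, hw, h1⟩ := H c hc fun i hi => by
    obtain ⟨j, hj, h2⟩ := h i hi
    exact ⟨j, hj, by rw [he i hi, he j hj]; exact h2⟩
  exact ⟨w, hw, fun i hi => by rw [← he i hi, ← he _ (act_lt w hi)]; exact h1 i hi⟩

theorem congr_dbl (H : Dbl e μ) {e₁ μ₁ : ℕ → G} (he : ∀ i < 16, e i = e₁ i) (hμ : ∀ i < 16, μ i = μ₁ i) : Dbl e₁ μ₁ := by
  intro k hk
  obtain ⟨d, h1, h2⟩ := H k hk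
  exact ⟨d, fun i hi => by rw [← hμ i hi, ← hμ _ (gm_lt k i)]; exact h1 i hi,
    fun i hi => by rw [← hμ i hi, ← he i hi]; exact h2 i hi⟩

theorem conj_Q (H : QConf t e μ s) {n : G} (hn : n * t = t * n) :
    QConf t (fun i => n * e i * n⁻¹) (fun i => n * μ i * n⁻¹) (fun k => n * s k * n⁻¹) := by
  have h1 := WThree.conj_QConf H n⁻¹
  simp only [inv_inv] at h1
  rwa [hn, mul_inv_cancel_right] at h1

theorem conj_aut (H : Aut t e) {n : G} (hn : n * t = t * n) : Aut t (fun i => n * e i * n⁻¹) := by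
  have h1 := aut_conj H n⁻¹
  simp only [inv_inv] at h1
  rwa [hn, mul_inv_cancel_right] at h1

theorem conj_dbl (H : Dbl e μ) (n : G) : Dbl (fun i => n * e i * n⁻¹) (fun i => n * μ i * n⁻¹) := by
  have e' : ∀ x y : G, (n * x * n⁻¹) * (n * y * n⁻¹) = n * (x * y) * n⁻¹ := fun x y => by group
  intro k hk
  obtain ⟨d, h1, h2⟩ := H k hk
  exact ⟨n * d * n⁻¹, fun i hi => by rw [e', e', h1 i hi], fun i hi => by rw [e', e', e', h2 i hi]⟩

/-- the swapped frame -/
theorem swap_Q (H : QConf t e μ s) : QConf t e (fun i => μ i * e i) s := by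
  have hc : ∀ i < 16, ∀ j < 16, e i * e j = e j * e i := fun i hi j hj => by
    rw [H.εmul i hi j hj, H.εmul j hj i hi, Nat.xor_comm]
  refine ⟨H.tt, H.εmul, fun i hi j hj => ?_, fun i hi j hj => ?_, fun i hi j hj h => ?_, H.tε, fun i hi => ?_, H.st, H.sε,
    fun k hk i hi => ?_, H.cenF, fun x hx h1 h2 => ?_⟩
  · calc μ i * e i * (μ j * e j) = μ i * (e i * μ j) * e j := by group
      _ = (μ i * μ j) * (e i * e j) := by rw [H.εμ i hi j hj]; group
      _ = _ := by rw [H.μmul i hi j hj, H.εmul i hi j hj]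
  · rw [← mul_assoc, H.εμ i hi j hj, mul_assoc, hc i hi j hj, mul_assoc]
  · have h1 : e (i ^^^ j) * μ j = 1 := by
      rw [← H.εmul i hi j hj, mul_assoc, H.εμ j hj j hj]; exact h
    obtain ⟨h2, h3⟩ := H.inj _ (xor_lt hi hj) j hj h1
    subst h3
    rw [Nat.xor_zero] at h2
    exact ⟨h2, rfl⟩
  · have h1 := H.tμ i hi
    calc t * (μ i * e i) = t * μ i * e i := by group
      _ = μ i * e i * (t * e i) := by rw [h1]; group
      _ = μ i * e i * e i * t := by rw [H.tε i hi]; group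
  · rw [← mul_assoc, H.sμ k hk i hi, mul_assoc, H.sε k hk i hi, mul_assoc]
  · have h3 : ∀ i < 16, x * μ i = μ i * x := by
      intro i hi
      have h4 := h2 i hi
      have h5 := h1 i hi
      have h6 : μ i = μ i * e i * (e i)⁻¹ := by group
      have h7 : Commute x (μ i * e i) := h4
      have h8 : Commute x (e i) := h5
      rw [h6]
      exact (h7.mul_right h8.inv_right).eq
    obtain ⟨i, hi, j, hj, h⟩ := H.cenQ x hx h1 h3
    refine ⟨_, xor_lt hi hj, j, hj, ?_⟩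
    rw [h, ← H.εmul i hi j hj]
    calc e i * μ j = e i * μ j * (e j * e j) := by rw [WThree.eps_sq H hj, mul_one]
      _ = e i * (e j * μ j) * e j := by rw [H.εμ j hj j hj]; group
      _ = _ := by group

/-- `μ i * e i = t * μ i * t⁻¹` -/
theorem conj_t (H : QConf t e μ s) {i : ℕ} (hi : i < 16) : t * μ i * t⁻¹ = μ i * e i := by
  rw [H.tμ i hi, mul_inv_cancel_right]

theorem swap_dbl (H : QConf t e μ s) (hd : Dbl e μ) : Dbl e (fun i => μ i * e i) := by
  intro k hk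
  obtain ⟨d, h1, h2⟩ := hd k hk
  have ht : t⁻¹ = t := inv_eq_of_mul_eq_one_left H.tt
  have e' : ∀ x y : G, (t * x * t⁻¹) * (t * y * t⁻¹) = t * (x * y) * t⁻¹ := fun x y => by group
  refine ⟨t * d * t⁻¹, fun i hi => ?_, fun i hi => ?_⟩
  · show t * d * t⁻¹ * (μ i * e i) = μ (gm k i) * e (gm k i) * (t * d * t⁻¹)
    rw [← conj_t H hi, ← conj_t H (gm_lt k i), e', e', h1 i hi]
  · show t * d * t⁻¹ * (μ i * e i * e i) = μ i * e i * e i * (t * d * t⁻¹)
    have h3 : μ i * e i * e i = t * (μ i * e i) * t⁻¹ := by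
      rw [← conj_t H hi]
      have h4 : t * (t * μ i * t⁻¹) * t⁻¹ = (t * t) * μ i * (t * t)⁻¹ := by group
      rw [h4, H.tt, one_mul, inv_one, mul_one, conj_t H hi, mul_assoc, WThree.eps_sq H hi, mul_one]
    rw [h3, e', e', h2 i hi]

/-- conjugation of a frame by an element of `O` -/
theorem conj_O {O : Subgroup G} (H : QConf t e μ s) (hO : IsO t e O) {n : G} (hn : n ∈ O) :
    QConf t e (fun i => n * μ i * n⁻¹) (fun k => n * s k * n⁻¹) :=
  congr_Q (conj_Q H (hO.ct hn)) (fun i hi => by rw [hO.ce hn hi, mul_inv_cancel_right]) fun _ _ => rfl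

theorem conj_O_dbl {O : Subgroup G} (H : Dbl e μ) (hO : IsO t e O) {n : G} (hn : n ∈ O) : Dbl e (fun i => n * μ i * n⁻¹) :=
  congr_dbl (conj_dbl H n) (fun i hi => by rw [hO.ce hn hi, mul_inv_cancel_right]) fun _ _ => rfl

theorem conj_O_km [Finite G] {K O : Subgroup G} (H : QConf t e μ s) (hO : IsO t e O) (h : KM K e μ O)
    (hKt : ∀ k ∈ K, k * t = t * k) {n : G} (hn : n ∈ O) : KM K e (fun i => n * μ i * n⁻¹) O := by
  intro y hy w hw hye i hi
  have h1 := h y hy w hw hye i hi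
  have h2 := Cong.of_mem (hO.norm_mu H (act_lt w hi)).2 hn
  have h3 := Cong.of_mem (hO.norm_mu H hi).2 hn
  have h4 := h3.conj (hO.norm H (g := y) (fun i hi => ⟨_, act_lt w hi, hye i hi⟩)
    ⟨0, by norm_num, by rw [hKt _ hy, mul_inv_cancel_right, WThree.eps_zero H, mul_one]⟩).1
  exact (h2.symm.trans h1).trans h4

end Cfsg.Agent.TypeM.Base
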