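import Cfsg.Agent.TypeM.SRel

/-!
# Linear maps commuting with `S` and with an element of order three are `0` or `1`

(piece [WA] of Theorem W, S1739)
-/

set_option autoImplicit false

namespace Cfsg.Agent.TypeM.PhiPure

open Cfsg.Agent.TypeM.LyL

/-- the commutator of `e_j` and `e'_i` -/
def com (j i : ℕ) : ℕ := j ^^^ act (cl (i / 4)) j

/-- the word of order three, scalar on `M₁`, trivial on `P / M₁` -/
def wx : List ℕ := [4, 1, 3, 1]

theorem com_lt : ∀ j < 16, ∀ i < 16, com j i < 4 := by decide +kernel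

theorem com_xor : ∀ j < 16, ∀ x < 16, ∀ y < 16, com j (x ^^^ y) = com j x ^^^ com j y := by decide +kernel

theorem com_zero : ∀ x < 16, (∀ j < 16, com j x = 0) → x < 4 := by decide +kernel

theorem wx_lt : ∀ k ∈ wx, k < 5 := by decide

theorem wx_fix : ∀ i < 4, act wx i = i → i = 0 := by decide +kernel

theorem wx_low : ∀ i < 4, act wx i < 4 := by decide +kernel

theorem wx_comm : ∀ c < 4, ∀ i < 16, act wx (act (cl c) i) = act (cl c) (act wx i) := by decide +kernel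

theorem wx_three : ∀ i < 16, act wx (act wx (act wx i)) = i := by decide +kernel

theorem xor_div : ∀ a < 16, ∀ b < 16, (a ^^^ b) / 4 = (a / 4) ^^^ (b / 4) := by decide +kernel

def chk (c : Bool) (x y : ℕ) : Bool :=
  !(gm 1 x == x && x ^^^ y == gm 1 y && x ^^^ y == (act wx x ^^^ (bif c then 3 else 0)) &&
    y == (act wx (x ^^^ y) ^^^ (bif c then 2 else 0))) || (c == false && ((x == 0 && y == 0) || (x == 1 && y == 2)))

theorem chk_all : ∀ x < 4, ∀ y < 4, chk true x y = true ∧ chk false x y = true := by decide +kernel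

theorem fin_check (x : ℕ) (hx : x < 4) (y : ℕ) (hy : y < 4) (c : Bool) (h1 : gm 1 x = x) (h2 : x ^^^ y = gm 1 y)
    (h3 : x ^^^ y = act wx x ^^^ (bif c then 3 else 0)) (h4 : y = act wx (x ^^^ y) ^^^ (bif c then 2 else 0)) :
    c = false ∧ ((x = 0 ∧ y = 0) ∨ (x = 1 ∧ y = 2)) := by
  have h5 : chk c x y = true := by
    cases c
    · exact (chk_all x hx y hy).2
    · exact (chk_all x hx y hy).1
  unfold chk at h5
  rw [beq_iff_eq.2 h1, beq_iff_eq.2 h2, beq_iff_eq.2 h3, beq_iff_eq.2 h4] at h5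
  simpa using h5

theorem basis : ∀ i < 16, i = (if i % 2 = 1 then 1 else 0) ^^^ ((if i / 2 % 2 = 1 then 2 else 0) ^^^
    ((if i / 4 % 2 = 1 then 4 else 0) ^^^ (if i / 8 % 2 = 1 then 8 else 0))) := by decide +kernel

theorem lin_zero {φ : ℕ → ℕ} (hlin : ∀ i < 16, ∀ j < 16, φ (i ^^^ j) = φ i ^^^ φ j) : φ 0 = 0 := by
  have := hlin 0 (by norm_num) 0 (by norm_num)
  rw [Nat.xor_self] at this
  rw [Nat.xor_self] at this
  exact this

theorem lin_ext {φ : ℕ → ℕ} (hlin : ∀ i < 16, ∀ j < 16, φ (i ^^^ j) = φ i ^^^ φ j) (h1 : φ 1 = 0) (h2 : φ 2 = 0)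
    (h4 : φ 4 = 0) (h8 : φ 8 = 0) : ∀ i < 16, φ i = 0 := by
  have h0 := lin_zero hlin
  intro i hi
  have ha : ∀ (p : Prop) [Decidable p] (k : ℕ), k < 16 → (if p then k else 0) < 16 := by
    intro p _ k hk
    split_ifs
    · exact hk
    · norm_num
  have hb : ∀ (p : Prop) [Decidable p] (k : ℕ), φ k = 0 → φ (if p then k else 0) = 0 := by
    intro p _ k hk
    split_ifs
    · exact hk
    · exact h0
  rw [basis i hi, hlin _ (ha _ _ (by norm_num)) _ (xor_lt (ha _ _ (by norm_num)) (xor_lt (ha _ _ (by norm_num)) (ha _ _ (by norm_num)))),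
    hlin _ (ha _ _ (by norm_num)) _ (xor_lt (ha _ _ (by norm_num)) (ha _ _ (by norm_num))),
    hlin _ (ha _ _ (by norm_num)) _ (ha _ _ (by norm_num)), hb _ _ h1, hb _ _ h2, hb _ _ h4, hb _ _ h8]
  rfl

/-- the case of a map which vanishes on `V` -/
theorem zero_case {ψ ρ : ℕ → ℕ} (hψ : ∀ i < 16, ψ i < 16) (hlin : ∀ i < 16, ∀ j < 16, ψ (i ^^^ j) = ψ i ^^^ ψ j)
    (hρ : ∀ i < 16, ρ i < 16 ∧ ρ i / 4 = i / 4 ∧ (i < 4 → ρ i = act wx i)) (h1 : ψ 1 = 0) (h2 : ψ 2 = 0)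
    (hc : ∀ i < 16, ∀ j < 16, com j (ψ i) = 0) (h3 : ∀ i < 16, ψ (ρ i) = ρ (ψ i)) : ∀ i < 16, ψ i = 0 := by
  have h0 := lin_zero hlin
  have hV : ∀ v < 4, ψ v = 0 := by
    intro v hv
    interval_cases v
    · exact h0
    · exact h1
    · exact h2
    · have := hlin 1 (by norm_num) 2 (by norm_num)
      rw [h1, h2] at this
      exact this
  have key : ∀ i < 16, ψ i = 0 := by
    intro i hi
    have h4 : ψ i < 4 := com_zero _ (hψ i hi) (hc i hi)
    obtain ⟨r1, r2, -⟩ := hρ i hi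
    have h5 : ψ (ρ i) = ψ i := by
      have h6 : i ^^^ ρ i < 4 := by
        have h7 := xor_div i hi _ r1
        rw [r2, Nat.xor_self] at h7
        omega
      have h8 := hV _ h6
      rw [hlin i hi _ r1] at h8
      exact (Nat.xor_eq_zero_iff.1 h8).symm
    have h6 := h3 i hi
    rw [h5, (hρ _ (hψ i hi)).2.2 h4] at h6
    exact wx_fix _ h4 h6.symm
  exact key

/-- **The pure lemma.** -/
theorem zero_or_id {φ ρ : ℕ → ℕ} {c : Bool} (hφ : ∀ i < 16, φ i < 16)
    (hlin : ∀ i < 16, ∀ j < 16, φ (i ^^^ j) = φ i ^^^ φ j) (hρlin : ∀ i < 16, ∀ j < 16, ρ (i ^^^ j) = ρ i ^^^ ρ j)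
    (hρ : ∀ i < 16, ρ i < 16 ∧ ρ i / 4 = i / 4 ∧ (i < 4 → ρ i = act wx i))
    (h1 : ∀ j < 16, ∀ i < 16, φ (i ^^^ com j i) = φ i ^^^ com j (φ i)) (h2 : ∀ i < 16, φ (gm 1 i) = gm 1 (φ i))
    (h3 : ∀ i < 16, φ (ρ i) = ρ (φ i) ^^^ (bif c then ρ i else 0)) :
    (∀ i < 16, φ i = 0) ∨ ∀ i < 16, φ i = i := by
  have r1 : ρ 1 = 3 := by rw [(hρ 1 (by norm_num)).2.2 (by norm_num)]; decide
  have r2 : ρ 2 = 1 := by rw [(hρ 2 (by norm_num)).2.2 (by norm_num)]; decide
  have r3 : ρ 3 = 2 := by rw [(hρ 3 (by norm_num)).2.2 (by norm_num)]; decide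
  have a1 := h3 1 (by norm_num)
  have a3 := h3 3 (by norm_num)
  rw [r1] at a1
  rw [r3] at a3
  have l3 : φ 3 = φ 1 ^^^ φ 2 := hlin 1 (by norm_num) 2 (by norm_num)
  have hb : ∀ k, k < 4 → (bif c then k else 0) < 16 ∧ (bif c then k else 0) / 4 = 0 := by
    intro k hk
    cases c
    · exact ⟨by show 0 < 16; norm_num, by simp⟩
    · refine ⟨?_, ?_⟩
      · show k < 16
        omega
      · show k / 4 = 0
        omega
  have c1 : φ 3 / 4 = φ 1 / 4 := by
    rw [a1, xor_div _ (hρ _ (hφ 1 (by norm_num))).1 _ (hb 3 (by norm_num)).1, (hb 3 (by norm_num)).2, Nat.xor_zero,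
      (hρ _ (hφ 1 (by norm_num))).2.1]
  have c2 : φ 2 / 4 = φ 3 / 4 := by
    rw [a3, xor_div _ (hρ _ (hφ 3 (by norm_num))).1 _ (hb 2 (by norm_num)).1, (hb 2 (by norm_num)).2, Nat.xor_zero,
      (hρ _ (hφ 3 (by norm_num))).2.1]
  have c3 : φ 3 / 4 = 0 := by
    have h4 := xor_div _ (hφ 1 (by norm_num)) _ (hφ 2 (by norm_num))
    rw [← l3, c2, ← c1, Nat.xor_self] at h4
    exact h4
  have d1 : φ 1 < 4 := by omega
  have d2 : φ 2 < 4 := by omega
  have d3 : φ 3 < 4 := by omega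
  have b1 := h2 1 (by norm_num)
  rw [show gm 1 1 = 1 by decide] at b1
  have b2 := h2 2 (by norm_num)
  rw [show gm 1 2 = 3 by decide, l3] at b2
  rw [(hρ _ (hφ 1 (by norm_num))).2.2 d1, l3] at a1
  rw [(hρ _ (hφ 3 (by norm_num))).2.2 d3, l3] at a3
  obtain ⟨hc, hxy⟩ := fin_check _ d1 _ d2 c b1.symm b2 a1 a3
  subst hc
  have h3' : ∀ i < 16, φ (ρ i) = ρ (φ i) := by
    intro i hi
    have := h3 i hi
    rwa [show (bif false then ρ i else 0) = 0 from rfl, Nat.xor_zero] at this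
  rcases hxy with ⟨hx, hy⟩ | ⟨hx, hy⟩
  · left
    have hV : ∀ v < 4, φ v = 0 := by
      intro v hv
      interval_cases v
      · exact lin_zero hlin
      · exact hx
      · exact hy
      · rw [l3, hx, hy]; rfl
    refine zero_case hφ hlin hρ hx hy (fun i hi j hj => ?_) h3'
    have h4 := h1 j hj i hi
    rw [hlin i hi _ (by have := com_lt j hj i hi; omega), hV _ (com_lt j hj i hi), Nat.xor_zero] at h4
    have h5 : φ i ^^^ (φ i ^^^ com j (φ i)) = com j (φ i) := by rw [← Nat.xor_assoc, Nat.xor_self, Nat.zero_xor]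
    rw [← h5, ← h4, Nat.xor_self]
  · right
    have hV : ∀ v < 4, φ v = v := by
      intro v hv
      interval_cases v
      · exact lin_zero hlin
      · exact hx
      · exact hy
      · rw [l3, hx, hy]; rfl
    have hz : ∀ i < 16, (fun i => φ i ^^^ i) i = 0 := by
      refine zero_case (ψ := fun i => φ i ^^^ i) (ρ := ρ) (fun i hi => xor_lt (hφ i hi) hi) (fun i hi j hj => ?_) hρ ?_ ?_
        (fun i hi j hj => ?_) (fun i hi => ?_)
      · show φ (i ^^^ j) ^^^ (i ^^^ j) = (φ i ^^^ i) ^^^ (φ j ^^^ j)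
        rw [hlin i hi j hj]
        simp only [Nat.xor_left_comm, Nat.xor_comm]
      · show φ 1 ^^^ 1 = 0
        rw [hx]; rfl
      · show φ 2 ^^^ 2 = 0
        rw [hy]; rfl
      · show com j (φ i ^^^ i) = 0
        rw [com_xor j hj _ (hφ i hi) i hi]
        have h4 := h1 j hj i hi
        rw [hlin i hi _ (by have := com_lt j hj i hi; omega), hV _ (com_lt j hj i hi)] at h4
        have h5 : com j (φ i) = com j i := (Nat.xor_right_injective (x := φ i) h4).symm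
        rw [h5, Nat.xor_self]
      · show φ (ρ i) ^^^ ρ i = ρ (φ i ^^^ i)
        rw [hρlin _ (hφ i hi) i hi, h3' i hi]
    intro i hi
    exact Nat.xor_eq_zero_iff.1 (hz i hi)

end Cfsg.Agent.TypeM.PhiPure
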