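import Cfsg.Agent.TypeM.Kappa
import Cfsg.Agent.TypeM.PhiPure

/-!
# Comparison of the second frame with `{ν i} ≤ A`

(piece [WA] of Theorem W, S1739)
-/

set_option autoImplicit false

namespace Cfsg.Agent.TypeM.Cmp

open Subgroup Cfsg.Agent.TypeM.LyL Cfsg.Agent.TypeM.SRel Cfsg.Agent.TypeM.OddF Cfsg.Agent.TypeM.AMap
open Cfsg.Agent.TypeM.KElt Cfsg.Agent.TypeM.Glue Cfsg.Agent.TypeM.GlueW Cfsg.Agent.TypeM.PhiPure

variable {G : Type*} [Group G]

/-- an element of `C(t) ∩ N(E)` preserves `M` or maps it to `Mᵗ`, modulo `O` -/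
theorem cfun [Finite G] {t : G} {e μ s : ℕ → G} {O : Subgroup G} (H : QConf t e μ s) (hO : IsO t e O) {g : G}
    (hgt : g * t = t * g) {w : List ℕ} (hw : ∀ k ∈ w, k < 5) (hg : ∀ i < 16, g * e i * g⁻¹ = e (act w i)) :
    (∀ i < 16, Cong O (μ (act w i)) (g * μ i * g⁻¹)) ∨
      ∀ i < 16, Cong O (μ (act w i) * e (act w i)) (g * μ i * g⁻¹) := by
  have hW : ∀ w : List ℕ, (∀ k ∈ w, k < 5) →
      (∀ i < 16, (w.map s).prod * e i * (w.map s).prod⁻¹ = e (act w i)) ∧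
      (∀ i < 16, (w.map s).prod * μ i * (w.map s).prod⁻¹ = μ (act w i)) ∧ (w.map s).prod * t = t * (w.map s).prod := by
    intro w
    induction w with
    | nil =>
      intro _
      simp only [List.map_nil, List.prod_nil]
      exact ⟨fun i _ => by simp [act_nil], fun i _ => by simp [act_nil], by simp⟩
    | cons k w ih =>
      intro hw
      obtain ⟨h2, h3, h4⟩ := ih fun j hj => hw j (List.mem_cons_of_mem _ hj)
      have hk : k < 5 := hw k List.mem_cons_self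
      simp only [List.map_cons, List.prod_cons]
      refine ⟨fun i hi => ?_, fun i hi => ?_, ?_⟩
      · rw [act_cons]
        calc s k * (w.map s).prod * e i * (s k * (w.map s).prod)⁻¹
            = s k * ((w.map s).prod * e i * (w.map s).prod⁻¹) * (s k)⁻¹ := by group
          _ = _ := by rw [h2 i hi, H.sε k hk _ (act_lt w hi), mul_inv_cancel_right]
      · rw [act_cons]
        calc s k * (w.map s).prod * μ i * (s k * (w.map s).prod)⁻¹
            = s k * ((w.map s).prod * μ i * (w.map s).prod⁻¹) * (s k)⁻¹ := by group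
          _ = _ := by rw [h3 i hi, H.sμ k hk _ (act_lt w hi), mul_inv_cancel_right]
      · rw [mul_assoc, h4, ← mul_assoc, H.st k hk, mul_assoc]
  obtain ⟨h1, h2, h3⟩ := hW w hw
  set W := (w.map s).prod
  have n1 := (hO.norm H (g := W) (fun i hi => ⟨_, act_lt w hi, h1 i hi⟩)
    ⟨0, by norm_num, by rw [h3, mul_inv_cancel_right, WThree.eps_zero H, mul_one]⟩).1
  have h4 : W⁻¹ * g * t = t * (W⁻¹ * g) := by
    have h5 : W⁻¹ * t = t * W⁻¹ := by rw [inv_mul_eq_iff_eq_mul, ← mul_assoc, h3, mul_inv_cancel_right]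
    rw [mul_assoc, hgt, ← mul_assoc, h5, mul_assoc]
  have h6 : ∀ i < 16, W⁻¹ * g * e i = e i * (W⁻¹ * g) := by
    intro i hi
    have h7 : g * e i * g⁻¹ = W * e i * W⁻¹ := by rw [hg i hi, h1 i hi]
    calc W⁻¹ * g * e i = W⁻¹ * (g * e i * g⁻¹) * g := by group
      _ = e i * (W⁻¹ * g) := by rw [h7]; group
  obtain ⟨j, hj, o, ho, h7⟩ := hO.dec _ h4 h6
  -- conjugation by `e_j o`
  have c1 : ∀ i < 16, Cong O (μ i) (e j * (o * μ i * o⁻¹) * (e j)⁻¹) := by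
    intro i hi
    have := (Cong.of_mem (hO.norm_mu H hi).2 ho).conj (hO.norm_e hj).1
    rwa [H.εμ j hj i hi, mul_inv_cancel_right] at this
  rcases h7 with h7 | h7
  · left
    intro i hi
    have h8 := (c1 i hi).conj n1
    rw [h2 i hi] at h8
    have h9 : g = W * (e j * o) := by rw [← h7]; group
    have h10 : W * (e j * (o * μ i * o⁻¹) * (e j)⁻¹) * W⁻¹ = g * μ i * g⁻¹ := by rw [h9]; group
    rwa [h10] at h8
  · right
    intro i hi
    have nt : ∀ o ∈ O, t * o * t⁻¹ ∈ O := fun o ho => by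
      rw [← hO.ct ho, mul_inv_cancel_right]; exact ho
    have h8 := ((c1 i hi).conj nt).conj n1
    rw [Base.conj_t H hi] at h8
    have h9 : g = W * (t * e j * o) := by rw [← h7]; group
    have h10 : W * (t * (e j * (o * μ i * o⁻¹) * (e j)⁻¹) * t⁻¹) * W⁻¹ = g * μ i * g⁻¹ := by rw [h9]; group
    have h11 : W * (μ i * e i) * W⁻¹ = μ (act w i) * e (act w i) := by
      rw [← h1 i hi, ← h2 i hi]; group
    rwa [h10, h11] at h8

theorem eq_one_of_sq {x : G} (h : x * x = 1) (ho : Odd (orderOf x)) : x = 1 := by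
  have h1 : orderOf x ∣ 2 := orderOf_dvd_of_pow_eq_one (by rw [pow_two, h])
  rcases (Nat.dvd_prime Nat.prime_two).1 h1 with h2 | h2
  · exact orderOf_eq_one_iff.1 h2
  · rw [h2] at ho
    exact absurd ho (by decide)

/-- the hypotheses of the comparison -/
structure Hyp (t : G) (K : Subgroup G) (e e' : ℕ → G) (b : G) (μ σ μ' σ' ν : ℕ → G) (β : G) (O R A O' : Subgroup G) :
    Prop where
  D : BaseS.Data t K e e' b μ σ μ' σ'
  hR : Resid t e μ O R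
  hA : AOut t D.S.S A R μ
  hS : SRel μ ν β
  hAS : A = hS.S
  he' : ∀ i < 16, e' i = ν i * (t * ν i * t⁻¹)
  hb : b = β * (t * β * t⁻¹)
  hO' : IsO t e' O'
  km : KM K e' μ' O'

namespace Hyp

variable {t : G} {K : Subgroup G} {e e' : ℕ → G} {b : G} {μ σ μ' σ' ν : ℕ → G} {β : G} {O R A O' : Subgroup G}
  (h : Hyp t K e e' b μ σ μ' σ' ν β O R A O')
include h

theorem nuA {i : ℕ} (hi : i < 16) : ν i ∈ A := by rw [h.hAS]; exact h.hS.nu_mem hi

theorem muA {i : ℕ} (hi : i < 16) : μ i ∈ A := by rw [h.hAS]; exact h.hS.mu_mem hi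

theorem betaA : β ∈ A := by rw [h.hAS]; exact h.hS.β_mem

theorem tinv : t⁻¹ = t := inv_eq_of_mul_eq_one_left h.D.Q.tt

theorem e'sq {i : ℕ} (hi : i < 16) : e' i * e' i = 1 := h.D.S.sq' hi

theorem nu_comm {i j : ℕ} (hi : i < 16) (hj : j < 16) : ν i * e' j = e' j * ν i := by
  rw [h.he' j hj]
  have h1 := h.hA.comm _ (h.nuA hi) _ (h.nuA hj)
  calc ν i * (ν j * (t * ν j * t⁻¹)) = (ν i * ν j) * (t * ν j * t⁻¹) := by group
    _ = ν j * (ν i * (t * ν j * t⁻¹)) := by rw [h.hS.comm' hi hj]; group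
    _ = _ := by rw [h1]; group

theorem t_nu {i : ℕ} (hi : i < 16) : t * ν i * t⁻¹ = ν i * e' i := by
  rw [h.he' i hi, ← mul_assoc, h.hS.sq' hi, one_mul]

/-- `ν i ≡ μ' i * e' j` -/
theorem exists_phi [Finite G] {i : ℕ} (hi : i < 16) : ∃ j < 16, Cong O' (μ' i * e' j) (ν i) := by
  by_cases hi0 : i = 0
  · subst hi0
    refine ⟨0, by norm_num, ?_⟩
    rw [WThree.mu_zero h.D.Q', h.D.S.zero', h.hS.zero', one_mul, Cong, inv_one, one_mul]
    exact one_mem _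
  have Q' := h.D.Q'
  have h1 : μ' i * ν i * t = t * (μ' i * ν i) := by
    have h2 : t * (μ' i * ν i) * t⁻¹ = μ' i * ν i := by
      calc t * (μ' i * ν i) * t⁻¹ = (t * μ' i * t⁻¹) * (t * ν i * t⁻¹) := by group
        _ = μ' i * (e' i * ν i) * e' i := by rw [Base.conj_t Q' hi, h.t_nu hi]; group
        _ = μ' i * ν i * (e' i * e' i) := by rw [← h.nu_comm hi hi]; group
        _ = _ := by rw [h.e'sq hi, mul_one]
    rw [mul_inv_eq_iff_eq_mul] at h2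
    exact h2.symm
  have h2 : ∀ j < 16, μ' i * ν i * e' j = e' j * (μ' i * ν i) := by
    intro j hj
    rw [mul_assoc, h.nu_comm hi hj, ← mul_assoc, ← Q'.εμ j hj i hi, mul_assoc]
  obtain ⟨j, hj, o, ho, h3⟩ := h.hO'.dec _ h1 h2
  have hμ : (μ' i)⁻¹ = μ' i := inv_eq_of_mul_eq_one_left (WThree.mu_sq Q' hi)
  rcases h3 with h3 | h3
  · refine ⟨j, hj, ?_⟩
    have h4 : ν i = μ' i * e' j * o := by
      calc ν i = (μ' i)⁻¹ * (μ' i * ν i) := by group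
        _ = _ := by rw [h3, hμ, mul_assoc]
    rw [h4, Cong, inv_mul_cancel_left]
    exact ho
  · exfalso
    set a : G := μ' i * (t * e' j) with ha
    have h4 : ν i = a * o := by
      calc ν i = (μ' i)⁻¹ * (μ' i * ν i) := by group
        _ = _ := by rw [h3, hμ, ha]; group
    have haa : a * a = e' i := by
      have h5 : (t * e' j) * (t * e' j) = 1 := FF_sq Q' _ ⟨j, hj, Or.inr rfl⟩
      have h6 : (t * e' j) * μ' i = μ' i * e' i * (t * e' j) := by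
        rw [mul_assoc, Q'.εμ j hj i hi, ← mul_assoc, Q'.tμ i hi, mul_assoc]
      calc a * a = μ' i * ((t * e' j) * μ' i) * (t * e' j) := by rw [ha]; group
        _ = (μ' i * μ' i) * e' i * ((t * e' j) * (t * e' j)) := by rw [h6]; group
        _ = _ := by rw [h5, WThree.mu_sq Q' hi, one_mul, mul_one]
    -- `a` normalises `O'`
    have hn : ∀ x ∈ O', a⁻¹ * x * a ∈ O' := by
      intro x hx
      have h5 := (h.hO'.norm_mu Q' hi).2 x hx
      have h6 : (t * e' j)⁻¹ * ((μ' i)⁻¹ * x * μ' i) * (t * e' j) = (μ' i)⁻¹ * x * μ' i := by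
        have h7 := h.hO'.ct h5
        have h8 := h.hO'.ce h5 hj
        calc (t * e' j)⁻¹ * ((μ' i)⁻¹ * x * μ' i) * (t * e' j) = (e' j)⁻¹ * t⁻¹ * (((μ' i)⁻¹ * x * μ' i) * t) * e' j := by
              group
          _ = (e' j)⁻¹ * (((μ' i)⁻¹ * x * μ' i) * e' j) := by rw [h7]; group
          _ = _ := by rw [h8]; group
      have h7 : a⁻¹ * x * a = (t * e' j)⁻¹ * ((μ' i)⁻¹ * x * μ' i) * (t * e' j) := by rw [ha]; group
      rw [h7, h6]
      exact h5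
    have h5 : e' i ∈ O' := by
      have h6 : ν i * ν i = 1 := h.hS.sq' hi
      have h7 : e' i = ((a⁻¹ * o * a) * o)⁻¹ := by
        rw [← haa]
        apply eq_inv_of_mul_eq_one_left
        calc a * a * (a⁻¹ * o * a * o) = (a * o) * (a * o) := by group
          _ = 1 := by rw [← h4, h6]
      rw [h7]
      exact inv_mem (mul_mem (hn o ho) ho)
    exact hi0 (h.D.S.inj' i hi (eq_one_of_sq (h.e'sq hi) (h.hO'.odd _ h5)))

theorem norm_e' [Finite G] {j : ℕ} (hj : j < 16) : (∀ o ∈ O', e' j * o * (e' j)⁻¹ ∈ O') ∧ ∀ o ∈ O', (e' j)⁻¹ * o * e' j ∈ O' :=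
  h.hO'.norm_e hj

theorem e'_O {i : ℕ} (hi : i < 16) (h5 : e' i ∈ O') : i = 0 := by
  exact h.D.S.inj' i hi (eq_one_of_sq (h.e'sq hi) (h.hO'.odd _ h5))

theorem phi_uniq {x : G} {i j : ℕ} (hi : i < 16) (hj : j < 16) (h1 : Cong O' (x * e' i) (x * e' j)) : i = j := by
  have h2 : (x * e' i)⁻¹ * (x * e' j) = e' (i ^^^ j) := by
    rw [mul_inv_rev, h.D.S.inv' hi, ← h.D.S.mul' i hi j hj]; group
  rw [Cong, h2] at h1
  exact Nat.xor_eq_zero_iff.1 (h.e'_O (xor_lt hi hj) h1)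

/-- **Equivariance of `φ`.** -/
theorem phi_equiv [Finite G] {φ : ℕ → ℕ} (hφ : ∀ i < 16, φ i < 16 ∧ Cong O' (μ' i * e' (φ i)) (ν i)) {g : G}
    (hgt : g * t = t * g) {ρ : ℕ → ℕ} (hρ : ∀ i < 16, ρ i < 16) (h1 : ∀ i < 16, g * ν i * g⁻¹ = ν (ρ i))
    (h2 : ∀ i < 16, g * e' i * g⁻¹ = e' (ρ i)) {i c : ℕ} (hi : i < 16) (hc : c < 16)
    (h3 : Cong O' (μ' (ρ i) * e' c) (g * μ' i * g⁻¹)) : φ (ρ i) = c ^^^ ρ (φ i) := by
  obtain ⟨a1, a2⟩ := hφ i hi
  obtain ⟨b1, b2⟩ := hφ _ (hρ i hi)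
  have ng : ∀ o ∈ O', g * o * g⁻¹ ∈ O' :=
    (h.hO'.norm h.D.Q' (g := g) (fun i hi => ⟨_, hρ i hi, h2 i hi⟩)
      ⟨0, by norm_num, by rw [hgt, mul_inv_cancel_right, h.D.S.zero', mul_one]⟩).1
  have c1 := a2.conj ng
  rw [h1 i hi] at c1
  have c2 : g * (μ' i * e' (φ i)) * g⁻¹ = (g * μ' i * g⁻¹) * e' (ρ (φ i)) := by
    rw [← h2 _ a1]; group
  rw [c2] at c1
  have c3 := h3.mul (h.norm_e' (hρ _ a1)).2 (Cong.refl (e' (ρ (φ i))))
  have c4 := (c3.trans c1).trans b2.symm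
  have c5 : μ' (ρ i) * e' c * e' (ρ (φ i)) = μ' (ρ i) * e' (c ^^^ ρ (φ i)) := by
    rw [mul_assoc, h.D.S.mul' c hc _ (hρ _ a1)]
  rw [c5] at c4
  exact (h.phi_uniq (xor_lt hc (hρ _ a1)) b1 c4).symm

/-- linearity -/
theorem phi_lin [Finite G] {φ : ℕ → ℕ} (hφ : ∀ i < 16, φ i < 16 ∧ Cong O' (μ' i * e' (φ i)) (ν i)) :
    ∀ i < 16, ∀ j < 16, φ (i ^^^ j) = φ i ^^^ φ j := by
  intro i hi j hj
  obtain ⟨a1, a2⟩ := hφ i hi
  obtain ⟨b1, b2⟩ := hφ j hj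
  obtain ⟨c1, c2⟩ := hφ _ (xor_lt hi hj)
  have n1 : ∀ o ∈ O', (μ' j * e' (φ j))⁻¹ * o * (μ' j * e' (φ j)) ∈ O' := by
    intro o ho
    have h1 := (h.norm_e' b1).2 _ ((h.hO'.norm_mu h.D.Q' hj).2 o ho)
    have h2 : (e' (φ j))⁻¹ * ((μ' j)⁻¹ * o * μ' j) * e' (φ j) = (μ' j * e' (φ j))⁻¹ * o * (μ' j * e' (φ j)) := by group
    rwa [h2] at h1
  have h1 := a2.mul n1 b2
  rw [h.hS.mul' i hi j hj] at h1
  have h2 : μ' i * e' (φ i) * (μ' j * e' (φ j)) = μ' (i ^^^ j) * e' (φ i ^^^ φ j) := by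
    rw [← h.D.S.mul' _ a1 _ b1, ← h.D.Q'.μmul i hi j hj]
    calc μ' i * e' (φ i) * (μ' j * e' (φ j)) = μ' i * (e' (φ i) * μ' j) * e' (φ j) := by group
      _ = _ := by rw [h.D.Q'.εμ _ a1 j hj]; group
  rw [h2] at h1
  exact (h.phi_uniq (xor_lt a1 b1) c1 (h1.trans c2.symm)).symm

/-- elements of `S` act on `{ν i}` as on `{e' i}` -/
theorem S_nu {x : G} (hx : x ∈ h.D.S.S) {i j : ℕ} (hi : i < 16) (hj : j < 16) (hij : x * e' i * x⁻¹ = e' j) :
    x * ν i * x⁻¹ = ν j := by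
  obtain ⟨a, ha, hxa⟩ := h.hA.ex x hx
  have h1 := h.hA.conj_eq ha hxa (h.nuA hi)
  have h2 : a * ν i * a⁻¹ ∈ A := mul_mem (mul_mem ha (h.nuA hi)) (inv_mem ha)
  rw [h1]
  refine h.hA.uniq h2 (h.nuA hj) ?_
  rw [← h.he' j hj, ← hij, h.he' i hi, hxa]
  have h3 := h.hA.comm a⁻¹ (inv_mem ha) _ (mul_mem ha (h.nuA hi))
  have h4 := h.hA.comm _ (h.nuA hi) a ha
  calc a * ν i * a⁻¹ * (t * (a * ν i * a⁻¹) * t⁻¹)
      = a * ν i * (a⁻¹ * (t * (a * ν i) * t⁻¹)) * (t * a * t⁻¹)⁻¹ := by group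
    _ = a * (ν i * (t * a * t⁻¹)) * (t * ν i * t⁻¹) * a⁻¹ * (t * a * t⁻¹)⁻¹ := by rw [h3]; group
    _ = a * (t * a * t⁻¹) * (ν i * (t * ν i * t⁻¹)) * (a⁻¹ * (t * a⁻¹ * t⁻¹)) := by rw [h4]; group
    _ = a * (t * a * t⁻¹) * (ν i * (t * ν i * t⁻¹)) * ((t * a⁻¹ * t⁻¹) * a⁻¹) := by
      rw [h.hA.comm a⁻¹ (inv_mem ha) a⁻¹ (inv_mem ha)]
    _ = _ := by group

end Hyp

end Cfsg.Agent.TypeM.Cmp
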