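import Cfsg.Agent.TypeM.Cmp

/-!
# The second frame is the frame `{ν i}`

(piece [WA] of Theorem W, S1739)
-/

set_option autoImplicit false

namespace Cfsg.Agent.TypeM.CmpEnd

open Subgroup Cfsg.Agent.TypeM.LyL Cfsg.Agent.TypeM.SRel Cfsg.Agent.TypeM.OddF Cfsg.Agent.TypeM.AMap
open Cfsg.Agent.TypeM.KElt Cfsg.Agent.TypeM.Glue Cfsg.Agent.TypeM.GlueW Cfsg.Agent.TypeM.PhiPure Cfsg.Agent.TypeM.Cmp
open Cfsg.Agent.TypeM.Cmp.Hyp

variable {G : Type*} [Group G] {t : G} {K : Subgroup G} {e e' : ℕ → G} {b : G} {μ σ μ' σ' ν : ℕ → G} {β : G}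
  {O R A O' : Subgroup G} (h : Hyp t K e e' b μ σ μ' σ' ν β O R A O')
include h

/-- congruent frames are conjugate -/
theorem finish [Finite G] {μ₁ σ₁ : ℕ → G} (Q : QConf t e' μ₁ σ₁) (D : Dbl e' μ₁) (hc : ∀ i < 16, Cong O' (μ₁ i) (ν i)) :
    ∃ σ₂ : ℕ → G, QConf t e' ν σ₂ ∧ Dbl e' ν := by
  have tt := h.D.Q.tt
  have hcomm : ∀ i < 16, ∀ j < 16, ν i * (t * ν j * t⁻¹) = (t * ν j * t⁻¹) * ν i :=
    fun i hi j hj => h.hA.comm _ (h.nuA hi) _ (h.nuA hj)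
  have mν : ∀ i < 16, ν i ∈ Kappa.QN h.hS.mul' (fun i hi => h.hS.sq' hi) hcomm := fun i hi =>
    ⟨i, hi, 0, by norm_num, by rw [h.hS.zero']; group⟩
  have me : ∀ i < 16, e' i ∈ Kappa.QN h.hS.mul' (fun i hi => h.hS.sq' hi) hcomm := fun i hi => ⟨i, hi, i, hi, h.he' i hi⟩
  have nν : ∀ i < 16, ∀ o ∈ O', ν i * o * (ν i)⁻¹ ∈ O' := by
    intro i hi
    refine (h.hO'.norm h.D.Q' (g := ν i) (fun j hj => ⟨j, hj, ?_⟩) ⟨i, hi, ?_⟩).1
    · rw [h.nu_comm hi hj, mul_inv_cancel_right]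
    · have h1 := h.t_nu hi
      have h2 : ν i * t * (ν i)⁻¹ = ν i * (t * ν i * t⁻¹)⁻¹ * t := by group
      rw [h2, h1, mul_inv_rev, h.D.S.inv' hi, ← mul_assoc, h.nu_comm hi hi, mul_assoc (e' i), mul_inv_cancel, mul_one,
        h.D.Q'.tε i hi]
  have nt : ∀ o ∈ O', t * o * t⁻¹ ∈ O' := fun o ho => by rw [← h.hO'.ct ho, mul_inv_cancel_right]; exact ho
  obtain ⟨n, hn, hn'⟩ := OddConj.conj_exact (O := O') (T₁ := WThree.QQ Q)
    (T₂ := Kappa.QN h.hS.mul' (fun i hi => h.hS.sq' hi) hcomm) h.hO'.odd (WThreeAbs.isPGroup_of_sq (WThree.QQ_sq Q))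
    (WThreeAbs.isPGroup_of_sq Kappa.QN_sq) (by
      rintro _ ⟨i, hi, j, hj, rfl⟩ o ho
      have h0 : t⁻¹ * o * t ∈ O' := by
        have := nt o ho
        rw [h.tinv] at this ⊢
        exact this
      have h1 := nν i hi _ (nt _ (nν j hj _ h0))
      have h2 : ν i * (t * (ν j * (t⁻¹ * o * t) * (ν j)⁻¹) * t⁻¹) * (ν i)⁻¹ =
          ν i * (t * ν j * t⁻¹) * o * (ν i * (t * ν j * t⁻¹))⁻¹ := by group
      rwa [h2] at h1) (by
      rintro _ ⟨i, hi, j, hj, rfl⟩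
      refine ⟨e' i * ν j, mul_mem (me i hi) (mν j hj), ?_⟩
      have h1 : (e' i * ν j)⁻¹ * (e' i * μ₁ j) = (ν j)⁻¹ * μ₁ j := by group
      rw [h1]
      exact (hc j hj).symm)
  have h1 : ∀ i < 16, n * μ₁ i * n⁻¹ = ν i := fun i hi => hn' _ (WThree.mu_mem Q hi) _ (mν i hi) (hc i hi).symm
  exact ⟨_, Base.congr_Q (Base.conj_O Q h.hO' hn) (fun _ _ => rfl) h1,
    Base.congr_dbl (Base.conj_O_dbl D h.hO' hn) (fun _ _ => rfl) h1⟩

/-- **Comparison.** -/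
theorem exists_frame [Finite G] : ∃ σ₂ : ℕ → G, QConf t e' ν σ₂ ∧ Dbl e' ν := by
  have Q' := h.D.Q'
  have hex : ∀ i : ℕ, ∃ j : ℕ, i < 16 → j < 16 ∧ Cong O' (μ' i * e' j) (ν i) := by
    intro i
    by_cases hi : i < 16
    · obtain ⟨j, hj⟩ := h.exists_phi hi
      exact ⟨j, fun _ => hj⟩
    · exact ⟨0, fun h => absurd h hi⟩
  choose φ hφ using hex
  have hSK : h.D.S.S ≤ K := h.D.S.S_le h.D.eK h.D.eK' h.D.bK
  -- the action of `S`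
  have hSact : ∀ x ∈ h.D.S.S, ∀ ρ : ℕ → ℕ, (∀ i < 16, ρ i < 16) → (∀ i < 16, x * e' i * x⁻¹ = e' (ρ i)) →
      ∀ i < 16, φ (ρ i) = ρ (φ i) := by
    intro x hx ρ hρ h1 i hi
    obtain ⟨w, hw, h2⟩ := h.D.aut' x (h.D.Kt x (hSK hx)) fun i hi => ⟨_, hρ i hi, h1 i hi⟩
    have h3 : ∀ i < 16, act w i = ρ i := fun i hi => by
      have h4 := h2 i hi
      rw [h1 i hi] at h4
      exact (h.D.S.eq_of' (hρ i hi) (act_lt w hi) h4).symm
    have h4 := h.km x (hSK hx) w hw h2 i hi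
    have h5 := h.phi_equiv hφ (h.D.Kt x (hSK hx)) hρ (fun i hi => h.S_nu hx hi (hρ i hi) (h1 i hi)) h1 hi
      (c := 0) (by norm_num) (by rw [h.D.S.zero', mul_one, ← h3 i hi]; exact h4)
    rw [h5, Nat.zero_xor]
  have q1 : ∀ j < 16, ∀ i < 16, φ (i ^^^ com j i) = φ i ^^^ com j (φ i) := by
    intro j hj i hi
    refine hSact (e j) (h.D.S.mu_mem hj) (fun i => i ^^^ com j i) (fun i hi => ?_) (fun i hi => ?_) i hi
    · exact xor_lt hi (by have := com_lt j hj i hi; omega)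
    · rw [h.D.S.nact' hj hi, mul_inv_cancel_right]
      rfl
  have q2 : ∀ i < 16, φ (gm 1 i) = gm 1 (φ i) := fun i hi =>
    hSact b h.D.S.β_mem (gm 1) (fun i _ => gm_lt 1 i) (fun i hi => by rw [h.D.S.βν i hi, mul_inv_cancel_right]) i hi
  -- the element of order three
  obtain ⟨k, hk, -, hkB, hkμ, hkP⟩ := KEltP.exists_kP h.D.Q h.hR h.hA h.hS (h.hS.P_le_S.trans (le_of_eq h.hAS.symm)) wx_lt
    (fun c hc => ⟨c, hc, wx_comm c hc⟩) wx_three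
  obtain ⟨ρ, hρ⟩ := KEltP.exists_rho h.hS hkP wx_lt hkμ (σ := id) (fun c hc => hc) wx_comm (fun c _ hc => hc) wx_low
  obtain ⟨κ, κt, κν, κe⟩ := Kappa.exists_kappa h.D.Q h.hR h.hA h.hS.mul' (fun i hi => h.hS.sq' hi) (fun i hi => h.nuA hi)
    h.he' hk hkB (fun i hi => ⟨(hρ i hi).1, (hρ i hi).2.1⟩)
  obtain ⟨w, hw, hwκ⟩ := h.D.aut' κ κt fun i hi => ⟨_, (hρ i hi).1, κe i hi⟩
  have hwρ : ∀ i < 16, act w i = ρ i := fun i hi => by
    have h4 := hwκ i hi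
    rw [κe i hi] at h4
    exact (h.D.S.eq_of' (hρ i hi).1 (act_lt w hi) h4).symm
  have hρlin : ∀ i < 16, ∀ j < 16, ρ (i ^^^ j) = ρ i ^^^ ρ j := by
    intro i hi j hj
    refine h.D.S.eq_of' (hρ _ (xor_lt hi hj)).1 (xor_lt (hρ i hi).1 (hρ j hj).1) ?_
    rw [← κe _ (xor_lt hi hj), ← h.D.S.mul' i hi j hj, ← h.D.S.mul' _ (hρ i hi).1 _ (hρ j hj).1, ← κe i hi, ← κe j hj]
    group
  have q3 : ∃ c : Bool, ∀ i < 16, φ (ρ i) = ρ (φ i) ^^^ (bif c then ρ i else 0) := by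
    rcases cfun Q' h.hO' κt hw hwκ with h4 | h4
    · refine ⟨false, fun i hi => ?_⟩
      have h5 := h.phi_equiv hφ κt (fun i hi => (hρ i hi).1) κν κe hi (c := 0) (by norm_num)
        (by rw [h.D.S.zero', mul_one, ← hwρ i hi]; exact h4 i hi)
      rw [h5, Nat.zero_xor]
      exact (Nat.xor_zero _).symm
    · refine ⟨true, fun i hi => ?_⟩
      have h5 := h.phi_equiv hφ κt (fun i hi => (hρ i hi).1) κν κe hi (c := ρ i) (hρ i hi).1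
        (by rw [← hwρ i hi]; exact h4 i hi)
      rw [h5, Nat.xor_comm]
      rfl
  obtain ⟨c, q3⟩ := q3
  rcases zero_or_id (fun i hi => (hφ i hi).1) (h.phi_lin hφ) hρlin (fun i hi => ⟨(hρ i hi).1, (hρ i hi).2.2.1,
    (hρ i hi).2.2.2⟩) q1 q2 q3 with h5 | h5
  · refine finish h Q' h.D.dbl' fun i hi => ?_
    have := (hφ i hi).2
    rwa [h5 i hi, h.D.S.zero', mul_one] at this
  · refine finish h (Base.swap_Q Q') (Base.swap_dbl Q' h.D.dbl') fun i hi => ?_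
    have := (hφ i hi).2
    rwa [h5 i hi] at this

end Cfsg.Agent.TypeM.CmpEnd
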