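import Cfsg.Agent.SporRec.TwoAn
import Cfsg.Agent.SporRec.LyFiveCov
import Cfsg.Agent.SporRec.LyType
import Cfsg.Agent.StandardComponent.AltAut

/-!
# Automorphisms of the double covers of the alternating groups

`exists_perm`: an automorphism of `2.A_n`, `n ≥ 7`, is given by a permutation `σ`.
`eq_one_of_perm`: it is trivial if `σ = 1`.
`perm_of_fix`: `n = 8, 11`; if the automorphism fixes all elements which commute with the noncentral
involution `u` then `σ = 1` or `σ` is the image of `u`.
-/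

set_option autoImplicit false
set_option linter.dupNamespace false

namespace Cfsg.Agent.TypeM.CoverAut

open Subgroup Equiv Cfsg.Agent.SporRec.TwoAn
open scoped commutatorElement

section general

variable {α : Type*} [Fintype α] [DecidableEq α] {C : Type*} [Group C] (K : Cover α C)

/-- Automorphisms fix `z`. -/
theorem map_z (hα : 4 ≤ Fintype.card α) (e : MulAut C) : e K.z = K.z := by
  have h1 : e K.z ∈ center C := by
    rw [Subgroup.mem_center_iff]
    intro g
    have h2 := congrArg e (K.z_comm (e.symm g))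
    simpa only [map_mul, MulEquiv.apply_symm_apply] using h2
  rcases (K.mem_center_iff hα).1 h1 with h | h
  · exact absurd (e.injective (h.trans (map_one e).symm)) K.z_ne
  · exact h

theorem comm_central {a b c d : C} (hc : ∀ g : C, g * c = c * g) (hd : ∀ g : C, g * d = d * g) :
    ⁅a * c, b * d⁆ = ⁅a, b⁆ := by
  rw [commutatorElement_def, commutatorElement_def]
  calc a * c * (b * d) * (a * c)⁻¹ * (b * d)⁻¹
      = a * (c * (b * d)) * c⁻¹ * a⁻¹ * d⁻¹ * b⁻¹ := by group
    _ = a * ((b * d) * c) * c⁻¹ * a⁻¹ * d⁻¹ * b⁻¹ := by rw [← hc]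
    _ = a * b * (d * a⁻¹) * d⁻¹ * b⁻¹ := by group
    _ = a * b * (a⁻¹ * d) * d⁻¹ * b⁻¹ := by rw [← hd]
    _ = a * b * a⁻¹ * b⁻¹ := by group

/-- An automorphism which is trivial on the quotient is trivial. -/
theorem eq_one_of_perm (hα : 5 ≤ Fintype.card α) {e : MulAut C} (h : ∀ g, K.π (e g) = K.π g) : e = 1 := by
  have h1 : ∀ a, ∃ c : C, (∀ g : C, g * c = c * g) ∧ e a = a * c := by
    intro a
    rcases K.lift_eq (h a) with h2 | h2
    · exact ⟨1, fun g => by rw [mul_one, one_mul], by rw [h2, mul_one]⟩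
    · exact ⟨K.z, K.z_comm, h2⟩
  let F : Subgroup C :=
    { carrier := {g | e g = g}
      mul_mem' := fun {a b} ha hb => by
        show e (a * b) = a * b
        rw [map_mul, show e a = a from ha, show e b = b from hb]
      one_mem' := map_one e
      inv_mem' := fun {a} ha => by
        show e a⁻¹ = a⁻¹
        rw [map_inv, show e a = a from ha] }
  have h2 : commutator C ≤ F := by
    rw [_root_.commutator_def, Subgroup.commutator_le]
    rintro a - b -
    show e ⁅a, b⁆ = ⁅a, b⁆
    obtain ⟨c, hc, hac⟩ := h1 a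
    obtain ⟨d, hd, hbd⟩ := h1 b
    rw [map_commutatorElement, hac, hbd, comm_central hc hd]
  ext g
  have h3 : g ∈ F := h2 (by rw [Cfsg.Agent.SporRec.LyFiveCov.commutator_eq_top K hα]; exact mem_top g)
  exact h3

/-- Two automorphisms inducing the same permutations are equal. -/
theorem eq_of_perm (hα : 5 ≤ Fintype.card α) {e f : MulAut C} {σ : Perm α}
    (he : ∀ g, K.π (e g) = σ * K.π g * σ⁻¹) (hf : ∀ g, K.π (f g) = σ * K.π g * σ⁻¹) : e = f := by
  have h1 : f⁻¹ * e = 1 := by
    apply eq_one_of_perm K hα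
    intro g
    have h2 := hf (f⁻¹ (e g))
    rw [MulAut.apply_inv_self, he] at h2
    exact (mul_left_cancel (mul_right_cancel h2)).symm
  rw [inv_mul_eq_one] at h1
  exact h1.symm

theorem π_conj (c g : C) : K.π (MulAut.conj c g) = K.π c * K.π g * (K.π c)⁻¹ := by
  rw [MulAut.conj_apply, map_mul, map_mul, map_inv]

/-- An even automorphism is inner. -/
theorem eq_conj_of_even (hα : 5 ≤ Fintype.card α) {e : MulAut C} {σ : Perm α}
    (he : ∀ g, K.π (e g) = σ * K.π g * σ⁻¹) (hσ : σ ∈ alternatingGroup α) :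
    ∃ c, K.π c = σ ∧ e = MulAut.conj c := by
  obtain ⟨c, hc⟩ := K.exists_lift hσ
  exact ⟨c, hc, eq_of_perm K hα he (fun g => by rw [π_conj, hc])⟩

end general

section fin

variable {n : ℕ} {C : Type*} [Group C] (K : Cover (Fin n) C)

open Cfsg.Agent.SporRec.LyFiveCov in
/-- An automorphism of `2.A_n` is given by a permutation. -/
theorem exists_perm (hn : 7 ≤ n) (e : MulAut C) : ∃ σ : Perm (Fin n), ∀ g, K.π (e g) = σ * K.π g * σ⁻¹ := by
  have h4 : 4 ≤ Fintype.card (Fin n) := by rw [Fintype.card_fin]; omega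
  have hker : ∀ x : C, x ∈ (proj K).ker ↔ x = 1 ∨ x = K.z := by
    intro x
    rw [MonoidHom.mem_ker, ← K.ker x]
    exact ⟨fun h => congrArg Subtype.val h, fun h => Subtype.ext h⟩
  have hmap : (proj K).ker.map e.toMonoidHom = (proj K).ker := by
    ext x
    rw [hker]
    constructor
    · rintro ⟨y, hy, rfl⟩
      rcases (hker y).1 hy with rfl | rfl
      · exact Or.inl (map_one e)
      · exact Or.inr (map_z K h4 e)
    · rintro (rfl | rfl)
      · exact one_mem _
      · exact ⟨K.z, (hker _).2 (Or.inr rfl), map_z K h4 e⟩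
  let q : C ⧸ (proj K).ker ≃* alternatingGroup (Fin n) :=
    QuotientGroup.quotientKerEquivOfSurjective (proj K) (proj_surjective K)
  let f : MulAut (alternatingGroup (Fin n)) := (q.symm.trans (QuotientGroup.congr _ _ e hmap)).trans q
  have hf : ∀ g : C, f (proj K g) = proj K (e g) := by
    intro g
    have h1 : q.symm (proj K g) = QuotientGroup.mk g := by
      rw [MulEquiv.symm_apply_eq]
      rfl
    show q (QuotientGroup.congr _ _ e hmap (q.symm (proj K g))) = proj K (e g)
    rw [h1]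
    rfl
  obtain ⟨ψ, hψ⟩ := Cfsg.Agent.StandardComponent.AltAut.exists_autHom n hn
  refine ⟨ψ f, fun g => ?_⟩
  have h2 := hψ f (proj K g)
  rw [hf] at h2
  exact h2

/-- The permutation is unique. -/
theorem perm_unique (hn : 7 ≤ n) {e : MulAut C} {σ τ : Perm (Fin n)} (hσ : ∀ g, K.π (e g) = σ * K.π g * σ⁻¹)
    (hτ : ∀ g, K.π (e g) = τ * K.π g * τ⁻¹) : σ = τ := by
  obtain ⟨m, rfl⟩ : ∃ m, n = m + 2 := ⟨n - 2, by omega⟩
  apply Cfsg.Agent.StandardComponent.AltAut.conj_unique (m := m) (by omega)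
  rintro ⟨ρ, hρ⟩
  obtain ⟨g, rfl⟩ := K.exists_lift hρ
  exact (hσ g).symm.trans (hτ g)

end fin

section explicit

/-- lifts of permutations of order three which commute with `π u` commute with `u` -/
theorem commute_three {n : ℕ} {C : Type*} [Group C] (K : Cover (Fin n) C) {u : C} {e : MulAut C} {σ : Perm (Fin n)}
    (hσ : ∀ g, K.π (e g) = σ * K.π g * σ⁻¹) (hfix : ∀ g, g * u = u * g → e g = g) (ρ : Perm (Fin n))
    (h3 : ρ ^ 3 = 1) (hc : ρ * K.π u = K.π u * ρ) (x : Fin n) : σ (ρ x) = ρ (σ x) := by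
  have h1 : ρ ∈ alternatingGroup (Fin n) := by
    rw [Perm.mem_alternatingGroup]
    have h4 : Perm.sign ρ ^ 3 = 1 := by rw [← map_pow, h3, map_one]
    rcases Int.units_eq_one_or (Perm.sign ρ) with h5 | h5
    · exact h5
    · rw [h5] at h4; exact absurd h4 (by decide)
  obtain ⟨g, rfl, hg⟩ := K.exists_odd_lift h1 (n := 3) (by decide) h3
  have h4 := hfix g (K.commute_of_odd (n := 3) (by decide) hg hc)
  have h5 := hσ g
  rw [h4] at h5
  have h6 : σ * K.π g = K.π g * σ := by
    conv_rhs => rw [h5]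
    rw [inv_mul_cancel_right]
  exact congrArg (fun f : Perm (Fin n) => f x) h6

/-- the same for elements `η` such that `η² ρ = π u` with `η`, `ρ` disjoint -/
theorem commute_four {n : ℕ} {C : Type*} [Group C] (K : Cover (Fin n) C) {u : C} {e : MulAut C} {σ : Perm (Fin n)}
    (hσ : ∀ g, K.π (e g) = σ * K.π g * σ⁻¹) (hfix : ∀ g, g * u = u * g → e g = g) (η ρ : Perm (Fin n))
    (h1 : Perm.sign η = 1) (hd : η.Disjoint ρ) (hc : η * η * ρ = K.π u) (x : Fin n) :
    σ (η x) = η (σ x) := by
  obtain ⟨g, rfl⟩ := K.exists_lift (Perm.mem_alternatingGroup.2 h1)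
  have h2 : K.π ((g * g)⁻¹ * u) = ρ := by
    rw [map_mul, map_inv, map_mul, ← hc]; group
  have h3 : g * ((g * g)⁻¹ * u) = ((g * g)⁻¹ * u) * g := K.commute_of_disjoint (by rw [h2]; exact hd)
  have h4 : g * u = u * g := by
    calc g * u = (g * g) * (g * ((g * g)⁻¹ * u)) := by group
      _ = (g * g) * (((g * g)⁻¹ * u) * g) := by rw [h3]
      _ = u * g := by group
  have h5 := hσ g
  rw [hfix g h4] at h5
  have h6 : σ * K.π g = K.π g * σ := by
    conv_rhs => rw [h5]
    rw [inv_mul_cancel_right]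
  exact congrArg (fun f : Perm (Fin n) => f x) h6

/-- the involution of type `2⁴`, eight points -/
def u8 : Perm (Fin 8) := swap 0 1 * swap 2 3 * swap 4 5 * swap 6 7

/-- the involution of type `2⁴`, eleven points -/
def u11 : Perm (Fin 11) := swap 0 1 * swap 2 3 * swap 4 5 * swap 6 7

/-- an element of order three -/
def r8 (a b c a' b' c' : Fin 8) : Perm (Fin 8) := swap a b * swap b c * (swap a' b' * swap b' c')

/-- an element of order three -/
def r11 (a b c a' b' c' : Fin 11) : Perm (Fin 11) := swap a b * swap b c * (swap a' b' * swap b' c')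

/-- an element of order four -/
def f11 (a b : Fin 11) : Perm (Fin 11) := swap 0 2 * swap 2 1 * swap 1 3 * swap a b

theorem step {n : ℕ} {σ r : Perm (Fin n)} (k : ∀ x, σ (r x) = r (σ x)) {a b c d : Fin n} (h : σ a = b)
    (h1 : r a = c) (h2 : r b = d) : σ c = d := by
  rw [← h1, k, h, h2]

theorem perm_of_fix8 {C : Type*} [Group C] (K : Cover (Fin 8) C) {u : C} (hu : K.π u = u8)
    {e : MulAut C} {σ : Perm (Fin 8)} (hσ : ∀ g, K.π (e g) = σ * K.π g * σ⁻¹)
    (hfix : ∀ g, g * u = u * g → e g = g) : σ = 1 ∨ σ = u8 := by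
  have key := commute_three K hσ hfix
  rw [hu] at key
  have k1 := key (r8 2 4 6 3 5 7) (by decide) (by decide)
  have k2 := key (r8 0 2 4 1 3 5) (by decide) (by decide)
  have k3 := key (r8 0 2 6 1 3 7) (by decide) (by decide)
  have k4 := key (r8 0 3 4 1 2 5) (by decide) (by decide)
  have hv : σ 0 = 0 ∨ σ 0 = 1 := by
    have h1 := k1 0
    rw [show r8 2 4 6 3 5 7 0 = 0 by decide] at h1
    generalize σ 0 = v at h1
    revert h1
    revert v
    decide
  rcases hv with h0 | h0
  · left
    have h2 := step k2 h0 (c := 2) (d := 2) (by decide) (by decide)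
    have h4 := step k2 h2 (c := 4) (d := 4) (by decide) (by decide)
    have h6 := step k3 h2 (c := 6) (d := 6) (by decide) (by decide)
    have h3 := step k4 h0 (c := 3) (d := 3) (by decide) (by decide)
    have h5 := step k4 h2 (c := 5) (d := 5) (by decide) (by decide)
    have h1 := step k4 h5 (c := 1) (d := 1) (by decide) (by decide)
    have h7 := step k3 h3 (c := 7) (d := 7) (by decide) (by decide)
    ext x
    fin_cases x <;> simp_all
  · right
    have h2 := step k2 h0 (c := 2) (d := 3) (by decide) (by decide)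
    have h4 := step k2 h2 (c := 4) (d := 5) (by decide) (by decide)
    have h6 := step k3 h2 (c := 6) (d := 7) (by decide) (by decide)
    have h3 := step k4 h0 (c := 3) (d := 2) (by decide) (by decide)
    have h5 := step k4 h2 (c := 5) (d := 4) (by decide) (by decide)
    have h1 := step k4 h5 (c := 1) (d := 0) (by decide) (by decide)
    have h7 := step k3 h3 (c := 7) (d := 6) (by decide) (by decide)
    have hu : ∀ x, σ x = u8 x := by
      intro x
      fin_cases x
      · exact h0.trans (by decide)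
      · exact h1.trans (by decide)
      · exact h2.trans (by decide)
      · exact h3.trans (by decide)
      · exact h4.trans (by decide)
      · exact h5.trans (by decide)
      · exact h6.trans (by decide)
      · exact h7.trans (by decide)
    exact Equiv.ext hu

theorem perm_of_fix11 {C : Type*} [Group C] (K : Cover (Fin 11) C) {u : C} (hu : K.π u = u11)
    {e : MulAut C} {σ : Perm (Fin 11)} (hσ : ∀ g, K.π (e g) = σ * K.π g * σ⁻¹)
    (hfix : ∀ g, g * u = u * g → e g = g) : σ = 1 ∨ σ = u11 := by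
  have key := commute_three K hσ hfix
  have key' := commute_four K hσ hfix
  rw [hu] at key key'
  have k1 := key (r11 2 4 6 3 5 7) (by decide) (by decide)
  have k2 := key (r11 0 2 4 1 3 5) (by decide) (by decide)
  have k3 := key (r11 0 2 6 1 3 7) (by decide) (by decide)
  have k4 := key (r11 0 3 4 1 2 5) (by decide) (by decide)
  have f1 := key' (f11 9 10) (swap 4 5 * swap 6 7) (by decide)
    (show ∀ x, f11 9 10 x = x ∨ (swap 4 5 * swap 6 7 : Perm (Fin 11)) x = x by decide) (by decide)
  have f2 := key' (f11 8 10) (swap 4 5 * swap 6 7) (by decide)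
    (show ∀ x, f11 8 10 x = x ∨ (swap 4 5 * swap 6 7 : Perm (Fin 11)) x = x by decide) (by decide)
  have f3 := key' (f11 8 9) (swap 4 5 * swap 6 7) (by decide)
    (show ∀ x, f11 8 9 x = x ∨ (swap 4 5 * swap 6 7 : Perm (Fin 11)) x = x by decide) (by decide)
  have g8 : σ 8 = 8 := by
    have h1 := f1 8
    have h2 := k2 8
    have h3 := k3 8
    rw [show f11 9 10 8 = 8 by decide] at h1
    rw [show r11 0 2 4 1 3 5 8 = 8 by decide] at h2
    rw [show r11 0 2 6 1 3 7 8 = 8 by decide] at h3
    generalize σ 8 = v at h1 h2 h3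
    revert h1 h2 h3
    revert v
    decide
  have g9 : σ 9 = 9 := by
    have h1 := f2 9
    have h2 := k2 9
    have h3 := k3 9
    rw [show f11 8 10 9 = 9 by decide] at h1
    rw [show r11 0 2 4 1 3 5 9 = 9 by decide] at h2
    rw [show r11 0 2 6 1 3 7 9 = 9 by decide] at h3
    generalize σ 9 = v at h1 h2 h3
    revert h1 h2 h3
    revert v
    decide
  have g10 : σ 10 = 10 := by
    have h1 := f3 10
    have h2 := k2 10
    have h3 := k3 10
    rw [show f11 8 9 10 = 10 by decide] at h1
    rw [show r11 0 2 4 1 3 5 10 = 10 by decide] at h2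
    rw [show r11 0 2 6 1 3 7 10 = 10 by decide] at h3
    generalize σ 10 = v at h1 h2 h3
    revert h1 h2 h3
    revert v
    decide
  have hv : σ 0 = 0 ∨ σ 0 = 1 := by
    have h1 := k1 0
    rw [show r11 2 4 6 3 5 7 0 = 0 by decide] at h1
    have n8 : σ 0 ≠ 8 := fun h => absurd (σ.injective (h.trans g8.symm)) (by decide)
    have n9 : σ 0 ≠ 9 := fun h => absurd (σ.injective (h.trans g9.symm)) (by decide)
    have n10 : σ 0 ≠ 10 := fun h => absurd (σ.injective (h.trans g10.symm)) (by decide)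
    generalize σ 0 = v at h1 n8 n9 n10
    revert h1 n8 n9 n10
    revert v
    decide
  rcases hv with h0 | h0
  · left
    have h2 := step k2 h0 (c := 2) (d := 2) (by decide) (by decide)
    have h4 := step k2 h2 (c := 4) (d := 4) (by decide) (by decide)
    have h6 := step k3 h2 (c := 6) (d := 6) (by decide) (by decide)
    have h3 := step k4 h0 (c := 3) (d := 3) (by decide) (by decide)
    have h5 := step k4 h2 (c := 5) (d := 5) (by decide) (by decide)
    have h1 := step k4 h5 (c := 1) (d := 1) (by decide) (by decide)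
    have h7 := step k3 h3 (c := 7) (d := 7) (by decide) (by decide)
    have hu : ∀ x, σ x = (1 : Perm (Fin 11)) x := by
      intro x
      fin_cases x
      exacts [h0, h1, h2, h3, h4, h5, h6, h7, g8, g9, g10]
    exact Equiv.ext hu
  · right
    have h2 := step k2 h0 (c := 2) (d := 3) (by decide) (by decide)
    have h4 := step k2 h2 (c := 4) (d := 5) (by decide) (by decide)
    have h6 := step k3 h2 (c := 6) (d := 7) (by decide) (by decide)
    have h3 := step k4 h0 (c := 3) (d := 2) (by decide) (by decide)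
    have h5 := step k4 h2 (c := 5) (d := 4) (by decide) (by decide)
    have h1 := step k4 h5 (c := 1) (d := 0) (by decide) (by decide)
    have h7 := step k3 h3 (c := 7) (d := 6) (by decide) (by decide)
    have hu : ∀ x, σ x = u11 x := by
      intro x
      fin_cases x
      · exact h0.trans (by decide)
      · exact h1.trans (by decide)
      · exact h2.trans (by decide)
      · exact h3.trans (by decide)
      · exact h4.trans (by decide)
      · exact h5.trans (by decide)
      · exact h6.trans (by decide)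
      · exact h7.trans (by decide)
      · exact g8.trans (by decide)
      · exact g9.trans (by decide)
      · exact g10.trans (by decide)
    exact Equiv.ext hu

theorem congr_π {n : ℕ} {C : Type*} [Group C] (K : Cover (Fin n) C) (τ : Perm (Fin n)) (g : C) :
    (K.congr τ).π g = τ * K.π g * τ⁻¹ := by
  ext x
  rfl

/-- reduction to explicit permutations -/
theorem perm_of_fix {n : ℕ} (hn : n = 8 ∨ n = 11) {C : Type*} [Group C] (K : Cover (Fin n) C) {u : C}
    (hu : u * u = 1) (hu1 : u ≠ 1) (huz : u ≠ K.z) {e : MulAut C} {σ : Perm (Fin n)}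
    (hσ : ∀ g, K.π (e g) = σ * K.π g * σ⁻¹) (hfix : ∀ g, g * u = u * g → e g = g) :
    σ = 1 ∨ σ = K.π u := by
  have h16 : Fintype.card (Fin n) < 16 := by rw [Fintype.card_fin]; omega
  have hc := Cfsg.Agent.SporRec.LyType.card_support_eq_eight K h16 hu hu1 huz
  have h2 : K.π u * K.π u = 1 := by rw [← map_mul, hu, map_one]
  have ct := Cfsg.Agent.SporRec.LyType.cycleType_of_involution h2 (k := 4) hc
  have fin : ∀ v : Perm (Fin n), v * v = 1 → v.support.card = 8 →
      (∀ τ : Perm (Fin n), τ * K.π u * τ⁻¹ = v → τ * σ * τ⁻¹ = 1 ∨ τ * σ * τ⁻¹ = v) → σ = 1 ∨ σ = K.π u := by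
    intro v hv hv8 H
    have ct' := Cfsg.Agent.SporRec.LyType.cycleType_of_involution hv (k := 4) hv8
    obtain ⟨τ, hτ⟩ := isConj_iff.1 ((Perm.isConj_iff_cycleType_eq).2 (ct.trans ct'.symm))
    rcases H τ hτ with h | h
    · left
      calc σ = τ⁻¹ * (τ * σ * τ⁻¹) * τ := by group
        _ = 1 := by rw [h]; group
    · right
      calc σ = τ⁻¹ * (τ * σ * τ⁻¹) * τ := by group
        _ = τ⁻¹ * (τ * K.π u * τ⁻¹) * τ := by rw [h, hτ]
        _ = K.π u := by group
  have hσ' : ∀ (τ : Perm (Fin n)) (g : C), (K.congr τ).π (e g) = (τ * σ * τ⁻¹) * (K.congr τ).π g * (τ * σ * τ⁻¹)⁻¹ := by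
    intro τ g
    rw [congr_π, congr_π, hσ]
    group
  rcases hn with rfl | rfl
  · refine fin u8 (by decide) (by decide) fun τ hτ => ?_
    exact perm_of_fix8 (K.congr τ) (by rw [congr_π, hτ]) (hσ' τ) hfix
  · refine fin u11 (by decide) (by decide) fun τ hτ => ?_
    exact perm_of_fix11 (K.congr τ) (by rw [congr_π, hτ]) (hσ' τ) hfix

end explicit

section twist

variable {n : ℕ} {C : Type*} [Group C] (K : Cover (Fin n) C)

/-- `e` and the conjugation by `w` agree on lifts of a permutation of order three if `σ` and `π w` do. -/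
theorem eq_conj_three {e : MulAut C} {σ : Perm (Fin n)} (hσ : ∀ g, K.π (e g) = σ * K.π g * σ⁻¹) {w r : C}
    (hr : r ^ 3 = 1) (h : σ * K.π r * σ⁻¹ = K.π w * K.π r * (K.π w)⁻¹) : e r = w * r * w⁻¹ := by
  refine K.odd_lift_unique (n := 3) (by decide) ?_ ?_ ?_
  · rw [← map_pow, hr, map_one]
  · rw [conj_pow, hr, mul_one, mul_inv_cancel]
  · rw [hσ, h, map_mul, map_mul, map_inv]

theorem conj_swap (σ : Perm (Fin n)) (a b : Fin n) : σ * swap a b * σ⁻¹ = swap (σ a) (σ b) := by
  rw [Equiv.mul_swap_eq_swap_mul, mul_inv_cancel_right]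

theorem conj_swap_swap (σ : Perm (Fin n)) (a b c d : Fin n) :
    σ * (swap a b * swap c d) * σ⁻¹ = swap (σ a) (σ b) * swap (σ c) (σ d) := by
  rw [← conj_swap, ← conj_swap]
  group

/-- `e` and the conjugation by `w` agree on the lifts of `(a b)(c d)` if `σ` and `π w` agree on `a, b, c, d`. -/
theorem eq_conj_dbl (hn : 4 ≤ n) {e : MulAut C} {σ : Perm (Fin n)} (hσ : ∀ g, K.π (e g) = σ * K.π g * σ⁻¹)
    {a b c d : Fin n} (hab : a ≠ b) (hac : a ≠ c) (hbc : b ≠ c) (hbd : b ≠ d)
    (hcd : c ≠ d) {w D : C} (hD : K.π D = swap a b * swap c d) (ha : σ a = K.π w a) (hb : σ b = K.π w b)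
    (hc : σ c = K.π w c) (hd : σ d = K.π w d) : e D = w * D * w⁻¹ := by
  have h3 : ∀ x y z : Fin n, x ≠ y → x ≠ z → y ≠ z → (swap x y * swap y z) ^ 3 = 1 := by
    intro x y z h1 h2 h3
    have h4 := (Perm.isThreeCycle_swap_mul_swap_same h1.symm h3 h2).orderOf
    rw [swap_comm y x] at h4
    rw [← h4]
    exact pow_orderOf_eq_one _
  obtain ⟨r, hr, hr3⟩ := K.exists_odd_lift (Cover.swap_mul_swap_mem a b b c hab hbc) (n := 3) (by decide)
    (h3 a b c hab hac hbc)
  obtain ⟨s, hs, hs3⟩ := K.exists_odd_lift (Cover.swap_mul_swap_mem b c c d hbc hcd) (n := 3) (by decide)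
    (h3 b c d hbc hbd hcd)
  have e1 : e r = w * r * w⁻¹ := eq_conj_three K hσ hr3 (by
    rw [hr, conj_swap_swap, conj_swap_swap, ha, hb, hc])
  have e2 : e s = w * s * w⁻¹ := eq_conj_three K hσ hs3 (by
    rw [hs, conj_swap_swap, conj_swap_swap, hb, hc, hd])
  have e3 : e K.z = w * K.z * w⁻¹ := by
    rw [map_z K (by rwa [Fintype.card_fin]) e, K.z_comm w, mul_inv_cancel_right]
  have hrs : K.π D = K.π (r * s) := by
    rw [map_mul, hr, hs, hD, mul_assoc, ← mul_assoc (swap b c), swap_mul_self, one_mul]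
  rcases K.lift_eq hrs with h | h
  · rw [h, map_mul, e1, e2]; group
  · rw [h, map_mul, map_mul, e1, e2, e3]; group

/-- An automorphism with `σ² = 1 ≠ σ` maps some `a` to `a z` and fixes some `q` with `q² = z`. -/
theorem exists_neg_pos (hn : 6 ≤ n) {e : MulAut C} {σ : Perm (Fin n)} (hσ : ∀ g, K.π (e g) = σ * K.π g * σ⁻¹)
    (h1 : σ ≠ 1) (h2 : σ * σ = 1) : (∃ a, e a = a * K.z) ∧ ∃ q, e q = q ∧ q * q = K.z := by
  have hσσ : ∀ x, σ (σ x) = x := fun x => congrArg (fun f : Perm (Fin n) => f x) h2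
  obtain ⟨x1, hx1⟩ : ∃ x, σ x ≠ x := by
    by_contra hcon
    push Not at hcon
    exact h1 (Perm.ext hcon)
  by_cases hk : ∃ x3, x3 ≠ x1 ∧ x3 ≠ σ x1 ∧ σ x3 ≠ x3
  · obtain ⟨x3, h31, h32, h33⟩ := hk
    set x2 := σ x1 with hx2
    set x4 := σ x3 with hx4
    have h12 : x1 ≠ x2 := hx1.symm
    have h34 : x3 ≠ x4 := h33.symm
    have h14 : x1 ≠ x4 := by
      intro h
      apply h32
      rw [hx2, h, hx4, hσσ]
    have h24 : x2 ≠ x4 := fun h => h31 (σ.injective h).symm
    have s1 : σ x2 = x1 := hσσ x1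
    have s3 : σ x4 = x3 := hσσ x3
    obtain ⟨w, hw⟩ := K.exists_lift (Cover.swap_mul_swap_mem x1 x2 x3 x4 h12 h34)
    obtain ⟨a, ha⟩ := K.exists_lift (Cover.swap_mul_swap_mem x1 x3 x2 x4 h31.symm h24)
    have w1 : σ x1 = K.π w x1 := by
      rw [hw, Perm.mul_apply, swap_apply_of_ne_of_ne h31.symm h14, swap_apply_left]
    have w2 : σ x2 = K.π w x2 := by
      rw [hw, Perm.mul_apply, swap_apply_of_ne_of_ne h32.symm h24, swap_apply_right, s1]
    have w3 : σ x3 = K.π w x3 := by
      rw [hw, Perm.mul_apply, swap_apply_left, swap_apply_of_ne_of_ne h14.symm h24.symm]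
    have w4 : σ x4 = K.π w x4 := by
      rw [hw, Perm.mul_apply, swap_apply_right, swap_apply_of_ne_of_ne h31 h32, s3]
    have hww : w * w = K.z := K.dbl x1 x2 x3 x4 h12 h31.symm h14 h32.symm h24 h34 w hw
    refine ⟨⟨a, ?_⟩, ⟨w, ?_, hww⟩⟩
    · rw [eq_conj_dbl K (by omega) hσ h31.symm h12 h32 h34 h24 (w := w) ha w1 w3 w2 w4]
      have h5 : a * w = w * a * K.z := K.anticomm h12 h31.symm h14 h32.symm h24 h34 hw ha
      have h6 : w * a = a * w * K.z := by
        rw [h5, mul_assoc, K.z_mul_z, mul_one]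
      rw [h6, mul_assoc a w, K.z_comm w]
      group
    · rw [eq_conj_dbl K (by omega) hσ h12 h31.symm h32.symm h24 h34 (w := w) hw w1 w2 w3 w4]
      group
  · push Not at hk
    set x2 := σ x1 with hx2
    have h12 : x1 ≠ x2 := hx1.symm
    have s1 : σ x2 = x1 := hσσ x1
    -- four further points
    obtain ⟨f⟩ : Nonempty (Fin 4 ↪ {x : Fin n // x ≠ x1 ∧ x ≠ x2}) := by
      apply Function.Embedding.nonempty_of_card_le
      rw [Fintype.card_fin, Fintype.card_subtype]
      have h3 : (Finset.univ.filter fun x : Fin n => x ≠ x1 ∧ x ≠ x2) = Finset.univ \ {x1, x2} := by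
        ext x
        simp
      rw [h3, Finset.card_sdiff_of_subset (Finset.subset_univ _), Finset.card_univ, Fintype.card_fin,
        Finset.card_pair h12]
      omega
    have hne : ∀ i j : Fin 4, i ≠ j → (f i : Fin n) ≠ f j := fun i j h e => h (f.injective (Subtype.ext e))
    let x3 : Fin n := (f 0 : Fin n)
    let x4 : Fin n := (f 1 : Fin n)
    let x5 : Fin n := (f 2 : Fin n)
    let x6 : Fin n := (f 3 : Fin n)
    have h34 : x3 ≠ x4 := hne 0 1 (by decide)
    have h35 : x3 ≠ x5 := hne 0 2 (by decide)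
    have h36 : x3 ≠ x6 := hne 0 3 (by decide)
    have h45 : x4 ≠ x5 := hne 1 2 (by decide)
    have h46 : x4 ≠ x6 := hne 1 3 (by decide)
    have h56 : x5 ≠ x6 := hne 2 3 (by decide)
    have h31 : x3 ≠ x1 := (f 0).2.1
    have h32 : x3 ≠ x2 := (f 0).2.2
    have h41 : x4 ≠ x1 := (f 1).2.1
    have h42 : x4 ≠ x2 := (f 1).2.2
    have h51 : x5 ≠ x1 := (f 2).2.1
    have h52 : x5 ≠ x2 := (f 2).2.2
    have h61 : x6 ≠ x1 := (f 3).2.1
    have h62 : x6 ≠ x2 := (f 3).2.2
    have s3 : σ x3 = x3 := hk x3 h31 h32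
    have s4 : σ x4 = x4 := hk x4 h41 h42
    have s5 : σ x5 = x5 := hk x5 h51 h52
    have s6 : σ x6 = x6 := hk x6 h61 h62
    constructor
    · obtain ⟨w, hw⟩ := K.exists_lift (Cover.swap_mul_swap_mem x1 x2 x5 x6 h12 h56)
      obtain ⟨a, ha⟩ := K.exists_lift (Cover.swap_mul_swap_mem x1 x2 x3 x4 h12 h34)
      have hww : w * w = K.z := K.dbl x1 x2 x5 x6 h12 h51.symm h61.symm h52.symm h62.symm h56 w hw
      have haa : a * a = K.z := K.dbl x1 x2 x3 x4 h12 h31.symm h41.symm h32.symm h42.symm h34 a ha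
      have hwa : (w * a) * (w * a) = K.z := by
        refine K.dbl x5 x6 x3 x4 h56 h35.symm h45.symm h36.symm h46.symm h34 _ ?_
        rw [map_mul, hw, ha]
        have hcomm : swap x1 x2 * swap x5 x6 = swap x5 x6 * swap x1 x2 := by
          apply (Perm.disjoint_swap_swap _).commute
          simp [h12, h51.symm, h61.symm, h52.symm, h62.symm, h56]
        rw [hcomm, mul_assoc, ← mul_assoc (swap x1 x2), swap_mul_self, one_mul]
      refine ⟨a, ?_⟩
      rw [eq_conj_dbl K (by omega) hσ h12 h31.symm h32.symm h42.symm h34 (w := w) ha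
        (by rw [hw, Perm.mul_apply, swap_apply_of_ne_of_ne h51.symm h61.symm, swap_apply_left])
        (by rw [hw, Perm.mul_apply, swap_apply_of_ne_of_ne h52.symm h62.symm, swap_apply_right, s1])
        (by rw [hw, Perm.mul_apply, swap_apply_of_ne_of_ne h35 h36, swap_apply_of_ne_of_ne h31 h32, s3])
        (by rw [hw, Perm.mul_apply, swap_apply_of_ne_of_ne h45 h46, swap_apply_of_ne_of_ne h41 h42, s4])]
      have hwi : w⁻¹ = w * K.z := by
        rw [inv_eq_iff_mul_eq_one, ← mul_assoc, hww, K.z_mul_z]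
      have hai : a⁻¹ = a * K.z := by
        rw [inv_eq_iff_mul_eq_one, ← mul_assoc, haa, K.z_mul_z]
      calc w * a * w⁻¹ = (w * a * (w * a)) * a⁻¹ * K.z := by rw [hwi]; group
        _ = K.z * (a * K.z) * K.z := by rw [hwa, hai]
        _ = K.z * a := by rw [mul_assoc, mul_assoc a, K.z_mul_z, mul_one]
        _ = a * K.z := (K.z_comm a).symm
    · obtain ⟨q, hq⟩ := K.exists_lift (Cover.swap_mul_swap_mem x3 x4 x5 x6 h34 h56)
      refine ⟨q, ?_, K.dbl x3 x4 x5 x6 h34 h35 h36 h45 h46 h56 q hq⟩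
      rw [eq_conj_dbl K (by omega) hσ h34 h35 h45 h46 h56 (w := 1) hq
        (by rw [map_one, Perm.one_apply, s3]) (by rw [map_one, Perm.one_apply, s4])
        (by rw [map_one, Perm.one_apply, s5]) (by rw [map_one, Perm.one_apply, s6])]
      group

end twist

end Cfsg.Agent.TypeM.CoverAut
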