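import Cfsg.Agent.TypeM.LFacts

/-!
Enumeration of an elementary abelian group of order `2 ^ n` by `0, …, 2 ^ n - 1` with `f i * f j = f (i ^^^ j)`.
-/

set_option autoImplicit false

namespace Cfsg.Agent.TypeM

theorem comm_of_sq {L : Type*} [Group L] {A : Subgroup L} (hA : ∀ x ∈ A, x * x = 1) {x y : L}
    (hx : x ∈ A) (hy : y ∈ A) : x * y = y * x := by
  have h1 := hA _ (A.mul_mem hx hy)
  have h2 := hA x hx
  have h3 := hA y hy
  calc x * y = x * y * 1 := by rw [mul_one]
    _ = x * (x * y * (x * y)) * y := by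
        rw [h1, mul_one]; simp
    _ = (x * x) * y * x * (y * y) := by group
    _ = y * x := by rw [h2, h3, one_mul, mul_one]

theorem exists_enum {L : Type*} [Group L] [Finite L] (n : ℕ) : ∀ A : Subgroup L, (∀ x ∈ A, x * x = 1) →
    Nat.card A = 2 ^ n → ∃ f : ℕ → L, (∀ i < 2 ^ n, ∀ j < 2 ^ n, f i * f j = f (i ^^^ j)) ∧
      (∀ i < 2 ^ n, f i = 1 → i = 0) ∧ ∀ x, x ∈ A ↔ ∃ i < 2 ^ n, x = f i := by
  induction n with
  | zero =>
    intro A _ hc
    have h1 : A = ⊥ := Subgroup.eq_bot_of_card_eq A (by simpa using hc)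
    subst h1
    refine ⟨fun _ => 1, by simp, ?_, ?_⟩
    · intro i hi _; simpa using hi
    · intro x
      rw [Subgroup.mem_bot]
      exact ⟨fun h => ⟨0, by norm_num, h⟩, fun ⟨_, _, h⟩ => h⟩
  | succ n ih =>
    intro A hA hc
    have : Fact (Nat.Prime 2) := ⟨Nat.prime_two⟩
    obtain ⟨B, hB⟩ := Sylow.exists_subgroup_card_pow_prime (G := ↥A) 2 (n := n)
      (by rw [hc]; exact pow_dvd_pow 2 (Nat.le_succ n))
    have hBi : B.index = 2 := by
      have h1 := B.card_mul_index
      rw [hB, hc, pow_succ] at h1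
      exact Nat.eq_of_mul_eq_mul_left (by positivity) h1
    obtain ⟨f, hf1, hf2, hf3⟩ := ih (B.map A.subtype)
      (by rintro _ ⟨x, _, rfl⟩; exact hA _ x.2)
      (by
        rw [← hB]
        exact (Nat.card_congr (B.equivMapOfInjective _ A.subtype_injective).toEquiv).symm)
    obtain ⟨b, hb⟩ : ∃ b : ↥A, b ∉ B := by
      by_contra hcon
      push Not at hcon
      have h1 : B = ⊤ := by ext x; simp [hcon x]
      rw [h1, Subgroup.index_top] at hBi
      omega
    have hfA : ∀ i < 2 ^ n, f i ∈ B.map A.subtype := fun i hi => (hf3 _).mpr ⟨i, hi, rfl⟩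
    have hfA' : ∀ i < 2 ^ n, f i ∈ A := fun i hi => by
      obtain ⟨y, _, hy⟩ := hfA i hi
      rw [← hy]; exact y.2
    have hmod : ∀ i : ℕ, i % 2 ^ n < 2 ^ n := fun i => Nat.mod_lt _ (by positivity)
    have hbb : (b : L) * b = 1 := hA _ b.2
    have hbc : ∀ i < 2 ^ n, (b : L) * f i = f i * b := fun i hi => comm_of_sq hA b.2 (hfA' i hi)
    refine ⟨fun i => if i.testBit n then (b : L) * f (i % 2 ^ n) else f (i % 2 ^ n), ?_, ?_, ?_⟩
    · intro i _ j _
      simp only [Nat.testBit_xor, Nat.xor_mod_two_pow, ← hf1 _ (hmod i) _ (hmod j)]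
      cases i.testBit n <;> cases j.testBit n
      · simp
      · simp [← mul_assoc, hbc _ (hmod i)]
      · simp [mul_assoc]
      · simp only [if_true, Bool.xor_self, if_false, Bool.false_eq_true]
        rw [hbc _ (hmod j)]
        calc (b : L) * f (i % 2 ^ n) * (f (j % 2 ^ n) * b) = f (i % 2 ^ n) * (b * f (j % 2 ^ n)) * b := by
              rw [hbc _ (hmod i)]; group
          _ = f (i % 2 ^ n) * f (j % 2 ^ n) * (b * b) := by rw [hbc _ (hmod j)]; group
          _ = _ := by rw [hbb, mul_one]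
    · intro i hi h
      simp only at h
      cases ht : i.testBit n with
      | true =>
        exfalso
        rw [ht, if_pos rfl] at h
        apply hb
        have h1 : (b : L) = (f (i % 2 ^ n))⁻¹ := eq_inv_of_mul_eq_one_left h
        have h2 : (b : L) ∈ B.map A.subtype := h1 ▸ (B.map A.subtype).inv_mem (hfA _ (hmod i))
        obtain ⟨y, hy, hy'⟩ := h2
        have h3 : y = b := Subtype.ext hy'
        exact h3 ▸ hy
      | false =>
        rw [ht] at h
        have h1 := hf2 _ (hmod i) (by simpa using h)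
        rw [Nat.testBit_eq_decide_div_mod_eq] at ht
        have h2 : i / 2 ^ n < 2 := by
          rw [Nat.div_lt_iff_lt_mul (by positivity), mul_comm]
          rwa [pow_succ] at hi
        have h3 : i / 2 ^ n = 0 := by
          have h4 : ¬ (i / 2 ^ n % 2 = 1) := by
            intro h5
            rw [h5] at ht
            simp at ht
          revert h2 h4
          generalize i / 2 ^ n = q
          intro h2 h4
          omega
        have h4 := Nat.div_add_mod i (2 ^ n)
        rw [h3, h1] at h4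
        omega
    · intro x
      constructor
      · intro hx
        by_cases hxB : (⟨x, hx⟩ : ↥A) ∈ B
        · obtain ⟨k, hk, hk'⟩ := (hf3 x).mp ⟨⟨x, hx⟩, hxB, rfl⟩
          refine ⟨k, lt_of_lt_of_le hk (Nat.pow_le_pow_right (by norm_num) (Nat.le_succ n)), ?_⟩
          simp only
          rw [Nat.testBit_lt_two_pow hk, Nat.mod_eq_of_lt hk]
          simpa using hk'
        · have h1 : b * ⟨x, hx⟩ ∈ B := by
            rw [Subgroup.mul_mem_iff_of_index_two hBi]
            exact ⟨fun h => absurd h hb, fun h => absurd h hxB⟩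
          obtain ⟨k, hk, hk'⟩ := (hf3 ((b : L) * x)).mp ⟨b * ⟨x, hx⟩, h1, rfl⟩
          refine ⟨2 ^ n + k, by rw [pow_succ]; omega, ?_⟩
          simp only
          rw [Nat.testBit_two_pow_add_eq, Nat.testBit_lt_two_pow hk, Nat.add_mod_left, Nat.mod_eq_of_lt hk]
          simp only [Bool.not_false, if_true]
          rw [← hk', ← mul_assoc, hbb, one_mul]
      · rintro ⟨i, _, rfl⟩
        simp only
        split_ifs
        · exact A.mul_mem b.2 (hfA' _ (hmod i))
        · exact hfA' _ (hmod i)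

theorem exists_isE16 {L : Type*} [Group L] [Finite L] (A : Subgroup L) (hA : ∀ x ∈ A, x * x = 1)
    (hc : Nat.card A = 16) : ∃ f : ℕ → L, IsE16 f ∧ ∀ x, x ∈ A ↔ ∃ i < 16, x = f i := by
  obtain ⟨f, h1, h2, h3⟩ := exists_enum 4 A hA (by rw [hc]; norm_num)
  norm_num at h1 h2 h3
  exact ⟨f, ⟨h1, h2⟩, h3⟩

end Cfsg.Agent.TypeM
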