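import Cfsg.Agent.SignalizersComponents.RelSylow
import Cfsg.Prelude.Def_Transfer

/-!
Piece [W1] of Theorem W (S1739): `P` a Sylow `2`-subgroup of `C(t)`, `P` not Sylow in `G`, `t` not conjugate to
`z`, `Z(P) = {1, t, z, tz}`, `F₁, F₂` the two elementary abelian subgroups of order 32 of `P`. Then some `n`
normalizes `P`, `F₁`, `F₂`, and `t ^ n = t z`, provided that either `F₁`, `F₂` are swapped in `N_{C(t)}(P)`, or
`F₁`, `F₂` are not conjugate in the centralizer of `⟨t⟩ V`, and `N_{C(t)}(F₁) ∩ N_{C(t)}(F₂)` induces `S₃` on `V`.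
-/

set_option autoImplicit false
set_option linter.unusedSimpArgs false

namespace Cfsg.Agent.TypeM.Exist

open Subgroup
open Cfsg.Agent.SignalizersComponents.RelSylow

variable {G : Type*} [Group G]

/-- The conjugate `g H g⁻¹`. -/
abbrev cj (g : G) (H : Subgroup G) : Subgroup G := H.map (MulAut.conj g).toMonoidHom

theorem mem_cj {g x : G} {H : Subgroup G} : x ∈ cj g H ↔ g⁻¹ * x * g ∈ H := by
  constructor
  · rintro ⟨y, hy, rfl⟩
    simpa [mul_assoc] using hy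
  · intro h
    exact ⟨_, h, by simp [mul_assoc]⟩

theorem cj_mul (g h : G) (H : Subgroup G) : cj (g * h) H = cj g (cj h H) := by
  ext x
  simp only [mem_cj]
  constructor <;> intro h1 <;> simpa [mul_assoc] using h1

theorem cj_one (H : Subgroup G) : cj 1 H = H := by
  ext x
  rw [mem_cj]; simp

theorem cj_inj {g : G} {H K : Subgroup G} (h : cj g H = cj g K) : H = K := by
  ext x
  have := SetLike.ext_iff.mp h (g * x * g⁻¹)
  simpa [mem_cj, mul_assoc] using this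

theorem cj_inv_of {g : G} {H K : Subgroup G} (h : cj g H = K) : cj g⁻¹ K = H := by
  rw [← h, ← cj_mul, inv_mul_cancel, cj_one]

theorem mem_normalizer_of_cj {g : G} {H : Subgroup G} (h : cj g H = H) : g ∈ normalizer (H : Set G) := by
  rw [Subgroup.mem_normalizer_iff]
  intro x
  rw [← SetLike.ext_iff.mp h (g * x * g⁻¹), mem_cj]
  simp [mul_assoc]

theorem cj_of_mem_normalizer {g : G} {H : Subgroup G} (h : g ∈ normalizer (H : Set G)) : cj g H = H := by
  ext x
  rw [mem_cj]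
  rw [Subgroup.mem_normalizer_iff''] at h
  exact (h x).symm

/-- The data of [W1] about `C(t)`. -/
structure Data (t z : G) (P F₁ F₂ : Subgroup G) : Prop where
  syl : IsMaxP 2 (centralizer {t}) P
  t1 : t ≠ 1
  z1 : z ≠ 1
  tP : t ∈ P
  zP : z ∈ P
  /-- `Z(P) ≤ {1, t, z, tz}` -/
  cen : ∀ c ∈ P, (∀ p ∈ P, p * c = c * p) → c = 1 ∨ c = t ∨ c = z ∨ c = t * z
  zc : ∀ p ∈ P, p * z = z * p
  le₁ : F₁ ≤ P
  le₂ : F₂ ≤ P
  ne : F₁ ≠ F₂
  orb₁ : ∀ g : G, cj g F₁ ≤ P → cj g F₁ = F₁ ∨ cj g F₁ = F₂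
  orb₂ : ∀ g : G, cj g F₂ ≤ P → cj g F₂ = F₁ ∨ cj g F₂ = F₂

/-- `E32`'s of `P` are `F₁` and `F₂`. -/
theorem Data.of_unique {t z : G} {P F₁ F₂ : Subgroup G} (syl : IsMaxP 2 (centralizer {t}) P)
    (t1 : t ≠ 1) (z1 : z ≠ 1) (tP : t ∈ P) (zP : z ∈ P)
    (cen : ∀ c ∈ P, (∀ p ∈ P, p * c = c * p) → c = 1 ∨ c = t ∨ c = z ∨ c = t * z)
    (zc : ∀ p ∈ P, p * z = z * p) (le₁ : F₁ ≤ P) (le₂ : F₂ ≤ P) (ne : F₁ ≠ F₂)
    (e₁ : IsElementaryAbelian 2 F₁) (e₂ : IsElementaryAbelian 2 F₂) (c₁ : Nat.card F₁ = 32)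
    (c₂ : Nat.card F₂ = 32)
    (uniq : ∀ F : Subgroup G, F ≤ P → IsElementaryAbelian 2 F → Nat.card F = 32 → F = F₁ ∨ F = F₂) :
    Data t z P F₁ F₂ := by
  have key : ∀ (g : G) (F : Subgroup G), IsElementaryAbelian 2 F → Nat.card F = 32 → cj g F ≤ P →
      cj g F = F₁ ∨ cj g F = F₂ := by
    intro g F h1 h2 h3
    refine uniq _ h3 ?_ ((card_map_conj F g).trans h2)
    obtain ⟨ha, hb⟩ := h1
    constructor
    · refine ⟨⟨?_⟩⟩
      rintro ⟨_, x, hx, rfl⟩ ⟨_, y, hy, rfl⟩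
      apply Subtype.ext
      have h4 : x * y = y * x := congrArg Subtype.val (ha.is_comm.comm ⟨x, hx⟩ ⟨y, hy⟩)
      change (MulAut.conj g) x * (MulAut.conj g) y = (MulAut.conj g) y * (MulAut.conj g) x
      rw [← map_mul, ← map_mul, h4]
    · rintro _ ⟨x, hx, rfl⟩
      rw [← map_pow, hb x hx, map_one]
  exact ⟨syl, t1, z1, tP, zP, cen, zc, le₁, le₂, ne, fun g h => key g F₁ e₁ c₁ h,
    fun g h => key g F₂ e₂ c₂ h⟩

/-- `C_G(t, V)` does not fuse `F₁` and `F₂`, and `b`, `g` induce `S₃` on `V = {1, z, u, zu}`. -/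
structure NoSwap (t z u b g : G) (F₁ F₂ : Subgroup G) : Prop where
  u1 : u ≠ 1
  zu : z * u = u * z
  z2 : z * z = 1
  u2 : u * u = 1
  u₁ : u ∈ F₁
  u₂ : u ∈ F₂
  inf : ∀ y ∈ F₁, y ∈ F₂ → y = 1 ∨ y = z ∨ y = u ∨ y = z * u ∨ y = t ∨ y = t * z ∨ y = t * u ∨ y = t * (z * u)
  bt : b * t = t * b
  gt : g * t = t * g
  bz : b * z * b⁻¹ = z
  bu : b * u * b⁻¹ = z * u
  gz : g * z * g⁻¹ = z * u
  gu : g * u * g⁻¹ = u
  b₁ : cj b F₁ = F₁
  b₂ : cj b F₂ = F₂
  g₁ : cj g F₁ = F₁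
  g₂ : cj g F₂ = F₂
  no : ∀ c : G, c * t = t * c → c * z = z * c → c * u = u * c → cj c F₁ ≠ F₂

namespace Data

variable {t z : G} {P F₁ F₂ : Subgroup G}

theorem mem_of_cj {x y : G} {H K : Subgroup G} (h : cj x H = K) (hy : y ∈ H) : x * y * x⁻¹ ∈ K := by
  rw [← h]; exact ⟨y, hy, rfl⟩

/-- An element normalizing `P` permutes the centre of `P`. -/
theorem cen_conj (D : Data t z P F₁ F₂) {x c : G} (hx : cj x P = P) (hc : c ∈ P)
    (hcc : ∀ p ∈ P, p * c = c * p) :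
    x * c * x⁻¹ = 1 ∨ x * c * x⁻¹ = t ∨ x * c * x⁻¹ = z ∨ x * c * x⁻¹ = t * z := by
  refine D.cen _ (mem_of_cj hx hc) ?_
  intro p hp
  have h1 : x⁻¹ * p * x⁻¹⁻¹ ∈ P := mem_of_cj (cj_inv_of hx) hp
  have h2 := hcc _ h1
  have h3 : p * (x * c * x⁻¹) = x * (x⁻¹ * p * x⁻¹⁻¹ * c) * x⁻¹ := by group
  rw [h3, h2]; group

theorem tz_comm (D : Data t z P F₁ F₂) : t * z = z * t := D.zc t D.tP

theorem isConj_of {x a b : G} (h : x * a * x⁻¹ = b) : IsConj a b := isConj_iff.mpr ⟨x, h⟩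

/-- If `P` is not Sylow in `G`, then some element of `N(P)` maps `t` to `tz`. -/
theorem exists_norm [Finite G] (D : Data t z P F₁ F₂) (hns : ¬ IsMaxP 2 ⊤ P) (hzt : ¬ IsConj t z) :
    ∃ x : G, cj x P = P ∧ x * t * x⁻¹ = t * z ∧ x * z * x⁻¹ = z := by
  have : Fact (Nat.Prime 2) := ⟨Nat.prime_two⟩
  obtain ⟨R, hR, hPR⟩ := exists_isMaxP (C := (⊤ : Subgroup G)) D.syl.1 le_top
  have hnl : ¬ R ≤ P := by
    intro h
    have : R = P := le_antisymm h hPR
    exact hns (this ▸ hR)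
  obtain ⟨x, hxR, hxN, hxP⟩ := exists_mem_normalizer hR.1 hPR hnl
  have hxc : cj x P = P := cj_of_mem_normalizer hxN
  have htc : ∀ p ∈ P, p * t = t * p := fun p hp =>
    (mem_centralizer_singleton_iff.mp (D.syl.2.1 hp))
  have ht : x * t * x⁻¹ = t * z := by
    rcases D.cen_conj hxc D.tP htc with h | h | h | h
    · exact absurd (conj_eq_one_iff.mp h) D.t1
    · exfalso
      apply hxP
      have h1 : x ∈ centralizer {t} := by
        rw [mem_centralizer_singleton_iff]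
        calc x * t = x * t * x⁻¹ * x := by group
          _ = t * x := by rw [h]
      have h2 := D.syl.2.2 (R ⊓ centralizer {t}) (hR.1.to_le inf_le_left) inf_le_right
        (le_inf hPR D.syl.2.1)
      exact h2 ⟨hxR, h1⟩
    · exact absurd (isConj_of h) hzt
    · exact h
  refine ⟨x, hxc, ht, ?_⟩
  rcases D.cen_conj hxc D.zP D.zc with h | h | h | h
  · exact absurd (conj_eq_one_iff.mp h) D.z1
  · exact absurd (isConj_of h).symm hzt
  · exact h
  · exfalso
    have h1 : x * z * x⁻¹ = x * t * x⁻¹ := by rw [h, ht]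
    have h2 : z = t := by simpa using h1
    exact hzt (h2 ▸ IsConj.refl _)

theorem commutator_conj {x c : G} (hx : cj x P = P) (hc : c ∈ ⁅P, P⁆) : x * c * x⁻¹ ∈ ⁅P, P⁆ := by
  have h1 : cj x ⁅P, P⁆ = ⁅P, P⁆ := by
    change (⁅P, P⁆).map _ = _
    rw [Subgroup.map_commutator]
    exact congrArg₂ _ hx hx
  exact mem_of_cj h1 hc

/-- `t` is not conjugate to `z` if `z ∈ P'`, `t, tz ∉ P'` and `P` is not Sylow in `G`. -/
theorem not_isConj [Finite G] (D : Data t z P F₁ F₂) (hns : ¬ IsMaxP 2 ⊤ P) (hz' : z ∈ ⁅P, P⁆)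
    (ht' : t ∉ ⁅P, P⁆) : ¬ IsConj t z := by
  intro hzt
  have : Fact (Nat.Prime 2) := ⟨Nat.prime_two⟩
  obtain ⟨R, hR, hPR⟩ := exists_isMaxP (C := (⊤ : Subgroup G)) D.syl.1 le_top
  have hnl : ¬ R ≤ P := by
    intro h
    have : R = P := le_antisymm h hPR
    exact hns (this ▸ hR)
  obtain ⟨x, hxR, hxN, hxP⟩ := exists_mem_normalizer hR.1 hPR hnl
  have hxc : cj x P = P := cj_of_mem_normalizer hxN
  have hz : x * z * x⁻¹ = z := by
    have h0 := commutator_conj hxc hz'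
    rcases D.cen_conj hxc D.zP D.zc with h | h | h | h
    · exact absurd (conj_eq_one_iff.mp h) D.z1
    · exact absurd (h ▸ h0) ht'
    · exact h
    · exfalso
      apply ht'
      have h1 : t = t * z * z⁻¹ := by group
      rw [h1]
      exact mul_mem (h ▸ h0) (inv_mem hz')
  -- `R ⊓ C(z)` is a 2-group in `C(z)` properly containing `P`
  obtain ⟨g, hg⟩ := isConj_iff.mp hzt
  have h1 : IsMaxP 2 (centralizer {z}) (cj g P) := by
    have h2 := D.syl.map_conj g
    have h3 : (centralizer {t}).map (MulAut.conj g).toMonoidHom = centralizer {z} := by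
      ext w
      rw [show w ∈ (centralizer {t}).map (MulAut.conj g).toMonoidHom ↔ _ from mem_cj,
        mem_centralizer_singleton_iff, mem_centralizer_singleton_iff, ← hg]
      constructor
      · intro h
        calc w * (g * t * g⁻¹) = g * (g⁻¹ * w * g * t) * g⁻¹ := by group
          _ = g * t * g⁻¹ * w := by rw [h]; group
      · intro h
        calc g⁻¹ * w * g * t = g⁻¹ * (w * (g * t * g⁻¹)) * g := by group
          _ = t * (g⁻¹ * w * g) := by rw [h]; group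
    rw [h3] at h2
    exact h2
  have h4 : IsPGroup 2 (R ⊓ centralizer {z} : Subgroup G) := hR.1.to_le inf_le_left
  obtain ⟨Q, hQ, hRQ⟩ := exists_isMaxP h4 inf_le_right
  have h5 : Nat.card Q = Nat.card P := by
    rw [hQ.card_eq h1]
    exact card_map_conj P g
  have h6 : P ≤ Q := by
    refine le_trans (le_inf hPR ?_) hRQ
    intro p hp
    rw [mem_centralizer_singleton_iff]
    exact D.zc p hp
  have h7 : P = Q := Subgroup.eq_of_le_of_card_ge h6 h5.le
  apply hxP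
  rw [h7]
  refine hRQ (mem_inf.mpr ⟨hxR, mem_centralizer_singleton_iff.mpr ?_⟩)
  calc x * z = x * z * x⁻¹ * x := by group
    _ = z * x := by rw [hz]

theorem swap_or (D : Data t z P F₁ F₂) {x : G} (hx : cj x P = P) :
    (cj x F₁ = F₁ ∧ cj x F₂ = F₂) ∨ (cj x F₁ = F₂ ∧ cj x F₂ = F₁) := by
  have h1 : cj x F₁ ≤ P := by
    conv_rhs => rw [← hx]
    exact Subgroup.map_mono D.le₁
  have h2 : cj x F₂ ≤ P := by
    conv_rhs => rw [← hx]
    exact Subgroup.map_mono D.le₂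
  rcases D.orb₁ x h1 with h3 | h3 <;> rcases D.orb₂ x h2 with h4 | h4
  · exact absurd (cj_inj (h3.trans h4.symm)) D.ne
  · exact Or.inl ⟨h3, h4⟩
  · exact Or.inr ⟨h3, h4⟩
  · exact absurd (cj_inj (h3.trans h4.symm)) D.ne

/-- **[W1]** -/
theorem exists_n [Finite G] (D : Data t z P F₁ F₂) (hns : ¬ IsMaxP 2 ⊤ P) (hzt : ¬ IsConj t z)
    (hcase : (∃ c : G, c * t = t * c ∧ cj c P = P ∧ cj c F₁ = F₂) ∨ ∃ u b g : G, NoSwap t z u b g F₁ F₂) :
    ∃ n : G, cj n P = P ∧ cj n F₁ = F₁ ∧ cj n F₂ = F₂ ∧ n * t * n⁻¹ = t * z ∧ n * z * n⁻¹ = z := by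
  obtain ⟨x, hxP, hxt, hxz⟩ := D.exists_norm hns hzt
  rcases D.swap_or hxP with ⟨h1, h2⟩ | ⟨h1, h2⟩
  · exact ⟨x, hxP, h1, h2, hxt, hxz⟩
  rcases hcase with ⟨c, hct, hcP, hc1⟩ | ⟨u, b, g, N⟩
  · have hc2 : cj c F₂ = F₁ := by
      rcases D.swap_or hcP with ⟨h3, _⟩ | ⟨_, h3⟩
      · exact absurd (h3.symm.trans hc1) D.ne
      · exact h3
    have hct' : c * t * c⁻¹ = t := by rw [hct]; group
    have hcz : c * z * c⁻¹ = z := by
      rcases D.cen_conj hcP D.zP D.zc with h | h | h | h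
      · exact absurd (conj_eq_one_iff.mp h) D.z1
      · exact absurd (isConj_of h).symm hzt
      · exact h
      · exfalso
        exact hzt ((isConj_of hxt).trans (isConj_of h).symm)
    refine ⟨x * c, ?_, ?_, ?_, ?_, ?_⟩
    · rw [cj_mul, hcP, hxP]
    · rw [cj_mul, hc1, h2]
    · rw [cj_mul, hc2, h1]
    · calc x * c * t * (x * c)⁻¹ = x * (c * t * c⁻¹) * x⁻¹ := by group
        _ = t * z := by rw [hct', hxt]
    · calc x * c * z * (x * c)⁻¹ = x * (c * z * c⁻¹) * x⁻¹ := by group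
        _ = z := by rw [hcz, hxz]
  · exfalso
    have htz := D.tz_comm
    have hbt' : b * t * b⁻¹ = t := by rw [N.bt]; group
    have hgt' : g * t * g⁻¹ = t := by rw [N.gt]; group
    have htt : IsConj t (t * z) := isConj_of hxt
    -- conjugacies
    have cmul : ∀ (y p q : G), y * (p * q) * y⁻¹ = (y * p * y⁻¹) * (y * q * y⁻¹) := by intros; group
    have hzzu : IsConj z (z * u) := isConj_of N.gz
    have huz : IsConj u z := (isConj_of N.bu).trans hzzu.symm
    have htzu : IsConj (t * z) (t * (z * u)) := isConj_of (x := g) (by rw [cmul, hgt', N.gz])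
    have htu : IsConj (t * (z * u)) (t * u) := isConj_of (x := b) (by
      rw [cmul, cmul, hbt', N.bz, N.bu, ← mul_assoc z z u, N.z2, one_mul])
    -- x u x⁻¹
    have hxu : x * u * x⁻¹ = u ∨ x * u * x⁻¹ = z * u := by
      have h3 : x * u * x⁻¹ ∈ F₂ := mem_of_cj h1 N.u₁
      have h4 : x * u * x⁻¹ ∈ F₁ := mem_of_cj h2 N.u₂
      have h0 : IsConj u (x * u * x⁻¹) := isConj_of rfl
      have h5 : ¬ IsConj t (x * u * x⁻¹) := fun h => hzt (h.trans (h0.symm.trans huz))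
      rcases N.inf _ h4 h3 with h | h | h | h | h | h | h | h
      · exact absurd (conj_eq_one_iff.mp h) N.u1
      · exfalso
        have h6 : x * u * x⁻¹ = x * z * x⁻¹ := by rw [h, hxz]
        have h7 : u = z := by simpa using h6
        have h8 := N.bu
        rw [h7, N.bz, N.z2] at h8
        exact D.z1 h8
      · exact Or.inl h
      · exact Or.inr h
      · exact absurd (h ▸ IsConj.refl t) h5
      · exact absurd (h ▸ htt) h5
      · exact absurd (h ▸ (htt.trans (htzu.trans htu))) h5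
      · exact absurd (h ▸ (htt.trans htzu)) h5
    -- correct x
    obtain ⟨y, hyt, hyz, hyu, hy1, hy2⟩ : ∃ y : G, y * t * y⁻¹ = t * z ∧ y * z * y⁻¹ = z ∧
        y * u * y⁻¹ = u ∧ cj y F₁ = F₂ ∧ cj y F₂ = F₁ := by
      rcases hxu with h | h
      · exact ⟨x, hxt, hxz, h, h1, h2⟩
      · refine ⟨b * x, ?_, ?_, ?_, ?_, ?_⟩
        · calc b * x * t * (b * x)⁻¹ = b * (x * t * x⁻¹) * b⁻¹ := by group
            _ = t * z := by rw [hxt, cmul, hbt', N.bz]
        · calc b * x * z * (b * x)⁻¹ = b * (x * z * x⁻¹) * b⁻¹ := by group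
            _ = z := by rw [hxz, N.bz]
        · calc b * x * u * (b * x)⁻¹ = b * (x * u * x⁻¹) * b⁻¹ := by group
            _ = u := by rw [h, cmul, N.bz, N.bu, ← mul_assoc, N.z2, one_mul]
        · rw [cj_mul, h1, N.b₂]
        · rw [cj_mul, h2, N.b₁]
    -- the element of order three on V
    set r : G := b * g with hr
    have hrt : r * t * r⁻¹ = t := by
      calc r * t * r⁻¹ = b * (g * t * g⁻¹) * b⁻¹ := by rw [hr]; group
        _ = t := by rw [hgt', hbt']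
    have hrz : r * z * r⁻¹ = u := by
      calc r * z * r⁻¹ = b * (g * z * g⁻¹) * b⁻¹ := by rw [hr]; group
        _ = u := by rw [N.gz, cmul, N.bz, N.bu, ← mul_assoc, N.z2, one_mul]
    have hru : r * u * r⁻¹ = z * u := by
      calc r * u * r⁻¹ = b * (g * u * g⁻¹) * b⁻¹ := by rw [hr]; group
        _ = z * u := by rw [N.gu, N.bu]
    have hr1 : cj r F₁ = F₁ := by rw [hr, cj_mul, N.g₁, N.b₁]
    have hr2 : cj r F₂ = F₂ := by rw [hr, cj_mul, N.g₂, N.b₂]
    -- the maps as automorphisms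
    let X : G ≃* G := MulAut.conj y
    let Rr : G ≃* G := MulAut.conj r
    have X_t : X t = t * z := hyt
    have X_z : X z = z := hyz
    have X_u : X u = u := hyu
    have R_t : Rr t = t := hrt
    have R_z : Rr z = u := hrz
    have R_u : Rr u = z * u := hru
    have S_t : Rr.symm t = t := by rw [MulEquiv.symm_apply_eq, R_t]
    have S_u : Rr.symm u = z := by rw [MulEquiv.symm_apply_eq, R_z]
    have S_z : Rr.symm z = z * u := by
      rw [MulEquiv.symm_apply_eq, map_mul, R_z, R_u, ← mul_assoc, ← N.zu, mul_assoc, N.u2, mul_one]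
    have S_eq : ∀ w, Rr.symm w = r⁻¹ * w * r := fun w => by simp [Rr, MulAut.conj]
    set m : G := y * (r * y * r⁻¹) * (r * r * y * r⁻¹ * r⁻¹) with hm
    have hmc : ∀ w, m * w * m⁻¹ = X (Rr (X (Rr.symm (Rr (Rr (X (Rr.symm (Rr.symm w)))))))) := by
      intro w
      rw [S_eq, S_eq, S_eq]
      simp only [X, Rr, MulAut.conj_apply]
      rw [hm]
      simp only [mul_inv_rev, inv_inv, mul_assoc, inv_mul_cancel_left, mul_inv_cancel_left]
    have e1 : ∀ w, z * (z * w) = w := fun w => by rw [← mul_assoc, N.z2, one_mul]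
    have e2 : ∀ w, u * (u * w) = w := fun w => by rw [← mul_assoc, N.u2, one_mul]
    have e3 : ∀ w, u * (z * w) = z * (u * w) := fun w => by rw [← mul_assoc, ← N.zu, mul_assoc]
    have hmt : m * t * m⁻¹ = t := by
      rw [hmc, MulEquiv.symm_apply_apply]
      simp only [S_t, X_t, map_mul, R_t, R_z, R_u, X_u, X_z, S_u, S_z, mul_assoc, e1, e2, e3, N.u2, N.z2,
        ← N.zu, mul_one]
    have hmz : m * z * m⁻¹ = z := by
      rw [hmc, MulEquiv.symm_apply_apply]
      simp only [S_t, X_t, map_mul, R_t, R_z, R_u, X_u, X_z, S_u, S_z, mul_assoc, e1, e2, e3, N.u2, N.z2,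
        ← N.zu, mul_one]
    have hmu : m * u * m⁻¹ = u := by
      rw [hmc, MulEquiv.symm_apply_apply]
      simp only [S_t, X_t, map_mul, R_t, R_z, R_u, X_u, X_z, S_u, S_z, mul_assoc, e1, e2, e3, N.u2, N.z2,
        ← N.zu, mul_one]
    have toc : ∀ w, m * w * m⁻¹ = w → m * w = w * m := by
      intro w h
      calc m * w = m * w * m⁻¹ * m := by group
        _ = w * m := by rw [h]
    refine N.no m (toc _ hmt) (toc _ hmz) (toc _ hmu) ?_
    have hr1' := cj_inv_of hr1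
    have hr2' := cj_inv_of hr2
    simp only [hm, cj_mul, hr1', hr2', hy1, hy2, hr1, hr2]

/-- **[W1]**, with `t ≁ z` replaced by `z ∈ P'`, `t ∉ P'`. -/
theorem exists_n' [Finite G] (D : Data t z P F₁ F₂) (hns : ¬ IsMaxP 2 ⊤ P) (hz' : z ∈ ⁅P, P⁆)
    (ht' : t ∉ ⁅P, P⁆)
    (hcase : (∃ c : G, c * t = t * c ∧ cj c P = P ∧ cj c F₁ = F₂) ∨ ∃ u b g : G, NoSwap t z u b g F₁ F₂) :
    ∃ n : G, cj n P = P ∧ cj n F₁ = F₁ ∧ cj n F₂ = F₂ ∧ n * t * n⁻¹ = t * z ∧ n * z * n⁻¹ = z :=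
  D.exists_n hns (D.not_isConj hns hz' ht') hcase

/-- **[W1]** from `t ~ tz`, `z ∈ P'`, `t ∉ P'` (whether `P` is Sylow in `G` or not). -/
theorem exists_n_of_conj [Finite G] (D : Data t z P F₁ F₂) (htz : IsConj t (t * z)) (hz' : z ∈ ⁅P, P⁆)
    (ht' : t ∉ ⁅P, P⁆)
    (hcase : (∃ c : G, c * t = t * c ∧ cj c P = P ∧ cj c F₁ = F₂) ∨ ∃ u b g : G, NoSwap t z u b g F₁ F₂) :
    ∃ n : G, cj n P = P ∧ cj n F₁ = F₁ ∧ cj n F₂ = F₂ ∧ n * t * n⁻¹ = t * z ∧ n * z * n⁻¹ = z := by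
  by_cases hns : IsMaxP 2 ⊤ P
  · -- `P` is Sylow in `G`: by Burnside `t`, `tz` would be conjugate in `N(P)`, impossible
    exfalso
    have : Fact (Nat.Prime 2) := ⟨Nat.prime_two⟩
    obtain ⟨g, hg⟩ := isConj_iff.mp htz
    -- `P` and `P ^ g` are Sylow in `C(tz)`
    have h1 : P ≤ centralizer {t * z} := by
      intro p hp
      rw [mem_centralizer_singleton_iff]
      have h2 := D.zc p hp
      have h3 : p * t = t * p := mem_centralizer_singleton_iff.mp (D.syl.2.1 hp)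
      rw [← mul_assoc, h3, mul_assoc, h2, mul_assoc]
    have h2 : cj g P ≤ centralizer {t * z} := by
      intro w hw
      rw [mem_cj] at hw
      have h3 : g⁻¹ * w * g * t = t * (g⁻¹ * w * g) := mem_centralizer_singleton_iff.mp (D.syl.2.1 hw)
      rw [mem_centralizer_singleton_iff, ← hg]
      calc w * (g * t * g⁻¹) = g * (g⁻¹ * w * g * t) * g⁻¹ := by group
        _ = g * t * g⁻¹ * w := by rw [h3]; group
    have h3 : ∀ Q : Subgroup G, IsMaxP 2 ⊤ Q → Q ≤ centralizer {t * z} →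
        IsMaxP 2 (centralizer {t * z}) Q := fun Q h4 h5 =>
      ⟨h4.1, h5, fun R' h6 _ h8 => h4.2.2 R' h6 le_top h8⟩
    have h4 : IsMaxP 2 ⊤ (cj g P) := by
      have h5 := hns.map_conj g
      have h6 : (⊤ : Subgroup G).map (MulAut.conj g).toMonoidHom = ⊤ :=
        Subgroup.map_top_of_surjective _ (MulAut.conj g).surjective
      rwa [h6] at h5
    obtain ⟨c, hc, hc'⟩ := (h3 _ h4 h2).exists_conj (h3 _ hns h1)
    set n := c * g with hn
    have hnP : cj n P = P := by rw [hn, cj_mul]; exact hc'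
    have hnt : n * t * n⁻¹ = t * z := by
      have h5 : c * (t * z) = t * z * c := mem_centralizer_singleton_iff.mp hc
      calc n * t * n⁻¹ = c * (g * t * g⁻¹) * c⁻¹ := by rw [hn]; group
        _ = c * (t * z) * c⁻¹ := by rw [hg]
        _ = t * z := by rw [h5]; group
    have hnz : n * z * n⁻¹ = z := by
      have h0 := commutator_conj hnP hz'
      rcases D.cen_conj hnP D.zP D.zc with h | h | h | h
      · exact absurd (conj_eq_one_iff.mp h) D.z1
      · exact absurd (h ▸ h0) ht'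
      · exact h
      · exfalso
        apply ht'
        have h1 : t = t * z * z⁻¹ := by group
        rw [h1]
        exact mul_mem (h ▸ h0) (inv_mem hz')
    -- `z² = 1` since `(tz)² = 1`... the order of `n` on `⟨t, z⟩`
    obtain ⟨k, m, hm, hkm⟩ : ∃ k m : ℕ, ¬ 2 ∣ m ∧ orderOf n = 2 ^ k * m :=
      Nat.exists_eq_pow_mul_and_not_dvd (orderOf_pos n).ne' 2 (by norm_num)
    -- powers of `n`
    have hpow : ∀ j : ℕ, n ^ j * t * (n ^ j)⁻¹ = t * z ^ j := by
      intro j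
      induction j with
      | zero => simp
      | succ j ih =>
        have h5 : n * z ^ j * n⁻¹ = z ^ j := by
          rw [← conj_pow, hnz]
        calc n ^ (j + 1) * t * (n ^ (j + 1))⁻¹ = n * (n ^ j * t * (n ^ j)⁻¹) * n⁻¹ := by
              rw [pow_succ']; group
          _ = n * t * n⁻¹ * (n * z ^ j * n⁻¹) := by rw [ih]; group
          _ = t * z ^ (j + 1) := by rw [hnt, h5, pow_succ', mul_assoc]
    have hnj : ∀ j : ℕ, cj (n ^ j) P = P := by
      intro j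
      induction j with
      | zero => rw [pow_zero, cj_one]
      | succ j ih => rw [pow_succ', cj_mul, ih, hnP]
    -- `n ^ m` is a 2-element normalizing `P`, hence in `P`, hence centralizes `t`
    have hmP : n ^ m ∈ P := by
      have h5 : IsPGroup 2 (P ⊔ zpowers (n ^ m) : Subgroup G) := by
        have h6 : IsPGroup 2 (zpowers (n ^ m)) := by
          rw [IsPGroup.iff_card]
          refine ⟨k, ?_⟩
          rw [Nat.card_zpowers, orderOf_pow, hkm]
          have h7 : m ≠ 0 := by rintro rfl; simp at hm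
          rw [Nat.gcd_eq_right (Dvd.intro_left _ rfl), Nat.mul_div_cancel _ (Nat.pos_of_ne_zero h7)]
        rw [sup_comm]
        refine h6.to_sup_of_normal_right' hns.1 ?_
        rw [zpowers_le]
        exact mem_normalizer_of_cj (hnj m)
      exact hns.2.2 _ h5 le_top le_sup_left (mem_sup_right (mem_zpowers _))
    have h5 : z ^ m = 1 := by
      have h6 : n ^ m * t = t * n ^ m := mem_centralizer_singleton_iff.mp (D.syl.2.1 hmP)
      have h7 := hpow m
      rw [h6] at h7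
      have h8 : t * z ^ m = t := by rw [← h7]; group
      simpa using h8
    -- `z` is a 2-element
    obtain ⟨l, hl⟩ := hns.1 ⟨z, D.zP⟩
    have h6 : z ^ 2 ^ l = 1 := by simpa using congrArg Subtype.val hl
    have h7 : Nat.Coprime m (2 ^ l) := Nat.Coprime.pow_right _
      ((Nat.Prime.coprime_iff_not_dvd Nat.prime_two).mpr hm).symm
    have h8 : z ^ Nat.gcd m (2 ^ l) = 1 := pow_gcd_eq_one.mpr ⟨h5, h6⟩
    rw [h7.gcd_eq_one, pow_one] at h8
    exact D.z1 h8
  · exact D.exists_n' hns hz' ht' hcase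

/-- The form in which [W1] enters `EConf` (field `x0`): `E = {ε i}`, `F₁ = ⟨t⟩ E`. -/
theorem exists_x0 {ε : ℕ → G} {n : G} (hF : ∀ y, y ∈ F₁ ↔ ∃ i < 16, y = ε i ∨ y = t * ε i)
    (hn₁ : cj n F₁ = F₁) {k : ℕ} (hk : k < 16) (hk0 : k ≠ 0) (hnt : n * t * n⁻¹ = t * ε k)
    (tE : ∀ i < 16, ∀ g : G, g * t * g⁻¹ ≠ ε i) (tconj : ∀ i < 16, IsConj t (t * ε i)) :
    ∃ x, (∀ i < 16, ∃ j < 16, x * ε i * x⁻¹ = ε j) ∧ ∃ k < 16, k ≠ 0 ∧ x * t * x⁻¹ = t * ε k := by
  refine ⟨n, ?_, k, hk, hk0, hnt⟩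
  intro i hi
  have h1 : n * ε i * n⁻¹ ∈ F₁ := mem_of_cj hn₁ ((hF _).mpr ⟨i, hi, Or.inl rfl⟩)
  obtain ⟨j, hj, h2 | h2⟩ := (hF _).mp h1
  · exact ⟨j, hj, h2⟩
  · exfalso
    have h3 : IsConj t (ε i) := by
      have h4 : IsConj (ε i) (t * ε j) := isConj_of h2
      exact (tconj j hj).trans h4.symm
    obtain ⟨g, hg⟩ := isConj_iff.mp h3
    exact tE i hi g hg

end Data

end Cfsg.Agent.TypeM.Exist
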