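import Cfsg.Agent.TypeM.QConf

/-!
Piece [W1''] of Theorem W (S1739): the element `x0` of `EConf`.

`t ~ t e` by `a`, `a ⟨t⟩E a⁻¹ = ⟨t⟩B` after adjusting in `C(t)`, `B = E` or `E'`; `f₀` of order 5 acts without
fixed points on `B` and centralizes `t`; `f := a⁻¹ f₀ a` normalizes `⟨t⟩E`, and moves `t`.
-/

set_option autoImplicit false

namespace Cfsg.Agent.TypeM

/-- `EConf` without the field `x0`. -/
structure EPre {G : Type*} [Group G] (t : G) (ε s : ℕ → G) (N : Subgroup G) : Prop where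
  tt : t * t = 1
  mul : ∀ i < 16, ∀ j < 16, ε i * ε j = ε (i ^^^ j)
  inj : ∀ i < 16, ε i = 1 → i = 0
  tε : ∀ i < 16, t * ε i = ε i * t
  εN : ∀ i < 16, ε i ∈ N
  sN : ∀ k < 5, s k ∈ N
  tN : t ∉ N
  Nt : ∀ n ∈ N, t * n = n * t
  sε : ∀ k < 5, ∀ i < 16, s k * ε i = ε (gm k i) * s k
  cen : ∀ x, TwoElt x → t * x = x * t → (∀ i < 16, x * ε i = ε i * x) →
    ∃ i < 16, x = ε i ∨ x = t * ε i
  tE : ∀ i < 16, ∀ g : G, g * t * g⁻¹ ≠ ε i

namespace EPre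

variable {G : Type*} [Group G] {t : G} {ε s : ℕ → G} {N : Subgroup G}

theorem toEConf (H : EPre t ε s N)
    (x0 : ∃ x, (∀ i < 16, ∃ j < 16, x * ε i * x⁻¹ = ε j) ∧ ∃ k < 16, k ≠ 0 ∧ x * t * x⁻¹ = t * ε k) :
    EConf t ε s N :=
  ⟨H.tt, H.mul, H.inj, H.tε, H.εN, H.sN, H.tN, H.Nt, H.sε, H.cen, H.tE, x0⟩

section

variable (H : EPre t ε s N)
include H

theorem zero : ε 0 = 1 := by
  have h := H.mul 0 (by norm_num) 0 (by norm_num)
  simpa using h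

theorem sq {i : ℕ} (hi : i < 16) : ε i * ε i = 1 := by
  rw [H.mul i hi i hi, Nat.xor_self, H.zero]

theorem eq_of {i j : ℕ} (hi : i < 16) (hj : j < 16) (e : ε i = ε j) : i = j := by
  have h1 : ε (i ^^^ j) = 1 := by rw [← H.mul i hi j hj, e, H.sq hj]
  exact Nat.xor_eq_zero_iff.mp (H.inj _ (xor_lt hi hj) h1)

theorem t_ne {i : ℕ} (hi : i < 16) : t ≠ ε i := fun h => H.tE i hi 1 (by simpa using h)

theorem tε_ne {i j : ℕ} (hi : i < 16) (hj : j < 16) : t * ε i ≠ ε j := fun h =>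
  H.t_ne (xor_lt hj hi) (by
    rw [← H.mul j hj i hi, ← h, mul_assoc, H.sq hi, mul_one])

end

/-- The group `⟨t⟩ E`. -/
def F (H : EPre t ε s N) : Subgroup G where
  carrier := {y | ∃ i < 16, y = ε i ∨ y = t * ε i}
  mul_mem' := by
    rintro _ _ ⟨i, hi, rfl | rfl⟩ ⟨j, hj, rfl | rfl⟩
    · exact ⟨_, xor_lt hi hj, Or.inl (H.mul i hi j hj)⟩
    · refine ⟨_, xor_lt hi hj, Or.inr ?_⟩
      rw [← H.mul i hi j hj, ← mul_assoc, ← mul_assoc, H.tε i hi]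
    · refine ⟨_, xor_lt hi hj, Or.inr ?_⟩
      rw [← H.mul i hi j hj, ← mul_assoc]
    · refine ⟨_, xor_lt hi hj, Or.inl ?_⟩
      rw [← H.mul i hi j hj, mul_assoc, ← mul_assoc (ε i), ← H.tε i hi, mul_assoc t, ← mul_assoc, H.tt, one_mul]
  one_mem' := ⟨0, by norm_num, Or.inl H.zero.symm⟩
  inv_mem' := by
    rintro _ ⟨i, hi, rfl | rfl⟩
    · exact ⟨i, hi, Or.inl (inv_eq_of_mul_eq_one_right (H.sq hi))⟩
    · refine ⟨i, hi, Or.inr (inv_eq_of_mul_eq_one_right ?_)⟩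
      rw [mul_assoc, ← mul_assoc (ε i), ← H.tε i hi, mul_assoc t, ← mul_assoc, H.tt, one_mul, H.sq hi]

theorem mem_F (H : EPre t ε s N) {y : G} : y ∈ H.F ↔ ∃ i < 16, y = ε i ∨ y = t * ε i := Iff.rfl

section

variable (H : EPre t ε s N)
include H

theorem t_mem : t ∈ H.F := ⟨0, by norm_num, Or.inr (by rw [H.zero, mul_one])⟩

theorem F_sq {y : G} (hy : y ∈ H.F) : y * y = 1 := by
  obtain ⟨i, hi, rfl | rfl⟩ := hy
  · exact H.sq hi
  · rw [mul_assoc, ← mul_assoc (ε i), ← H.tε i hi, mul_assoc t, ← mul_assoc, H.tt, one_mul, H.sq hi]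

theorem card_F : Nat.card H.F = 32 := by
  have h1 : Function.Bijective (fun p : Fin 2 × Fin 16 => (⟨t ^ (p.1 : ℕ) * ε p.2, by
      obtain ⟨⟨b, hb⟩, i⟩ := p
      interval_cases b
      · exact ⟨i, i.2, Or.inl (by simp)⟩
      · exact ⟨i, i.2, Or.inr (by simp)⟩⟩ : H.F)) := by
    constructor
    · rintro ⟨⟨b, hb⟩, i⟩ ⟨⟨c, hc⟩, j⟩ h
      have h2 : t ^ b * ε i = t ^ c * ε j := congrArg Subtype.val h
      have hb' : b = 0 ∨ b = 1 := by omega
      have hc' : c = 0 ∨ c = 1 := by omega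
      rcases hb' with rfl | rfl <;> rcases hc' with rfl | rfl
      · have h3 := H.eq_of i.2 j.2 (by simpa using h2)
        simp [Fin.ext_iff, h3]
      · exact absurd (by simpa using h2.symm) (H.tε_ne j.2 i.2)
      · exact absurd (by simpa using h2) (H.tε_ne i.2 j.2)
      · have h3 := H.eq_of i.2 j.2 (by simpa using h2)
        simp [Fin.ext_iff, h3]
    · rintro ⟨y, i, hi, rfl | rfl⟩
      · exact ⟨⟨0, ⟨i, hi⟩⟩, Subtype.ext (by simp)⟩
      · exact ⟨⟨1, ⟨i, hi⟩⟩, Subtype.ext (by simp)⟩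
  rw [← Nat.card_eq_of_bijective _ h1]
  simp

/-- words in the `s k` -/
theorem W_eps (w : List ℕ) (hw : ∀ k ∈ w, k < 5) {i : ℕ} (hi : i < 16) :
    (w.map s).prod * ε i = ε (act w i) * (w.map s).prod := by
  induction w with
  | nil => simp [act_nil]
  | cons k w ih =>
    rw [List.map_cons, List.prod_cons, act_cons, mul_assoc, ih (fun k hk => hw k (by simp [hk])), ← mul_assoc,
      H.sε k (hw k (by simp)) _ (act_lt w hi), mul_assoc]

theorem W_t (w : List ℕ) (hw : ∀ k ∈ w, k < 5) : t * (w.map s).prod = (w.map s).prod * t := by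
  induction w with
  | nil => simp
  | cons k w ih =>
    rw [List.map_cons, List.prod_cons, ← mul_assoc, H.Nt _ (H.sN k (hw k (by simp))), mul_assoc,
      ih (fun k hk => hw k (by simp [hk])), mul_assoc]

/-- all `t ε v`, `v ≠ 0`, are conjugate -/
theorem isConj_one {v : ℕ} (hv : v < 16) (hv0 : v ≠ 0) : IsConj (t * ε 1) (t * ε v) := by
  refine isConj_iff.mpr ⟨((wv v).map s).prod, ?_⟩
  rw [← mul_assoc, ← H.W_t _ (wv_lt v hv), mul_assoc t, H.W_eps _ (wv_lt v hv) (by norm_num),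
    wv_one v hv hv0]
  group

theorem isConj_tε {k : ℕ} (hk : k < 16) (hk0 : k ≠ 0) (hc : IsConj t (t * ε k)) {i : ℕ} (hi : i < 16) :
    IsConj t (t * ε i) := by
  by_cases h0 : i = 0
  · subst h0
    rw [H.zero, mul_one]
  · exact hc.trans ((H.isConj_one hk hk0).symm.trans (H.isConj_one hi h0))

end

/-- the word `[2, 4]` has no fixed points on `E#` -/
theorem five_spec : ∀ i < 16, act [2, 4] i = i → i = 0 := by decide +kernel

/-- `f₀ = s 2 * s 4` only centralizes `⟨t⟩` in `⟨t⟩E`. -/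
theorem fix_five (H : EPre t ε s N) {y : G} (hy : y ∈ H.F)
    (h : ([2, 4].map s).prod * y * (([2, 4].map s).prod)⁻¹ = y) : y = 1 ∨ y = t := by
  have hw : ∀ k ∈ [2, 4], k < 5 := by decide
  have h' : ([2, 4].map s).prod * y = y * ([2, 4].map s).prod := by
    calc ([2, 4].map s).prod * y
        = ([2, 4].map s).prod * y * (([2, 4].map s).prod)⁻¹ * ([2, 4].map s).prod := by group
      _ = y * ([2, 4].map s).prod := by rw [h]
  obtain ⟨i, hi, rfl | rfl⟩ := hy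
  · rw [H.W_eps _ hw hi] at h'
    have h1 := H.eq_of (act_lt _ hi) hi (mul_right_cancel h')
    rw [five_spec i hi h1, H.zero]; exact Or.inl rfl
  · rw [← mul_assoc, ← H.W_t _ hw, mul_assoc, mul_assoc, H.W_eps _ hw hi] at h'
    have h1 := H.eq_of (act_lt _ hi) hi (mul_right_cancel (mul_left_cancel h'))
    rw [five_spec i hi h1, H.zero, mul_one]; exact Or.inr rfl

theorem W_mem_F (H : EPre t ε s N) {w : List ℕ} (hw : ∀ k ∈ w, k < 5) {y : G} (hy : y ∈ H.F) :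
    (w.map s).prod * y * ((w.map s).prod)⁻¹ ∈ H.F := by
  obtain ⟨i, hi, rfl | rfl⟩ := hy
  · refine ⟨act w i, act_lt _ hi, Or.inl ?_⟩
    rw [H.W_eps _ hw hi]; group
  · refine ⟨act w i, act_lt _ hi, Or.inr ?_⟩
    rw [← mul_assoc, ← H.W_t _ hw, mul_assoc t, H.W_eps _ hw hi]; group

/-- The core of [W1'']: `a (t ε k) a⁻¹ = t` and `a ⟨t⟩E a⁻¹ ≤ ⟨t⟩B`. -/
theorem x0_of_conj [Finite G] {ε' s' : ℕ → G} {N' : Subgroup G} (H : EPre t ε s N) (H' : EPre t ε' s' N')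
    {k : ℕ} (hk : k < 16) (hk0 : k ≠ 0) {a : G} (ha : a * (t * ε k) * a⁻¹ = t)
    (hF : ∀ y ∈ H.F, a * y * a⁻¹ ∈ H'.F) :
    ∃ x, (∀ i < 16, ∃ j < 16, x * ε i * x⁻¹ = ε j) ∧ ∃ k < 16, k ≠ 0 ∧ x * t * x⁻¹ = t * ε k := by
  have hc : IsConj t (t * ε k) := (isConj_iff.mpr ⟨a, ha⟩).symm
  have hw : ∀ k ∈ [2, 4], k < 5 := by decide
  -- `a F a⁻¹ = F'`
  have h1 : H.F.map (MulAut.conj a).toMonoidHom = H'.F := by
    apply Subgroup.eq_of_le_of_card_ge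
    · rintro _ ⟨y, hy, rfl⟩
      exact hF y hy
    · rw [H'.card_F, ← H.card_F]
      exact (Nat.card_congr (H.F.equivMapOfInjective _ (MulAut.conj a).injective).toEquiv).le
  have h2 : ∀ y ∈ H'.F, a⁻¹ * y * a ∈ H.F := by
    intro y hy
    rw [← h1] at hy
    obtain ⟨x, hx, rfl⟩ := hy
    have h3 : a⁻¹ * (MulAut.conj a).toMonoidHom x * a = x := by
      change a⁻¹ * (a * x * a⁻¹) * a = x
      group
    rw [h3]; exact hx
  set f₀ := ([2, 4].map s').prod with hf₀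
  set f := a⁻¹ * f₀ * a with hf
  have hfF : ∀ y ∈ H.F, f * y * f⁻¹ ∈ H.F := by
    intro y hy
    have h3 := h2 _ (H'.W_mem_F hw (hF y hy))
    have h4 : f * y * f⁻¹ = a⁻¹ * (f₀ * (a * y * a⁻¹) * f₀⁻¹) * a := by rw [hf]; group
    rw [h4]; exact h3
  have hfix : ∀ y ∈ H.F, f * y * f⁻¹ = y → y = 1 ∨ y = t * ε k := by
    intro y hy h
    have h3 : f₀ * (a * y * a⁻¹) * f₀⁻¹ = a * y * a⁻¹ := by
      calc f₀ * (a * y * a⁻¹) * f₀⁻¹ = a * (f * y * f⁻¹) * a⁻¹ := by rw [hf]; group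
        _ = a * y * a⁻¹ := by rw [h]
    rcases H'.fix_five (hF y hy) h3 with h4 | h4
    · exact Or.inl (conj_eq_one_iff.mp h4)
    · right
      have h5 : a * y * a⁻¹ = a * (t * ε k) * a⁻¹ := by rw [h4, ha]
      simpa using h5
  have htc : ∀ i < 16, IsConj t (t * ε i) := fun i hi => H.isConj_tε hk hk0 hc hi
  refine ⟨f, ?_, ?_⟩
  · intro i hi
    obtain ⟨j, hj, h3 | h3⟩ := hfF (ε i) ⟨i, hi, Or.inl rfl⟩
    · exact ⟨j, hj, h3⟩
    · exfalso
      have h4 : IsConj t (ε i) := (htc j hj).trans (isConj_iff.mpr ⟨f, h3⟩).symm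
      obtain ⟨g, hg⟩ := isConj_iff.mp h4
      exact H.tE i hi g hg
  · obtain ⟨j, hj, h3 | h3⟩ := hfF t H.t_mem
    · exact absurd h3 (H.tE j hj f)
    · refine ⟨j, hj, ?_, h3⟩
      rintro rfl
      rw [H.zero, mul_one] at h3
      rcases hfix t H.t_mem h3 with h4 | h4
      · exact H.t_ne (i := 0) (by norm_num) (by rw [h4, H.zero])
      · exact hk0 (H.inj k hk (by simpa using h4.symm))

/-- **[W1'']** The element `x0`: `t ~ t ε k` for some `k ≠ 0`, and every elementary abelian group of order 32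
containing `t` is conjugate in `C(t)` to `⟨t⟩E` or `⟨t⟩E'`. -/
theorem exists_x0 [Finite G] {ε' s' : ℕ → G} {N' : Subgroup G} (H : EPre t ε s N) (H' : EPre t ε' s' N')
    (hk : ∃ k < 16, k ≠ 0 ∧ IsConj t (t * ε k))
    (h1 : ∀ R : Subgroup G, t ∈ R → (∀ x ∈ R, x * x = 1) → Nat.card R = 32 → ∃ c, c * t = t * c ∧
      ((∀ x ∈ R, ∃ i < 16, c * x * c⁻¹ = ε i ∨ c * x * c⁻¹ = t * ε i) ∨
        (∀ x ∈ R, ∃ i < 16, c * x * c⁻¹ = ε' i ∨ c * x * c⁻¹ = t * ε' i))) :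
    ∃ x, (∀ i < 16, ∃ j < 16, x * ε i * x⁻¹ = ε j) ∧ ∃ k < 16, k ≠ 0 ∧ x * t * x⁻¹ = t * ε k := by
  obtain ⟨k, hk, hk0, hc⟩ := hk
  obtain ⟨a, ha⟩ := isConj_iff.mp hc.symm
  obtain ⟨c, hct, hc'⟩ := h1 (H.F.map (MulAut.conj a).toMonoidHom)
    ⟨t * ε k, ⟨k, hk, Or.inr rfl⟩, ha⟩
    (by
      rintro _ ⟨y, hy, rfl⟩
      rw [← map_mul, H.F_sq hy, map_one])
    (by
      rw [← H.card_F]
      exact (Nat.card_congr (H.F.equivMapOfInjective _ (MulAut.conj a).injective).toEquiv).symm)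
  have hca : (c * a) * (t * ε k) * (c * a)⁻¹ = t := by
    calc (c * a) * (t * ε k) * (c * a)⁻¹ = c * (a * (t * ε k) * a⁻¹) * c⁻¹ := by group
      _ = t := by rw [ha, hct]; group
  have hy : ∀ y ∈ H.F, a * y * a⁻¹ ∈ H.F.map (MulAut.conj a).toMonoidHom := fun y hy => ⟨y, hy, rfl⟩
  have e : ∀ y, (c * a) * y * (c * a)⁻¹ = c * (a * y * a⁻¹) * c⁻¹ := fun y => by group
  rcases hc' with h | h
  · exact H.x0_of_conj H hk hk0 hca (fun y hy' => by rw [e]; exact h _ (hy y hy'))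
  · exact H.x0_of_conj H' hk hk0 hca (fun y hy' => by rw [e]; exact h _ (hy y hy'))

end EPre

end Cfsg.Agent.TypeM
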