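import Cfsg.Agent.TypeM.CmpEnd

/-!
# `A ≤ R'`: the group `A` is in the same position for both frames

(piece [WA] of Theorem W, S1739)
-/

set_option autoImplicit false

namespace Cfsg.Agent.TypeM.GEnd

open Subgroup Cfsg.Agent.TypeM.LyL Cfsg.Agent.TypeM.SRel Cfsg.Agent.TypeM.OddF Cfsg.Agent.TypeM.AMap
open Cfsg.Agent.TypeM.KElt Cfsg.Agent.TypeM.Cmp
open Cfsg.Agent.TypeM.Cmp.Hyp
open scoped commutatorElement

/-- the word of order three acting on `{ν i}` without fixed points -/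
def wy : List ℕ := [4, 1]

/-- action on the classes -/
def sy : ℕ → ℕ
  | 1 => 3
  | 2 => 1
  | 3 => 2
  | _ => 0

theorem wy_lt : ∀ k ∈ wy, k < 5 := by decide

theorem wy_three : ∀ i < 16, act wy (act wy (act wy i)) = i := by decide +kernel

theorem wy_cl : ∀ c < 4, ∀ i < 16, act wy (act (cl c) i) = act (cl (sy c)) (act wy i) := by decide +kernel

theorem sy_lt : ∀ c < 4, sy c < 4 := by decide

theorem sy_ne : ∀ c < 4, c ≠ 0 → sy c ≠ 0 := by decide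

theorem sy_fix : ∀ c < 4, sy c = c → c = 0 := by decide

theorem wy_low : ∀ i < 4, act wy i < 4 := by decide +kernel

theorem wy_fix : ∀ i < 4, act wy i = i → i = 0 := by decide +kernel

variable {G : Type*} [Group G] {t : G} {K : Subgroup G} {e e' : ℕ → G} {b : G} {μ σ μ' σ' ν σ₂ : ℕ → G} {β : G}
  {O R A O' O₂ R₂ : Subgroup G} (h : Hyp t K e e' b μ σ μ' σ' ν β O R A O')
include h

/-- **`A ≤ R'`**. -/
theorem A_le [Finite G] (Q : QConf t e' ν σ₂) (hR : Resid t e' ν O₂ R₂) : A ≤ R₂ := by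
  have hSK : h.D.S.S ≤ K := h.D.S.S_le h.D.eK h.D.eK' h.D.bK
  -- the element `k'`
  obtain ⟨k, hk, hko, hkB, hkμ, hkP⟩ := KEltP.exists_kP h.D.Q h.hR h.hA h.hS (h.hS.P_le_S.trans (le_of_eq h.hAS.symm))
    wy_lt (fun c hc => ⟨sy c, sy_lt c hc, wy_cl c hc⟩) wy_three
  obtain ⟨ρ, hρ⟩ := KEltP.exists_rho h.hS hkP wy_lt hkμ sy_lt wy_cl sy_ne wy_low
  have hfix : ∀ i < 16, ρ i = i → i = 0 := by
    intro i hi h1
    obtain ⟨-, -, h2, h3⟩ := hρ i hi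
    rw [h1] at h2 h3
    have h4 := sy_fix _ (div_lt i hi) h2.symm
    have h5 : i < 4 := by omega
    exact wy_fix i h5 (h3 h5).symm
  have hkR : k ∈ R₂ := hR.odd k hko (fun i hi => ⟨_, (hρ i hi).1, (hρ i hi).2.1⟩) fun i hi => by
    rw [← h.t_nu hi]
    exact hkB _ (h.nuA hi)
  intro a ha
  have hx := h.hA.back a ha
  have hxK := hSK hx
  obtain ⟨w, hw, h1⟩ := h.D.aut' _ (h.D.Kt _ hxK) fun i hi => h.D.S.conj_nu hx hi
  have h2 : ∀ i < 16, a * ν i * a⁻¹ = ν (act w i) := fun i hi => by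
    rw [← h.hA.conj_eq ha rfl (h.nuA hi)]
    exact h.S_nu hx hi (act_lt w hi) (h1 i hi)
  obtain ⟨r, hr, -, hrw⟩ := hR.word w hw
  have z1 : ∀ i < 16, r⁻¹ * a * ν i = ν i * (r⁻¹ * a) := by
    intro i hi
    have h3 : a * ν i * a⁻¹ = r * ν i * r⁻¹ := by rw [h2 i hi, hrw i hi]
    calc r⁻¹ * a * ν i = r⁻¹ * (a * ν i * a⁻¹) * a := by group
      _ = _ := by rw [h3]; group
  have z2 : ∀ i < 16, r⁻¹ * a * e' i = e' i * (r⁻¹ * a) := by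
    intro i hi
    have h3 : Commute a (ν i * e' i) := by
      rw [← h.t_nu hi]
      exact h.hA.comm a ha _ (h.nuA hi)
    have h4 : Commute r (ν i * e' i) := (hR.le r hr).2 i hi
    have h5 : Commute (r⁻¹ * a) (ν i * e' i) := h4.inv_left.mul_left h3
    have h6 : Commute (r⁻¹ * a) (ν i) := z1 i hi
    have h7 : e' i = (ν i)⁻¹ * (ν i * e' i) := by group
    rw [h7]
    exact (h6.inv_right.mul_right h5).eq
  obtain ⟨i, hi, j, hj, o, ho, h3⟩ := hR.cenQ _ z2 z1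
  -- `a = r'' n`
  set n : G := t * ν i * t⁻¹ with hn
  have hnν : ∀ j < 16, n * ν j = ν j * n := fun j hj => (h.hA.comm _ (h.nuA hj) _ (h.nuA hi)).symm
  have ho' : n * o * n⁻¹ ∈ O₂ := normRt Q hR (hR.mu_mem i hi) o ho
  have h4 : a = (r * ν i * ν j * (n * o * n⁻¹)) * n := by
    have h5 : a = r * (r⁻¹ * a) := by group
    rw [h5, h3, h.he' i hi, ← hn]
    calc r * (ν i * n * ν j * o) = r * ν i * (n * ν j) * o := by group
      _ = _ := by rw [hnν j hj]; group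
  set r₂ : G := r * ν i * ν j * (n * o * n⁻¹) with hr₂
  have hr₂R : r₂ ∈ R₂ := mul_mem (mul_mem (mul_mem hr (hR.mu_mem i hi)) (hR.mu_mem j hj)) (O_le hR ho')
  -- `c = k'ᵗ`
  have hca : (t * k * t⁻¹) * a⁻¹ = a⁻¹ * (t * k * t⁻¹) := by
    have h5 : k * (t * a⁻¹ * t⁻¹) = (t * a⁻¹ * t⁻¹) * k := hkB a⁻¹ (inv_mem ha)
    have h6 : a⁻¹ = t * (t * a⁻¹ * t⁻¹) * t⁻¹ := by
      have h7 : t * (t * a⁻¹ * t⁻¹) * t⁻¹ = (t * t) * a⁻¹ * (t * t)⁻¹ := by group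
      rw [h7, h.D.Q.tt]; group
    calc (t * k * t⁻¹) * a⁻¹ = (t * k * t⁻¹) * (t * (t * a⁻¹ * t⁻¹) * t⁻¹) := by rw [← h6]
      _ = t * (k * (t * a⁻¹ * t⁻¹)) * t⁻¹ := by group
      _ = (t * (t * a⁻¹ * t⁻¹) * t⁻¹) * (t * k * t⁻¹) := by rw [h5]; group
      _ = _ := by rw [← h6]
  have h5 := hR.comm r₂⁻¹ (inv_mem hr₂R) k hkR
  rw [commutatorElement_def, inv_inv] at h5
  have h6 : r₂⁻¹ * (t * k * t⁻¹) * r₂ * (t * k * t⁻¹)⁻¹ = t * ν (i ^^^ ρ i) * t⁻¹ := by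
    have h7 : r₂ = a * n⁻¹ := by rw [h4]; group
    have h8 : (t * k * t⁻¹) * n * (t * k * t⁻¹)⁻¹ = t * ν (ρ i) * t⁻¹ := by
      rw [hn, ← (hρ i hi).2.1]; group
    calc r₂⁻¹ * (t * k * t⁻¹) * r₂ * (t * k * t⁻¹)⁻¹
        = n * (a⁻¹ * (t * k * t⁻¹)) * a * n⁻¹ * (t * k * t⁻¹)⁻¹ := by rw [h7]; group
      _ = n * ((t * k * t⁻¹) * n * (t * k * t⁻¹)⁻¹)⁻¹ := by rw [← hca]; group
      _ = t * (ν i * (ν (ρ i))⁻¹) * t⁻¹ := by rw [h8, hn]; group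
      _ = _ := by rw [h.hS.inv' (hρ i hi).1, h.hS.mul' i hi _ (hρ i hi).1]
  rw [h6] at h5
  have h7 : t * ν (i ^^^ ρ i) * t⁻¹ = 1 := by
    refine eq_one_of_sq ?_ (KElt.odd hR _ h5)
    calc t * ν (i ^^^ ρ i) * t⁻¹ * (t * ν (i ^^^ ρ i) * t⁻¹) = t * (ν (i ^^^ ρ i) * ν (i ^^^ ρ i)) * t⁻¹ := by group
      _ = 1 := by rw [h.hS.sq' (xor_lt hi (hρ i hi).1)]; group
  have h8 : ν (i ^^^ ρ i) = 1 := by
    calc ν (i ^^^ ρ i) = t⁻¹ * (t * ν (i ^^^ ρ i) * t⁻¹) * t := by group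
      _ = 1 := by rw [h7]; group
  have h9 : i = 0 := hfix i hi (Nat.xor_eq_zero_iff.1 (h.hS.inj' _ (xor_lt hi (hρ i hi).1) h8)).symm
  have h10 : n = 1 := by rw [hn, h9, h.hS.zero']; group
  rw [h4, h10, mul_one]
  exact hr₂R

/-- the position of `A` for the second frame -/
theorem aout [Finite G] (Q : QConf t e' ν σ₂) (hR : Resid t e' ν O₂ R₂) : AOut t h.D.S.S A R₂ ν where
  le := A_le h Q hR
  card := h.hA.card
  mu _ hi := h.nuA hi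
  ex := h.hA.ex
  back := h.hA.back
  comm := h.hA.comm
  disj := h.hA.disj

/-- (W9) -/
theorem exists_k9 [Finite G] : ∃ k : G, Odd (orderOf k) ∧ (∀ a ∈ A, k * (t * a * t⁻¹) = (t * a * t⁻¹) * k) ∧
    (∀ i < 16, ∃ j < 16, k * μ i * k⁻¹ = μ j) ∧ (∀ i < 16, ∃ j < 16, k * ν i * k⁻¹ = ν j) ∧ k * μ 1 * k⁻¹ ≠ μ 1 := by
  obtain ⟨k, hk, hko, hkB, hkμ, hkP⟩ := KEltP.exists_kP h.D.Q h.hR h.hA h.hS (h.hS.P_le_S.trans (le_of_eq h.hAS.symm))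
    wy_lt (fun c hc => ⟨sy c, sy_lt c hc, wy_cl c hc⟩) wy_three
  obtain ⟨ρ, hρ⟩ := KEltP.exists_rho h.hS hkP wy_lt hkμ sy_lt wy_cl sy_ne wy_low
  refine ⟨k, hko, hkB, fun i hi => ⟨_, act_lt wy hi, hkμ i hi⟩, fun i hi => ⟨_, (hρ i hi).1, (hρ i hi).2.1⟩, ?_⟩
  rw [hkμ 1 (by norm_num)]
  intro h1
  have h2 := h.hS.eq_of (act_lt wy (by norm_num)) (by norm_num) h1
  revert h2
  decide +kernel

end Cfsg.Agent.TypeM.GEnd
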