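import Cfsg.Agent.TypeM.WFourChk

/-!
# Step W4 of Theorem W of S1739: the argument with matrices
-/

set_option autoImplicit false

namespace Cfsg.Agent.TypeM.WFour

open Cfsg.Agent.TypeM

/-- letters of a word are `< 5` -/
def Wd (w : List ℕ) : Prop := ∀ k ∈ w, k < 5

theorem Wd.append {u v : List ℕ} (hu : Wd u) (hv : Wd v) : Wd (u ++ v) := by
  intro k hk
  rw [List.mem_append] at hk
  rcases hk with hk | hk
  · exact hu k hk
  · exact hv k hk

theorem Wd.rev {u : List ℕ} (hu : Wd u) : Wd u.reverse := fun k hk => hu k (by simpa using hk)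

/-- `w` or `t w` -/
def TW (L : List ℕ) : Prop := ∃ w, Wd w ∧ (L = wm w ∨ L = comp tL (wm w))

theorem comp_lt' {M N : List ℕ} (hM : ∀ x ∈ M, x < 256) : ∀ x ∈ comp M N, x < 256 := comp_lt hM N

theorem tL_lt : ∀ x ∈ tL, x < 256 := by simp [tL]

theorem okY_word {w : List ℕ} (hw : Wd w) : okY (wm w) = true ∧ okY (comp tL (wm w)) = true := by
  have h0 := inA_word w hw
  have hl : (em w).length = 4 := rfl
  have h1 : (wm w).take 4 = em w := by rw [wm_eq w hw, List.take_left' hl]
  have h2 : (wm w).drop 4 = (em w).map (16 * ·) := by rw [wm_eq w hw, List.drop_left' hl]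
  have hlt : ∀ i < 16, act w i < 16 := fun i hi => act_lt w hi
  have ht : ∀ i < 16, app tL i = i ∧ app tL (16 * i) = 17 * i := by decide +kernel
  have h3 : (comp tL (wm w)).take 4 = em w := by
    rw [comp, ← List.map_take, h1, em]
    simp only [List.map_cons, List.map_nil, (ht _ (hlt 1 (by norm_num))).1,
      (ht _ (hlt 2 (by norm_num))).1, (ht _ (hlt 4 (by norm_num))).1,
      (ht _ (hlt 8 (by norm_num))).1]
  have h4 : (comp tL (wm w)).drop 4 = (em w).map (17 * ·) := by
    rw [comp, ← List.map_drop, h2, em]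
    simp only [List.map_cons, List.map_nil, (ht _ (hlt 1 (by norm_num))).2,
      (ht _ (hlt 2 (by norm_num))).2, (ht _ (hlt 4 (by norm_num))).2,
      (ht _ (hlt 8 (by norm_num))).2]
  constructor
  · rw [okY, h1, h2, h0]; simp
  · rw [okY, h3, h4, h0]; simp

theorem okY_TW {L : List ℕ} (h : TW L) : okY L = true := by
  obtain ⟨w, hw, rfl | rfl⟩ := h
  · exact (okY_word hw).1
  · exact (okY_word hw).2

/-- matrices with their basic properties -/
def Mt (L : List ℕ) : Prop := L.length = 8 ∧ ∀ x ∈ L, x < 256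

theorem Mt.comp {L M : List ℕ} (hL : Mt L) (hM : Mt M) : Mt (comp L M) :=
  ⟨by rw [comp_length, hM.1], comp_lt hL.2 M⟩

theorem Mt.wm (w : List ℕ) : Mt (wm w) := ⟨wm_len w, wm_lt w⟩

theorem Mt.t : Mt tL := ⟨rfl, tL_lt⟩

theorem Mt.dg (k : ℕ) : Mt (dgL k) := ⟨rfl, dgL_lt' k⟩

/-- The data: `R L` means that some element of `G` acts on `Q` by `L`; `Γ` is the second frame, `Δ` its
inverse. -/
structure MHyp (R : List ℕ → Prop) (Γ Δ : List ℕ) : Prop where
  mul : ∀ L M, R L → R M → R (comp L M)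
  word : ∀ w, Wd w → R (wm w)
  t : R tL
  r1 : ∀ L, R L → comp L tL = comp tL L → TW L
  hΓ : Mt Γ
  hΔ : Mt Δ
  ΓΔ : comp Γ Δ = idL
  ΔΓ : comp Δ Γ = idL
  c1 : comp (comp Δ tpL) Γ = tL
  r2 : ∀ L, R L → comp L tpL = comp tpL L → TW (comp (comp Δ L) Γ)
  r3 : ∀ w, Wd w → R (comp (comp Γ (wm w)) Δ)

namespace MHyp

variable {R : List ℕ → Prop} {Γ Δ : List ℕ}

/-- conjugation by `Δ` -/
theorem cj_mul (h : MHyp R Γ Δ) {L M : List ℕ} (hM : Mt M) :
    comp (comp Δ (comp L M)) Γ = comp (comp (comp Δ L) Γ) (comp (comp Δ M) Γ) := by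
  simp only [comp_assoc]
  rw [← comp_assoc Γ Δ, h.ΓΔ, id_comp (comp_lt hM.2 Γ)]

/-- `u⁻¹ L u` of a word or `t` times a word -/
theorem TW_conj {u : List ℕ} (hu : Wd u) {L : List ℕ} (hL : TW L) :
    TW (comp (wm u.reverse) (comp L (wm u))) := by
  obtain ⟨w, hw, rfl | rfl⟩ := hL
  · refine ⟨u.reverse ++ (w ++ u), hu.rev.append (hw.append hu), Or.inl ?_⟩
    rw [wm_append, wm_append]
  · refine ⟨u.reverse ++ (w ++ u), hu.rev.append (hw.append hu), Or.inr ?_⟩
    rw [wm_append, wm_append, comp_assoc, ← comp_assoc (wm u.reverse), ← tL_wm _ hu.rev]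
    simp only [comp_assoc]

theorem conj (h : MHyp R Γ Δ) {u : List ℕ} (hu : Wd u) :
    MHyp R (comp Γ (wm u)) (comp (wm u.reverse) Δ) where
  mul := h.mul
  word := h.word
  t := h.t
  r1 := h.r1
  hΓ := h.hΓ.comp (Mt.wm u)
  hΔ := (Mt.wm _).comp h.hΔ
  ΓΔ := by
    rw [comp_assoc, ← comp_assoc (wm u), wm_rev u hu, id_comp h.hΔ.2, h.ΓΔ]
  ΔΓ := by
    rw [comp_assoc, ← comp_assoc Δ, h.ΔΓ, id_comp (wm_lt u), wm_rev' u hu]
  c1 := by
    have : comp (comp (comp (wm u.reverse) Δ) tpL) (comp Γ (wm u)) =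
        comp (wm u.reverse) (comp (comp (comp Δ tpL) Γ) (wm u)) := by simp only [comp_assoc]
    rw [this, h.c1, tL_wm u hu, ← comp_assoc, wm_rev' u hu, id_comp tL_lt]
  r2 := by
    intro L hL hc
    have : comp (comp (comp (wm u.reverse) Δ) L) (comp Γ (wm u)) =
        comp (wm u.reverse) (comp (comp (comp Δ L) Γ) (wm u)) := by simp only [comp_assoc]
    rw [this]
    exact TW_conj hu (h.r2 L hL hc)
  r3 := by
    intro w hw
    have : comp (comp (comp Γ (wm u)) (wm w)) (comp (wm u.reverse) Δ) =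
        comp (comp Γ (wm (u ++ (w ++ u.reverse)))) Δ := by
      rw [wm_append, wm_append]; simp only [comp_assoc]
    rw [this]
    exact h.r3 _ (hu.append (hw.append hu.rev))

end MHyp

theorem fL_sq : comp fL fL = dgL 0 := by decide +kernel
theorem fL_t : comp fL tpL = comp tpL fL := by decide +kernel
theorem t_eq : comp tpL (dgL 0) = tL := by decide +kernel
theorem bL_t : comp bL tpL = comp tpL bL := by decide +kernel
theorem oL_t : comp oL tpL = comp tpL oL := by decide +kernel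
theorem bL_w : comp bL (dgL 0) = comp (dgL 0) bL := by decide +kernel
theorem oL_w : comp oL (dgL 0) = comp (dgL 0) oL := by decide +kernel
theorem fL_w : comp fL (dgL 0) = comp (dgL 0) fL := by decide +kernel
theorem bL_sq : comp bL bL = idL := by decide +kernel
theorem oL_cube : comp oL (comp oL oL) = idL := by decide +kernel
theorem oL_ne : oL ≠ idL := by decide +kernel
theorem bo : comp bL (comp oL (comp bL oL)) = idL := by decide +kernel

theorem wd_f : Wd [1, 0, 1, 3] := by intro k hk; simp at hk; omega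
theorem wd_b : Wd [3, 0] := by intro k hk; simp at hk; omega
theorem wd_o : Wd [3, 4, 3, 1] := by intro k hk; simp at hk; omega

theorem TW_sq {L : List ℕ} (h : TW L) : ∃ w, Wd w ∧ comp L L = wm w := by
  obtain ⟨w, hw, rfl | rfl⟩ := h
  · exact ⟨w ++ w, hw.append hw, by rw [wm_append]⟩
  · refine ⟨w ++ w, hw.append hw, ?_⟩
    rw [comp_assoc, ← comp_assoc (wm w), ← tL_wm w hw, comp_assoc, ← comp_assoc tL tL, tt_id,
      id_comp (comp_lt (wm_lt w) _), wm_append]

theorem em_comp (u v : List ℕ) (hu : Wd u) : em (u ++ v) = comp (em u) (em v) := by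
  have e : comp (em u) (em v) = [app (em u) (act v 1), app (em u) (act v 2),
    app (em u) (act v 4), app (em u) (act v 8)] := rfl
  rw [e, em_app u hu (act_lt v (by norm_num)), em_app u hu (act_lt v (by norm_num)),
    em_app u hu (act_lt v (by norm_num)), em_app u hu (act_lt v (by norm_num))]
  simp only [em, act_append]

theorem wm_ext {u v : List ℕ} (hu : Wd u) (hv : Wd v) (h : em u = em v) : wm u = wm v := by
  rw [wm_eq u hu, wm_eq v hv, h]

/-- from the matrices of words back to the action -/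
theorem act_of_wm {u v : List ℕ} (hu : Wd u) (hv : Wd v) (h : wm u = wm v) {i : ℕ} (hi : i < 16) :
    act u i = act v i := by
  rw [← wm_app u hu hi, ← wm_app v hv hi, h]

theorem act_rev {u : List ℕ} (hu : Wd u) {i : ℕ} (hi : i < 16) : act u.reverse (act u i) = i := by
  rw [← act_append]
  have h := act_of_wm (u := u.reverse ++ u) (v := []) (hu.rev.append hu) (by intro k hk; simp at hk)
    (by rw [wm_append, wm_rev' u hu]; rfl) hi
  rw [h, act_nil]

theorem act_ne_zero {u : List ℕ} (hu : Wd u) {i : ℕ} (hi : i < 16) (h : act u i = 0) : i = 0 := by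
  have h1 := act_rev hu hi
  rw [h] at h1
  have h2 := wm_app u.reverse hu.rev (i := 0) (by norm_num)
  rw [app_zero] at h2
  rw [← h1, ← h2]

theorem act_zero {u : List ℕ} (hu : Wd u) : act u 0 = 0 := by
  rw [← wm_app u hu (by norm_num), app_zero]

/-- `A₇` is 2-transitive on `{1, …, 15}` -/
theorem two_trans {i j : ℕ} (hi : i < 16) (hj : j < 16) (hi0 : i ≠ 0) (hj0 : j ≠ 0) (hij : i ≠ j) :
    ∃ u, Wd u ∧ act u 1 = i ∧ act u 2 = j := by
  rcases pair_spec i hi j hj with h | h | h | ⟨k, hk, hk0, hk1, h⟩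
  · exact absurd h hi0
  · exact absurd h hj0
  · exact absurd h hij
  · obtain ⟨h1, h2⟩ := pr_spec k hk hk0 hk1
    refine ⟨wv i ++ bw (pr k), Wd.append (wv_lt i hi) (bw_lt _), ?_, ?_⟩
    · rw [act_append, h1, wv_one i hi hi0]
    · rw [act_append, h2, h]

/-- an involution of `A₇` is conjugate to `s 0` -/
theorem conj_invol {v : List ℕ} (hv : Wd v) (h2 : comp (wm v) (wm v) = idL) (h1 : wm v ≠ idL) :
    ∃ u, Wd u ∧ comp (wm u.reverse) (comp (wm v) (wm u)) = dgL 0 := by
  have hinv : ∀ i < 16, act v (act v i) = i := by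
    intro i hi
    rw [← act_append]
    have h := act_of_wm (u := v ++ v) (v := []) (hv.append hv) (by intro k hk; simp at hk)
      (by rw [wm_append, h2]; rfl) hi
    rw [h, act_nil]
  obtain ⟨c, hc, hcv⟩ : ∃ c < 16, act v c ≠ c := by
    by_contra hcon
    push Not at hcon
    apply h1
    have : wm v = wm [] := wm_ext hv (by intro k hk; simp at hk) (by
      simp only [em, act_nil, hcon 1 (by norm_num), hcon 2 (by norm_num), hcon 4 (by norm_num),
        hcon 8 (by norm_num)])
    rw [this]; rfl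
  have hc0 : c ≠ 0 := by rintro rfl; exact hcv (act_zero hv)
  have hvc0 : act v c ≠ 0 := fun e => hc0 (act_ne_zero hv hc e)
  obtain ⟨u0, hu0, e1, e2⟩ := two_trans hc (act_lt v hc) hc0 hvc0 (Ne.symm hcv)
  set v1 := u0.reverse ++ (v ++ u0) with hv1
  have hv1w : Wd v1 := hu0.rev.append (hv.append hu0)
  have a1 : act v1 1 = 2 := by
    rw [hv1, act_append, act_append, e1, ← e2, act_rev hu0 (by norm_num)]
  have a2 : act v1 2 = 1 := by
    rw [hv1, act_append, act_append, e2, hinv c hc, ← e1, act_rev hu0 (by norm_num)]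
  have hsq : ∀ i < 16, act v1 (act v1 i) = i := by
    intro i hi
    have hlt := act_lt (v ++ u0) hi
    rw [hv1, act_append, act_append u0.reverse]
    have h3 : act (v ++ u0) (act u0.reverse (act (v ++ u0) i)) = act u0 i := by
      rw [act_append v u0 (act u0.reverse _)]
      have h4 := act_rev hu0.rev hlt
      rw [List.reverse_reverse] at h4
      rw [h4, act_append, hinv _ (act_lt u0 hi)]
    rw [h3, act_rev hu0 hi]
  have hM : em v1 = [2, 1, act v1 4, act v1 8] := by rw [em, a1, a2]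
  have hchk := l6_check
  rw [List.all_eq_true] at hchk
  have hchk2 := hchk (act v1 4) (List.mem_range.mpr (act_lt v1 (by norm_num)))
  rw [List.all_eq_true] at hchk2
  have hchk3 := hchk2 (act v1 8) (List.mem_range.mpr (act_lt v1 (by norm_num)))
  rw [← hM, inA_word v1 hv1w] at hchk3
  have hcc : comp (em v1) (em v1) = [1, 2, 4, 8] := by
    rw [← em_comp v1 v1 hv1w, em]
    simp only [act_append, hsq 1 (by norm_num), hsq 2 (by norm_num), hsq 4 (by norm_num),
      hsq 8 (by norm_num)]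
  rw [hcc] at hchk3
  have hany : ((List.range 15).any fun i => app (em v1) (i + 1) == 0) = false := by
    rw [List.any_eq_false]
    intro i hi
    rw [List.mem_range] at hi
    rw [em_app v1 hv1w (by omega)]
    intro e
    have := act_ne_zero hv1w (i := i + 1) (by omega) (by simpa using e)
    omega
  rw [hany] at hchk3
  simp only [Bool.not_true, Bool.or_false, Bool.false_or, beq_self_eq_true] at hchk3
  rw [List.any_eq_true] at hchk3
  obtain ⟨u1, hu1m, hu1⟩ := hchk3
  have hu1w : Wd u1 := by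
    have : ∀ u ∈ l6w, ∀ k ∈ u, k < 5 := by decide +kernel
    exact this u1 hu1m
  have h0w : Wd [0] := by intro k hk; simp at hk; omega
  have h5 : wm (v1 ++ u1) = wm (u1 ++ [0]) := by
    apply wm_ext (hv1w.append hu1w) (hu1w.append h0w)
    rw [em_comp v1 u1 hv1w, em_comp u1 [0] hu1w, beq_iff_eq.mp hu1]
    congr 1
  refine ⟨u0 ++ u1, hu0.append hu1w, ?_⟩
  rw [List.reverse_append, wm_append, wm_append]
  have h6 : comp (wm u0.reverse) (comp (wm v) (wm u0)) = wm v1 := by
    rw [hv1, wm_append, wm_append]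
  have h7 : comp (comp (wm u1.reverse) (wm u0.reverse)) (comp (wm v) (comp (wm u0) (wm u1))) =
      comp (wm u1.reverse) (comp (comp (wm u0.reverse) (comp (wm v) (wm u0))) (wm u1)) := by
    simp only [comp_assoc]
  rw [h7, h6, ← wm_append v1, h5, wm_append, ← comp_assoc, wm_rev' u1 hu1w,
    id_comp (wm_lt _), wm_one]

/-! ### the main argument -/

theorem mem_C48 {w : List ℕ} (hw : Wd w) (hc : comp (wm w) (dgL 0) = comp (dgL 0) (wm w)) :
    wm w ∈ c24w.map wm := by
  have h0w : Wd [0] := by intro k hk; simp at hk; omega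
  have hcomm : ∀ i < 16, act w (gm 0 i) = gm 0 (act w i) := by
    intro i hi
    have h := act_of_wm (u := w ++ [0]) (v := [0] ++ w) (hw.append h0w) (h0w.append hw) (by
      rw [wm_append, wm_append, wm_one, hc]) hi
    rw [act_append, act_append] at h
    exact h
  have e5 : act w 5 = act w 1 ^^^ act w 4 := by
    rw [← em_app w hw (i := 5) (by norm_num)]
    simp [em, app_cons, app_nil]
  have e11 : act w 11 = act w 1 ^^^ act w 2 ^^^ act w 8 := by
    rw [← em_app w hw (i := 11) (by norm_num)]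
    simp [em, app_cons, app_nil, Nat.xor_assoc]
  have g4 : gm 0 4 = 5 := by decide
  have g8 : gm 0 8 = 11 := by decide
  have h4 := hcomm 4 (by norm_num)
  have h8 := hcomm 8 (by norm_num)
  rw [g4, e5] at h4
  rw [g8, e11] at h8
  have x1 : act w 1 = act w 4 ^^^ gm 0 (act w 4) := by
    rw [← h4, Nat.xor_comm (act w 1), ← Nat.xor_assoc, Nat.xor_self, Nat.zero_xor]
  have x2 : act w 2 = act w 4 ^^^ gm 0 (act w 4) ^^^ act w 8 ^^^ gm 0 (act w 8) := by
    rw [← x1, ← h8]
    generalize act w 1 = p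
    generalize act w 2 = q
    generalize act w 8 = r
    apply Nat.eq_of_testBit_eq
    intro i
    simp only [Nat.testBit_xor]
    cases p.testBit i <;> cases q.testBit i <;> cases r.testBit i <;> rfl
  have hM : em w = M24 (act w 4) (act w 8) := by
    rw [em, M24, ← x2, ← x1]
  have hchk := c24_check
  rw [List.all_eq_true] at hchk
  have hchk2 := hchk (act w 4) (List.mem_range.mpr (act_lt w (by norm_num)))
  rw [List.all_eq_true] at hchk2
  have hchk3 := hchk2 (act w 8) (List.mem_range.mpr (act_lt w (by norm_num)))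
  rw [← hM, inA_word w hw] at hchk3
  have hany : ((List.range 15).any fun i => app (em w) (i + 1) == 0) = false := by
    rw [List.any_eq_false]
    intro i hi
    rw [List.mem_range] at hi
    rw [em_app w hw (by omega)]
    intro e
    have := act_ne_zero hw (i := i + 1) (by omega) (by simpa using e)
    omega
  rw [hany] at hchk3
  simp only [Bool.not_true, Bool.or_false, Bool.false_or] at hchk3
  rw [List.any_eq_true] at hchk3
  obtain ⟨M, hMm, hM2⟩ := hchk3
  obtain ⟨c, hc, rfl⟩ := List.mem_map.mp hMm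
  have hcw : Wd c := by
    have : ∀ u ∈ c24w, ∀ k ∈ u, k < 5 := by decide +kernel
    exact this c hc
  exact List.mem_map.mpr ⟨c, hc, wm_ext hcw hw (beq_iff_eq.mp hM2)⟩

theorem TW_mem_C48 {L : List ℕ} (h : TW L) (hc : comp L (dgL 0) = comp (dgL 0) L) : L ∈ C48 := by
  obtain ⟨w, hw, rfl | rfl⟩ := h
  · exact List.mem_append_left _ (mem_C48 hw hc)
  · have h1 : comp tL (comp (wm w) (dgL 0)) = comp tL (comp (dgL 0) (wm w)) := by
      rw [← comp_assoc, hc, ← comp_assoc, ← comp_assoc, tL_dg 0 (by norm_num)]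
    have h2 : comp (wm w) (dgL 0) = comp (dgL 0) (wm w) := by
      have h3 := congrArg (comp tL) h1
      rw [← comp_assoc, ← comp_assoc tL tL, tt_id, id_comp (comp_lt (wm_lt w) _),
        id_comp (comp_lt (dgL_lt' 0) _)] at h3
      exact h3
    obtain ⟨c, hc, e⟩ := List.mem_map.mp (mem_C48 hw h2)
    exact List.mem_append_right _ (List.mem_map.mpr ⟨c, hc, by rw [e]⟩)

theorem C48_TW {L : List ℕ} (h : L ∈ C48) : TW L := by
  have hw : ∀ u ∈ c24w, ∀ k ∈ u, k < 5 := by decide +kernel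
  rcases List.mem_append.mp h with h | h
  · obtain ⟨c, hc, rfl⟩ := List.mem_map.mp h
    exact ⟨c, hw c hc, Or.inl rfl⟩
  · obtain ⟨c, hc, rfl⟩ := List.mem_map.mp h
    exact ⟨c, hw c hc, Or.inr rfl⟩

theorem mem_chk2 {B O : List ℕ} (hB : B ∈ C48) (hO : O ∈ C48) (h1 : comp B B = idL)
    (h2 : comp O (comp O O) = idL) (h3 : O ≠ idL) (h4 : comp B (comp O (comp B O)) = idL)
    {u : ℕ} (hu : u < 256) : chk2 B O u = true := by
  have hc := chk2_all
  rw [List.all_eq_true] at hc
  have h5 := hc (B, O) (by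
    rw [pairs2, List.mem_flatten]
    refine ⟨_, List.mem_map.mpr ⟨O, List.mem_filter.mpr ⟨hO, by simp [h2, h3]⟩, rfl⟩,
      List.mem_map.mpr ⟨B, List.mem_filter.mpr ⟨List.mem_filter.mpr ⟨hB, by simp [h1]⟩,
        by simp [h4]⟩, rfl⟩⟩)
  rw [List.all_eq_true] at h5
  exact h5 u (List.mem_range.mpr hu)

def basB2 : List ℕ := [128, 136, 224, 238, 176, 187, 192, 204]

theorem basB2_coords : comp basB2 coords2 = idL := by decide +kernel

namespace MHyp

variable {R : List ℕ → Prop} {Γ Δ : List ℕ}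

/-- the second stage: `Δ w Γ = w` -/
theorem stage2 (h : MHyp R Γ Δ) (c2 : comp (comp Δ (dgL 0)) Γ = dgL 0) :
    ∃ x ∈ C48, ∃ D ∈ reps, comp x Δ = D := by
  have hdt : comp (comp Δ tL) Γ = tpL := by
    rw [← t_eq, h.cj_mul (Mt.dg 0), h.c1, c2]; rfl
  -- `Δ L = (Δ L Γ) Δ`
  have mv : ∀ L, Mt L → comp Δ L = comp (comp (comp Δ L) Γ) Δ := by
    intro L hL
    rw [comp_assoc, h.ΓΔ, comp_id (by rw [comp_length, hL.1])]
  have e1 : comp Δ tL = comp tpL Δ := by rw [mv tL Mt.t, hdt]
  have e2 : comp Δ (dgL 0) = comp (dgL 0) Δ := by rw [mv _ (Mt.dg 0), c2]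
  have hmem : ∀ w, Wd w → comp (wm w) tpL = comp tpL (wm w) →
      comp (wm w) (dgL 0) = comp (dgL 0) (wm w) → comp (comp Δ (wm w)) Γ ∈ C48 := by
    intro w hw h1 h2
    refine TW_mem_C48 (h.r2 _ (h.word w hw) h1) ?_
    conv_lhs => rw [← c2]
    conv_rhs => rw [← c2]
    rw [← h.cj_mul (Mt.dg 0), ← h.cj_mul (Mt.wm w), h2]
  have hB : comp (comp Δ bL) Γ ∈ C48 := hmem _ wd_b bL_t bL_w
  have hO : comp (comp Δ oL) Γ ∈ C48 := hmem _ wd_o oL_t oL_w
  have hF : comp (comp Δ fL) Γ ∈ C48 := hmem _ wd_f fL_t fL_w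
  have hid : comp (comp Δ idL) Γ = idL := by rw [comp_id h.hΔ.1, h.ΔΓ]
  have hBt : Mt bL := Mt.wm _
  have hOt : Mt oL := Mt.wm _
  have hFt : Mt fL := Mt.wm _
  have r1 : comp (comp (comp Δ bL) Γ) (comp (comp Δ bL) Γ) = idL := by
    rw [← h.cj_mul hBt, bL_sq, hid]
  have r2 : comp (comp (comp Δ oL) Γ) (comp (comp (comp Δ oL) Γ) (comp (comp Δ oL) Γ)) = idL := by
    rw [← h.cj_mul hOt, ← h.cj_mul (hOt.comp hOt), oL_cube, hid]
  have r3 : comp (comp Δ oL) Γ ≠ idL := by
    intro e
    have h1 := mv oL hOt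
    rw [e, id_comp h.hΔ.2] at h1
    have h2 := congrArg (comp Γ) h1
    rw [← comp_assoc, h.ΓΔ, id_comp hOt.2] at h2
    exact oL_ne h2
  have r4 : comp (comp (comp Δ bL) Γ) (comp (comp (comp Δ oL) Γ) (comp (comp (comp Δ bL) Γ)
      (comp (comp Δ oL) Γ))) = idL := by
    rw [← h.cj_mul hOt, ← h.cj_mul (hBt.comp hOt), ← h.cj_mul (hOt.comp (hBt.comp hOt)), bo, hid]
  have r5 : comp (comp (comp Δ fL) Γ) (comp (comp Δ fL) Γ) = dgL 0 := by
    rw [← h.cj_mul hFt, fL_sq, c2]
  have eB := mv bL hBt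
  have eO := mv oL hOt
  have eF := mv fL hFt
  have hc := mem_chk2 hB hO r1 r2 r3 r4 (u := app Δ 128) (WFour.app_lt h.hΔ.2 _)
  generalize comp (comp Δ bL) Γ = B at *
  generalize comp (comp Δ oL) Γ = O at *
  generalize comp (comp Δ fL) Γ = F at *
  -- images of the basis
  have i1 : app tpL (app Δ 128) = app Δ 136 := by
    rw [app_comp, ← e1, ← app_comp]; rfl
  have i2 : app B (app Δ 128) = app Δ 224 := by
    rw [app_comp, ← eB, ← app_comp]; congr 1
  have i3 : app tpL (app Δ 224) = app Δ 238 := by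
    rw [app_comp, ← e1, ← app_comp]; rfl
  have i4 : app (dgL 0) (app Δ 128) = app Δ 176 := by
    rw [app_comp, ← e2, ← app_comp]; rfl
  have i5 : app (dgL 0) (app Δ 136) = app Δ 187 := by
    rw [app_comp, ← e2, ← app_comp]; rfl
  have i6 : app (dgL 0) (app Δ 224) = app Δ 192 := by
    rw [app_comp, ← e2, ← app_comp]; rfl
  have i7 : app (dgL 0) (app Δ 238) = app Δ 204 := by
    rw [app_comp, ← e2, ← app_comp]; rfl
  have i8 : app O (app Δ 128) = app Δ 64 := by
    rw [app_comp, ← eO, ← app_comp]; congr 1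
  have hbas : comp [app Δ 128, app Δ 136, app Δ 224, app Δ 238, app Δ 176, app Δ 187, app Δ 192,
      app Δ 204] coords2 = Δ := by
    have h1 : comp Δ (comp basB2 coords2) = Δ := by rw [basB2_coords, comp_id h.hΔ.1]
    rw [← comp_assoc] at h1
    exact h1
  have hne : ¬ app Δ 1 = 0 := by
    intro e
    have h1 : app Γ (app Δ 1) = 1 := by rw [app_comp, h.ΓΔ, app_id 1 (by norm_num)]
    rw [e, app_zero] at h1
    omega
  unfold chk2 at hc
  simp only [i1, i2, i3, i4, i5, i6, i7, i8, hbas, ← app_xor] at hc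
  rw [if_neg (by simp), if_neg (by simpa using hne)] at hc
  have hF12 : (F12.any fun F => comp Δ fL == comp F Δ) = true := by
    rw [List.any_eq_true]
    exact ⟨F, List.mem_filter.mpr ⟨hF, by simp [r5]⟩, by simp [eF]⟩
  rw [hF12] at hc
  simp only [e1, e2, eB, eO, beq_self_eq_true, Bool.not_true, Bool.false_or] at hc
  rw [List.any_eq_true] at hc
  obtain ⟨x, hx, hc⟩ := hc
  rw [List.any_eq_true] at hc
  obtain ⟨D, hD, hc⟩ := hc
  rw [Bool.and_eq_true] at hc
  exact ⟨x, hx, D, hD, beq_iff_eq.mp hc.2⟩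

end MHyp

end Cfsg.Agent.TypeM.WFour
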