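import Cfsg.Agent.TypeM.WAOut
import Cfsg.Agent.TypeM.WFourAbs
import Cfsg.Agent.Wreath.DThreeGlue

/-!
# (W5a), (W5b), (W9) of Theorem W of S1739 from the output of the bridge

`inp3 : WOut … → DThreeGlue.Inp3 t (μ 1) A M₁ M₂`.
-/

set_option autoImplicit false

namespace Cfsg.Agent.TypeM.InpThree

open Subgroup Cfsg.Agent.TypeM.LyL Cfsg.Agent.TypeM.SRel Cfsg.Agent.TypeM.WAOut
open Cfsg.Agent.TypeM.WFour

variable {G : Type*} [Group G] {t : G}

/-- 2-transitivity of the words on `{1, …, 15}` -/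
theorem exists_word2 {i j i' j' : ℕ} (hi : i < 16) (hj : j < 16) (hi' : i' < 16) (hj' : j' < 16) (hi0 : i ≠ 0)
    (hj0 : j ≠ 0) (hi0' : i' ≠ 0) (hj0' : j' ≠ 0) (hij : i ≠ j) (hij' : i' ≠ j') :
    ∃ w : List ℕ, (∀ k ∈ w, k < 5) ∧ act w i = i' ∧ act w j = j' := by
  obtain ⟨u, hu, h1, h2⟩ := two_trans hi hj hi0 hj0 hij
  obtain ⟨u', hu', h1', h2'⟩ := two_trans hi' hj' hi0' hj0' hij'
  refine ⟨u' ++ u.reverse, hu'.append hu.rev, ?_, ?_⟩
  · rw [act_append, ← h1, act_rev hu (by norm_num), h1']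
  · rw [act_append, ← h2, act_rev hu (by norm_num), h2']

/-- an involutory word is conjugate to `[0]` -/
theorem exists_conj_word {v : List ℕ} (hv : ∀ k ∈ v, k < 5) (h2 : ∀ i < 16, act v (act v i) = i)
    (h1 : ∃ i < 16, act v i ≠ i) :
    ∃ u : List ℕ, (∀ k ∈ u, k < 5) ∧ ∀ i < 16, act u (act v (act u.reverse i)) = gm 0 i := by
  have h0 : Wd [] := by intro k hk; simp at hk
  have h0w : Wd [0] := by intro k hk; simp at hk; omega
  have hid : comp (wm v) (wm v) = idL := by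
    rw [← wm_append]
    have : wm (v ++ v) = wm [] := wm_ext (Wd.append hv hv) h0 (by
      simp only [WFour.em, act_append, act_nil, h2 1 (by norm_num), h2 2 (by norm_num), h2 4 (by norm_num),
        h2 8 (by norm_num)])
    rw [this]; rfl
  obtain ⟨u, hu, h3⟩ := conj_invol hv hid (by
    intro h
    obtain ⟨i, hi, h4⟩ := h1
    exact h4 (act_of_wm (u := v) (v := []) hv h0 (by rw [h]; rfl) hi))
  refine ⟨u.reverse, hu.rev, fun i hi => ?_⟩
  have h4 : wm (u.reverse ++ (v ++ u)) = wm [0] := by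
    rw [wm_append, wm_append, h3, wm_one]
  have h5 := act_of_wm (hu.rev.append (Wd.append hv hu)) h0w h4 hi
  rw [act_append, act_append] at h5
  rw [List.reverse_reverse]
  exact h5

variable {K : Subgroup G} {e e' : ℕ → G} {b : G} {μ σ μ' σ' ν σ₂ : ℕ → G} {β : G} {O R A O' O₂ R₂ : Subgroup G}

/-- (W5b) -/
theorem w5b [Finite G] (h : WOut t K e e' b μ σ μ' σ' ν σ₂ β O R A O' O₂ R₂) {a : G} (ha : a ∈ A) (haa : a * a = 1) :
    ∃ n : G, (∀ c ∈ A, n * (t * c * t⁻¹) = (t * c * t⁻¹) * n) ∧ (∀ i < 16, ∃ j < 16, n * μ i * n⁻¹ = μ j) ∧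
      ∃ j < 16, n * a * n⁻¹ = ν j := by
  have H := h.srel
  have hR := h.hyp.hR
  have hA := h.hyp.hA
  have hRA : A ≤ R := hA.le
  have hmuc : ∀ i < 16, μ i ∈ A := fun i hi => h.mu hi
  obtain ⟨v, hv, hva⟩ := H.exists_word (x := a) (by rw [← h.A_eq]; exact ha)
  have hv2 : ∀ i < 16, act v (act v i) = i := by
    intro i hi
    apply H.eq_of (act_lt v (act_lt v hi)) hi
    rw [← hva _ (act_lt v hi), ← hva i hi]
    calc a * (a * μ i * a⁻¹) * a⁻¹ = (a * a) * μ i * (a * a)⁻¹ := by group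
      _ = μ i := by rw [haa]; group
  by_cases hid : ∀ i < 16, act v i = i
  · -- `a ∈ M₁`
    have hac : ∀ i < 16, a * μ i = μ i * a := by
      intro i hi
      have := hva i hi
      rw [hid i hi] at this
      exact mul_inv_eq_iff_eq_mul.1 this
    obtain ⟨i, hi, o, ho, hao⟩ := hR.cen a (hRA ha) hac
    obtain ⟨o1, o2, o3⟩ := (hR.memO o).1 ho
    have hoo : o = 1 := by
      have h1 : o * o = 1 := by
        have e1 := o3 i hi
        have e2 := H.sq hi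
        calc o * o = (μ i * μ i) * (o * o) := by rw [e2, one_mul]
          _ = μ i * (μ i * o) * o := by group
          _ = μ i * (o * μ i) * o := by rw [← e1]
          _ = (μ i * o) * (μ i * o) := by group
          _ = 1 := by rw [← hao, haa]
      have h2 : orderOf o ∣ 2 := orderOf_dvd_of_pow_eq_one (by rw [pow_two]; exact h1)
      have h3 : orderOf o = 1 := by
        rcases (Nat.dvd_prime Nat.prime_two).1 h2 with h3 | h3
        · exact h3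
        · rw [h3] at o1; exact absurd o1 (by decide)
      exact orderOf_eq_one_iff.1 h3
    rw [hoo, mul_one] at hao
    by_cases hi0 : i = 0
    · refine ⟨1, fun c _ => by simp, fun i hi => ⟨i, hi, by simp⟩, 0, by norm_num, ?_⟩
      rw [hao, hi0, H.zero, H.zero']; simp
    · -- move `i` to `1`
      obtain ⟨w, hw, hwi⟩ : ∃ w : List ℕ, (∀ k ∈ w, k < 5) ∧ act w i = 1 := by
        by_cases hi2 : i = 2
        · obtain ⟨w, hw, h1, -⟩ := exists_word2 (i := i) (j := 1) (i' := 1) (j' := 2) hi (by norm_num) (by norm_num)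
            (by norm_num) hi0 (by norm_num) (by norm_num) (by norm_num) (by omega) (by norm_num)
          exact ⟨w, hw, h1⟩
        · obtain ⟨w, hw, h1, -⟩ := exists_word2 (i := i) (j := 2) (i' := 1) (j' := 2) hi (by norm_num) (by norm_num)
            (by norm_num) hi0 (by norm_num) (by norm_num) (by norm_num) hi2 (by norm_num)
          exact ⟨w, hw, h1⟩
      obtain ⟨k, -, hk1, hk2⟩ := h.exists_k₁ hw
      refine ⟨k, hk1, fun i hi => ⟨_, act_lt w hi, hk2 i hi⟩, 1, by norm_num, ?_⟩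
      rw [hao, hk2 i hi, hwi, H.low 1 (by norm_num)]
  · push Not at hid
    obtain ⟨u, hu, huv⟩ := exists_conj_word hv hv2 hid
    obtain ⟨n, hnR, -, hn1, hn2⟩ := KElt.exists_k h.hyp.D.Q hR hA hu
    have hn3 : ∀ i < 16, n⁻¹ * μ i * n = μ (act u.reverse i) := by
      intro i hi
      have h1 := hn2 _ (act_lt u.reverse hi)
      have h2 : act u (act u.reverse i) = i := by
        have := act_rev (u := u.reverse) (Wd.rev hu) hi
        rwa [List.reverse_reverse] at this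
      rw [h2] at h1
      rw [← h1]; group
    have hy : ∀ i < 16, (n * a * n⁻¹) * μ i * (n * a * n⁻¹)⁻¹ = μ (gm 0 i) := by
      intro i hi
      calc (n * a * n⁻¹) * μ i * (n * a * n⁻¹)⁻¹ = n * (a * (n⁻¹ * μ i * n) * a⁻¹) * n⁻¹ := by group
        _ = μ (gm 0 i) := by
          rw [hn3 i hi, hva _ (act_lt _ hi), hn2 _ (act_lt _ (act_lt _ hi)), huv i hi]
    have h8 : ∀ i < 16, ν 8 * μ i * (ν 8)⁻¹ = μ (gm 0 i) := by
      intro i hi
      rw [H.nact 8 (by norm_num) i hi, mul_inv_cancel_right]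
      rfl
    have hν8 : ν 8 ∈ A := h.nu (by norm_num)
    have hν88 : ν 8 * ν 8 = 1 := H.sq' (by norm_num)
    have hν8i : (ν 8)⁻¹ = ν 8 := H.inv' (by norm_num)
    obtain ⟨y, hyd⟩ : ∃ y, y = n * a * n⁻¹ := ⟨_, rfl⟩
    rw [← hyd] at hy
    have hyy : y * y = 1 := by
      rw [hyd]
      calc n * a * n⁻¹ * (n * a * n⁻¹) = n * (a * a) * n⁻¹ := by group
        _ = 1 := by rw [haa]; group
    have hyR : y ∈ R := by rw [hyd]; exact R.mul_mem (R.mul_mem hnR (hRA ha)) (R.inv_mem hnR)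
    have hyB : ∀ c ∈ A, y * (t * c * t⁻¹) = (t * c * t⁻¹) * y := by
      intro c hc
      have c1 : Commute n (t * c * t⁻¹) := hn1 c hc
      have c2 : Commute a (t * c * t⁻¹) := h.comm a ha c hc
      rw [hyd]
      exact ((c1.mul_left c2).mul_left c1.inv_left).eq
    obtain ⟨i, hi, o, ho, hz⟩ := hR.cen (y * (ν 8)⁻¹) (R.mul_mem hyR (R.inv_mem (hRA hν8))) (by
      intro i hi
      have e1 : (ν 8)⁻¹ * μ i * ν 8 = μ (gm 0 i) := by
        rw [hν8i]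
        have := h8 i hi
        rwa [hν8i] at this
      have e2 := hy _ (gm_lt 0 i)
      rw [gm_gm 0 (by norm_num) i hi] at e2
      apply mul_inv_eq_iff_eq_mul.1
      calc y * (ν 8)⁻¹ * μ i * (y * (ν 8)⁻¹)⁻¹ = y * ((ν 8)⁻¹ * μ i * ν 8) * y⁻¹ := by group
        _ = μ i := by rw [e1, e2])
    obtain ⟨o1, o2, o3⟩ := (hR.memO o).1 ho
    have hyz : y = μ i * o * ν 8 := by rw [← hz]; group
    -- `o ^ (ν 8)`
    have ho8 : ν 8 * o * (ν 8)⁻¹ ∈ O := KElt.normR hR (hRA hν8) o ho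
    have hprod : μ (i ^^^ gm 0 i) * (o * (ν 8 * o * (ν 8)⁻¹)) = 1 := by
      have e1 := o3 _ (gm_lt 0 i)
      calc μ (i ^^^ gm 0 i) * (o * (ν 8 * o * (ν 8)⁻¹))
          = μ i * (μ (gm 0 i) * o) * (ν 8 * o * (ν 8)⁻¹) := by rw [← H.mul i hi _ (gm_lt 0 i)]; group
        _ = μ i * o * ((ν 8 * μ i * (ν 8)⁻¹)) * (ν 8 * o * (ν 8)⁻¹) := by rw [← e1, h8 i hi]; group
        _ = (μ i * o * ν 8) * (μ i * o * ν 8) := by rw [hν8i]; simp only [mul_assoc]; rw [← mul_assoc (ν 8) (ν 8), hν88, one_mul]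
        _ = 1 := by rw [← hyz, hyy]
    have hinter : ∀ x ∈ O, x * x = 1 → x = 1 := by
      intro x hx hxx
      obtain ⟨x1, -, -⟩ := (hR.memO x).1 hx
      have h2 : orderOf x ∣ 2 := orderOf_dvd_of_pow_eq_one (by rw [pow_two]; exact hxx)
      rcases (Nat.dvd_prime Nat.prime_two).1 h2 with h3 | h3
      · exact orderOf_eq_one_iff.1 h3
      · rw [h3] at x1; exact absurd x1 (by decide)
    have hlt : i ^^^ gm 0 i < 16 := xor_lt hi (gm_lt 0 i)
    have hx1 : o * (ν 8 * o * (ν 8)⁻¹) = 1 := by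
      apply hinter _ (O.mul_mem ho ho8)
      have e1 : o * (ν 8 * o * (ν 8)⁻¹) = (μ (i ^^^ gm 0 i))⁻¹ := (inv_eq_of_mul_eq_one_right hprod).symm
      rw [e1, H.inv hlt, H.sq hlt]
    have hgi : gm 0 i = i := by
      rw [hx1, mul_one] at hprod
      have := H.inj _ hlt hprod
      exact (Nat.xor_eq_zero_iff.1 this).symm
    have hi4 : i < 4 := cl_fix 2 (by norm_num) (by norm_num) i hi hgi
    have hinv : ν 8 * o * (ν 8)⁻¹ = o⁻¹ := (inv_eq_of_mul_eq_one_right hx1).symm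
    -- `o` centralises `Aᵗ`
    have hoB : ∀ c ∈ A, Commute o (t * c * t⁻¹) := by
      intro c hc
      have c1 : Commute y (t * c * t⁻¹) := hyB c hc
      have c2 : Commute (ν 8) (t * c * t⁻¹) := h.comm _ hν8 c hc
      have c3 : Commute (μ i) (t * c * t⁻¹) := h.comm _ (h.mu hi) c hc
      have e1 : o = (μ i)⁻¹ * (y * (ν 8)⁻¹) := by rw [hz]; group
      rw [e1]
      exact c3.inv_left.mul_left (c1.mul_left c2.inv_left)
    obtain ⟨j, hj⟩ := o1
    -- `m = 2 j + 1`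
    have hkk : o ^ j * y * (o ^ j)⁻¹ = μ i * ν 8 := by
      have e1 : ν 8 * (o ^ j)⁻¹ * (ν 8)⁻¹ = o ^ j := by
        have e2 : ν 8 * (o ^ j)⁻¹ * (ν 8)⁻¹ = ((ν 8 * o * (ν 8)⁻¹) ^ j)⁻¹ := by
          rw [conj_pow]; group
        rw [e2, hinv, inv_pow, inv_inv]
      have e3 : o ^ j * μ i = μ i * o ^ j := by
        have c : Commute o (μ i) := o3 i hi
        exact (c.pow_left j).eq
      have e4 : o ^ j * o * o ^ j = 1 := by
        rw [← pow_succ, ← pow_add, show j + 1 + j = 2 * j + 1 by ring, ← hj, pow_orderOf_eq_one]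
      calc o ^ j * y * (o ^ j)⁻¹ = (o ^ j * μ i) * o * (ν 8 * (o ^ j)⁻¹ * (ν 8)⁻¹) * ν 8 := by rw [hyz]; group
        _ = μ i * (o ^ j * o * o ^ j) * ν 8 := by rw [e3, e1]; group
        _ = μ i * ν 8 := by rw [e4, mul_one]
    refine ⟨o ^ j * n, ?_, ?_, i ^^^ 8, xor_lt hi (by norm_num), ?_⟩
    · intro c hc
      have c1 : Commute n (t * c * t⁻¹) := hn1 c hc
      exact (((hoB c hc).pow_left j).mul_left c1).eq
    · intro l hl
      refine ⟨_, act_lt u hl, ?_⟩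
      have c : Commute o (μ (act u l)) := o3 _ (act_lt u hl)
      calc o ^ j * n * μ l * (o ^ j * n)⁻¹ = o ^ j * (n * μ l * n⁻¹) * (o ^ j)⁻¹ := by group
        _ = μ (act u l) := by rw [hn2 l hl, (c.pow_left j).eq, mul_inv_cancel_right]
    · calc o ^ j * n * a * (o ^ j * n)⁻¹ = o ^ j * (n * a * n⁻¹) * (o ^ j)⁻¹ := by group
        _ = μ i * ν 8 := by rw [← hyd, hkk]
        _ = ν (i ^^^ 8) := by rw [← H.low i hi4, H.mul' i hi 8 (by norm_num)]

/-- **The extra input of (D3).** -/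
theorem inp3 [Finite G] (h : WOut t K e e' b μ σ μ' σ' ν σ₂ β O R A O' O₂ R₂) {M₁ M₂ : Subgroup G}
    (hM₁ : ∀ x, x ∈ M₁ ↔ ∃ i < 16, x = μ i) (hM₂ : ∀ x, x ∈ M₂ ↔ ∃ i < 16, x = ν i) :
    Wreath.DThreeGlue.Inp3 t (μ 1) A M₁ M₂ := by
  have ht : t⁻¹ = t := inv_eq_of_mul_eq_one_left h.tt
  have H := h.srel
  have n₁ : ∀ n : G, (∀ i < 16, ∃ j < 16, n * μ i * n⁻¹ = μ j) → ∀ m ∈ M₁, n * m * n⁻¹ ∈ M₁ := by
    intro n hn m hm
    obtain ⟨i, hi, rfl⟩ := (hM₁ m).1 hm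
    obtain ⟨j, hj, e⟩ := hn i hi
    exact (hM₁ _).2 ⟨j, hj, e⟩
  have n₂ : ∀ n : G, (∀ i < 16, ∃ j < 16, n * ν i * n⁻¹ = ν j) → ∀ m ∈ M₂, n * m * n⁻¹ ∈ M₂ := by
    intro n hn m hm
    obtain ⟨i, hi, rfl⟩ := (hM₂ m).1 hm
    obtain ⟨j, hj, e⟩ := hn i hi
    exact (hM₂ _).2 ⟨j, hj, e⟩
  refine ⟨?_, ?_, ?_, ?_⟩
  · intro a ha b hb a' ha' b' hb' h1 h2 h3 h4 h5 h6
    obtain ⟨i, hi, rfl⟩ := (hM₁ a).1 ha
    obtain ⟨j, hj, rfl⟩ := (hM₁ b).1 hb
    obtain ⟨i', hi', rfl⟩ := (hM₁ a').1 ha'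
    obtain ⟨j', hj', rfl⟩ := (hM₁ b').1 hb'
    have z : ∀ {i : ℕ}, μ i ≠ 1 → i ≠ 0 := fun h e => h (by rw [e, H.zero])
    obtain ⟨w, hw, e1, e2⟩ := exists_word2 hi hj hi' hj' (z h1) (z h2) (z h3) (z h4) (fun e => h5 (by rw [e]))
      (fun e => h6 (by rw [e]))
    obtain ⟨k, -, hk1, hk2⟩ := h.exists_k₁ hw
    refine ⟨k, fun c hc => by have := hk1 c hc; rwa [ht] at this, n₁ k fun i hi => ⟨_, act_lt w hi, hk2 i hi⟩, ?_, ?_⟩
    · rw [hk2 i hi, e1]
    · rw [hk2 j hj, e2]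
  · intro a ha b hb a' ha' b' hb' h1 h2 h3 h4 h5 h6
    obtain ⟨i, hi, rfl⟩ := (hM₂ a).1 ha
    obtain ⟨j, hj, rfl⟩ := (hM₂ b).1 hb
    obtain ⟨i', hi', rfl⟩ := (hM₂ a').1 ha'
    obtain ⟨j', hj', rfl⟩ := (hM₂ b').1 hb'
    have z : ∀ {i : ℕ}, ν i ≠ 1 → i ≠ 0 := fun h e => h (by rw [e, H.zero'])
    obtain ⟨w, hw, e1, e2⟩ := exists_word2 hi hj hi' hj' (z h1) (z h2) (z h3) (z h4) (fun e => h5 (by rw [e]))
      (fun e => h6 (by rw [e]))
    obtain ⟨k, -, hk1, hk2⟩ := h.exists_k₂ hw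
    refine ⟨k, fun c hc => by have := hk1 c hc; rwa [ht] at this, n₂ k fun i hi => ⟨_, act_lt w hi, hk2 i hi⟩, ?_, ?_⟩
    · rw [hk2 i hi, e1]
    · rw [hk2 j hj, e2]
  · intro a ha haa
    obtain ⟨n, h1, h2, j, hj, h3⟩ := w5b h ha haa
    exact ⟨n, fun c hc => by have := h1 c hc; rwa [ht] at this, n₁ n h2, (hM₂ _).2 ⟨j, hj, h3⟩⟩
  · obtain ⟨k, -, h1, h2, h3, h4⟩ := h.exists_k₉
    exact ⟨k, fun c hc => by have := h1 c hc; rwa [ht] at this, n₁ k h2, n₂ k h3, h4⟩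

end Cfsg.Agent.TypeM.InpThree
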