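import Cfsg.Agent.TypeM.AMap

/-!
# Elements of `R` which centralise `B = Aᵗ` and act on `M₁`, `P` in a prescribed way

(piece [WA] of Theorem W, S1739)
-/

set_option autoImplicit false

namespace Cfsg.Agent.TypeM.KElt

open Subgroup Cfsg.Agent.TypeM.LyL Cfsg.Agent.TypeM.SRel Cfsg.Agent.TypeM.OddF Cfsg.Agent.TypeM.AMap
open scoped commutatorElement

variable {G : Type*} [Group G] {t : G} {e μ s ν : ℕ → G} {β : G} {O R S A : Subgroup G}

theorem conj_order (g x : G) : orderOf (g * x * g⁻¹) = orderOf x := by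
  rw [← MulAut.conj_apply]
  exact orderOf_injective (MulAut.conj g).toMonoidHom (MulAut.conj g).injective x

/-- `R` normalises `O` -/
theorem normR (hR : Resid t e μ O R) {r : G} (hr : r ∈ R) : ∀ o ∈ O, r * o * r⁻¹ ∈ O := by
  intro o ho
  obtain ⟨h1, h2, h3⟩ := (hR.memO o).1 ho
  have h4 : ∀ j < 16, r * o * r⁻¹ * μ j = μ j * (r * o * r⁻¹) := by
    intro j hj
    obtain ⟨k, hk, h5⟩ := (hR.le r⁻¹ (inv_mem hr)).1 j hj
    rw [inv_inv] at h5
    calc r * o * r⁻¹ * μ j = r * (o * (r⁻¹ * μ j * r)) * r⁻¹ := by group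
      _ = r * (μ k * o) * r⁻¹ := by rw [h5, h3 k hk]
      _ = r * ((r⁻¹ * μ j * r) * o) * r⁻¹ := by rw [h5]
      _ = _ := by group
  have h5 : ∀ j < 16, r * o * r⁻¹ * (μ j * e j) = μ j * e j * (r * o * r⁻¹) := by
    intro j hj
    have h6 := (hR.le r hr).2 j hj
    have h7 : r⁻¹ * (μ j * e j) = (μ j * e j) * r⁻¹ := by
      rw [inv_mul_eq_iff_eq_mul, ← mul_assoc, h6, mul_inv_cancel_right]
    have h8 : o * (μ j * e j) = μ j * e j * o := by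
      rw [← mul_assoc, h3 j hj, mul_assoc, h2 j hj, mul_assoc]
    calc r * o * r⁻¹ * (μ j * e j) = r * o * (r⁻¹ * (μ j * e j)) := by group
      _ = r * (o * (μ j * e j)) * r⁻¹ := by rw [h7]; group
      _ = (r * (μ j * e j)) * o * r⁻¹ := by rw [h8]; group
      _ = _ := by rw [h6]; group
  refine (hR.memO _).2 ⟨by rw [conj_order]; exact h1, fun j hj => ?_, h4⟩
  have h6 : e j = (μ j)⁻¹ * (μ j * e j) := by group
  have h7 : Commute (r * o * r⁻¹) (μ j) := h4 j hj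
  have h8 : Commute (r * o * r⁻¹) (μ j * e j) := h5 j hj
  rw [h6]
  exact (h7.inv_right.mul_right h8).eq

/-- `t` normalises `O` -/
theorem normt (H : QConf t e μ s) (hR : Resid t e μ O R) : ∀ o ∈ O, t * o * t⁻¹ ∈ O := by
  intro o ho
  obtain ⟨h1, h2, h3⟩ := (hR.memO o).1 ho
  have ht : t⁻¹ = t := inv_eq_of_mul_eq_one_left H.tt
  have key : ∀ y : G, o * (t * y * t⁻¹) = (t * y * t⁻¹) * o → t * o * t⁻¹ * y = y * (t * o * t⁻¹) := by
    intro y hy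
    have h4 : y = t * (t * y * t⁻¹) * t⁻¹ := by
      have h5 : t * (t * y * t⁻¹) * t⁻¹ = (t * t) * y * (t * t)⁻¹ := by group
      rw [h5, H.tt, one_mul, inv_one, mul_one]
    calc t * o * t⁻¹ * y = t * o * t⁻¹ * (t * (t * y * t⁻¹) * t⁻¹) := by rw [← h4]
      _ = t * (o * (t * y * t⁻¹)) * t⁻¹ := by group
      _ = t * ((t * y * t⁻¹) * o) * t⁻¹ := by rw [hy]
      _ = (t * (t * y * t⁻¹) * t⁻¹) * (t * o * t⁻¹) := by group
      _ = _ := by rw [← h4]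
  refine (hR.memO _).2 ⟨by rw [conj_order]; exact h1, fun i hi => key _ ?_, fun i hi => key _ ?_⟩
  · have h4 : t * e i * t⁻¹ = e i := by rw [H.tε i hi, mul_inv_cancel_right]
    rw [h4]; exact h2 i hi
  · rw [Base.conj_t H hi, ← mul_assoc, h3 i hi, mul_assoc, h2 i hi, mul_assoc]

theorem odd (hR : Resid t e μ O R) : ∀ x ∈ O, Odd (orderOf x) := fun x hx => ((hR.memO x).1 hx).1

/-- `Rᵗ` normalises `O` -/
theorem normRt (H : QConf t e μ s) (hR : Resid t e μ O R) {r : G} (hr : r ∈ R) :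
    ∀ o ∈ O, (t * r * t⁻¹) * o * (t * r * t⁻¹)⁻¹ ∈ O := by
  intro o ho
  have ht : t⁻¹ = t := inv_eq_of_mul_eq_one_left H.tt
  have h0 : t⁻¹ * o * t ∈ O := by
    have := normt H hR o ho
    rw [ht] at this ⊢
    exact this
  have h1 := normt H hR _ (normR hR hr _ h0)
  have h2 : t * (r * (t⁻¹ * o * t) * r⁻¹) * t⁻¹ = (t * r * t⁻¹) * o * (t * r * t⁻¹)⁻¹ := by group
  rwa [h2] at h1

/-- `O ≤ R` -/
theorem O_le (hR : Resid t e μ O R) : O ≤ R := by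
  intro o ho
  obtain ⟨h1, h2, h3⟩ := (hR.memO o).1 ho
  exact hR.odd o h1 (fun i hi => ⟨i, hi, by rw [h3 i hi, mul_inv_cancel_right]⟩)
    fun i hi => by rw [← mul_assoc, h3 i hi, mul_assoc, h2 i hi, mul_assoc]

theorem isPGroup_A (hA : AOut t S A R μ) : IsPGroup 2 A := IsPGroup.of_card (n := 7) (by rw [hA.card]; norm_num)

/-- `r b r⁻¹ ≡ b` for `r ∈ R`, `b ∈ Rᵗ` -/
theorem cong_B (H : QConf t e μ s) (hR : Resid t e μ O R) {r : G} (hr : r ∈ R) {a : G} (ha : a ∈ R) :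
    Cong O (t * a * t⁻¹) (r * (t * a * t⁻¹) * r⁻¹) := by
  have h1 := hR.comm r hr a ha
  have h2 := normRt H hR (inv_mem ha) _ h1
  rw [commutatorElement_def] at h2
  have h3 : (t * a⁻¹ * t⁻¹) * (r * (t * a * t⁻¹) * r⁻¹ * (t * a * t⁻¹)⁻¹) * (t * a⁻¹ * t⁻¹)⁻¹ =
      (t * a * t⁻¹)⁻¹ * (r * (t * a * t⁻¹) * r⁻¹) := by group
  rw [h3] at h2
  exact h2

/-- powers acting by a word of order three -/
theorem pow_act {k : G} {w : List ℕ} (h : ∀ i < 16, k * μ i * k⁻¹ = μ (act w i))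
    (h3 : ∀ i < 16, act w (act w (act w i)) = i) (a : ℕ) : ∀ i < 16, k ^ 4 ^ a * μ i * (k ^ 4 ^ a)⁻¹ = μ (act w i) := by
  have key : ∀ g : G, (∀ i < 16, g * μ i * g⁻¹ = μ (act w i)) → ∀ i < 16, g ^ 4 * μ i * (g ^ 4)⁻¹ = μ (act w i) := by
    intro g hg i hi
    have h4 : g ^ 4 * μ i * (g ^ 4)⁻¹ = g * (g * (g * (g * μ i * g⁻¹) * g⁻¹) * g⁻¹) * g⁻¹ := by
      simp only [pow_succ, pow_zero, one_mul]; group
    rw [h4, hg i hi, hg _ (act_lt w hi), hg _ (act_lt w (act_lt w hi)), h3 i hi, hg i hi]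
  induction a with
  | zero => simpa using h
  | succ a ih =>
    intro i hi
    rw [pow_succ, pow_mul]
    exact key _ ih i hi

section

variable [Finite G]

/-- **Elements of `C_R(B)` acting on `M₁` by a given word.** -/
theorem exists_k (H : QConf t e μ s) (hR : Resid t e μ O R) (hA : AOut t S A R μ) {w : List ℕ} (hw : ∀ k ∈ w, k < 5) :
    ∃ k ∈ R, k ∈ closure {g : G | Odd (orderOf g)} ∧ (∀ a ∈ A, k * (t * a * t⁻¹) = (t * a * t⁻¹) * k) ∧
      ∀ i < 16, k * μ i * k⁻¹ = μ (act w i) := by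
  obtain ⟨r, hr, hrc, hrw⟩ := hR.word w hw
  let B : Subgroup G := A.map (MulAut.conj t).toMonoidHom
  have hB : IsPGroup 2 B := (isPGroup_A hA).map _
  obtain ⟨n, hn, hn'⟩ := OddConj.frattini_exact (T := B) (odd hR) hB (by
      rintro _ ⟨a, ha, rfl⟩ o ho
      exact normRt H hR (hA.le ha) o ho) (g := r) (by
      rintro _ ⟨a, ha, rfl⟩
      exact ⟨_, ⟨a, ha, rfl⟩, cong_B H hR hr (hA.le ha)⟩)
  obtain ⟨o1, -, o3⟩ := (hR.memO n).1 hn
  refine ⟨n * r, mul_mem (O_le hR hn) hr, mul_mem (subset_closure o1) (closure_mono (fun x hx => hx.2) hrc),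
    fun a ha => ?_, fun i hi => ?_⟩
  · have h1 := hn' (t * a * t⁻¹) ⟨a, ha, rfl⟩ (t * a * t⁻¹) ⟨a, ha, rfl⟩ (cong_B H hR hr (hA.le ha))
    rw [mul_inv_eq_iff_eq_mul] at h1
    exact h1
  · have h1 : n * r * μ i * (n * r)⁻¹ = n * (r * μ i * r⁻¹) * n⁻¹ := by group
    rw [h1, hrw i hi, o3 _ (act_lt w hi), mul_inv_cancel_right]

/-- the 2-group `P × B` -/
def PB (hA : AOut t S A R μ) (P : Subgroup G) (hP : P ≤ A) : Subgroup G where
  carrier := {x | ∃ p ∈ P, ∃ a ∈ A, x = p * (t * a * t⁻¹)}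
  one_mem' := ⟨1, one_mem _, 1, one_mem _, by group⟩
  mul_mem' := by
    rintro _ _ ⟨p, hp, a, ha, rfl⟩ ⟨p', hp', a', ha', rfl⟩
    refine ⟨p * p', mul_mem hp hp', a * a', mul_mem ha ha', ?_⟩
    have h1 := hA.comm p' (hP hp') a ha
    calc p * (t * a * t⁻¹) * (p' * (t * a' * t⁻¹)) = p * ((t * a * t⁻¹) * p') * (t * a' * t⁻¹) := by group
      _ = _ := by rw [← h1]; group
  inv_mem' := by
    rintro _ ⟨p, hp, a, ha, rfl⟩
    refine ⟨p⁻¹, inv_mem hp, a⁻¹, inv_mem ha, ?_⟩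
    have h1 := hA.comm p⁻¹ (hP (inv_mem hp)) a⁻¹ (inv_mem ha)
    rw [h1]
    group

omit [Finite G] in
theorem isPGroup_PB (hA : AOut t S A R μ) {P : Subgroup G} (hP : P ≤ A) : IsPGroup 2 (PB hA P hP) := by
  have hexp : ∀ a ∈ A, a ^ 128 = 1 := by
    intro a ha
    rw [← hA.card]
    exact congrArg Subtype.val (pow_card_eq_one' (x := (⟨a, ha⟩ : A)))
  rintro ⟨_, p, hp, a, ha, rfl⟩
  refine ⟨7, Subtype.ext ?_⟩
  show (p * (t * a * t⁻¹)) ^ 2 ^ 7 = 1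
  have h1 : Commute p (t * a * t⁻¹) := hA.comm p (hP hp) a ha
  rw [show 2 ^ 7 = 128 by norm_num, h1.mul_pow, hexp p (hP hp), conj_pow, hexp a ha]
  group

omit [Finite G] in
/-- `R ∩ B = 1` -/
theorem eq_one_of_B (hR : Resid t e μ O R) (hA : AOut t S A R μ) {a : G} (ha : a ∈ A) (h : t * a * t⁻¹ ∈ R) : a = 1 := by
  obtain ⟨i, hi, o, ho, h1⟩ := hR.cen _ h fun i hi => (hA.comm _ (hA.mu i hi) a ha).symm
  have hmem : (t * a * t⁻¹) * (μ i)⁻¹ ∈ PB hA A le_rfl := by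
    refine mul_mem ⟨1, one_mem _, a, ha, by rw [one_mul]⟩ (inv_mem ⟨μ i, hA.mu i hi, 1, one_mem _, by group⟩)
  have hmem' : (μ i)⁻¹ * (t * a * t⁻¹) ∈ PB hA A le_rfl :=
    mul_mem (inv_mem ⟨μ i, hA.mu i hi, 1, one_mem _, by group⟩) ⟨1, one_mem _, a, ha, by rw [one_mul]⟩
  have h2 : o = (μ i)⁻¹ * (t * a * t⁻¹) := by rw [h1]; group
  have h3 : o = 1 := OddConj.eq_one_of_two (isPGroup_PB hA le_rfl) (h2 ▸ hmem') (odd hR o ho)
  rw [h3, mul_one] at h1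
  have h4 := hA.disj _ (hA.mu i hi) a ha h1.symm
  rw [h4] at h1
  calc a = t⁻¹ * (t * a * t⁻¹) * t := by group
    _ = 1 := by rw [h1]; group

end

end Cfsg.Agent.TypeM.KElt
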