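import Cfsg.Agent.TypeM.KElt

/-!
# Elements of odd order in `C_R(B) ∩ N(P)`

(piece [WA] of Theorem W, S1739)
-/

set_option autoImplicit false

namespace Cfsg.Agent.TypeM.KEltP

open Subgroup Cfsg.Agent.TypeM.LyL Cfsg.Agent.TypeM.SRel Cfsg.Agent.TypeM.OddF Cfsg.Agent.TypeM.AMap
open Cfsg.Agent.TypeM.KElt

variable {G : Type*} [Group G] {t : G} {e μ s ν : ℕ → G} {β : G} {O R S A : Subgroup G}

/-- an element acting by the word `w` moves the class `c` of `P / M₁` to the class `c'` -/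
theorem class_comm (hS : SRel μ ν β) {r : G} {w : List ℕ} (hw : ∀ k ∈ w, k < 5)
    (hr : ∀ i < 16, r * μ i * r⁻¹ = μ (act w i)) {c c' : ℕ} (hc : c < 4) (hc' : c' < 4)
    (h : ∀ i < 16, act w (act (cl c) i) = act (cl c') (act w i)) :
    ∀ m < 16, (ν (4 * c'))⁻¹ * (r * ν (4 * c) * r⁻¹) * μ m = μ m * ((ν (4 * c'))⁻¹ * (r * ν (4 * c) * r⁻¹)) := by
  intro m hm
  obtain ⟨i, hi, rfl⟩ := act_surj w hw m hm
  have h1 := hS.nact _ (four_mul_lt c hc) i hi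
  rw [four_mul_div c hc] at h1
  have h2 := hS.nact _ (four_mul_lt c' hc') _ (act_lt w hi)
  rw [four_mul_div c' hc'] at h2
  have h3 : r * ν (4 * c) * r⁻¹ * μ (act w i) = μ (act (cl c') (act w i)) * (r * ν (4 * c) * r⁻¹) := by
    calc r * ν (4 * c) * r⁻¹ * μ (act w i) = r * ν (4 * c) * r⁻¹ * (r * μ i * r⁻¹) := by rw [hr i hi]
      _ = r * (ν (4 * c) * μ i) * r⁻¹ := by group
      _ = (r * μ (act (cl c) i) * r⁻¹) * (r * ν (4 * c) * r⁻¹) := by rw [h1]; group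
      _ = _ := by rw [hr _ (act_lt _ hi), h i hi]
  have h4 : (ν (4 * c'))⁻¹ * μ (act (cl c') (act w i)) = μ (act w i) * (ν (4 * c'))⁻¹ := by
    rw [inv_mul_eq_iff_eq_mul, ← mul_assoc, h2, mul_inv_cancel_right]
  calc (ν (4 * c'))⁻¹ * (r * ν (4 * c) * r⁻¹) * μ (act w i)
      = (ν (4 * c'))⁻¹ * (r * ν (4 * c) * r⁻¹ * μ (act w i)) := by group
    _ = ((ν (4 * c'))⁻¹ * μ (act (cl c') (act w i))) * (r * ν (4 * c) * r⁻¹) := by rw [h3]; group
    _ = _ := by rw [h4]; group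

theorem pow_normP {P : Subgroup G} {g : G} (h : ∀ x ∈ P, g * x * g⁻¹ ∈ P) (n : ℕ) : ∀ x ∈ P, g ^ n * x * (g ^ n)⁻¹ ∈ P := by
  induction n with
  | zero => intro x hx; simpa using hx
  | succ n ih =>
    intro x hx
    have h1 := ih _ (h x hx)
    have h2 : g ^ n * (g * x * g⁻¹) * (g ^ n)⁻¹ = g ^ (n + 1) * x * (g ^ (n + 1))⁻¹ := by
      rw [pow_succ]; group
    rwa [h2] at h1

/-- **Elements of odd order of `C_R(B) ∩ N(P)` acting on `M₁` by a given word of order three.** -/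
theorem exists_kP [Finite G] (H : QConf t e μ s) (hR : Resid t e μ O R) (hA : AOut t S A R μ) (hS : SRel μ ν β)
    (hPA : hS.P ≤ A) {w : List ℕ} (hw : ∀ k ∈ w, k < 5)
    (hcl : ∀ c < 4, ∃ c' < 4, ∀ i < 16, act w (act (cl c) i) = act (cl c') (act w i))
    (h3 : ∀ i < 16, act w (act w (act w i)) = i) :
    ∃ k ∈ R, Odd (orderOf k) ∧ (∀ a ∈ A, k * (t * a * t⁻¹) = (t * a * t⁻¹) * k) ∧
      (∀ i < 16, k * μ i * k⁻¹ = μ (act w i)) ∧ ∀ x ∈ hS.P, k * x * k⁻¹ ∈ hS.P := by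
  obtain ⟨r, hr, -, hrw⟩ := hR.word w hw
  -- `r p r⁻¹` modulo `O`
  have hP : ∀ p ∈ hS.P, ∃ y ∈ hS.P, Cong O y (r * p * r⁻¹) := by
    rintro _ ⟨i, hi, j, hj, rfl⟩
    obtain ⟨c', hc', h⟩ := hcl j hj
    have h4 := class_comm hS hw hrw hj hc' h
    have h5 : (ν (4 * c'))⁻¹ * (r * ν (4 * j) * r⁻¹) ∈ R :=
      mul_mem (inv_mem (hA.le (hPA (hS.nu_mem_P (four_mul_lt c' hc')))))
        (mul_mem (mul_mem hr (hA.le (hPA (hS.nu_mem_P (four_mul_lt j hj))))) (inv_mem hr))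
    obtain ⟨a, ha, o, ho, h6⟩ := hR.cen _ h5 h4
    refine ⟨μ (act w i) * (ν (4 * c') * μ a), mul_mem (hS.mu_mem_P (act_lt w hi))
      (mul_mem (hS.nu_mem_P (four_mul_lt c' hc')) (hS.mu_mem_P ha)), ?_⟩
    have h7 : r * (μ i * ν (4 * j)) * r⁻¹ = μ (act w i) * (ν (4 * c') * μ a) * o := by
      calc r * (μ i * ν (4 * j)) * r⁻¹ = (r * μ i * r⁻¹) * (ν (4 * c') * ((ν (4 * c'))⁻¹ * (r * ν (4 * j) * r⁻¹))) := by
            group
        _ = _ := by rw [h6, hrw i hi]; group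
    rw [h7, Cong, inv_mul_cancel_left]
    exact ho
  have nPB : ∀ y ∈ PB hA hS.P hPA, ∀ o ∈ O, y * o * y⁻¹ ∈ O := by
    rintro _ ⟨p, hp, a, ha, rfl⟩ o ho
    have h4 := normR hR (hA.le (hPA hp)) _ (normRt H hR (hA.le ha) o ho)
    have h5 : p * ((t * a * t⁻¹) * o * (t * a * t⁻¹)⁻¹) * p⁻¹ = p * (t * a * t⁻¹) * o * (p * (t * a * t⁻¹))⁻¹ := by group
    rwa [h5] at h4
  have mB : ∀ a ∈ A, t * a * t⁻¹ ∈ PB hA hS.P hPA := fun a ha => ⟨1, one_mem _, a, ha, by rw [one_mul]⟩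
  have mP : ∀ p ∈ hS.P, p ∈ PB hA hS.P hPA := fun p hp => ⟨p, hp, 1, one_mem _, by group⟩
  obtain ⟨n, hn, hn'⟩ := OddConj.frattini_exact (odd hR) (isPGroup_PB hA hPA) nPB (g := r) (by
      rintro _ ⟨p, hp, a, ha, rfl⟩
      obtain ⟨y, hy, h4⟩ := hP p hp
      refine ⟨y * (t * a * t⁻¹), mul_mem (mP y hy) (mB a ha), ?_⟩
      have h5 := h4.mul (fun o ho => by
        have := nPB _ (inv_mem (mB a ha)) o ho
        rwa [inv_inv] at this) (cong_B H hR hr (hA.le ha))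
      have h6 : r * (p * (t * a * t⁻¹)) * r⁻¹ = r * p * r⁻¹ * (r * (t * a * t⁻¹) * r⁻¹) := by group
      rw [h6]
      exact h5)
  obtain ⟨-, -, o3⟩ := (hR.memO n).1 hn
  obtain ⟨q, hq⟩ := OddConj.exists_odd_pow (n * r)
  refine ⟨(n * r) ^ 4 ^ q, R.pow_mem (mul_mem (O_le hR hn) hr) _, hq, fun a ha => ?_, ?_, ?_⟩
  · have h1 := hn' (t * a * t⁻¹) (mB a ha) (t * a * t⁻¹) (mB a ha) (cong_B H hR hr (hA.le ha))
    rw [mul_inv_eq_iff_eq_mul] at h1
    have h2 : Commute (n * r) (t * a * t⁻¹) := h1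
    exact (h2.pow_left _).eq
  · refine pow_act (fun i hi => ?_) h3 q
    have h1 : n * r * μ i * (n * r)⁻¹ = n * (r * μ i * r⁻¹) * n⁻¹ := by group
    rw [h1, hrw i hi, o3 _ (act_lt w hi), mul_inv_cancel_right]
  · refine pow_normP (fun x hx => ?_) _
    obtain ⟨y, hy, h4⟩ := hP x hx
    rw [hn' x (mP x hx) y (mP y hy) h4]
    exact hy

/-- the action on `{ν i}` -/
theorem exists_rho (hS : SRel μ ν β) {g : G} (hP : ∀ x ∈ hS.P, g * x * g⁻¹ ∈ hS.P) {w : List ℕ} (hw : ∀ k ∈ w, k < 5)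
    (hg : ∀ i < 16, g * μ i * g⁻¹ = μ (act w i)) {σ : ℕ → ℕ} (hσ : ∀ c < 4, σ c < 4)
    (hcl : ∀ c < 4, ∀ i < 16, act w (act (cl c) i) = act (cl (σ c)) (act w i)) (hσ0 : ∀ c < 4, c ≠ 0 → σ c ≠ 0)
    (hlow : ∀ i < 4, act w i < 4) :
    ∃ ρ : ℕ → ℕ, ∀ i < 16, ρ i < 16 ∧ g * ν i * g⁻¹ = ν (ρ i) ∧ ρ i / 4 = σ (i / 4) ∧ (i < 4 → ρ i = act w i) := by
  have key : ∀ i : ℕ, ∃ j : ℕ, i < 16 → j < 16 ∧ g * ν i * g⁻¹ = ν j ∧ j / 4 = σ (i / 4) ∧ (i < 4 → j = act w i) := by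
    intro i
    by_cases hi : i < 16
    · by_cases hi4 : i < 4
      · refine ⟨act w i, fun _ => ⟨act_lt w hi, ?_, ?_, fun _ => rfl⟩⟩
        · rw [hS.low i hi4, hS.low _ (hlow i hi4), hg i hi]
        · have h1 : i / 4 = 0 := by omega
          have h2 : act w i / 4 = 0 := by have := hlow i hi4; omega
          have h3 : σ 0 = 0 := by
            refine cl_inj _ (hσ 0 (by norm_num)) 0 (by norm_num) fun m hm => ?_
            obtain ⟨m', hm', rfl⟩ := act_surj w hw m hm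
            rw [← hcl 0 (by norm_num) m' hm']
            rfl
          rw [h1, h2, h3]
      · obtain ⟨a, ha, c, hc, h1⟩ := hP _ (hS.nu_mem_P hi)
        have hi' := div_lt i hi
        -- the class
        have h2 : c = σ (i / 4) := by
          refine cl_inj c hc _ (hσ _ hi') fun m hm => ?_
          obtain ⟨m', hm', rfl⟩ := act_surj w hw m hm
          have h3 := hS.nact i hi m' hm'
          have h4 : g * ν i * g⁻¹ * μ (act w m') = μ (act (cl (σ (i / 4))) (act w m')) * (g * ν i * g⁻¹) := by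
            calc g * ν i * g⁻¹ * μ (act w m') = g * ν i * g⁻¹ * (g * μ m' * g⁻¹) := by rw [hg m' hm']
              _ = g * (ν i * μ m') * g⁻¹ := by group
              _ = (g * μ (act (cl (i / 4)) m') * g⁻¹) * (g * ν i * g⁻¹) := by rw [h3]; group
              _ = _ := by rw [hg _ (act_lt _ hm'), hcl _ hi' m' hm']
          have h5 := hS.nact _ (four_mul_lt c hc) _ (act_lt w hm')
          rw [four_mul_div c hc] at h5
          rw [h1, mul_assoc, h5, ← mul_assoc, hS.comm ha (act_lt _ (act_lt w hm')), mul_assoc] at h4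
          have h6 := mul_right_cancel h4
          exact hS.eq_of (act_lt _ (act_lt w hm')) (act_lt _ (act_lt w hm')) h6
        have hc0 : c ≠ 0 := by
          rw [h2]; exact hσ0 _ hi' (by omega)
        -- the square
        have h3 : (μ a * ν (4 * c)) * (μ a * ν (4 * c)) = 1 := by
          rw [← h1]
          calc g * ν i * g⁻¹ * (g * ν i * g⁻¹) = g * (ν i * ν i) * g⁻¹ := by group
            _ = 1 := by rw [hS.sq' hi]; group
        rw [hS.mulP ha ha hc hc, Nat.xor_self, mul_zero, hS.zero', mul_one] at h3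
        have h4 := hS.inj _ (xor_lt ha (act_lt _ ha)) h3
        have h5 : a < 4 := cl_fix c hc hc0 a ha (Nat.xor_eq_zero_iff.1 h4).symm
        refine ⟨a ^^^ (4 * c), fun _ => ⟨xor_lt ha (four_mul_lt c hc), ?_, ?_, fun h => absurd h hi4⟩⟩
        · rw [h1, ← hS.low a h5, hS.mul' a ha _ (four_mul_lt c hc)]
        · rw [← h2]
          have : ∀ a < 4, ∀ c < 4, (a ^^^ (4 * c)) / 4 = c := by decide
          exact this a h5 c hc
    · exact ⟨0, fun h => absurd h hi⟩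
  choose ρ hρ using key
  exact ⟨ρ, fun i hi => hρ i hi⟩

end Cfsg.Agent.TypeM.KEltP
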