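import Cfsg.Agent.TypeM.KEltP

/-!
# Elements of `C(t)` normalising `E'` from elements of `C_R(B)`

(piece [WA] of Theorem W, S1739)
-/

set_option autoImplicit false

namespace Cfsg.Agent.TypeM.Kappa

open Subgroup Cfsg.Agent.TypeM.LyL Cfsg.Agent.TypeM.SRel Cfsg.Agent.TypeM.OddF Cfsg.Agent.TypeM.AMap
open Cfsg.Agent.TypeM.KElt
open scoped commutatorElement

variable {G : Type*} [Group G] {t : G} {e μ s ν : ℕ → G} {O R S A : Subgroup G}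

/-- the elementary abelian group `M₂ × M₂ᵗ` -/
def QN (mul : ∀ i < 16, ∀ j < 16, ν i * ν j = ν (i ^^^ j)) (sq : ∀ i < 16, ν i * ν i = 1)
    (hc : ∀ i < 16, ∀ j < 16, ν i * (t * ν j * t⁻¹) = (t * ν j * t⁻¹) * ν i) : Subgroup G where
  carrier := {x | ∃ i < 16, ∃ j < 16, x = ν i * (t * ν j * t⁻¹)}
  one_mem' := by
    have h0 : ν 0 = 1 := by
      have := mul 0 (by norm_num) 0 (by norm_num)
      rw [Nat.xor_self] at this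
      exact mul_eq_left.1 this
    exact ⟨0, by norm_num, 0, by norm_num, by rw [h0]; group⟩
  mul_mem' := by
    rintro _ _ ⟨i, hi, j, hj, rfl⟩ ⟨i', hi', j', hj', rfl⟩
    refine ⟨_, xor_lt hi hi', _, xor_lt hj hj', ?_⟩
    rw [← mul i hi i' hi', ← mul j hj j' hj']
    calc ν i * (t * ν j * t⁻¹) * (ν i' * (t * ν j' * t⁻¹)) = ν i * ((t * ν j * t⁻¹) * ν i') * (t * ν j' * t⁻¹) := by group
      _ = _ := by rw [← hc i' hi' j hj]; group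
  inv_mem' := by
    rintro _ ⟨i, hi, j, hj, rfl⟩
    refine ⟨i, hi, j, hj, inv_eq_of_mul_eq_one_left ?_⟩
    calc ν i * (t * ν j * t⁻¹) * (ν i * (t * ν j * t⁻¹)) = ν i * ((t * ν j * t⁻¹) * ν i) * (t * ν j * t⁻¹) := by group
      _ = (ν i * ν i) * (t * (ν j * ν j) * t⁻¹) := by rw [← hc i hi j hj]; group
      _ = 1 := by rw [sq i hi, sq j hj]; group

theorem QN_sq {mul : ∀ i < 16, ∀ j < 16, ν i * ν j = ν (i ^^^ j)} {sq : ∀ i < 16, ν i * ν i = 1}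
    {hc : ∀ i < 16, ∀ j < 16, ν i * (t * ν j * t⁻¹) = (t * ν j * t⁻¹) * ν i} : ∀ x ∈ QN mul sq hc, x * x = 1 := by
  rintro _ ⟨i, hi, j, hj, rfl⟩
  calc ν i * (t * ν j * t⁻¹) * (ν i * (t * ν j * t⁻¹)) = ν i * ((t * ν j * t⁻¹) * ν i) * (t * ν j * t⁻¹) := by group
    _ = (ν i * ν i) * (t * (ν j * ν j) * t⁻¹) := by rw [← hc i hi j hj]; group
    _ = 1 := by rw [sq i hi, sq j hj]; group

theorem QN_t {mul : ∀ i < 16, ∀ j < 16, ν i * ν j = ν (i ^^^ j)} {sq : ∀ i < 16, ν i * ν i = 1}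
    {hc : ∀ i < 16, ∀ j < 16, ν i * (t * ν j * t⁻¹) = (t * ν j * t⁻¹) * ν i} (tt : t * t = 1) :
    ∀ x ∈ QN mul sq hc, t * x * t⁻¹ ∈ QN mul sq hc := by
  rintro _ ⟨i, hi, j, hj, rfl⟩
  refine ⟨j, hj, i, hi, ?_⟩
  calc t * (ν i * (t * ν j * t⁻¹)) * t⁻¹ = (t * ν i * t⁻¹) * ((t * t) * ν j * (t * t)⁻¹) := by group
    _ = (t * ν i * t⁻¹) * ν j := by rw [tt]; group
    _ = _ := by rw [hc j hj i hi]

/-- **The element `κ` of `C(t)`.** -/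
theorem exists_kappa [Finite G] (H : QConf t e μ s) (hR : Resid t e μ O R) (hA : AOut t S A R μ)
    (mul : ∀ i < 16, ∀ j < 16, ν i * ν j = ν (i ^^^ j)) (sq : ∀ i < 16, ν i * ν i = 1) (hνA : ∀ i < 16, ν i ∈ A)
    {e' : ℕ → G} (he' : ∀ i < 16, e' i = ν i * (t * ν i * t⁻¹)) {g : G} (hg : g ∈ R)
    (hgB : ∀ a ∈ A, g * (t * a * t⁻¹) = (t * a * t⁻¹) * g) {ρ : ℕ → ℕ} (hρ : ∀ i < 16, ρ i < 16 ∧ g * ν i * g⁻¹ = ν (ρ i)) :
    ∃ κ : G, κ * t = t * κ ∧ (∀ i < 16, κ * ν i * κ⁻¹ = ν (ρ i)) ∧ ∀ i < 16, κ * e' i * κ⁻¹ = e' (ρ i) := by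
  have ht : t⁻¹ = t := inv_eq_of_mul_eq_one_left H.tt
  have hc : ∀ i < 16, ∀ j < 16, ν i * (t * ν j * t⁻¹) = (t * ν j * t⁻¹) * ν i :=
    fun i hi j hj => hA.comm _ (hνA i hi) _ (hνA j hj)
  -- `κ₀`
  set κ₀ : G := g * (t * g * t⁻¹) with hκ₀
  have hgt : ∀ a ∈ A, (t * g * t⁻¹) * a = a * (t * g * t⁻¹) := by
    intro a ha
    have h1 := hgB a ha
    have h2 : a = t * (t * a * t⁻¹) * t⁻¹ := by
      have h3 : t * (t * a * t⁻¹) * t⁻¹ = (t * t) * a * (t * t)⁻¹ := by group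
      rw [h3, H.tt]; group
    calc (t * g * t⁻¹) * a = (t * g * t⁻¹) * (t * (t * a * t⁻¹) * t⁻¹) := by rw [← h2]
      _ = t * (g * (t * a * t⁻¹)) * t⁻¹ := by group
      _ = (t * (t * a * t⁻¹) * t⁻¹) * (t * g * t⁻¹) := by rw [h1]; group
      _ = _ := by rw [← h2]
  have k1 : ∀ i < 16, κ₀ * ν i * κ₀⁻¹ = ν (ρ i) := by
    intro i hi
    have h1 := hgt _ (hνA i hi)
    calc g * (t * g * t⁻¹) * ν i * (g * (t * g * t⁻¹))⁻¹ = g * ((t * g * t⁻¹) * ν i) * (t * g * t⁻¹)⁻¹ * g⁻¹ := by group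
      _ = g * ν i * g⁻¹ := by rw [h1]; group
      _ = _ := (hρ i hi).2
  have k2 : ∀ i < 16, κ₀ * (t * ν i * t⁻¹) * κ₀⁻¹ = t * ν (ρ i) * t⁻¹ := by
    intro i hi
    have h1 := hgB _ (hνA _ (hρ i hi).1)
    calc g * (t * g * t⁻¹) * (t * ν i * t⁻¹) * (g * (t * g * t⁻¹))⁻¹ = g * (t * (g * ν i * g⁻¹) * t⁻¹) * g⁻¹ := by group
      _ = g * (t * ν (ρ i) * t⁻¹) * g⁻¹ := by rw [(hρ i hi).2]
      _ = _ := by rw [h1, mul_inv_cancel_right]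
  have k3 : Cong O t (κ₀ * t * κ₀⁻¹) := by
    have h1 := hR.comm g hg g hg
    have h2 : κ₀ * t * κ₀⁻¹ = ⁅g, t * g * t⁻¹⁆ * t := by
      rw [hκ₀, commutatorElement_def]
      have h3 : g * (t * g * t⁻¹) * t * (g * (t * g * t⁻¹))⁻¹ = g * (t * g * t⁻¹) * (t * t) * g⁻¹ * t⁻¹ * g⁻¹ := by group
      have h4 : g * (t * g * t⁻¹) * g⁻¹ * (t * g * t⁻¹)⁻¹ * t = g * (t * g * t⁻¹) * g⁻¹ * t * g⁻¹ * (t⁻¹ * t) := by group
      rw [h3, h4, H.tt, inv_mul_cancel, ht]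
      group
    rw [Cong, h2]
    have h5 := normt H hR _ h1
    rw [ht] at h5 ⊢
    have h6 : t * ⁅g, t * g * t⁆ * t = t * (⁅g, t * g * t⁆ * t) := by group
    rwa [← h6]
  -- the 2-group
  have hsQ := QN_t (mul := mul) (sq := sq) (hc := hc) H.tt
  let T : Subgroup G := WThreeAbs.Qs (QN mul sq hc) t H.tt hsQ
  have hT : IsPGroup 2 T := WThreeAbs.isPGroup_Qs H.tt hsQ QN_sq
  have mν : ∀ i < 16, ν i ∈ QN mul sq hc := fun i hi => ⟨i, hi, 0, by norm_num, by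
    have h0 : ν 0 = 1 := by
      have := mul 0 (by norm_num) 0 (by norm_num)
      rw [Nat.xor_self] at this
      exact mul_eq_left.1 this
    rw [h0]; group⟩
  have hQT : ∀ x ∈ QN mul sq hc, x ∈ T := fun x hx => Or.inl hx
  have htT : t ∈ T := Or.inr (by rw [H.tt]; exact one_mem _)
  have nQ : ∀ y ∈ QN mul sq hc, ∀ o ∈ O, y * o * y⁻¹ ∈ O := by
    rintro _ ⟨i, hi, j, hj, rfl⟩ o ho
    have h4 := normR hR (hA.le (hνA i hi)) _ (normRt H hR (hA.le (hνA j hj)) o ho)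
    have h5 : ν i * ((t * ν j * t⁻¹) * o * (t * ν j * t⁻¹)⁻¹) * (ν i)⁻¹ =
        ν i * (t * ν j * t⁻¹) * o * (ν i * (t * ν j * t⁻¹))⁻¹ := by group
    rwa [h5] at h4
  have nT : ∀ y ∈ T, ∀ o ∈ O, y * o * y⁻¹ ∈ O := by
    rintro y (hy | hy) o ho
    · exact nQ y hy o ho
    · have h1 := nQ _ hy _ (normt H hR o ho)
      have h2 : y * t * (t * o * t⁻¹) * (y * t)⁻¹ = y * ((t * t) * o * (t * t)⁻¹) * y⁻¹ := by group
      rw [h2, H.tt, one_mul, inv_one, mul_one] at h1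
      exact h1
  have kQ : ∀ x ∈ QN mul sq hc, κ₀ * x * κ₀⁻¹ ∈ QN mul sq hc := by
    rintro _ ⟨i, hi, j, hj, rfl⟩
    refine ⟨ρ i, (hρ i hi).1, ρ j, (hρ j hj).1, ?_⟩
    rw [← k1 i hi, ← k2 j hj]; group
  obtain ⟨n, hn, hn'⟩ := OddConj.frattini_exact (odd hR) hT nT (g := κ₀) (by
      rintro x (hx | hx)
      · exact ⟨_, hQT _ (kQ x hx), by rw [inv_mul_cancel]; exact one_mem _⟩
      · refine ⟨κ₀ * (x * t) * κ₀⁻¹ * t, mul_mem (hQT _ (kQ _ hx)) htT, ?_⟩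
        have h1 : κ₀ * x * κ₀⁻¹ = κ₀ * (x * t) * κ₀⁻¹ * (κ₀ * t * κ₀⁻¹) := by
          have h2 : κ₀ * (x * t) * κ₀⁻¹ * (κ₀ * t * κ₀⁻¹) = κ₀ * x * (t * t) * κ₀⁻¹ := by group
          rw [h2, H.tt, mul_one]
        rw [h1]
        have h2 : (κ₀ * (x * t) * κ₀⁻¹ * t)⁻¹ * (κ₀ * (x * t) * κ₀⁻¹ * (κ₀ * t * κ₀⁻¹)) = t⁻¹ * (κ₀ * t * κ₀⁻¹) := by group
        rw [h2]
        exact k3)
  refine ⟨n * κ₀, ?_, fun i hi => ?_, fun i hi => ?_⟩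
  · have h1 := hn' t htT t htT k3
    rwa [mul_inv_eq_iff_eq_mul] at h1
  · exact hn' _ (hQT _ (mν i hi)) _ (hQT _ (mν _ (hρ i hi).1)) (by rw [k1 i hi, inv_mul_cancel]; exact one_mem _)
  · have h1 : ∀ i < 16, e' i ∈ T := fun i hi => hQT _ ⟨i, hi, i, hi, he' i hi⟩
    refine hn' _ (h1 i hi) _ (h1 _ (hρ i hi).1) ?_
    have h2 : κ₀ * e' i * κ₀⁻¹ = e' (ρ i) := by
      rw [he' i hi, he' _ (hρ i hi).1]
      calc κ₀ * (ν i * (t * ν i * t⁻¹)) * κ₀⁻¹ = (κ₀ * ν i * κ₀⁻¹) * (κ₀ * (t * ν i * t⁻¹) * κ₀⁻¹) := by group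
        _ = _ := by rw [k1 i hi, k2 i hi]
    rw [h2, inv_mul_cancel]
    exact one_mem _

end Cfsg.Agent.TypeM.Kappa
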