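import Cfsg.Agent.TypeM.LFactsLy
import Cfsg.Agent.TypeM.FactsLy

/-!
# The facts on groups isomorphic to the Lyons group
-/

set_option autoImplicit false

namespace Cfsg.Agent.TypeM.LyL

/-- **The facts on groups isomorphic to the Lyons group.** -/
theorem exists_lfacts_ly {M : Type*} [Group M] (h : Cfsg.Spor.IsoLy M) :
    ∃ ε s ε' s' : ℕ → M, LFacts ε s ε' s' := by
  obtain ⟨-, -, -, ⟨L⟩⟩ := Cfsg.Agent.TypeM.FactsLy.facts h
  exact exists_lfacts L

end Cfsg.Agent.TypeM.LyL
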