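import Cfsg.Agent.TypeM.OutLyFin
import Cfsg.Agent.TypeM.FactsMcL
import Cfsg.Agent.TypeM.LFactsLyIso
import Cfsg.Agent.TypeM.FactsAut

/-!
# All facts on `McL` and `Ly` which are used in Theorem W

`LAll ε s ε' s'`: `LFacts` and the facts (o1), (o1'), (o2), (o3) on the automorphisms; `exists_mcl`, `exists_ly`,
`exists_of_mt`.
-/

set_option autoImplicit false

namespace Cfsg.Agent.TypeM.LAll

open Subgroup Equiv Cfsg.Agent.TypeM.Two Cfsg.Agent.TypeM.OuterMcL

/-- the facts on `L` and its automorphisms -/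
structure Facts {L : Type*} [Group L] (ε s ε' s' : ℕ → L) : Prop where
  F : LFacts ε s ε' s'
  o1 : ∀ φ : MulAut L, (∀ i < 16, ∃ j < 16, φ (ε i) = ε j) → φ ∈ (MulAut.conj : L →* MulAut L).range
  o1' : ∀ φ : MulAut L, (∀ i < 16, ∃ j < 16, φ (ε' i) = ε' j) → φ ∈ (MulAut.conj : L →* MulAut L).range
  o2 : ∀ φ : MulAut L, φ * φ = 1 → ∀ A : Subgroup L, (∀ x ∈ A, x * x = 1) → Nat.card A = 8 →
    (∀ x ∈ A, φ x = x) → φ ∈ (MulAut.conj : L →* MulAut L).range
  o3 : ∀ φ ψ : MulAut L, φ ∉ (MulAut.conj : L →* MulAut L).range → ψ ∉ (MulAut.conj : L →* MulAut L).range →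
    φ * ψ ∈ (MulAut.conj : L →* MulAut L).range

/-- groups with one class of involutions and centraliser `2.A_8`, of order `|McL|` -/
theorem exists_of_mt8 {M : Type*} [Group M] [Finite M] (L : MT 8 M) (hcard : Nat.card M = 898128000) :
    ∃ ε s ε' s' : ℕ → M, Facts ε s ε' s' := by
  obtain ⟨a, b, c, x, y, w, u, d, D⟩ := LFactsMcL.exists_data L
  have F := LFactsMcL.lfacts L D
  have hE : ExPerm L := OutLyFin.exPerm L (by norm_num)
  have hI : EvenInner L := OutLyFin.evenInner L (Or.inl rfl) (Or.inl ⟨rfl, hcard⟩)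
  have h1 : LFactsMcL.e1 L.t u b c 1 = L.t := by rw [LFactsMcL.e1, Cfsg.Agent.McLType.Relators.four_one]
  have h2 : LFactsMcL.e2 L.t u a b 1 = L.t := by
    rw [LFactsMcL.e2, show LFactsMcL.sw 1 = 1 from rfl, Cfsg.Agent.McLType.Relators.four_one]
  -- the centre is trivial
  have hc : ∀ x : M, (∀ y, x * y = y * x) → x = 1 := by
    intro x hx
    have hxt : x ∈ centralizer ({L.t} : Set M) := mem_centralizer_singleton_iff.2 (hx _)
    have h3 : (⟨x, hxt⟩ : centralizer ({L.t} : Set M)) ∈ center (centralizer ({L.t} : Set M)) :=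
      mem_center_iff.2 fun g => Subtype.ext (hx g).symm
    rcases (L.K.mem_center_iff (by simp)).1 h3 with h4 | h4
    · exact congrArg Subtype.val h4
    · exfalso
      have h5 : x = L.t := (congrArg Subtype.val h4).trans L.hz
      obtain ⟨v, hv1, hv2, hv3, -⟩ := FactsAut.exists_u L (Or.inl rfl)
      obtain ⟨g, hg⟩ := L.one v hv1 hv2
      rw [← h5, ← hx g, mul_inv_cancel_right] at hg
      exact hv3 (by rw [← hg, h5])
  exact ⟨_, _, _, _, F, fun φ h => inner_of_norm L hE hI hc h1 F.E.mul F.E.inj F.E.sε h,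
    fun φ h => inner_of_norm L hE hI hc h2 F.E'.mul F.E'.inj F.E'.sε h,
    fun φ _ A hA hA8 h => inner_of_fix L hE hI hA (by rw [hA8]) h, fun φ ψ h h' => inner_mul L hE hI h h'⟩

/-- **The facts for `McL`.** -/
theorem exists_mcl {M : Type*} [Group M] (h : Cfsg.Spor.IsoMcL M) : ∃ ε s ε' s' : ℕ → M, Facts ε s ε' s' := by
  obtain ⟨h1, -, h3, ⟨L⟩⟩ := FactsMcL.facts h
  exact exists_of_mt8 L h3

/-- **The facts for `Ly`.** -/
theorem exists_ly {M : Type*} [Group M] (h : Cfsg.Spor.IsoLy M) : ∃ ε s ε' s' : ℕ → M, Facts ε s ε' s' := by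
  obtain ⟨ε, s, ε', s', F⟩ := LyL.exists_lfacts_ly h
  exact ⟨ε, s, ε', s', F, fun φ _ => OutLyFin.inner h φ, fun φ _ => OutLyFin.inner h φ,
    fun φ _ _ _ _ _ => OutLyFin.inner h φ, fun φ ψ _ _ => OutLyFin.inner h (φ * ψ)⟩

end Cfsg.Agent.TypeM.LAll
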