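import Cfsg.Agent.TypeM.QConf

/-!
# The facts on `L = McL, Ly` which are used in Theorem W
-/

set_option autoImplicit false

namespace Cfsg.Agent.TypeM

/-- Standard elementary abelian subgroup `{ε 0, …, ε 15}` of order 16: its centralizer has Sylow
2-subgroup `E`, and the normalizer acts as the `A₇` generated by the five matrices. -/
structure ELoc {L : Type*} [Group L] (ε s : ℕ → L) : Prop where
  mul : ∀ i < 16, ∀ j < 16, ε i * ε j = ε (i ^^^ j)
  inj : ∀ i < 16, ε i = 1 → i = 0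
  sε : ∀ k < 5, ∀ i < 16, s k * ε i = ε (gm k i) * s k
  cen : ∀ x, TwoElt x → (∀ i < 16, x * ε i = ε i * x) → ∃ i < 16, x = ε i
  aut : ∀ x, (∀ i < 16, ∃ j < 16, x * ε i * x⁻¹ = ε j) →
    ∃ w : List ℕ, (∀ k ∈ w, k < 5) ∧ ∀ i < 16, x * ε i * x⁻¹ = ε (act w i)

/-- `f` lists the elements of an elementary abelian group of order 16 -/
structure IsE16 {L : Type*} [Group L] (f : ℕ → L) : Prop where
  mul : ∀ i < 16, ∀ j < 16, f i * f j = f (i ^^^ j)
  inj : ∀ i < 16, f i = 1 → i = 0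

/-- The facts on `L`. -/
structure LFacts {L : Type*} [Group L] (ε s ε' s' : ℕ → L) : Prop where
  E : ELoc ε s
  E' : ELoc ε' s'
  low : ∀ i < 4, ε' i = ε i
  one : ∀ x : L, x * x = 1 → x ≠ 1 → ∃ g, g * x * g⁻¹ = ε 1
  e16 : ∀ f : ℕ → L, IsE16 f → ∃ g : L, (∀ i < 16, ∃ j < 16, g * f i * g⁻¹ = ε j) ∨
    (∀ i < 16, ∃ j < 16, g * f i * g⁻¹ = ε' j)

end Cfsg.Agent.TypeM
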