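import Mathlib

/-!
# Regular elementary abelian groups of order eight in the alternating group of degree eleven
-/

set_option autoImplicit false

namespace Cfsg.Agent.TypeM.LyL

open Equiv Subgroup

theorem xor_lt8 {i j : ℕ} (hi : i < 8) (hj : j < 8) : i ^^^ j < 8 :=
  Nat.xor_lt_two_pow (n := 3) hi hj

theorem xor_xor_self (i j : ℕ) : j ^^^ (j ^^^ i) = i := by
  rw [← Nat.xor_assoc, Nat.xor_self, Nat.zero_xor]

/-- A regular elementary abelian group of order eight on the points `0, …, 7`. -/
structure Reg (T : ℕ → Perm (Fin 11)) : Prop where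
  mul : ∀ i < 8, ∀ j < 8, T i * T j = T (i ^^^ j)
  fix : ∀ i < 8, ∀ p : Fin 11, 8 ≤ p.val → T i p = p
  low : ∀ i < 8, (T i 0).val < 8
  surj : ∀ p : Fin 11, p.val < 8 → ∃ i < 8, T i 0 = p
  inj : ∀ i < 8, ∀ j < 8, T i 0 = T j 0 → i = j

namespace Reg

variable {T : ℕ → Perm (Fin 11)} (R : Reg T)
include R

theorem zero : T 0 = 1 := by
  have := R.mul 0 (by norm_num) 0 (by norm_num)
  simpa using this

theorem apply {i j : ℕ} (hi : i < 8) (hj : j < 8) (p : Fin 11) : T i (T j p) = T (i ^^^ j) p := by
  rw [← R.mul i hi j hj]; rfl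

theorem low' {i : ℕ} (hi : i < 8) {p : Fin 11} (hp : p.val < 8) : (T i p).val < 8 := by
  obtain ⟨j, hj, rfl⟩ := R.surj p hp
  rw [R.apply hi hj]
  exact R.low _ (xor_lt8 hi hj)

theorem eq_zero_of_fix {i : ℕ} (hi : i < 8) {p : Fin 11} (hp : p.val < 8) (h : T i p = p) : i = 0 := by
  obtain ⟨j, hj, rfl⟩ := R.surj p hp
  rw [R.apply hi hj] at h
  have h1 := R.inj _ (xor_lt8 hi hj) _ hj h
  have h2 : i ^^^ j ^^^ j = i := by rw [Nat.xor_assoc, Nat.xor_self, Nat.xor_zero]
  rw [← h2, h1, Nat.xor_self]

theorem sq {i : ℕ} (hi : i < 8) : T i * T i = 1 := by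
  rw [R.mul i hi i hi, Nat.xor_self, R.zero]

/-- A permutation commuting with the regular group agrees on `{0, …, 7}` with one of its elements. -/
theorem comm {q : Perm (Fin 11)} (h : ∀ i < 8, q * T i = T i * q) :
    ∃ j < 8, ∀ p : Fin 11, p.val < 8 → q p = T j p := by
  have hlow : (q 0).val < 8 := by
    by_contra hc
    have h1 := R.fix 1 (by norm_num) (q 0) (by omega)
    have h2 : q (T 1 0) = T 1 (q 0) := congrArg (fun f : Perm (Fin 11) => f 0) (h 1 (by norm_num))
    rw [h1] at h2
    exact absurd (R.eq_zero_of_fix (by norm_num) (by norm_num) (q.injective h2)) (by norm_num)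
  obtain ⟨j, hj, hj0⟩ := R.surj _ hlow
  refine ⟨j, hj, fun p hp => ?_⟩
  obtain ⟨i, hi, rfl⟩ := R.surj p hp
  have h2 : q (T i 0) = T i (q 0) := congrArg (fun f : Perm (Fin 11) => f 0) (h i hi)
  rw [h2, ← hj0, R.apply hi hj, R.apply hj hi, Nat.xor_comm]

end Reg

/-- the fixed points -/
theorem card_fix {σ : Perm (Fin 11)} (h : σ.support.card = 8) :
    (Finset.univ.filter fun x => σ x = x).card = 3 := by
  classical
  have h1 := Finset.card_filter_add_card_filter_not (s := (Finset.univ : Finset (Fin 11)))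
    (fun x => σ x = x)
  have h2 : (Finset.univ.filter fun x => ¬ σ x = x) = σ.support := by
    ext x; simp
  rw [h2, h, Finset.card_univ, Fintype.card_fin] at h1
  omega

section conj

variable {h : ℕ → Perm (Fin 11)} (hm : ∀ i < 8, ∀ j < 8, h i * h j = h (i ^^^ j))
  (hs : ∀ i < 8, i ≠ 0 → (h i).support.card = 8)

include hm in
theorem h_apply {i j : ℕ} (hi : i < 8) (hj : j < 8) (p : Fin 11) : h i (h j p) = h (i ^^^ j) p := by
  rw [← hm i hi j hj]; rfl

include hm in
theorem h_zero : h 0 = 1 := by
  have := hm 0 (by norm_num) 0 (by norm_num)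
  simpa using this

include hm hs

/-- some point has trivial stabilizer -/
theorem exists_point : ∃ x, ∀ i < 8, i ≠ 0 → h i x ≠ x := by
  classical
  by_contra hcon
  push Not at hcon
  set S : Finset ℕ := (Finset.range 8).filter fun i => i ≠ 0 with hS
  have hScard : S.card = 7 := by decide
  have hmemS : ∀ i, i ∈ S ↔ i < 8 ∧ i ≠ 0 := fun i => by rw [hS, Finset.mem_filter, Finset.mem_range]
  have h2 : ∀ x, 2 ≤ (S.filter fun i => h i x = x).card := by
    intro x
    obtain ⟨i, hi, hi0, hix⟩ := hcon x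
    by_contra hlt
    have hone : ∀ k < 8, h k x = x → k = 0 ∨ k = i := by
      intro k hk hkx
      by_contra hne
      push Not at hne
      apply hlt
      have : ({i, k} : Finset ℕ) ⊆ S.filter fun i => h i x = x := by
        intro l hl
        rw [Finset.mem_insert, Finset.mem_singleton] at hl
        rw [Finset.mem_filter, hmemS]
        rcases hl with rfl | rfl
        · exact ⟨⟨hi, hi0⟩, hix⟩
        · exact ⟨⟨hk, hne.1⟩, hkx⟩
      refine le_trans ?_ (Finset.card_le_card this)
      rw [Finset.card_pair (Ne.symm hne.2)]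
    have h3 : (Finset.range 8).card ≤ 2 * ((Finset.range 8).image fun j => h j x).card := by
      apply Finset.card_le_mul_card_image
      intro a ha
      rw [Finset.mem_image] at ha
      obtain ⟨j, hj, rfl⟩ := ha
      rw [Finset.mem_range] at hj
      have : ((Finset.range 8).filter fun k => h k x = h j x) ⊆ {j, j ^^^ i} := by
        intro k hk
        rw [Finset.mem_filter, Finset.mem_range] at hk
        have h5 : h (j ^^^ k) x = x := by
          rw [← h_apply hm hj hk.1, hk.2, h_apply hm hj hj, Nat.xor_self, h_zero hm, Perm.one_apply]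
        rw [Finset.mem_insert, Finset.mem_singleton]
        rcases hone _ (xor_lt8 hj hk.1) h5 with h6 | h6
        · left
          exact (Nat.xor_eq_zero_iff.1 h6).symm
        · right
          rw [← h6, xor_xor_self]
      exact (Finset.card_le_card this).trans (Finset.card_le_two)
    have h4 : ((Finset.range 8).image fun j => h j x) ⊆ Finset.univ.filter fun y => h i y = y := by
      intro y hy
      rw [Finset.mem_image] at hy
      obtain ⟨j, hj, rfl⟩ := hy
      rw [Finset.mem_range] at hj
      rw [Finset.mem_filter]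
      refine ⟨Finset.mem_univ _, ?_⟩
      rw [h_apply hm hi hj, Nat.xor_comm, ← h_apply hm hj hi, hix]
    have h5 := Finset.card_le_card h4
    rw [card_fix (hs i hi hi0)] at h5
    rw [Finset.card_range] at h3
    omega
  have h3 := Finset.sum_card_bipartiteAbove_eq_sum_card_bipartiteBelow
    (s := (Finset.univ : Finset (Fin 11))) (t := S) (fun x i => h i x = x)
  have h4 : ∑ x : Fin 11, 2 ≤ ∑ x : Fin 11, (S.bipartiteAbove (fun x i => h i x = x) x).card :=
    Finset.sum_le_sum fun x _ => h2 x
  have h5 : ∑ i ∈ S, ((Finset.univ : Finset (Fin 11)).bipartiteBelow (fun x i => h i x = x) i).card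
      = ∑ i ∈ S, 3 := by
    refine Finset.sum_congr rfl fun i hi => ?_
    rw [hmemS] at hi
    exact card_fix (hs i hi.1 hi.2)
  rw [h3, h5] at h4
  simp only [Finset.sum_const, Finset.card_univ, Fintype.card_fin, smul_eq_mul, hScard] at h4
  omega

/-- conjugacy with a regular group -/
theorem exists_conj {T : ℕ → Perm (Fin 11)} (R : Reg T) :
    ∃ σ ∈ alternatingGroup (Fin 11), ∀ i < 8, σ * h i * σ⁻¹ = T i := by
  classical
  obtain ⟨x, hx⟩ := exists_point hm hs
  have hinj : ∀ i < 8, ∀ j < 8, h i x = h j x → i = j := by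
    intro i hi j hj hij
    by_contra hne
    apply hx (i ^^^ j) (xor_lt8 hi hj) (fun e => hne (Nat.xor_eq_zero_iff.1 e))
    rw [← h_apply hm hi hj, ← hij, h_apply hm hi hi, Nat.xor_self, h_zero hm, Perm.one_apply]
  let u : Fin 8 ↪ Fin 11 := ⟨fun i => h i x, fun i j e => Fin.ext (hinj i i.2 j j.2 e)⟩
  let v : Fin 8 ↪ Fin 11 := ⟨fun i => T i 0, fun i j e => Fin.ext (R.inj i i.2 j j.2 e)⟩
  have hN : Nat.card (Fin 11) = 11 := by rw [Nat.card_eq_fintype_card, Fintype.card_fin]
  have ht : MulAction.IsMultiplyPretransitive (alternatingGroup (Fin 11)) (Fin 11) 9 := by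
    have := alternatingGroup.isMultiplyPretransitive (Fin 11)
    rwa [hN] at this
  have ht8 : MulAction.IsMultiplyPretransitive (alternatingGroup (Fin 11)) (Fin 11) 8 :=
    MulAction.isMultiplyPretransitive_of_le (n := 9) (by norm_num) (by rw [hN]; norm_num)
  obtain ⟨⟨σ, hσ⟩, hg⟩ := MulAction.isMultiplyPretransitive_iff.1 ht8 u v
  have hσv : ∀ i < 8, σ (h i x) = T i 0 := by
    intro i hi
    have := congrArg (fun f : Fin 8 ↪ Fin 11 => f ⟨i, hi⟩) hg
    exact this
  refine ⟨σ, hσ, fun i hi => ?_⟩
  by_cases hi0 : i = 0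
  · rw [hi0, h_zero hm, R.zero, mul_one, mul_inv_cancel]
  -- fixed points of `h i`
  have hfixes : ∀ y, (∀ j < 8, h j x ≠ y) → h i y = y := by
    have h1 : (Finset.univ.filter fun y => h i y = y) ⊆
        ((Finset.range 8).image fun j => h j x)ᶜ := by
      intro y hy
      rw [Finset.mem_filter] at hy
      rw [Finset.mem_compl, Finset.mem_image]
      rintro ⟨j, hj, rfl⟩
      rw [Finset.mem_range] at hj
      have h2 := hy.2
      rw [h_apply hm hi hj] at h2
      have h3 := hinj _ (xor_lt8 hi hj) _ hj h2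
      apply hi0
      have h4 : i ^^^ j ^^^ j = i := by rw [Nat.xor_assoc, Nat.xor_self, Nat.xor_zero]
      rw [← h4, h3, Nat.xor_self]
    have h2 : ((Finset.range 8).image fun j => h j x).card = 8 := by
      rw [Finset.card_image_of_injOn, Finset.card_range]
      intro a ha b hb hab
      exact hinj a (Finset.mem_range.1 ha) b (Finset.mem_range.1 hb) hab
    have h3 := Finset.eq_of_subset_of_card_le h1 (by
      rw [Finset.card_compl, h2, Fintype.card_fin, card_fix (hs i hi hi0)])
    intro y hy
    have h4 : y ∈ ((Finset.range 8).image fun j => h j x)ᶜ := by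
      rw [Finset.mem_compl, Finset.mem_image]
      rintro ⟨j, hj, e⟩
      exact hy j (Finset.mem_range.1 hj) e
    rw [← h3, Finset.mem_filter] at h4
    exact h4.2
  ext1 p
  rw [Perm.mul_apply, Perm.mul_apply]
  by_cases hp : p.val < 8
  · obtain ⟨j, hj, rfl⟩ := R.surj p hp
    rw [← hσv j hj, Perm.inv_def, Equiv.symm_apply_apply, h_apply hm hi hj, hσv _ (xor_lt8 hi hj), hσv j hj,
      R.apply hi hj]
  · rw [R.fix i hi p (by omega)]
    rw [hfixes, Perm.inv_def, Equiv.apply_symm_apply]
    intro j hj e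
    apply hp
    have : p = T j 0 := by rw [← hσv j hj, e, Perm.inv_def, Equiv.apply_symm_apply]
    rw [this]
    exact R.low j hj

end conj

end Cfsg.Agent.TypeM.LyL
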