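import Cfsg.Agent.TypeM.LFactsLyA
import Cfsg.Agent.TypeM.LFactsLyB
import Cfsg.Agent.TypeM.LFacts
import Cfsg.Agent.TypeM.Two

/-!
# The facts on the Lyons group: the normalizer of an elementary abelian subgroup of order 16
-/

set_option autoImplicit false

namespace Cfsg.Agent.TypeM.LyL

open Equiv Subgroup
open Cfsg.Agent.TypeM.Two Cfsg.Agent.SporRec Cfsg.Agent.SporRec.TwoAn

variable {G : Type*} [Group G]

/-- A standard elementary abelian group of order 16 in the centralizer of `t`. -/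
structure Loc (L : MT 11 G) (T : ℕ → Perm (Fin 11)) (ε s : ℕ → G) : Prop where
  reg : Reg T
  one : ε 1 = L.t
  mul : ∀ i < 16, ∀ j < 16, ε i * ε j = ε (i ^^^ j)
  mem : ∀ i < 16, ε i * L.t = L.t * ε i
  pr : ∀ i < 8, ∀ h, L.K.π ⟨ε (2 * i), h⟩ = T i
  smem : ∀ k < 4, s k * L.t = L.t * s k
  sε : ∀ k < 4, ∀ i < 16, s k * ε i = ε (gm k i) * s k

theorem nat_split : ∀ i < 16, i = 2 * (i / 2) ^^^ (i % 2) := by decide

theorem nat_split' : ∀ i < 8, 2 * i / 2 = i := by decide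

theorem nat_two_mul_xor : ∀ i < 8, ∀ j < 8, 2 * i ^^^ 2 * j = 2 * (i ^^^ j) := by decide

theorem nat_two_mul_xor_one : ∀ i < 8, 2 * i ^^^ 1 = 2 * i + 1 := by decide

theorem nat_basis : ∀ i < 16, i = (bif i.testBit 0 then 1 else 0) ^^^ (bif i.testBit 1 then 2 else 0) ^^^
    (bif i.testBit 2 then 4 else 0) ^^^ (bif i.testBit 3 then 8 else 0) := by decide

/-- two multiplicative families which agree on a basis agree -/
theorem lin_ext {f f' : ℕ → G} (hf : ∀ i < 16, ∀ j < 16, f i * f j = f (i ^^^ j))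
    (hf' : ∀ i < 16, ∀ j < 16, f' i * f' j = f' (i ^^^ j)) (h1 : f 1 = f' 1) (h2 : f 2 = f' 2)
    (h4 : f 4 = f' 4) (h8 : f 8 = f' 8) : ∀ i < 16, f i = f' i := by
  have z : ∀ {g : ℕ → G}, (∀ i < 16, ∀ j < 16, g i * g j = g (i ^^^ j)) → g 0 = 1 := by
    intro g hg
    have := hg 0 (by norm_num) 0 (by norm_num)
    simpa using this
  have h0 : f 0 = f' 0 := by rw [z hf, z hf']
  have key : ∀ b0 b1 b2 b3 : Bool, f ((bif b0 then 1 else 0) ^^^ (bif b1 then 2 else 0) ^^^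
      (bif b2 then 4 else 0) ^^^ (bif b3 then 8 else 0)) = f' ((bif b0 then 1 else 0) ^^^ (bif b1 then 2 else 0) ^^^
      (bif b2 then 4 else 0) ^^^ (bif b3 then 8 else 0)) := by
    intro b0 b1 b2 b3
    have e : ∀ {i j : ℕ}, i < 16 → j < 16 → f i = f' i → f j = f' j → f (i ^^^ j) = f' (i ^^^ j) := by
      intro i j hi hj h h'
      rw [← hf i hi j hj, ← hf' i hi j hj, h, h']
    have l0 : (bif b0 then 1 else 0) < 16 := by cases b0 <;> decide
    have l1 : (bif b1 then 2 else 0) < 16 := by cases b1 <;> decide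
    have l2 : (bif b2 then 4 else 0) < 16 := by cases b2 <;> decide
    have l3 : (bif b3 then 8 else 0) < 16 := by cases b3 <;> decide
    refine e (xor_lt (xor_lt l0 l1) l2) l3 (e (xor_lt l0 l1) l2 (e l0 l1 ?_ ?_) ?_) ?_
    · cases b0
      · exact h0
      · exact h1
    · cases b1
      · exact h0
      · exact h2
    · cases b2
      · exact h0
      · exact h4
    · cases b3
      · exact h0
      · exact h8
  intro i hi
  rw [nat_basis i hi]
  exact key _ _ _ _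

namespace Loc

variable {L : MT 11 G} {T : ℕ → Perm (Fin 11)} {ε s : ℕ → G} (D : Loc L T ε s)
include D

theorem zero : ε 0 = 1 := by
  have := D.mul 0 (by norm_num) 0 (by norm_num)
  simpa using this

theorem sq {i : ℕ} (hi : i < 16) : ε i * ε i = 1 := by rw [D.mul i hi i hi, Nat.xor_self, D.zero]

theorem comm_eps {i j : ℕ} (hi : i < 16) (hj : j < 16) : ε i * ε j = ε j * ε i := by
  rw [D.mul i hi j hj, D.mul j hj i hi, Nat.xor_comm]

theorem inv_eps {i : ℕ} (hi : i < 16) : (ε i)⁻¹ = ε i := inv_eq_of_mul_eq_one_left (D.sq hi)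

theorem memC {i : ℕ} (hi : i < 16) : ε i ∈ centralizer ({L.t} : Set G) := L.mem_iff.2 (D.mem i hi)

theorem smemC {k : ℕ} (hk : k < 4) : s k ∈ centralizer ({L.t} : Set G) := L.mem_iff.2 (D.smem k hk)

omit D in
theorem pi_t (h : L.t ∈ centralizer ({L.t} : Set G)) : L.K.π ⟨L.t, h⟩ = 1 := by
  have : (⟨L.t, h⟩ : centralizer ({L.t} : Set G)) = L.K.z := Subtype.ext L.hz.symm
  rw [this, L.K.π_z]

omit D in
/-- the projection of a product -/
theorem pi_mul {x y : G} (hx : x ∈ centralizer ({L.t} : Set G)) (hy : y ∈ centralizer ({L.t} : Set G)) :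
    L.K.π ⟨x * y, mul_mem hx hy⟩ = L.K.π ⟨x, hx⟩ * L.K.π ⟨y, hy⟩ := by
  rw [← map_mul]; rfl

omit D in
theorem pi_inv {x : G} (hx : x ∈ centralizer ({L.t} : Set G)) :
    L.K.π ⟨x⁻¹, inv_mem hx⟩ = (L.K.π ⟨x, hx⟩)⁻¹ := by
  rw [← map_inv]; rfl

omit D in
theorem pi_congr {x y : G} (hx : x ∈ centralizer ({L.t} : Set G)) (hxy : x = y) :
    L.K.π ⟨x, hx⟩ = L.K.π ⟨y, hxy ▸ hx⟩ := by
  subst hxy; rfl

omit D in
theorem pi_conj {x y : G} (hx : x ∈ centralizer ({L.t} : Set G)) (hy : y ∈ centralizer ({L.t} : Set G)) :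
    L.K.π ⟨x * y * x⁻¹, mul_mem (mul_mem hx hy) (inv_mem hx)⟩ =
      L.K.π ⟨x, hx⟩ * L.K.π ⟨y, hy⟩ * (L.K.π ⟨x, hx⟩)⁻¹ := by
  rw [← map_mul, ← map_inv, ← map_mul]; rfl

theorem pr' {i : ℕ} (hi : i < 16) (h) : L.K.π ⟨ε i, h⟩ = T (i / 2) := by
  have h2 : i / 2 < 8 := by omega
  rcases Nat.mod_two_eq_zero_or_one i with h0 | h0
  · have e : i = 2 * (i / 2) := by omega
    have := D.pr (i / 2) h2 (e ▸ h)
    rw [← this]
    exact pi_congr _ (congrArg ε e)
  · have e : i = 2 * (i / 2) ^^^ 1 := by rw [nat_two_mul_xor_one _ h2]; omega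
    have h3 : ε i = ε (2 * (i / 2)) * L.t := by
      rw [← D.one, D.mul _ (by omega) _ (by norm_num), ← e]
    rw [pi_congr _ h3, pi_mul (D.memC (by omega)) (L.mem_iff.2 rfl), pi_t, mul_one, D.pr _ h2]

theorem eq_one_or {i : ℕ} (hi : i < 8) (h : T i = 1) : i = 0 :=
  D.reg.eq_zero_of_fix hi (p := 0) (by norm_num) (by rw [h]; rfl)

theorem T_inj {i j : ℕ} (hi : i < 8) (hj : j < 8) (h : T i = T j) : i = j :=
  D.reg.inj i hi j hj (by rw [h])

theorem inj : ∀ i < 16, ε i = 1 → i = 0 := by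
  intro i hi h
  have h1 := D.pr' hi (D.memC hi)
  rw [pi_congr _ h] at h1
  have h2 : (1 : Perm (Fin 11)) = T (i / 2) := by
    rw [← h1]
    exact (map_one L.K.π).symm
  have h3 := D.eq_one_or (by omega) h2.symm
  have h4 : i = 0 ∨ i = 1 := by omega
  rcases h4 with rfl | rfl
  · rfl
  · exact absurd (D.one.symm.trans h) L.t_ne

theorem eq_of {i j : ℕ} (hi : i < 16) (hj : j < 16) (h : ε i = ε j) : i = j := by
  have h1 : ε (i ^^^ j) = 1 := by rw [← D.mul i hi j hj, h, D.sq hj]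
  exact Nat.xor_eq_zero_iff.1 (D.inj _ (xor_lt hi hj) h1)

/-- elements with the same image -/
theorem eq_of_pi {x : G} (hx : x ∈ centralizer ({L.t} : Set G)) {i : ℕ} (hi : i < 8)
    (h : L.K.π ⟨x, hx⟩ = T i) : x = ε (2 * i) ∨ x = ε (2 * i + 1) := by
  have h1 := L.K.lift_eq (h.trans (D.pr i hi (D.memC (by omega))).symm)
  rcases h1 with h1 | h1
  · left
    exact congrArg Subtype.val h1
  · right
    have h2 := congrArg Subtype.val h1
    rw [Subgroup.coe_mul, L.hz] at h2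
    rw [show x = _ from h2]
    show ε (2 * i) * L.t = _
    rw [← D.one, D.mul _ (by omega) _ (by norm_num), nat_two_mul_xor_one i hi]

theorem exists_eq_of_pi {x : G} (hx : x ∈ centralizer ({L.t} : Set G)) {i : ℕ} (hi : i < 8)
    (h : L.K.π ⟨x, hx⟩ = T i) : ∃ j < 16, x = ε j := by
  rcases D.eq_of_pi hx hi h with h | h
  · exact ⟨_, by omega, h⟩
  · exact ⟨_, by omega, h⟩

/-- commuting modulo `t` with the elementary abelian group -/
theorem comm_of_pi {x : G} (hx : x ∈ centralizer ({L.t} : Set G))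
    (h : ∀ i < 8, L.K.π ⟨x, hx⟩ * T i = T i * L.K.π ⟨x, hx⟩) :
    (∃ j < 8, ∀ p : Fin 11, p.val < 8 → L.K.π ⟨x, hx⟩ p = T j p) ∧ ∀ i < 16, x * ε i = ε i * x := by
  obtain ⟨j, hj, hjp⟩ := D.reg.comm h
  refine ⟨⟨j, hj, hjp⟩, ?_⟩
  have hmj := D.memC (i := 2 * j) (by omega)
  set y : G := x * ε (2 * j) with hy
  have hyC : y ∈ centralizer ({L.t} : Set G) := mul_mem hx hmj
  have hyp : ∀ p : Fin 11, p.val < 8 → L.K.π ⟨y, hyC⟩ p = p := by
    intro p hp
    have e : L.K.π ⟨y, hyC⟩ = L.K.π ⟨x, hx⟩ * L.K.π ⟨ε (2 * j), hmj⟩ := pi_mul hx hmj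
    rw [e, D.pr j hj, Perm.mul_apply, hjp _ (D.reg.low' hj hp), D.reg.apply hj hj, Nat.xor_self, D.reg.zero]
    rfl
  have hyc : ∀ i < 16, y * ε i = ε i * y := by
    intro i hi
    have h2 : (⟨y, hyC⟩ : centralizer ({L.t} : Set G)) * ⟨ε i, D.memC hi⟩ = ⟨ε i, D.memC hi⟩ * ⟨y, hyC⟩ := by
      apply L.K.commute_of_disjoint
      intro p
      by_cases hp : p.val < 8
      · exact Or.inl (hyp p hp)
      · right
        rw [D.pr' hi]
        exact D.reg.fix _ (by omega) p (by omega)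
    exact congrArg Subtype.val h2
  intro i hi
  have hxy : x = y * ε (2 * j) := by rw [hy, mul_assoc, D.sq (by omega), mul_one]
  rw [hxy, mul_assoc, D.comm_eps (by omega) hi, ← mul_assoc, hyc i hi, mul_assoc]

/-- 2-elements of the centralizer -/
theorem cen (x : G) (h2 : TwoElt x) (hx : ∀ i < 16, x * ε i = ε i * x) : ∃ i < 16, x = ε i := by
  classical
  have hxC : x ∈ centralizer ({L.t} : Set G) := L.mem_iff.2 (by rw [← D.one]; exact hx 1 (by norm_num))
  obtain ⟨⟨j, hj, hjp⟩, -⟩ := D.comm_of_pi hxC (by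
    intro i hi
    have hm := D.memC (i := 2 * i) (by omega)
    rw [← D.pr i hi hm, ← pi_mul hxC hm, ← pi_mul hm hxC]
    exact pi_congr _ (hx _ (by omega)))
  have hmj := D.memC (i := 2 * j) (by omega)
  set y : G := x * ε (2 * j) with hy
  have hyC : y ∈ centralizer ({L.t} : Set G) := mul_mem hxC hmj
  have e : L.K.π ⟨y, hyC⟩ = L.K.π ⟨x, hxC⟩ * L.K.π ⟨ε (2 * j), hmj⟩ := pi_mul hxC hmj
  set σ := L.K.π ⟨y, hyC⟩ with hσ
  have hyp : ∀ p : Fin 11, p.val < 8 → σ p = p := by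
    intro p hp
    rw [e, D.pr j hj, Perm.mul_apply, hjp _ (D.reg.low' hj hp), D.reg.apply hj hj, Nat.xor_self, D.reg.zero]
    rfl
  -- `y` is a 2-element
  obtain ⟨n, hn⟩ := h2
  have hyn : y ^ 2 ^ (n + 1) = 1 := by
    have hc : Commute x (ε (2 * j)) := hx _ (by omega)
    rw [hy, hc.mul_pow, pow_succ, pow_mul, hn, one_pow, one_mul, pow_mul', pow_two, D.sq (by omega), one_pow]
  have hσn : σ ^ 2 ^ (n + 1) = 1 := by
    rw [hσ, ← map_pow]
    have : (⟨y, hyC⟩ : centralizer ({L.t} : Set G)) ^ 2 ^ (n + 1) = 1 := Subtype.ext hyn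
    rw [this, map_one]
  have hsup : σ.support ⊆ {8, 9, 10} := by
    intro p hp
    rw [Perm.mem_support] at hp
    have h3 : ¬ p.val < 8 := fun h => hp (hyp p h)
    have : ∀ p : Fin 11, ¬ p.val < 8 → p ∈ ({8, 9, 10} : Finset (Fin 11)) := by decide
    exact this p h3
  have hcard : σ.support.card ≤ 3 := (Finset.card_le_card hsup).trans (Finset.card_le_three)
  have hsgn : σ ∈ alternatingGroup (Fin 11) := L.K.mem_alternating _
  have hone : σ = 1 := by
    by_contra hne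
    have h0 : σ.support.card ≠ 0 := fun h => hne (Perm.card_support_eq_zero.1 h)
    have h1 : σ.support.card ≠ 1 := Perm.card_support_ne_one σ
    have h4 : σ.support.card = 2 ∨ σ.support.card = 3 := by omega
    rcases h4 with h4 | h4
    · have h5 := Perm.card_support_eq_two.1 h4
      rw [Perm.mem_alternatingGroup, h5.sign_eq] at hsgn
      exact absurd hsgn (by decide)
    · have h5 := (card_support_eq_three_iff.1 h4).orderOf
      have h6 := orderOf_dvd_of_pow_eq_one hσn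
      rw [h5] at h6
      have h7 := Nat.Prime.dvd_of_dvd_pow Nat.prime_three h6
      exact absurd h7 (by norm_num)
  rcases (L.K.ker _).1 hone with h5 | h5
  · have h6 : y = 1 := congrArg Subtype.val h5
    refine ⟨2 * j, by omega, ?_⟩
    rw [hy] at h6
    rw [eq_inv_of_mul_eq_one_left h6, D.inv_eps (by omega)]
  · have h6 : y = L.t := (congrArg Subtype.val h5).trans L.hz
    refine ⟨2 * j + 1, by omega, ?_⟩
    rw [← nat_two_mul_xor_one j hj, Nat.xor_comm, ← D.mul _ (by norm_num) _ (by omega), D.one, ← h6, hy, mul_assoc,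
      D.sq (by omega), mul_one]

/-- value of a word -/
theorem W_mem (w : List ℕ) (hw : ∀ k ∈ w, k < 4) : (w.map s).prod ∈ centralizer ({L.t} : Set G) := by
  induction w with
  | nil => exact one_mem _
  | cons k w ih =>
    rw [List.map_cons, List.prod_cons]
    exact mul_mem (D.smemC (hw k List.mem_cons_self)) (ih fun k hk => hw k (List.mem_cons_of_mem _ hk))

theorem W_eps (w : List ℕ) (hw : ∀ k ∈ w, k < 4) {i : ℕ} (hi : i < 16) :
    (w.map s).prod * ε i = ε (act w i) * (w.map s).prod := by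
  induction w with
  | nil => simp [act_nil]
  | cons k w ih =>
    rw [List.map_cons, List.prod_cons, mul_assoc, ih fun k hk => hw k (List.mem_cons_of_mem _ hk), act_cons,
      ← mul_assoc, D.sε k (hw k List.mem_cons_self) _ (act_lt w hi), mul_assoc]

/-- the action of an element normalizing the group -/
theorem exists_act (x : G) (h : ∀ i < 16, ∃ j < 16, x * ε i * x⁻¹ = ε j) :
    ∃ m : ℕ → ℕ, (∀ i < 16, m i < 16) ∧ (∀ i < 16, x * ε i * x⁻¹ = ε (m i)) ∧
      (∀ i < 16, ∀ j < 16, m (i ^^^ j) = m i ^^^ m j) := by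
  have h' : ∀ i, ∃ j, i < 16 → j < 16 ∧ x * ε i * x⁻¹ = ε j := by
    intro i
    by_cases hi : i < 16
    · obtain ⟨j, hj, e⟩ := h i hi
      exact ⟨j, fun _ => ⟨hj, e⟩⟩
    · exact ⟨0, fun h => absurd h hi⟩
  choose m hm using h'
  refine ⟨m, fun i hi => (hm i hi).1, fun i hi => (hm i hi).2, fun i hi j hj => ?_⟩
  apply D.eq_of (hm _ (xor_lt hi hj)).1 (xor_lt (hm i hi).1 (hm j hj).1)
  rw [← (hm _ (xor_lt hi hj)).2, ← D.mul i hi j hj, ← D.mul _ (hm i hi).1 _ (hm j hj).1, ← (hm i hi).2,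
    ← (hm j hj).2]
  group

/-- Elements of `C(t)` normalizing the group act as words in the first four elements. -/
theorem autt (x : G) (hx : x ∈ centralizer ({L.t} : Set G)) {m : ℕ → ℕ} (hm : ∀ i < 16, m i < 16)
    (hx2 : ∀ i < 16, x * ε i * x⁻¹ = ε (m i)) :
    okk (m 2 / 2) (m 4 / 2) (m 8 / 2) = true ∧
      ∀ i < 16, m i = act (wd (m 2 / 2) (m 4 / 2) (m 8 / 2)) i := by
  have hT : ∀ i < 16, T (m i / 2) = L.K.π ⟨x, hx⟩ * T (i / 2) * (L.K.π ⟨x, hx⟩)⁻¹ := by
    intro i hi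
    rw [← D.pr' (hm i hi) (D.memC (hm i hi)), ← D.pr' hi (D.memC hi), ← pi_conj hx (D.memC hi)]
    exact pi_congr _ (hx2 i hi).symm
  have hne : ∀ {i : ℕ}, i < 16 → i / 2 ≠ 0 → m i / 2 ≠ 0 := by
    intro i hi h0 h1
    apply h0
    apply D.eq_one_or (by omega)
    have h2 := hT i hi
    rw [h1, D.reg.zero] at h2
    have h3 : L.K.π ⟨x, hx⟩ * T (i / 2) = L.K.π ⟨x, hx⟩ * 1 := by
      rw [mul_one]; exact mul_inv_eq_one.1 h2.symm
    exact mul_left_cancel h3
  have hne2 : ∀ {i j : ℕ}, i < 16 → j < 16 → i / 2 ≠ j / 2 → m i / 2 ≠ m j / 2 := by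
    intro i j hi hj h0 h1
    apply h0
    apply D.T_inj (by omega) (by omega)
    have h2 := hT i hi
    rw [h1, hT j hj] at h2
    exact (mul_left_cancel (mul_right_cancel h2)).symm
  have h24 : m (2 ^^^ 4) = m 2 ^^^ m 4 := by
    apply D.eq_of (hm _ (by decide)) (xor_lt (hm _ (by norm_num)) (hm _ (by norm_num)))
    rw [← hx2 _ (by decide), ← D.mul 2 (by norm_num) 4 (by norm_num), ← D.mul _ (hm 2 (by norm_num)) _ (hm 4 (by norm_num)),
      ← hx2 2 (by norm_num), ← hx2 4 (by norm_num)]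
    group
  have hok : okk (m 2 / 2) (m 4 / 2) (m 8 / 2) = true := by
    have a1 := hne (i := 2) (by norm_num) (by norm_num)
    have a2 := hne (i := 4) (by norm_num) (by norm_num)
    have a3 := hne (i := 8) (by norm_num) (by norm_num)
    have a4 := hne2 (i := 4) (j := 2) (by norm_num) (by norm_num) (by norm_num)
    have a5 := hne2 (i := 8) (j := 2) (by norm_num) (by norm_num) (by norm_num)
    have a6 := hne2 (i := 8) (j := 4) (by norm_num) (by norm_num) (by norm_num)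
    have a7 := hne2 (i := 8) (j := 2 ^^^ 4) (by norm_num) (by decide) (by decide)
    rw [h24, show (m 2 ^^^ m 4) / 2 = (m 2 / 2) ^^^ (m 4 / 2) by
      rw [← Nat.shiftRight_one, ← Nat.shiftRight_one, ← Nat.shiftRight_one, Nat.shiftRight_xor_distrib]] at a7
    simp [okk, a1, a2, a3, a4, a5, a6, a7]
  refine ⟨hok, ?_⟩
  have hl2 := hm 2 (by norm_num)
  have hl4 := hm 4 (by norm_num)
  have hl8 := hm 8 (by norm_num)
  obtain ⟨hw, hw2, hw4, hw8⟩ := wd_spec (a := m 2 / 2) (b := m 4 / 2) (c := m 8 / 2) (by omega) (by omega) (by omega) hok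
  set w := wd (m 2 / 2) (m 4 / 2) (m 8 / 2) with hwdef
  set W := (w.map s).prod with hW
  have hWC : W ∈ centralizer ({L.t} : Set G) := D.W_mem w hw
  have hWε : ∀ i < 16, W * ε i * W⁻¹ = ε (act w i) := fun i hi => by
    rw [hW, D.W_eps w hw hi, mul_inv_cancel_right]
  have hTW : ∀ i < 16, T (act w i / 2) = L.K.π ⟨W, hWC⟩ * T (i / 2) * (L.K.π ⟨W, hWC⟩)⁻¹ := by
    intro i hi
    rw [← D.pr' (act_lt w hi) (D.memC (act_lt w hi)), ← D.pr' hi (D.memC hi), ← pi_conj hWC (D.memC hi)]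
    exact pi_congr _ (hWε i hi).symm
  -- the quotient commutes with the regular group
  have hzC : W⁻¹ * x ∈ centralizer ({L.t} : Set G) := mul_mem (inv_mem hWC) hx
  have hz : L.K.π ⟨W⁻¹ * x, hzC⟩ = (L.K.π ⟨W, hWC⟩)⁻¹ * L.K.π ⟨x, hx⟩ := by
    rw [← pi_inv hWC]
    exact pi_mul _ _
  have hcb : ∀ i < 16, m i / 2 = act w i / 2 →
      L.K.π ⟨W⁻¹ * x, hzC⟩ * T (i / 2) = T (i / 2) * L.K.π ⟨W⁻¹ * x, hzC⟩ := by
    intro i hi e
    have h1 := hT i hi
    rw [e, hTW i hi] at h1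
    rw [hz]
    generalize L.K.π ⟨W, hWC⟩ = A at *
    generalize L.K.π ⟨x, hx⟩ = B at *
    calc A⁻¹ * B * T (i / 2) = A⁻¹ * (B * T (i / 2) * B⁻¹) * B := by group
      _ = A⁻¹ * (A * T (i / 2) * A⁻¹) * B := by rw [← h1]
      _ = T (i / 2) * (A⁻¹ * B) := by group
  have c1 := hcb 2 (by norm_num) hw2.symm
  have c2 := hcb 4 (by norm_num) hw4.symm
  have c4 := hcb 8 (by norm_num) hw8.symm
  have hcomm : ∀ i < 8, L.K.π ⟨W⁻¹ * x, hzC⟩ * T i = T i * L.K.π ⟨W⁻¹ * x, hzC⟩ := by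
    generalize L.K.π ⟨W⁻¹ * x, hzC⟩ = A at *
    have hm' : ∀ i < 8, ∀ j < 8, A * T i = T i * A → A * T j = T j * A → A * T (i ^^^ j) = T (i ^^^ j) * A := by
      intro i hi j hj h1 h2
      rw [← D.reg.mul i hi j hj, ← mul_assoc, h1, mul_assoc, h2, mul_assoc]
    have c3 := hm' 1 (by norm_num) 2 (by norm_num) c1 c2
    have c5 := hm' 1 (by norm_num) 4 (by norm_num) c1 c4
    have c6 := hm' 2 (by norm_num) 4 (by norm_num) c2 c4
    have c7 := hm' 1 (by norm_num) 6 (by norm_num) c1 c6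
    intro i hi
    interval_cases i
    · rw [D.reg.zero, mul_one, one_mul]
    · exact c1
    · exact c2
    · exact c3
    · exact c4
    · exact c5
    · exact c6
    · exact c7
  have hfin := (D.comm_of_pi hzC hcomm).2
  intro i hi
  apply D.eq_of (hm i hi) (act_lt w hi)
  rw [← hx2 i hi, ← hWε i hi]
  have h5 := hfin i hi
  calc x * ε i * x⁻¹ = W * (W⁻¹ * x * ε i) * x⁻¹ := by group
    _ = W * (ε i * (W⁻¹ * x)) * x⁻¹ := by rw [h5]
    _ = W * ε i * W⁻¹ := by group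

/-- Normal form of an elementary abelian group of order 16 containing `t`. -/
theorem nf (f : ℕ → G) (hf : IsE16 f) (h1 : f 1 = L.t) :
    ∃ c ∈ centralizer ({L.t} : Set G), ∀ i < 16, ∃ j < 16, c * f i * c⁻¹ = ε j := by
  have f0 : f 0 = 1 := by
    have := hf.mul 0 (by norm_num) 0 (by norm_num)
    simpa using this
  have hfC : ∀ i < 16, f i ∈ centralizer ({L.t} : Set G) := by
    intro i hi
    rw [L.mem_iff, ← h1, hf.mul i hi 1 (by norm_num), hf.mul 1 (by norm_num) i hi, Nat.xor_comm]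
  have hsq : ∀ i < 16, f i * f i = 1 := fun i hi => by rw [hf.mul i hi i hi, Nat.xor_self, f0]
  let h : ℕ → Perm (Fin 11) := fun i => if hi : i < 8 then L.K.π ⟨f (2 * i), hfC _ (by omega)⟩ else 1
  have hh : ∀ i (hi : i < 8), h i = L.K.π ⟨f (2 * i), hfC _ (by omega)⟩ := fun i hi => dif_pos hi
  have hm : ∀ i < 8, ∀ j < 8, h i * h j = h (i ^^^ j) := by
    intro i hi j hj
    rw [hh i hi, hh j hj, hh _ (xor_lt8 hi hj), ← pi_mul (hfC _ (by omega)) (hfC _ (by omega))]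
    refine pi_congr _ ?_
    rw [hf.mul _ (by omega) _ (by omega), nat_two_mul_xor i hi j hj]
  have hs : ∀ i < 8, i ≠ 0 → (h i).support.card = 8 := by
    intro i hi h0
    rw [hh i hi]
    refine LyType.card_support_eq_eight L.K (by rw [Fintype.card_fin]; norm_num) (Subtype.ext (hsq _ (by omega))) ?_ ?_
    · intro e
      have := hf.inj _ (by omega) (congrArg Subtype.val e)
      omega
    · intro e
      have e1 : f (2 * i) = L.t := (congrArg Subtype.val e).trans L.hz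
      have e2 : f (2 * i ^^^ 1) = 1 := by
        rw [← hf.mul _ (by omega) _ (by norm_num), h1, e1, L.t_mul_t]
      have := hf.inj _ (xor_lt (by omega) (by norm_num)) e2
      rw [nat_two_mul_xor_one i hi] at this
      omega
  obtain ⟨σ, hσ, hc⟩ := exists_conj hm hs D.reg
  obtain ⟨c, hcσ⟩ := L.K.exists_lift hσ
  have key : ∀ i < 8, ∃ j < 16, (c : G) * f (2 * i) * (c : G)⁻¹ = ε j := by
    intro i hi
    refine D.exists_eq_of_pi (mul_mem (mul_mem c.2 (hfC _ (by omega))) (inv_mem c.2)) hi ?_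
    rw [pi_conj c.2 (hfC _ (by omega)), ← hh i hi, ← hc i hi, ← hcσ]
  refine ⟨c, c.2, fun i hi => ?_⟩
  have h2 : i / 2 < 8 := by omega
  obtain ⟨j, hj, e⟩ := key (i / 2) h2
  rcases Nat.mod_two_eq_zero_or_one i with h0 | h0
  · have e' : 2 * (i / 2) = i := by omega
    rw [e'] at e
    exact ⟨j, hj, e⟩
  · have e' : i = 2 * (i / 2) ^^^ 1 := by rw [nat_two_mul_xor_one _ h2]; omega
    refine ⟨j ^^^ 1, xor_lt hj (by norm_num), ?_⟩
    have hct := L.mem_iff.1 c.2
    rw [← D.mul j hj 1 (by norm_num), ← e]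
    conv_lhs => rw [e', ← hf.mul _ (by omega) _ (by norm_num), h1]
    have e3 : (c : G) * L.t * (c : G)⁻¹ = ε 1 := by rw [hct, mul_inv_cancel_right, D.one]
    rw [← e3]
    group

end Loc

end Cfsg.Agent.TypeM.LyL
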