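import Cfsg.Agent.TypeM.LFactsLyC

/-!
# The facts on the Lyons group: the fifth generator, which normalizes both elementary abelian groups
-/

set_option autoImplicit false

namespace Cfsg.Agent.TypeM.LyL

open Equiv Subgroup
open Cfsg.Agent.TypeM.Two Cfsg.Agent.SporRec Cfsg.Agent.SporRec.TwoAn

variable {G : Type*} [Group G]

/-- additivity of a table -/
def Lin (m : ℕ → ℕ) : Prop := ∀ i < 16, ∀ j < 16, m (i ^^^ j) = m i ^^^ m j

theorem Lin.zero {m : ℕ → ℕ} (h : Lin m) : m 0 = 0 := by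
  have := h 0 (by norm_num) 0 (by norm_num)
  simpa using this

theorem Lin.ext {f f' : ℕ → ℕ} (hf : Lin f) (hf' : Lin f') (h1 : f 1 = f' 1) (h2 : f 2 = f' 2)
    (h4 : f 4 = f' 4) (h8 : f 8 = f' 8) : ∀ i < 16, f i = f' i := by
  have h0 : f 0 = f' 0 := by rw [hf.zero, hf'.zero]
  have key : ∀ b0 b1 b2 b3 : Bool, f ((bif b0 then 1 else 0) ^^^ (bif b1 then 2 else 0) ^^^
      (bif b2 then 4 else 0) ^^^ (bif b3 then 8 else 0)) = f' ((bif b0 then 1 else 0) ^^^ (bif b1 then 2 else 0) ^^^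
      (bif b2 then 4 else 0) ^^^ (bif b3 then 8 else 0)) := by
    intro b0 b1 b2 b3
    have e : ∀ {i j : ℕ}, i < 16 → j < 16 → f i = f' i → f j = f' j → f (i ^^^ j) = f' (i ^^^ j) := by
      intro i j hi hj h h'
      rw [hf i hi j hj, hf' i hi j hj, h, h']
    have l0 : (bif b0 then 1 else 0) < 16 := by cases b0 <;> decide
    have l1 : (bif b1 then 2 else 0) < 16 := by cases b1 <;> decide
    have l2 : (bif b2 then 4 else 0) < 16 := by cases b2 <;> decide
    have l3 : (bif b3 then 8 else 0) < 16 := by cases b3 <;> decide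
    refine e (xor_lt (xor_lt l0 l1) l2) l3 (e (xor_lt l0 l1) l2 (e l0 l1 ?_ ?_) ?_) ?_
    · cases b0
      · exact h0
      · exact h1
    · cases b1
      · exact h0
      · exact h2
    · cases b2
      · exact h0
      · exact h4
    · cases b3
      · exact h0
      · exact h8
  intro i hi
  rw [nat_basis i hi]
  exact key _ _ _ _

theorem lin_act (w : List ℕ) (hw : ∀ k ∈ w, k < 5) : Lin (act w) := by
  induction w with
  | nil => exact fun i _ j _ => rfl
  | cons k w ih =>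
    intro i hi j hj
    rw [act_cons, act_cons, act_cons, ih (fun l hl => hw l (List.mem_cons_of_mem _ hl)) i hi j hj,
      gm_xor k (hw k List.mem_cons_self) _ (act_lt w hi) _ (act_lt w hj)]

theorem lin_gm4_act (w : List ℕ) (hw : ∀ k ∈ w, k < 5) : Lin fun i => gm 4 (act w i) := by
  intro i hi j hj
  show gm 4 (act w (i ^^^ j)) = _
  rw [lin_act w hw i hi j hj, gm_xor 4 (by norm_num) _ (act_lt w hi) _ (act_lt w hj)]

theorem lin_nu (p q : ℕ) : Lin (nu p q) := by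
  intro i _ j _
  have key : ∀ (k : ℕ) (b c : Bool), (bif xor b c then k else 0) = (bif b then k else 0) ^^^ (bif c then k else 0) := by
    intro k b c
    cases b <;> cases c <;> simp
  unfold nu
  rw [Nat.testBit_xor, Nat.testBit_xor, Nat.testBit_xor, Nat.testBit_xor, key, key, key, key]
  ac_rfl

theorem nu_eq {m : ℕ → ℕ} (hm : Lin m) (h1 : m 1 = 3) (h2 : m 2 = 2) : ∀ i < 16, m i = nu (m 4) (m 8) i := by
  refine hm.ext (lin_nu _ _) ?_ ?_ ?_ ?_
  · rw [h1]; simp [nu, Nat.testBit]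
  · rw [h2]; simp [nu, Nat.testBit]
  · simp [nu, Nat.testBit]
  · simp [nu, Nat.testBit]

theorem act_one_of (w : List ℕ) (hw : ∀ k ∈ w, k < 4) : act w 1 = 1 := by
  have h : ∀ k < 4, gm k 1 = 1 := by decide
  induction w with
  | nil => rfl
  | cons k w ih =>
    rw [act_cons, ih (fun l hl => hw l (List.mem_cons_of_mem _ hl)), h k (hw k List.mem_cons_self)]

theorem gm4_surj (P : ℕ → Prop) (h : ∀ i < 16, P (gm 4 i)) : ∀ i < 16, P i := by
  intro i hi
  have := h (gm 4 i) (gm_lt 4 i)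
  rwa [gm_gm 4 (by norm_num) i hi] at this

namespace Loc

variable {L : MT 11 G} {T : ℕ → Perm (Fin 11)} {ε s : ℕ → G} (D : Loc L T ε s)
include D

theorem W_conj (w : List ℕ) (hw : ∀ k ∈ w, k < 4) {i : ℕ} (hi : i < 16) :
    (w.map s).prod * ε i * ((w.map s).prod)⁻¹ = ε (act w i) := by
  rw [D.W_eps w hw hi, mul_inv_cancel_right]

/-- the matrix of an element which swaps `1` and `3` -/
theorem mat (n : G) {m : ℕ → ℕ} (hm : ∀ i < 16, m i < 16) (hn : ∀ i < 16, n * ε i * n⁻¹ = ε (m i))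
    (hl : Lin m) (h1 : m 1 = 3) (h3 : m 3 = 1) : ∃ w ∈ w12, ∀ i < 16, m i = gm 4 (act w i) := by
  have h2 : m 2 = 2 := by
    have := hl 1 (by norm_num) 3 (by norm_num)
    rw [h1, h3] at this
    exact this
  have hnu := nu_eq hl h1 h2
  have key : ∀ v : List ℕ, (∀ k ∈ v, k < 4) → act v 3 = 3 → cnd (m 4) (m 8) v = true := by
    intro v hv hv3
    set V := (v.map s).prod with hV
    have hx : ∀ i < 16, (n * V * n) * ε i * (n * V * n)⁻¹ = ε (m (act v (m i))) := by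
      intro i hi
      calc (n * V * n) * ε i * (n * V * n)⁻¹ = n * (V * (n * ε i * n⁻¹) * V⁻¹) * n⁻¹ := by group
        _ = ε (m (act v (m i))) := by
          rw [hn i hi, hV, D.W_conj v hv (hm i hi), hn _ (act_lt v (hm i hi))]
    have hxC : n * V * n ∈ centralizer ({L.t} : Set G) := by
      rw [L.mem_iff]
      have := hx 1 (by norm_num)
      rw [h1, hv3, h3, D.one] at this
      exact mul_inv_eq_iff_eq_mul.1 this
    obtain ⟨ho, ha⟩ := D.autt (n * V * n) hxC (m := fun i => m (act v (m i)))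
      (fun i hi => hm _ (act_lt v (hm i hi))) hx
    have e : ∀ i < 16, nu (m 4) (m 8) (act v (nu (m 4) (m 8) i)) = m (act v (m i)) := by
      intro i hi
      rw [← hnu i hi, ← hnu _ (act_lt v (hm i hi))]
    unfold cnd memH
    rw [e 2 (by norm_num), e 4 (by norm_num), e 8 (by norm_num), ho, ← ha 2 (by norm_num), ← ha 4 (by norm_num),
      ← ha 8 (by norm_num)]
    simp
  obtain ⟨w, hw, e4, e8⟩ := chk (hm 4 (by norm_num)) (hm 8 (by norm_num)) (key [] (by simp) rfl)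
    (key [0] (by simp) (by decide)) (key [3, 1] (by simp) (by decide))
  obtain ⟨hwl, hw1, hw3, hw2⟩ := w12_lt w hw
  refine ⟨w, hw, hl.ext (lin_gm4_act w fun k hk => (hwl k hk).trans (by norm_num)) ?_ ?_ e4 e8⟩
  · rw [h1, hw1]; decide
  · rw [h2, hw2]; decide

/-- an element which acts as the fifth matrix -/
theorem exists_g0 : ∃ g : G, ∀ i < 16, g * ε i * g⁻¹ = ε (gm 4 i) := by
  obtain ⟨x, hx⟩ := L.one (ε 3) (D.sq (by norm_num)) (fun h => absurd (D.inj 3 (by norm_num) h) (by norm_num))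
  have hx' : x⁻¹ * ε 3 * x⁻¹⁻¹ = L.t := by rw [← hx]; group
  have hf : IsE16 fun i => x⁻¹ * ε (gm 4 i) * x⁻¹⁻¹ := by
    constructor
    · intro i hi j hj
      show x⁻¹ * ε (gm 4 i) * x⁻¹⁻¹ * (x⁻¹ * ε (gm 4 j) * x⁻¹⁻¹) = x⁻¹ * ε (gm 4 (i ^^^ j)) * x⁻¹⁻¹
      rw [gm_xor 4 (by norm_num) i hi j hj, ← D.mul _ (gm_lt 4 i) _ (gm_lt 4 j)]
      group
    · intro i hi h
      have h1 : ε (gm 4 i) = 1 := by
        have : ε (gm 4 i) = x * (x⁻¹ * ε (gm 4 i) * x⁻¹⁻¹) * x⁻¹ := by group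
        rw [this, show x⁻¹ * ε (gm 4 i) * x⁻¹⁻¹ = 1 from h]
        group
      have h2 := D.inj _ (gm_lt 4 i) h1
      rw [← gm_gm 4 (by norm_num) i hi, h2]
      decide
  obtain ⟨c, hc, hcf⟩ := D.nf _ hf (by
    show x⁻¹ * ε (gm 4 1) * x⁻¹⁻¹ = L.t
    rw [show gm 4 1 = 3 by decide]
    exact hx')
  have hn1 : ∀ i < 16, ∃ j < 16, (c * x⁻¹) * ε i * (c * x⁻¹)⁻¹ = ε j := by
    apply gm4_surj
    intro i hi
    obtain ⟨j, hj, e⟩ := hcf i hi
    refine ⟨j, hj, ?_⟩
    rw [← e]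
    group
  obtain ⟨m, hm, hme, hml⟩ := D.exists_act _ hn1
  have hm3 : m 3 = 1 := by
    apply D.eq_of (hm 3 (by norm_num)) (by norm_num)
    rw [← hme 3 (by norm_num), D.one]
    calc c * x⁻¹ * ε 3 * (c * x⁻¹)⁻¹ = c * (x⁻¹ * ε 3 * x⁻¹⁻¹) * c⁻¹ := by group
      _ = L.t := by rw [hx', L.mem_iff.1 hc, mul_inv_cancel_right]
  have hj := hm 1 (by norm_num)
  have hj0 : m 1 ≠ 0 := by
    intro h
    have h1 := hme 1 (by norm_num)
    rw [h, D.zero, mul_inv_eq_one, mul_eq_left] at h1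
    exact absurd (D.inj 1 (by norm_num) h1) (by norm_num)
  have hj1 : m 1 ≠ 1 := by
    intro h
    have h1 := hme 1 (by norm_num)
    have h2 := hme 3 (by norm_num)
    rw [h] at h1
    rw [hm3, ← h1] at h2
    have := D.eq_of (by norm_num) (by norm_num) (mul_left_cancel (mul_right_cancel h2))
    exact absurd this (by norm_num)
  have htw := tw_spec (m 1) hj
  have htw3 := tw_three (m 1) hj hj0 hj1
  set W := ((tw (m 1)).map s).prod with hW
  have hn : ∀ i < 16, (W * (c * x⁻¹)) * ε i * (W * (c * x⁻¹))⁻¹ = ε (act (tw (m 1)) (m i)) := by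
    intro i hi
    have e := D.W_conj _ htw (hm i hi)
    rw [← hW, ← hme i hi] at e
    rw [← e]
    group
  obtain ⟨w, hw, hwm⟩ := D.mat (W * (c * x⁻¹)) (m := fun i => act (tw (m 1)) (m i))
    (fun i hi => act_lt _ (hm i hi)) hn (by
      intro i hi j hj
      show act (tw (m 1)) (m (i ^^^ j)) = _
      rw [hml i hi j hj, lin_act (tw (m 1)) (fun k hk => (htw k hk).trans (by norm_num)) _ (hm i hi) _ (hm j hj)])
    htw3 (by
      show act (tw (m 1)) (m 3) = 1
      rw [hm3]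
      exact act_one_of _ htw)
  obtain ⟨hwl, -, -, -⟩ := w12_lt w hw
  refine ⟨W * (c * x⁻¹) * ((w.map s).prod)⁻¹, fun i hi => ?_⟩
  obtain ⟨i', hi', rfl⟩ := act_surj w (fun k hk => (hwl k hk).trans (by norm_num)) i hi
  rw [← hwm i' hi', ← hn i' hi', ← D.W_conj w hwl hi']
  group

/-- normal form of the images -/
theorem exists_sigma (f : ℕ → G) (hf : IsE16 f) (h1 : f 1 = L.t) (hfC : ∀ i < 16, f i ∈ centralizer ({L.t} : Set G)) :
    ∃ σ : Perm (Fin 11), ∀ i, ∀ hi : i < 8, σ * L.K.π ⟨f (2 * i), hfC _ (by omega)⟩ * σ⁻¹ = T i := by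
  have f0 : f 0 = 1 := by
    have := hf.mul 0 (by norm_num) 0 (by norm_num)
    simpa using this
  have hsq : ∀ i < 16, f i * f i = 1 := fun i hi => by rw [hf.mul i hi i hi, Nat.xor_self, f0]
  let h : ℕ → Perm (Fin 11) := fun i => if hi : i < 8 then L.K.π ⟨f (2 * i), hfC _ (by omega)⟩ else 1
  have hh : ∀ i (hi : i < 8), h i = L.K.π ⟨f (2 * i), hfC _ (by omega)⟩ := fun i hi => dif_pos hi
  have hm : ∀ i < 8, ∀ j < 8, h i * h j = h (i ^^^ j) := by
    intro i hi j hj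
    rw [hh i hi, hh j hj, hh _ (xor_lt8 hi hj), ← pi_mul (hfC _ (by omega)) (hfC _ (by omega))]
    refine pi_congr _ ?_
    rw [hf.mul _ (by omega) _ (by omega), nat_two_mul_xor i hi j hj]
  have hs : ∀ i < 8, i ≠ 0 → (h i).support.card = 8 := by
    intro i hi h0
    rw [hh i hi]
    refine LyType.card_support_eq_eight L.K (by rw [Fintype.card_fin]; norm_num) (Subtype.ext (hsq _ (by omega))) ?_ ?_
    · intro e
      have := hf.inj _ (by omega) (congrArg Subtype.val e)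
      omega
    · intro e
      have e1 : f (2 * i) = L.t := (congrArg Subtype.val e).trans L.hz
      have e2 : f (2 * i ^^^ 1) = 1 := by
        rw [← hf.mul _ (by omega) _ (by norm_num), h1, e1, L.t_mul_t]
      have := hf.inj _ (xor_lt (by omega) (by norm_num)) e2
      rw [nat_two_mul_xor_one i hi] at this
      omega
  obtain ⟨σ, -, hc⟩ := exists_conj hm hs D.reg
  refine ⟨σ, fun i hi => ?_⟩
  rw [← hh i hi]
  exact hc i hi

end Loc

/-- the images of an elementary abelian group of order 16 containing `t` and `u` -/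
theorem reg_of_conj {T h : ℕ → Perm (Fin 11)} (R : Reg T) {σ : Perm (Fin 11)}
    (hc : ∀ i < 8, σ * h i * σ⁻¹ = T i) (h1 : h 1 = T 1) {i : ℕ} (hi : i < 8) (hi0 : i ≠ 0) (hi1 : i ≠ 1) :
    (∀ x : Fin 11, 8 ≤ x.val → h i x = x) ∧ (∀ x, h i (h i x) = x) ∧ (∀ x, h i (T 1 x) = T 1 (h i x)) ∧
      (∀ x : Fin 11, x.val < 8 → h i x ≠ x) ∧ (∀ x : Fin 11, x.val < 8 → h i x ≠ T 1 x) := by
  have hσ : ∀ i < 8, ∀ x, σ (h i x) = T i (σ x) := by
    intro i hi x
    rw [← hc i hi, Perm.mul_apply, Perm.mul_apply, Perm.inv_def, Equiv.symm_apply_apply]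
  have hhh : ∀ i < 8, ∀ j < 8, ∀ x, h i (h j x) = h (i ^^^ j) x := by
    intro i hi j hj x
    apply σ.injective
    rw [hσ i hi, hσ j hj, hσ _ (xor_lt8 hi hj), R.apply hi hj]
  have hh0 : ∀ x, h 0 x = x := by
    intro x
    apply σ.injective
    rw [hσ 0 (by norm_num), R.zero]; rfl
  have hbig : ∀ x : Fin 11, 8 ≤ x.val → 8 ≤ (σ x).val := by
    intro x hx
    by_contra hcon
    have h2 := hσ 1 (by norm_num) x
    rw [h1, R.fix 1 (by norm_num) x hx] at h2
    exact absurd (R.eq_zero_of_fix (by norm_num) (by omega) h2.symm) (by norm_num)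
  have hfix : ∀ j < 8, j ≠ 0 → ∀ x : Fin 11, x.val < 8 → h j x ≠ x := by
    intro j hj hj0 x hx e
    have h2 := hσ j hj x
    rw [e] at h2
    have h3 : 8 ≤ (σ x).val := by
      by_contra hcon
      exact hj0 (R.eq_zero_of_fix hj (by omega) h2.symm)
    have h4 : h 1 x = x := by
      apply σ.injective
      rw [hσ 1 (by norm_num), R.fix 1 (by norm_num) _ h3]
    rw [h1] at h4
    exact absurd (R.eq_zero_of_fix (by norm_num) hx h4) (by norm_num)
  refine ⟨fun x hx => ?_, fun x => ?_, fun x => ?_, hfix i hi hi0, fun x hx e => ?_⟩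
  · apply σ.injective
    rw [hσ i hi, R.fix i hi _ (hbig x hx)]
  · rw [hhh i hi i hi, Nat.xor_self, hh0]
  · rw [← h1, hhh i hi 1 (by norm_num), hhh 1 (by norm_num) i hi, Nat.xor_comm]
  · rw [← h1] at e
    have h2 : h (1 ^^^ i) x = x := by
      rw [← hhh 1 (by norm_num) i hi, e, hhh 1 (by norm_num) 1 (by norm_num), Nat.xor_self, hh0]
    refine hfix _ (xor_lt8 (by norm_num) hi) ?_ x hx h2
    intro e0
    exact hi1 (Nat.xor_eq_zero_iff.1 e0).symm

/-- The two elementary abelian groups. -/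
structure Pair (L : MT 11 G) (T T' : ℕ → Perm (Fin 11)) (ε s ε' s' : ℕ → G) : Prop where
  D : Loc L T ε s
  D' : Loc L T' ε' s'
  low : ε' 2 = ε 2
  e8 : ε 8 = s' 0
  b : s' 1 = s 1
  e8' : ε' 8 = s 0
  cover : ∀ p : Perm (Fin 11), (∀ x : Fin 11, 8 ≤ x.val → p x = x) → (∀ x, p (p x) = x) →
    (∀ x, p (T 1 x) = T 1 (p x)) → (∀ x : Fin 11, x.val < 8 → p x ≠ x) → (∀ x : Fin 11, x.val < 8 → p x ≠ T 1 x) →
    ∃ j < 8, p = T j ∨ p = T' j
  ne : ∀ j < 8, T' 4 ≠ T j

namespace Pair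

variable {L : MT 11 G} {T T' : ℕ → Perm (Fin 11)} {ε s ε' s' : ℕ → G} (P : Pair L T T' ε s ε' s')
include P

theorem low' : ∀ i < 4, ε' i = ε i := by
  intro i hi
  interval_cases i
  · rw [P.D.zero, P.D'.zero]
  · rw [P.D.one, P.D'.one]
  · exact P.low
  · have h1 := P.D.mul 1 (by norm_num) 2 (by norm_num)
    have h2 := P.D'.mul 1 (by norm_num) 2 (by norm_num)
    rw [show (1 ^^^ 2 : ℕ) = 3 by decide] at h1 h2
    rw [← h1, ← h2, P.low, P.D.one, P.D'.one]

end Pair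

/-- a family acting on another one through the classes of `V` -/
theorem cl_act {L : MT 11 G} {T T' : ℕ → Perm (Fin 11)} {ε s ε' s' : ℕ → G} (D : Loc L T ε s) (D' : Loc L T' ε' s')
    (low : ∀ i < 4, ε' i = ε i) (b : s' 1 = s 1) (e8' : ε' 8 = s 0) :
    ∀ j < 16, ∀ i < 16, ε' j * ε i = ε (act (cl (j / 4)) i) * ε' j := by
  have h8 : ∀ i < 16, ε' 8 * ε i = ε (gm 0 i) * ε' 8 := fun i hi => by
    rw [e8']; exact D.sε 0 (by norm_num) i hi
  have e4 : ε' 4 = s 1 * ε' 8 * (s 1)⁻¹ := by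
    have := D'.sε 1 (by norm_num) 8 (by norm_num)
    rw [show gm 1 8 = 4 by decide, b] at this
    rw [this, mul_inv_cancel_right]
  have hb : ∀ i < 16, (s 1)⁻¹ * ε i = ε (gm 1 i) * (s 1)⁻¹ := by
    intro i hi
    have := D.sε 1 (by norm_num) (gm 1 i) (gm_lt 1 i)
    rw [gm_gm 1 (by norm_num) i hi] at this
    rw [inv_mul_eq_iff_eq_mul, ← mul_assoc, this, mul_inv_cancel_right]
  have h4 : ∀ i < 16, ε' 4 * ε i = ε (gm 1 (gm 0 (gm 1 i))) * ε' 4 := by
    intro i hi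
    rw [e4, mul_assoc, hb i hi, ← mul_assoc, mul_assoc (s 1), h8 _ (gm_lt 1 i), ← mul_assoc,
      D.sε 1 (by norm_num) _ (gm_lt 0 _)]
    simp only [mul_assoc]
  have hc : ∀ c < 4, ∀ i < 16, ε' (4 * c) * ε i = ε (act (cl c) i) * ε' (4 * c) := by
    intro c hc i hi
    interval_cases c
    · rw [mul_zero, D'.zero, one_mul, mul_one]; rfl
    · exact h4 i hi
    · exact h8 i hi
    · have e12 : ε' (4 * 3) = ε' 4 * ε' 8 := by
        rw [D'.mul 4 (by norm_num) 8 (by norm_num)]; rfl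
      rw [e12, mul_assoc, h8 i hi, ← mul_assoc, h4 _ (gm_lt 0 i), mul_assoc]
      rfl
  intro j hj i hi
  have hsp : ∀ j < 16, 4 * (j / 4) ^^^ (j % 4) = j := by decide
  have e : ε' j = ε' (4 * (j / 4)) * ε (j % 4) := by
    rw [← low (j % 4) (by omega), D'.mul _ (by omega) _ (by omega), hsp j hj]
  rw [e, mul_assoc, D.comm_eps (by omega) hi, ← mul_assoc, hc _ (by omega) i hi, mul_assoc]

namespace Pair

variable {L : MT 11 G} {T T' : ℕ → Perm (Fin 11)} {ε s ε' s' : ℕ → G} (P : Pair L T T' ε s ε' s')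
include P

theorem act' : ∀ j < 16, ∀ i < 16, ε' j * ε i = ε (act (cl (j / 4)) i) * ε' j :=
  cl_act P.D P.D' P.low' P.b P.e8'

theorem act0 : ∀ j < 16, ∀ i < 16, ε j * ε' i = ε' (act (cl (j / 4)) i) * ε j :=
  cl_act P.D' P.D (fun i hi => (P.low' i hi).symm) P.b.symm P.e8

/-- an element acting on the first group as the fifth matrix normalizes the second one -/
theorem norm' {g : G} (hg : ∀ i < 16, g * ε i * g⁻¹ = ε (gm 4 i)) :
    ∀ i < 16, ∃ j < 16, g * ε' i * g⁻¹ = ε' j := by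
  have hf : IsE16 fun i => g * ε' (gm 4 i) * g⁻¹ := by
    constructor
    · intro i hi j hj
      show g * ε' (gm 4 i) * g⁻¹ * (g * ε' (gm 4 j) * g⁻¹) = g * ε' (gm 4 (i ^^^ j)) * g⁻¹
      rw [gm_xor 4 (by norm_num) i hi j hj, ← P.D'.mul _ (gm_lt 4 i) _ (gm_lt 4 j)]
      group
    · intro i hi h
      have h1 : ε' (gm 4 i) = 1 := by
        have : ε' (gm 4 i) = g⁻¹ * (g * ε' (gm 4 i) * g⁻¹) * g := by group
        rw [this, show g * ε' (gm 4 i) * g⁻¹ = 1 from h]
        group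
      have h2 := P.D'.inj _ (gm_lt 4 i) h1
      rw [← gm_gm 4 (by norm_num) i hi, h2]
      decide
  set f : ℕ → G := fun i => g * ε' (gm 4 i) * g⁻¹ with hfdef
  have hflow : ∀ i < 4, f i = ε i := by
    intro i hi
    have h4 : ∀ i < 4, gm 4 i < 4 := by decide
    show g * ε' (gm 4 i) * g⁻¹ = ε i
    rw [P.low' _ (h4 i hi), hg _ (gm_lt 4 i), gm_gm 4 (by norm_num) i (by omega)]
  have hf1 : f 1 = L.t := by rw [hflow 1 (by norm_num), P.D.one]
  have f0 : f 0 = 1 := by rw [hflow 0 (by norm_num), P.D.zero]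
  have hfC : ∀ i < 16, f i ∈ centralizer ({L.t} : Set G) := by
    intro i hi
    rw [L.mem_iff, ← hf1, hf.mul i hi 1 (by norm_num), hf.mul 1 (by norm_num) i hi, Nat.xor_comm]
  obtain ⟨σ, hσ⟩ := P.D.exists_sigma f hf hf1 hfC
  let h : ℕ → Perm (Fin 11) := fun i => if hi : i < 8 then L.K.π ⟨f (2 * i), hfC _ (by omega)⟩ else 1
  have hh : ∀ i (hi : i < 8), h i = L.K.π ⟨f (2 * i), hfC _ (by omega)⟩ := fun i hi => dif_pos hi
  have hh1 : h 1 = T 1 := by
    rw [hh 1 (by norm_num), Loc.pi_congr _ (show f (2 * 1) = ε (2 * 1) from hflow 2 (by norm_num))]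
    exact P.D.pr 1 (by norm_num) _
  -- the elements with even index
  have heven : ∀ i < 8, (∃ j < 16, f (2 * i) = ε j) ∨ ∃ j < 16, f (2 * i) = ε' j := by
    intro i hi
    by_cases h0 : i = 0
    · subst h0
      exact Or.inl ⟨0, by norm_num, by rw [mul_zero]; exact hflow 0 (by norm_num)⟩
    by_cases h1 : i = 1
    · subst h1
      exact Or.inl ⟨2, by norm_num, hflow 2 (by norm_num)⟩
    obtain ⟨a1, a2, a3, a4, a5⟩ := reg_of_conj P.D.reg (h := h) (σ := σ) (fun i hi => by rw [hh i hi]; exact hσ i hi)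
      hh1 hi h0 h1
    obtain ⟨j, hj, e | e⟩ := P.cover (h i) a1 a2 a3 a4 a5
    · left
      exact P.D.exists_eq_of_pi (hfC _ (by omega)) hj (by rw [← hh i hi]; exact e)
    · right
      exact P.D'.exists_eq_of_pi (hfC _ (by omega)) hj (by rw [← hh i hi]; exact e)
  have hall : ∀ i < 16, (∃ j < 16, f i = ε j) ∨ ∃ j < 16, f i = ε' j := by
    intro i hi
    have h2 : i / 2 < 8 := by omega
    rcases Nat.mod_two_eq_zero_or_one i with h0 | h0
    · have e' : 2 * (i / 2) = i := by omega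
      rw [← e']
      exact heven _ h2
    · have e' : i = 2 * (i / 2) ^^^ 1 := by rw [nat_two_mul_xor_one _ h2]; omega
      rw [e', ← hf.mul _ (by omega) _ (by norm_num)]
      rcases heven _ h2 with ⟨j, hj, e⟩ | ⟨j, hj, e⟩
      · left
        refine ⟨j ^^^ 1, xor_lt hj (by norm_num), ?_⟩
        rw [e, hf1, ← P.D.mul j hj 1 (by norm_num), P.D.one]
      · right
        refine ⟨j ^^^ 1, xor_lt hj (by norm_num), ?_⟩
        rw [e, hf1, ← P.D'.mul j hj 1 (by norm_num), P.D'.one]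
  have hfin : ∀ i < 16, ∃ j < 16, f i = ε' j := by
    intro i hi
    by_contra hB
    have hA := (hall i hi).resolve_right hB
    have hfsq : ∀ i < 16, f i * f i = 1 := fun i hi => by rw [hf.mul i hi i hi, Nat.xor_self, f0]
    have hallA : ∀ j < 16, ∃ k < 16, f j = ε k := by
      intro j hj
      by_contra hA'
      have hB' := (hall j hj).resolve_left hA'
      have e1 : f i = f (i ^^^ j) * f j := by
        rw [← hf.mul i hi j hj, mul_assoc, hfsq j hj, mul_one]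
      have e2 : f j = f i * f (i ^^^ j) := by
        rw [← hf.mul i hi j hj, ← mul_assoc, hfsq i hi, one_mul]
      rcases hall _ (xor_lt hi hj) with ⟨k, hk, e⟩ | ⟨k, hk, e⟩
      · obtain ⟨l, hl, e'⟩ := hA
        exact hA' ⟨l ^^^ k, xor_lt hl hk, by rw [e2, e, e', P.D.mul l hl k hk]⟩
      · obtain ⟨l, hl, e'⟩ := hB'
        exact hB ⟨k ^^^ l, xor_lt hk hl, by rw [e1, e, e', P.D'.mul k hk l hl]⟩
    obtain ⟨k, hk, e⟩ := hallA 12 (by norm_num)
    have e3 : ε' 8 = ε (gm 4 k) := by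
      have e4 : f 12 = g * ε' 8 * g⁻¹ := by
        show g * ε' (gm 4 12) * g⁻¹ = _
        rw [show gm 4 12 = 8 by decide]
      have e5 : ε k = g * ε (gm 4 k) * g⁻¹ := by rw [hg _ (gm_lt 4 k), gm_gm 4 (by norm_num) k hk]
      rw [e4, e5] at e
      exact mul_left_cancel (mul_right_cancel e)
    have e6 := P.D'.pr' (i := 8) (by norm_num) (P.D'.memC (by norm_num))
    rw [Loc.pi_congr _ e3, P.D.pr' (gm_lt 4 k)] at e6
    have h8 : gm 4 k / 2 < 8 := by have := gm_lt 4 k; omega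
    exact P.ne _ h8 e6.symm
  apply gm4_surj
  exact hfin

/-- The fifth generator. -/
theorem exists_g : ∃ g : G, (∀ i < 16, g * ε i * g⁻¹ = ε (gm 4 i)) ∧ ∀ i < 16, g * ε' i * g⁻¹ = ε' (gm 4 i) := by
  obtain ⟨g, hg⟩ := P.D.exists_g0
  have hg' := P.norm' hg
  obtain ⟨m, hm, hme, hml⟩ := P.D'.exists_act g hg'
  have h1 : m 1 = 3 := by
    apply P.D'.eq_of (hm 1 (by norm_num)) (by norm_num)
    rw [← hme 1 (by norm_num), P.low' 1 (by norm_num), P.low' 3 (by norm_num), hg 1 (by norm_num)]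
    exact congrArg ε (by decide)
  have h3 : m 3 = 1 := by
    apply P.D'.eq_of (hm 3 (by norm_num)) (by norm_num)
    rw [← hme 3 (by norm_num), P.low' 1 (by norm_num), P.low' 3 (by norm_num), hg 3 (by norm_num)]
    exact congrArg ε (by decide)
  obtain ⟨w, hw, hwm⟩ := P.D'.mat g hm hme hml h1 h3
  -- the classes
  have hgi : ∀ i < 16, g⁻¹ * ε i * g = ε (gm 4 i) := by
    intro i hi
    have := hg (gm 4 i) (gm_lt 4 i)
    rw [gm_gm 4 (by norm_num) i hi] at this
    rw [← this]; group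
  have hcls : ∀ j < 16, ∀ i < 16, act (cl (m j / 4)) i = gm 4 (act (cl (j / 4)) (gm 4 i)) := by
    intro j hj i hi
    apply P.D.eq_of (act_lt _ hi) (gm_lt 4 _)
    have e1 := P.act' (m j) (hm j hj) i hi
    have e2 : ε (act (cl (m j / 4)) i) = ε' (m j) * ε i * (ε' (m j))⁻¹ := by
      rw [e1, mul_inv_cancel_right]
    rw [e2, ← hme j hj, ← hg _ (act_lt _ (gm_lt 4 i))]
    have e3 : ε (act (cl (j / 4)) (gm 4 i)) = ε' j * ε (gm 4 i) * (ε' j)⁻¹ := by
      rw [P.act' j hj _ (gm_lt 4 i), mul_inv_cancel_right]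
    rw [e3, ← hgi i hi]
    group
  have c1 : m 4 / 4 = 1 := by
    apply cl_one _ (hm 4 (by norm_num))
    intro i hi
    rw [hcls 4 (by norm_num) i hi]
    rfl
  have c2 : m 8 / 4 = 3 := by
    apply cl_two _ (hm 8 (by norm_num))
    intro i hi
    rw [hcls 8 (by norm_num) i hi]
    rfl
  rw [hwm 4 (by norm_num)] at c1
  rw [hwm 8 (by norm_num)] at c2
  obtain ⟨e, he, hwe⟩ := w12_cl w hw c1 c2
  have hee : ∀ e < 4, ∀ i < 16, act (cl e) (act (cl e) i) = i := by decide +kernel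
  have h4e : 4 * e < 16 := by omega
  have hact : ∀ i < 16, ε (4 * e) * ε' i * (ε (4 * e))⁻¹ = ε' (act (cl e) i) := by
    intro i hi
    have := P.act0 (4 * e) h4e i hi
    rw [show 4 * e / 4 = e by omega] at this
    rw [this, mul_inv_cancel_right]
  refine ⟨g * ε (4 * e), fun i hi => ?_, fun i hi => ?_⟩
  · rw [← hg i hi]
    have : ε (4 * e) * ε i * (ε (4 * e))⁻¹ = ε i := by rw [P.D.comm_eps h4e hi, mul_inv_cancel_right]
    conv_rhs => rw [← this]
    group
  · calc g * ε (4 * e) * ε' i * (g * ε (4 * e))⁻¹ = g * (ε (4 * e) * ε' i * (ε (4 * e))⁻¹) * g⁻¹ := by group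
      _ = ε' (m (act (cl e) i)) := by rw [hact i hi, hme _ (act_lt _ hi)]
      _ = ε' (gm 4 i) := by
        rw [hwm _ (act_lt _ hi), hwe _ (act_lt _ hi), hee e he i hi]

end Pair

end Cfsg.Agent.TypeM.LyL
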