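import Cfsg.Agent.TypeM.StdAut
import Cfsg.Agent.TypeM.CoverTools
import Cfsg.Agent.McLType.Relators

/-!
# The facts on `McL` which are used in Theorem W

`exists_lfacts`: a group with one class of involutions and involution centraliser `2.A_8` has the two classes
`E, E'` of elementary abelian subgroups of order 16, with automizer `A₇`.
-/

set_option autoImplicit false
set_option maxRecDepth 100000

namespace Cfsg.Agent.TypeM.LFactsMcL

open Subgroup Cfsg.Agent.SporRec.TwoAn Cfsg.Agent.TypeM.Two Cfsg.Agent.TypeM.CoverTools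
open Cfsg.Agent.McLType.Local Cfsg.Agent.McLType.Facts8 Cfsg.Agent.McLType.Relators

/-- exchange of the bits 2 and 3 -/
def sw (i : ℕ) : ℕ := (i &&& 3) ||| ((i >>> 1) &&& 4) ||| ((i <<< 1) &&& 8)

theorem sw_lt : ∀ i < 16, sw i < 16 := by decide
theorem sw_sw : ∀ i < 16, sw (sw i) = i := by decide
theorem sw_low : ∀ i < 4, sw i = i := by decide
theorem sw_xor : ∀ i < 16, ∀ j < 16, sw (i ^^^ j) = sw i ^^^ sw j := by decide

theorem t_a1 : ∀ i < 16, lin (m1 0) i = gm 0 i := by decide +kernel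
theorem t_b1 : ∀ i < 16, lin (m1 1) i = gm 1 i := by decide +kernel
theorem t_x1 : ∀ i < 16, lin (m1 3) i = gm 2 i := by decide +kernel
theorem t_y1 : ∀ i < 16, lin (m1 4) i = gm 3 i := by decide +kernel
theorem t_g1 : ∀ i < 16, lin (m1 6) i = gm 4 i := by decide +kernel
theorem t_a2 : ∀ i < 16, lin (m2 1) (lin (m2 2) (lin (m2 1) (sw i))) = sw (gm 0 i) := by decide +kernel
theorem t_b2 : ∀ i < 16, lin (m2 1) (sw i) = sw (gm 1 i) := by decide +kernel
theorem t_x2 : ∀ i < 16, lin (m2 5) (sw i) = sw (gm 2 i) := by decide +kernel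
theorem t_y2 : ∀ i < 16, lin (m2 1) (lin (m2 4) (lin (m2 1) (sw i))) = sw (gm 3 i) := by decide +kernel
theorem t_g2 : ∀ i < 16, lin (m2 6) (sw i) = sw (gm 4 i) := by decide +kernel

section

variable {G : Type*} [Group G] {z a b c x y w u d : G} (D : Data z a b c x y w u d)

/-- the elements which act on `E` -/
def s1 (a b x y g : G) : ℕ → G
  | 0 => a
  | 1 => b
  | 2 => x
  | 3 => y
  | _ => g

/-- the elements which act on `E'` -/
def s2 (b c w y g : G) : ℕ → G
  | 0 => b * c * b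
  | 1 => b
  | 2 => w
  | 3 => b * y * b
  | _ => g

/-- `E` -/
def e1 (z u b c : G) (i : ℕ) : G := four z u c (b * c * b) i

/-- `E'` -/
def e2 (z u a b : G) (i : ℕ) : G := four z u a (b * a * b) (sw i)

include D

theorem e1_mul (i j : ℕ) : e1 z u b c i * e1 z u b c j = e1 z u b c (i ^^^ j) := D.F.four₁.mul i j

theorem e2_mul : ∀ i < 16, ∀ j < 16, e2 z u a b i * e2 z u a b j = e2 z u a b (i ^^^ j) := by
  intro i hi j hj
  rw [e2, e2, D.F.four₂.mul, ← sw_xor i hi j hj]
  rfl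

theorem e1_inj : ∀ i < 16, e1 z u b c i = 1 → i = 0 := fun i hi h =>
  D.F.inj₁ i hi 0 (by norm_num) (by rw [four_zero]; exact h)

theorem e2_inj : ∀ i < 16, e2 z u a b i = 1 → i = 0 := by
  intro i hi h
  have h1 := D.F.inj₂ (sw i) (sw_lt i hi) 0 (by norm_num) (by rw [four_zero]; exact h)
  rw [← sw_sw i hi, h1]
  rfl

theorem cj_b1 (i : ℕ) : cj b (four z u c (b * c * b) i) = four z u c (b * c * b) (lin (m1 1) i) :=
  D.cj_letter1 (k := 1) (by norm_num) i

theorem s1_e1 : ∀ k < 5, ∀ i < 16, s1 a b x y (b * (d * (y * b)⁻¹)) k * e1 z u b c i =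
    e1 z u b c (gm k i) * s1 a b x y (b * (d * (y * b)⁻¹)) k := by
  intro k hk i hi
  rw [← cj_eq]
  interval_cases k
  · rw [← t_a1 i hi]; exact D.cj_letter1 (k := 0) (by norm_num) i
  · rw [← t_b1 i hi]; exact D.cj_letter1 (k := 1) (by norm_num) i
  · rw [← t_x1 i hi]; exact D.cj_letter1 (k := 3) (by norm_num) i
  · rw [← t_y1 i hi]; exact D.cj_letter1 (k := 4) (by norm_num) i
  · rw [← t_g1 i hi]; exact D.cj_g1 i

theorem s2_e2 : ∀ k < 5, ∀ i < 16, s2 b c w y (b * (d * (y * b)⁻¹)) k * e2 z u a b i =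
    e2 z u a b (gm k i) * s2 b c w y (b * (d * (y * b)⁻¹)) k := by
  intro k hk i hi
  rw [← cj_eq]
  have hb : ∀ j, cj b (four z u a (b * a * b) j) = four z u a (b * a * b) (lin (m2 1) j) :=
    fun j => D.cj_letter2 (k := 1) (by norm_num) (by norm_num) j
  have hc : ∀ j, cj c (four z u a (b * a * b) j) = four z u a (b * a * b) (lin (m2 2) j) :=
    fun j => D.cj_letter2 (k := 2) (by norm_num) (by norm_num) j
  have hy : ∀ j, cj y (four z u a (b * a * b) j) = four z u a (b * a * b) (lin (m2 4) j) :=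
    fun j => D.cj_letter2 (k := 4) (by norm_num) (by norm_num) j
  interval_cases k
  · show cj (b * c * b) (four z u a (b * a * b) (sw i)) = four z u a (b * a * b) (sw (gm 0 i))
    rw [cj_mul_left, cj_mul_left, hb, hc, hb, t_a2 i hi]
  · show cj b (four z u a (b * a * b) (sw i)) = four z u a (b * a * b) (sw (gm 1 i))
    rw [hb, t_b2 i hi]
  · show cj w (four z u a (b * a * b) (sw i)) = four z u a (b * a * b) (sw (gm 2 i))
    rw [← t_x2 i hi]
    exact D.cj_letter2 (k := 5) (by norm_num) (by norm_num) _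
  · show cj (b * y * b) (four z u a (b * a * b) (sw i)) = four z u a (b * a * b) (sw (gm 3 i))
    rw [cj_mul_left, cj_mul_left, hb, hy, hb, t_y2 i hi]
  · show cj _ (four z u a (b * a * b) (sw i)) = four z u a (b * a * b) (sw (gm 4 i))
    rw [← t_g2 i hi]
    exact D.cj_g2 _

theorem e1_cen (k : G) (h : ∀ i < 16, k * e1 z u b c i = e1 z u b c i * k) : ∃ i < 16, k = e1 z u b c i := by
  have h1 := h 1 (by norm_num)
  have h2 := h 2 (by norm_num)
  have h4 := h 4 (by norm_num)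
  have h8 := h 8 (by norm_num)
  rw [e1, four_one] at h1
  rw [e1, four_two] at h2
  rw [e1, four_four] at h4
  rw [e1, four_eight] at h8
  exact D.F.cent₁ k h1 h2 h4 h8

theorem e2_cen (k : G) (h : ∀ i < 16, k * e2 z u a b i = e2 z u a b i * k) : ∃ i < 16, k = e2 z u a b i := by
  have h1 := h 1 (by norm_num)
  have h2 := h 2 (by norm_num)
  have h4 := h 8 (by norm_num)
  have h8 := h 4 (by norm_num)
  rw [e2, show sw 1 = 1 from rfl, four_one] at h1
  rw [e2, show sw 2 = 2 from rfl, four_two] at h2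
  rw [e2, show sw 8 = 4 from rfl, four_four] at h4
  rw [e2, show sw 4 = 8 from rfl, four_eight] at h8
  obtain ⟨i, hi, h⟩ := D.F.cent₂ k h1 h2 h4 h8
  exact ⟨sw i, sw_lt i hi, by rw [e2, sw_sw i hi, h]⟩

omit D in
theorem low : ∀ i < 4, e2 z u a b i = e1 z u b c i := by
  intro i hi
  rw [e2, e1, sw_low i hi]
  interval_cases i <;> simp [four, Nat.testBit]

/-- the elementary abelian subgroups of order 16 containing `z, u` -/
theorem e16_aux {f : ℕ → G} (hf : ∀ i < 16, ∀ j < 16, f i * f j = f (i ^^^ j)) (h1 : f 1 = z) (h2 : f 2 = u) :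
    (∀ i < 16, ∃ j < 16, f i = e1 z u b c j) ∨ (∀ i < 16, ∃ j < 16, f i = e2 z u a b j) := by
  have h0 : f 0 = 1 := by
    have := hf 0 (by norm_num) 0 (by norm_num)
    rw [Nat.xor_self] at this
    exact mul_eq_left.1 this
  have hc : ∀ i < 16, ∀ j < 16, f i * f j = f j * f i := fun i hi j hj => by
    rw [hf i hi j hj, hf j hj i hi, Nat.xor_comm]
  have hor : ∀ i < 16, (∃ j < 16, f i = e1 z u b c j) ∨ (∃ j < 16, f i = e2 z u a b j) := by
    intro i hi
    rcases D.F.invol (f i) (by rw [← h1]; exact hc i hi 1 (by norm_num))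
      (by rw [← h2]; exact hc i hi 2 (by norm_num)) (by rw [hf i hi i hi, Nat.xor_self, h0]) with
      ⟨j, hj, h⟩ | ⟨j, hj, h⟩
    · exact Or.inl ⟨j, hj, h⟩
    · exact Or.inr ⟨sw j, sw_lt j hj, by rw [e2, sw_sw j hj, h]⟩
  have c1 : ∀ i < 16, ∀ j < 16, (∃ k < 16, f i = e1 z u b c k) → (∃ k < 16, f j = e1 z u b c k) →
      ∃ k < 16, f (i ^^^ j) = e1 z u b c k := by
    rintro i hi j hj ⟨k, hk, h⟩ ⟨l, hl, h'⟩
    exact ⟨k ^^^ l, xor_lt hk hl, by rw [← hf i hi j hj, h, h', e1_mul D]⟩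
  have c2 : ∀ i < 16, ∀ j < 16, (∃ k < 16, f i = e2 z u a b k) → (∃ k < 16, f j = e2 z u a b k) →
      ∃ k < 16, f (i ^^^ j) = e2 z u a b k := by
    rintro i hi j hj ⟨k, hk, h⟩ ⟨l, hl, h'⟩
    exact ⟨k ^^^ l, xor_lt hk hl, by rw [← hf i hi j hj, h, h', e2_mul D k hk l hl]⟩
  by_contra hcon
  rw [not_or] at hcon
  obtain ⟨hcon1, hcon2⟩ := hcon
  push Not at hcon1 hcon2
  obtain ⟨i, hi, hi'⟩ := hcon1
  obtain ⟨j, hj, hj'⟩ := hcon2
  have hi1 : ¬ ∃ k < 16, f i = e1 z u b c k := by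
    rintro ⟨k, hk, h⟩
    exact hi' k hk h
  have hj1 : ¬ ∃ k < 16, f j = e2 z u a b k := by
    rintro ⟨k, hk, h⟩
    exact hj' k hk h
  have hi2 := (hor i hi).resolve_left hi1
  have hj2 := (hor j hj).resolve_right hj1
  rcases hor _ (xor_lt hi hj) with h | h
  · have h3 := c1 _ (xor_lt hi hj) j hj h hj2
    rw [Nat.xor_assoc, Nat.xor_self, Nat.xor_zero] at h3
    exact hi1 h3
  · have h3 := c2 i hi _ (xor_lt hi hj) hi2 h
    rw [← Nat.xor_assoc, Nat.xor_self, Nat.zero_xor] at h3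
    exact hj1 h3

end

section

variable {M : Type*} [Group M] (L : MT 8 M)

/-- membership of elements centralising a regular elementary subgroup modulo `t` -/
theorem cz {ε : ℕ → M} (h1 : ε 1 = L.t) (mul : ∀ i < 16, ∀ j < 16, ε i * ε j = ε (i ^^^ j))
    (inj : ∀ i < 16, ε i = 1 → i = 0) (x : M) (hx1 : x * ε 1 = ε 1 * x)
    (hx : ∀ i < 16, x * ε i = ε i * x ∨ x * ε i = ε i * x * ε 1) : ∃ i < 16, x = ε i := by
  have hmem : ∀ i, i < 16 → ε i ∈ centralizer ({L.t} : Set M) := by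
    intro i hi
    rw [mem_centralizer_singleton_iff, ← h1, mul i hi 1 (by norm_num), mul 1 (by norm_num) i hi, Nat.xor_comm]
  have hxm : x ∈ centralizer ({L.t} : Set M) := by
    rw [mem_centralizer_singleton_iff, ← h1]
    exact hx1
  let η : ℕ → centralizer ({L.t} : Set M) := fun i => if h : i < 16 then ⟨ε i, hmem i h⟩ else 1
  have hη : ∀ i < 16, (η i : M) = ε i := by
    intro i hi
    simp only [η, dif_pos hi]
  obtain ⟨i, hi, h⟩ := StdAut.mem_of_comm L.K (ε := η) (by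
      apply Subtype.ext
      rw [hη 1 (by norm_num), h1, L.hz]) (fun i hi j hj => by
      apply Subtype.ext
      rw [Subgroup.coe_mul, hη i hi, hη j hj, hη _ (xor_lt hi hj), mul i hi j hj]) (fun i hi h => by
      have h2 := congrArg Subtype.val h
      rw [hη i hi] at h2
      exact inj i hi h2) (x := ⟨x, hxm⟩) (fun i hi => by
      rcases hx i hi with h | h
      · left
        apply Subtype.ext
        rw [Subgroup.coe_mul, Subgroup.coe_mul, hη i hi]
        exact h
      · right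
        apply Subtype.ext
        rw [Subgroup.coe_mul, Subgroup.coe_mul, Subgroup.coe_mul, hη i hi, L.hz]
        rw [h1] at h
        exact h)
  exact ⟨i, hi, by rw [← hη i hi, ← h]⟩

/-- The generators and the element of order three. -/
theorem exists_data : ∃ a b c x y w u d : M, Data L.t a b c x y w u d := by
  obtain ⟨π, hπ, -⟩ := exists_isCover_of L.K (by norm_num)
  have hKz : L.K.z = ⟨L.t, mem_cent.2 rfl⟩ := Subtype.ext L.hz
  rw [hKz] at hπ
  obtain ⟨a, b, c, x, y, w, u, F⟩ := exists_gfacts hπ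
  obtain ⟨g, hg⟩ := L.one u F.uu F.u_ne_one
  obtain ⟨d, h1, h2, h3, h4, h5, h6, h7⟩ := F.exists_d ⟨g, u, hg, F.u_ne_z, F.uz⟩
  exact ⟨a, b, c, x, y, w, u, d, ⟨F, h1, h2, h3, h4, h5, h6, h7⟩⟩

/-- **The facts on `McL`.** -/
theorem lfacts {a b c x y w u d : M} (D : Data L.t a b c x y w u d) :
    LFacts (e1 L.t u b c) (s1 a b x y (b * (d * (y * b)⁻¹))) (e2 L.t u a b) (s2 b c w y (b * (d * (y * b)⁻¹))) := by
  have h1 : e1 L.t u b c 1 = L.t := by rw [e1, four_one]
  have h2 : e2 L.t u a b 1 = L.t := by rw [e2, show sw 1 = 1 from rfl, four_one]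
  refine ⟨⟨fun i _ j _ => e1_mul D i j, e1_inj D, s1_e1 D, fun x _ hx => e1_cen D x hx, fun x hx => ?_⟩,
    ⟨e2_mul D, e2_inj D, s2_e2 D, fun x _ hx => e2_cen D x hx, fun x hx => ?_⟩, low, fun x hx hx1 => ?_,
    fun f hf => ?_⟩
  · exact StdAut.aut (fun i _ j _ => e1_mul D i j) (e1_inj D) (s1_e1 D)
      (cz L h1 (fun i _ j _ => e1_mul D i j) (e1_inj D)) x hx
  · exact StdAut.aut (e2_mul D) (e2_inj D) (s2_e2 D) (cz L h2 (e2_mul D) (e2_inj D)) x hx
  · obtain ⟨g, hg⟩ := L.one x hx hx1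
    refine ⟨g⁻¹, ?_⟩
    rw [h1, ← hg]
    group
  · -- conjugate `f 1` to `t` and `f 2` to `u`
    have f0 : f 0 = 1 := by
      have := hf.mul 0 (by norm_num) 0 (by norm_num)
      rw [Nat.xor_self] at this
      exact mul_eq_left.1 this
    have fsq : ∀ i < 16, f i * f i = 1 := fun i hi => by rw [hf.mul i hi i hi, Nat.xor_self, f0]
    have fne : ∀ i < 16, i ≠ 0 → f i ≠ 1 := fun i hi h0 h => h0 (hf.inj i hi h)
    obtain ⟨g, hg⟩ := L.conj_of_involutions (fsq 1 (by norm_num)) (fne 1 (by norm_num) (by norm_num)) L.t_mul_t L.t_ne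
    obtain ⟨k, hk, hk2⟩ := D.F.conj_u (g * f 2 * g⁻¹) (by
        rw [← hg]
        calc g * f 2 * g⁻¹ * (g * f 1 * g⁻¹) = g * (f 2 * f 1) * g⁻¹ := by group
          _ = g * (f 1 * f 2) * g⁻¹ := by rw [hf.mul 2 (by norm_num) 1 (by norm_num),
            hf.mul 1 (by norm_num) 2 (by norm_num), Nat.xor_comm]
          _ = _ := by group) (by
        calc g * f 2 * g⁻¹ * (g * f 2 * g⁻¹) = g * (f 2 * f 2) * g⁻¹ := by group
          _ = 1 := by rw [fsq 2 (by norm_num)]; group) (by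
        intro h
        rw [mul_inv_eq_one, mul_eq_left] at h
        exact fne 2 (by norm_num) (by norm_num) h) (by
        rw [← hg]
        intro h
        have h3 : f 2 = f 1 := by
          rwa [mul_left_inj, mul_right_inj] at h
        have h4 : f (2 ^^^ 1) = 1 := by
          rw [← hf.mul 2 (by norm_num) 1 (by norm_num), h3, fsq 1 (by norm_num)]
        exact fne 3 (by norm_num) (by norm_num) h4)
    have hk3 : k * g * f 1 * (k * g)⁻¹ = L.t := by
      calc k * g * f 1 * (k * g)⁻¹ = k * (g * f 1 * g⁻¹) * k⁻¹ := by group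
        _ = L.t := by rw [hg, hk, mul_inv_cancel_right]
    have hk4 : k * g * f 2 * (k * g)⁻¹ = u := by
      rw [← hk2]; group
    have h5 := e16_aux D (f := fun i => k * g * f i * (k * g)⁻¹) (fun i hi j hj => by
      rw [← hf.mul i hi j hj]; group) hk3 hk4
    exact ⟨k * g, h5⟩

include L in
/-- **Existence of the facts.** -/
theorem exists_lfacts : ∃ ε s ε' s' : ℕ → M, LFacts ε s ε' s' := by
  obtain ⟨a, b, c, x, y, w, u, d, D⟩ := exists_data L
  exact ⟨_, _, _, _, lfacts L D⟩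

end

end Cfsg.Agent.TypeM.LFactsMcL
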