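import Mathlib

/-!
# Lifting a 2-group through a surjection with kernel of odd order
-/

set_option autoImplicit false

namespace Cfsg.Agent.TypeM

open Pointwise

/-- A 2-subgroup `R` of `Δ` lifts through a surjection with kernel of odd order to a 2-group `P` above
a given 2-group `F`; elements normalizing `R` lift to elements normalizing `P`. -/
theorem exists_two_lift {Γ Δ : Type*} [Group Γ] [Finite Γ] [Group Δ] (π : Γ →* Δ)
    (hπ : Function.Surjective π) (hk : ∀ x, π x = 1 → Odd (orderOf x)) (R : Subgroup Δ)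
    (hR : IsPGroup 2 R) (F : Subgroup Γ) (hF : IsPGroup 2 F) (hFR : ∀ x ∈ F, π x ∈ R) :
    ∃ P : Subgroup Γ, IsPGroup 2 P ∧ F ≤ P ∧ (∀ x ∈ P, π x ∈ R) ∧ (∀ r ∈ R, ∃ x ∈ P, π x = r) ∧
      (∀ x ∈ P, ∀ y ∈ P, π x = π y → x = y) ∧
      ∀ g : Γ, (∀ r ∈ R, π g * r * (π g)⁻¹ ∈ R) → ∃ o, π o = 1 ∧ ∀ x ∈ P, (o * g) * x * (o * g)⁻¹ ∈ P := by
  have : Fact (Nat.Prime 2) := ⟨Nat.prime_two⟩
  have : Finite Δ := Finite.of_surjective π hπ
  set K := R.comap π with hK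
  have hFK : F ≤ K := fun x hx => hFR x hx
  obtain ⟨P', hP'⟩ := (hF.of_equiv (Subgroup.subgroupOfEquivOfLe hFK).symm).exists_le_sylow
  have hsurj : Function.Surjective (π.subgroupComap R) := π.subgroupComap_surjective_of_surjective R hπ
  -- the image is everything
  have htop : (P' : Subgroup K).map (π.subgroupComap R) = ⊤ := by
    have h2 : IsPGroup 2 (⊤ : Subgroup R) := hR.to_subgroup ⊤
    exact ((P'.mapSurjective hsurj).3 h2 le_top).symm
  have hlift : ∀ r ∈ R, ∃ x : K, x ∈ P' ∧ π x = r := by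
    intro r hr
    have h1 : (⟨r, hr⟩ : R) ∈ (P' : Subgroup K).map (π.subgroupComap R) := by rw [htop]; trivial
    obtain ⟨x, hx, h2⟩ := h1
    exact ⟨x, hx, congrArg Subtype.val h2⟩
  have hinj : ∀ x : K, x ∈ P' → π x = 1 → x = 1 := by
    intro x hx h1
    obtain ⟨n, hn⟩ := P'.2 ⟨x, hx⟩
    have h2 : (x : Γ) ^ 2 ^ n = 1 := by
      have := congrArg (fun y : P' => ((y : K) : Γ)) hn
      simpa using this
    have h3 := hk x h1
    have h4 : Nat.Coprime (orderOf (x : Γ)) (2 ^ n) := Nat.Coprime.pow_right n h3.coprime_two_right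
    have h5 : orderOf (x : Γ) = 1 := Nat.eq_one_of_dvd_coprimes h4 dvd_rfl (orderOf_dvd_of_pow_eq_one h2)
    exact Subtype.ext (orderOf_eq_one_iff.1 h5)
  refine ⟨(P' : Subgroup K).map K.subtype, P'.2.map _, ?_, ?_, ?_, ?_, ?_⟩
  · intro x hx
    exact ⟨⟨x, hFK hx⟩, hP' (Subgroup.mem_subgroupOf.2 hx), rfl⟩
  · rintro _ ⟨x, hx, rfl⟩
    exact x.2
  · intro r hr
    obtain ⟨x, hx, h1⟩ := hlift r hr
    exact ⟨x, ⟨x, hx, rfl⟩, h1⟩
  · rintro _ ⟨x, hx, rfl⟩ _ ⟨y, hy, rfl⟩ h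
    have h1 := hinj (x * y⁻¹) ((P' : Subgroup K).mul_mem hx ((P' : Subgroup K).inv_mem hy)) (by
      have : π (x : Γ) = π (y : Γ) := h
      simp [this])
    rw [mul_inv_eq_one] at h1
    rw [h1]
  · intro g hg
    -- `π g` normalizes `R`
    have hg' : ∀ r, π g * r * (π g)⁻¹ ∈ R → r ∈ R := by
      have h1 : R.map (MulAut.conj (π g)).toMonoidHom = R := by
        apply Subgroup.eq_of_le_of_card_ge
        · rintro _ ⟨z, hz, rfl⟩; exact hg z hz
        · exact (Nat.card_congr (R.equivMapOfInjective _ (MulAut.conj (π g)).injective).toEquiv).le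
      intro y hy
      have h2 : π g * y * (π g)⁻¹ ∈ R.map (MulAut.conj (π g)).toMonoidHom := by rw [h1]; exact hy
      obtain ⟨z, hz, h3⟩ := h2
      have h4 : π g * z * (π g)⁻¹ = π g * y * (π g)⁻¹ := h3
      have h5 : z = y := by simpa using h4
      exact h5 ▸ hz
    have hgK : g ∈ Subgroup.normalizer (K : Set Γ) := by
      rw [Subgroup.mem_normalizer_iff]
      intro x
      rw [hK, Subgroup.mem_comap, Subgroup.mem_comap, map_mul, map_mul, map_inv]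
      exact ⟨hg _, hg' _⟩
    obtain ⟨r, hr⟩ := MulAction.exists_smul_eq K P' (K.normalizerMonoidHom ⟨g, hgK⟩ • P')
    obtain ⟨q, hq, hqr⟩ := hlift (π r) r.2
    refine ⟨(q : Γ) * (r : Γ)⁻¹, by simp [hqr], ?_⟩
    rintro _ ⟨x, hx, rfl⟩
    have h1 : K.normalizerMonoidHom ⟨g, hgK⟩ x ∈ (K.normalizerMonoidHom ⟨g, hgK⟩ • P' : Sylow 2 K) :=
      Subgroup.smul_mem_pointwise_smul x _ _ hx
    rw [← hr] at h1
    obtain ⟨y, hy, h2⟩ := h1
    have h3 : (r : Γ) * y * (r : Γ)⁻¹ = g * x * g⁻¹ := congrArg Subtype.val h2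
    refine ⟨q * y * q⁻¹, (P' : Subgroup K).mul_mem ((P' : Subgroup K).mul_mem hq hy)
      ((P' : Subgroup K).inv_mem hq), ?_⟩
    change (q : Γ) * y * (q : Γ)⁻¹ = (q : Γ) * (r : Γ)⁻¹ * g * x * ((q : Γ) * (r : Γ)⁻¹ * g)⁻¹
    calc (q : Γ) * y * (q : Γ)⁻¹ = q * ((r : Γ)⁻¹ * (r * y * (r : Γ)⁻¹) * r) * (q : Γ)⁻¹ := by group
      _ = _ := by rw [h3]; group

end Cfsg.Agent.TypeM
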