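import Cfsg.Agent.TypeM.LemQG
import Cfsg.Agent.TypeM.SylLift

/-!
# Lemma Q in a finite group
-/

set_option autoImplicit false
set_option linter.unusedSectionVars false

namespace Cfsg.Agent.TypeM

namespace UHyp

variable {H : Type*} [Group H] {t : H} {ε s : ℕ → H} {N : Subgroup H} {u : H}

theorem QQ (h : UHyp t ε s N u) {i j i' j' : ℕ} (hi : i < 16) (hj : j < 16) (hi' : i' < 16) (hj' : j' < 16) :
    (ε i * mu s u j) * (ε i' * mu s u j') = ε (i ^^^ i') * mu s u (j ^^^ j') := by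
  rw [← h.mul i hi i' hi', ← h.mu_mul hj hj', mul_assoc, ← mul_assoc (mu s u j), h.mu_eps hj hi']
  simp only [mul_assoc]

theorem Qt (h : UHyp t ε s N u) {i j : ℕ} (hi : i < 16) (hj : j < 16) :
    (ε i * mu s u j) * t = t * (ε (i ^^^ j) * mu s u j) := by
  rw [mul_assoc, h.mu_t hj, ← mul_assoc, ← mul_assoc, ← h.tε i hi, mul_assoc t, h.mul i hi j hj, mul_assoc]

theorem tQtQ (h : UHyp t ε s N u) {i j i' j' : ℕ} (hi : i < 16) (hj : j < 16) (hi' : i' < 16)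
    (hj' : j' < 16) : (t * (ε i * mu s u j)) * (t * (ε i' * mu s u j')) =
      ε (i ^^^ j ^^^ i') * mu s u (j ^^^ j') := by
  calc (t * (ε i * mu s u j)) * (t * (ε i' * mu s u j'))
      = t * ((ε i * mu s u j) * t) * (ε i' * mu s u j') := by simp only [mul_assoc]
    _ = t * (t * (ε (i ^^^ j) * mu s u j)) * (ε i' * mu s u j') := by rw [h.Qt hi hj]
    _ = (t * t) * ((ε (i ^^^ j) * mu s u j) * (ε i' * mu s u j')) := by simp only [mul_assoc]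
    _ = _ := by rw [h.tt, one_mul, h.QQ (xor_lt hi hj) hj hi' hj']

/-- the group `⟨t⟩ Q` -/
def R (h : UHyp t ε s N u) : Subgroup H where
  carrier := {y | ∃ i < 16, ∃ j < 16, y = ε i * mu s u j ∨ y = t * (ε i * mu s u j)}
  mul_mem' := by
    rintro _ _ ⟨i, hi, j, hj, rfl | rfl⟩ ⟨i', hi', j', hj', rfl | rfl⟩
    · exact ⟨_, xor_lt hi hi', _, xor_lt hj hj', Or.inl (h.QQ hi hj hi' hj')⟩
    · refine ⟨_, xor_lt (xor_lt hi hj) hi', _, xor_lt hj hj', Or.inr ?_⟩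
      rw [← mul_assoc, h.Qt hi hj, mul_assoc, h.QQ (xor_lt hi hj) hj hi' hj']
    · refine ⟨_, xor_lt hi hi', _, xor_lt hj hj', Or.inr ?_⟩
      rw [mul_assoc, h.QQ hi hj hi' hj']
    · exact ⟨_, xor_lt (xor_lt hi hj) hi', _, xor_lt hj hj', Or.inl (h.tQtQ hi hj hi' hj')⟩
  one_mem' := ⟨0, by norm_num, 0, by norm_num, Or.inl (by rw [h.eps_zero, h.mu_zero, one_mul])⟩
  inv_mem' := by
    rintro _ ⟨i, hi, j, hj, rfl | rfl⟩
    · refine ⟨i, hi, j, hj, Or.inl (inv_eq_of_mul_eq_one_right ?_)⟩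
      rw [h.QQ hi hj hi hj, Nat.xor_self, Nat.xor_self, h.eps_zero, h.mu_zero, one_mul]
    · refine ⟨i ^^^ j, xor_lt hi hj, j, hj, Or.inr (inv_eq_of_mul_eq_one_right ?_)⟩
      rw [h.tQtQ hi hj (xor_lt hi hj) hj, Nat.xor_self, Nat.xor_self, h.eps_zero, h.mu_zero, one_mul]

theorem mem_R (h : UHyp t ε s N u) {y : H} :
    y ∈ h.R ↔ ∃ i < 16, ∃ j < 16, y = ε i * mu s u j ∨ y = t * (ε i * mu s u j) := Iff.rfl

theorem mem_R_eps (h : UHyp t ε s N u) {i : ℕ} (hi : i < 16) : ε i ∈ h.R :=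
  ⟨i, hi, 0, by norm_num, Or.inl (by rw [h.mu_zero, mul_one])⟩

theorem mem_R_mu (h : UHyp t ε s N u) {i : ℕ} (hi : i < 16) : mu s u i ∈ h.R :=
  ⟨0, by norm_num, i, hi, Or.inl (by rw [h.eps_zero, one_mul])⟩

theorem mem_R_t (h : UHyp t ε s N u) : t ∈ h.R :=
  ⟨0, by norm_num, 0, by norm_num, Or.inr (by rw [h.eps_zero, h.mu_zero, one_mul, mul_one])⟩

theorem R_two (h : UHyp t ε s N u) : IsPGroup 2 h.R := by
  rintro ⟨_, i, hi, j, hj, rfl | rfl⟩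
  · refine ⟨1, Subtype.ext ?_⟩
    change (ε i * mu s u j) ^ 2 ^ 1 = 1
    rw [pow_one, pow_two, h.QQ hi hj hi hj, Nat.xor_self, Nat.xor_self, h.eps_zero, h.mu_zero, one_mul]
  · refine ⟨2, Subtype.ext ?_⟩
    change (t * (ε i * mu s u j)) ^ 2 ^ 2 = 1
    have h1 : (t * (ε i * mu s u j)) ^ 2 = ε j := by
      rw [pow_two, h.tQtQ hi hj hi hj, Nat.xor_self, h.mu_zero, mul_one, Nat.xor_comm i j, Nat.xor_assoc,
        Nat.xor_self, Nat.xor_zero]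
    rw [show (2 : ℕ) ^ 2 = 2 * 2 by norm_num, pow_mul, h1, pow_two, h.sq hj]

/-- the generators normalize `R` -/
theorem s_R (h : UHyp t ε s N u) {k : ℕ} (hk : k < 5) {y : H} (hy : y ∈ h.R) : s k * y * (s k)⁻¹ ∈ h.R := by
  have e : ∀ i < 16, ∀ j < 16, s k * (ε i * mu s u j) * (s k)⁻¹ = ε (gm k i) * mu s u (gm k j) := by
    intro i hi j hj
    rw [mul_inv_eq_iff_eq_mul, ← mul_assoc, h.sε k hk i hi, mul_assoc, h.s_mu hk hj, mul_assoc]
  obtain ⟨i, hi, j, hj, rfl | rfl⟩ := hy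
  · exact ⟨_, gm_lt _ _, _, gm_lt _ _, Or.inl (e i hi j hj)⟩
  · refine ⟨_, gm_lt k i, _, gm_lt k j, Or.inr ?_⟩
    rw [← e i hi j hj, ← mul_assoc (s k), ← h.Nt _ (h.sN k hk)]
    simp only [mul_assoc]

theorem mu_inj (h : UHyp t ε s N u) {i j : ℕ} (hi : i < 16) (hj : j < 16) (e : ε i * mu s u j = 1) :
    i = 0 ∧ j = 0 := by
  have h1 := h.Qt hi hj
  rw [e, one_mul, ← h.mul i hi j hj, h.comm hi hj, mul_assoc, e, mul_one] at h1
  have h2 : ε j = 1 := by simpa using h1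
  have hj0 := h.inj j hj h2
  rw [hj0, h.mu_zero, mul_one] at e
  exact ⟨h.inj i hi e, hj0⟩

end UHyp

namespace EPre

variable {G : Type*} [Group G] [Finite G] {t : G} {ε s : ℕ → G} {N : Subgroup G}

open scoped Classical in
/-- the map `N(F) → N(F) / O(C(F))`, extended by `1` -/
noncomputable def p (H : EPre t ε s N) (x : G) : H.NF ⧸ H.O :=
  if h : x ∈ H.NF then QuotientGroup.mk ⟨x, h⟩ else 1

section

variable (H : EPre t ε s N)
include H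

theorem p_of {x : G} (hx : x ∈ H.NF) : H.p x = QuotientGroup.mk ⟨x, hx⟩ := dif_pos hx

theorem p_mul {x y : G} (hx : x ∈ H.NF) (hy : y ∈ H.NF) : H.p (x * y) = H.p x * H.p y := by
  rw [H.p_of hx, H.p_of hy, H.p_of (H.NF.mul_mem hx hy)]
  rfl

theorem p_one : H.p 1 = 1 := by
  rw [H.p_of H.NF.one_mem]
  rfl

theorem p_eq_one {x : G} (hx : x ∈ H.NF) : H.p x = 1 ↔ x ∈ H.C ∧ x ^ H.m = 1 := by
  rw [H.p_of hx, QuotientGroup.eq_one_iff]
  exact H.mem_O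

theorem p_surj (h : H.NF ⧸ H.O) : ∃ x ∈ H.NF, H.p x = h := by
  induction h using QuotientGroup.induction_on with | _ x
  exact ⟨x, x.2, by rw [H.p_of x.2]⟩

theorem p_inj {x y : G} (hx : x ∈ H.F) (hy : y ∈ H.F) (h : H.p x = H.p y) : x = y := by
  have hyi := H.F.inv_mem hy
  have h1 : H.p (x * y⁻¹) = 1 := by
    have h2 : H.p y * H.p y⁻¹ = 1 := by
      rw [← H.p_mul (H.F_le_NF hy) (H.F_le_NF hyi), mul_inv_cancel, H.p_one]
    rw [H.p_mul (H.F_le_NF hx) (H.F_le_NF hyi), h, h2]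
  have h2 := (H.p_eq_one (H.F_le_NF (H.F.mul_mem hx hyi))).1 h1
  exact mul_inv_eq_one.1 (H.F_inf (H.F.mul_mem hx hyi) h2.2)

theorem t_mem_NF : t ∈ H.NF := H.F_le_NF H.t_mem

theorem eps_mem_F {i : ℕ} (hi : i < 16) : ε i ∈ H.F := ⟨i, hi, Or.inl rfl⟩

theorem eps_mem_NF {i : ℕ} (hi : i < 16) : ε i ∈ H.NF := H.F_le_NF (H.eps_mem_F hi)

/-- an element of `N(F)` commuting modulo `O(C(F))` with an element of `F` commutes with it -/
theorem comm_of_p {x y : G} (hx : x ∈ H.NF) (hy : y ∈ H.F) (h : H.p x * H.p y = H.p y * H.p x) :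
    x * y = y * x := by
  have h1 := H.mem_NF.1 hx y hy
  have h2 : H.p (x * y * x⁻¹) = H.p y := by
    have h3 : H.p (x * y * x⁻¹) * H.p x = H.p y * H.p x := by
      rw [← H.p_mul (H.F_le_NF h1) hx, inv_mul_cancel_right, H.p_mul hx (H.F_le_NF hy), h]
    exact mul_right_cancel h3
  have h3 := H.p_inj h1 hy h2
  rwa [mul_inv_eq_iff_eq_mul] at h3

theorem qhyp (hx0 : ∃ x, (∀ i < 16, ∃ j < 16, x * ε i * x⁻¹ = ε j) ∧
    ∃ k < 16, k ≠ 0 ∧ x * t * x⁻¹ = t * ε k) :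
    QHyp (H.p t) (fun i => H.p (ε i)) (fun i => H.p (s i)) ((N.subgroupOf H.NF).map (QuotientGroup.mk' H.O)) where
  tt := by rw [← H.p_mul H.t_mem_NF H.t_mem_NF, H.tt, H.p_one]
  mul i hi j hj := by
    rw [← H.p_mul (H.eps_mem_NF hi) (H.eps_mem_NF hj), H.mul i hi j hj]
  inj i hi h := by
    change H.p (ε i) = 1 at h
    rw [← H.p_one] at h
    exact H.inj i hi (H.p_inj (H.eps_mem_F hi) H.F.one_mem h)
  tε i hi := by
    rw [← H.p_mul H.t_mem_NF (H.eps_mem_NF hi), H.tε i hi, H.p_mul (H.eps_mem_NF hi) H.t_mem_NF]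
  εN i hi := ⟨⟨ε i, H.eps_mem_NF hi⟩, Subgroup.mem_subgroupOf.2 (H.εN i hi), (H.p_of _).symm⟩
  sN k hk := ⟨⟨s k, H.s_mem hk⟩, Subgroup.mem_subgroupOf.2 (H.sN k hk), (H.p_of _).symm⟩
  tN := by
    rintro ⟨n, hn, h⟩
    have h0 : (n : G) ∈ N := Subgroup.mem_subgroupOf.1 hn
    have h1 : H.p (n : G) = H.p t := by rw [H.p_of n.2]; exact h
    have hti : t⁻¹ = t := inv_eq_of_mul_eq_one_left H.tt
    have h2 : H.p (t⁻¹ * n) = 1 := by
      rw [hti, H.p_mul H.t_mem_NF n.2, h1, ← H.p_mul H.t_mem_NF H.t_mem_NF, H.tt, H.p_one]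
    have h3 := (H.p_eq_one (H.NF.mul_mem (H.NF.inv_mem H.t_mem_NF) n.2)).1 h2
    apply H.tN
    have h4 : t * n = n * t := H.Nt _ h0
    have h5 : (n : G) ^ H.m = t := by
      have h6 : (n : G) = t * (t⁻¹ * n) := by group
      have h7 : Commute t (t⁻¹ * n) := by
        change t * (t⁻¹ * n) = t⁻¹ * n * t
        rw [mul_inv_cancel_left, mul_assoc, ← h4, inv_mul_cancel_left]
      rw [h6, h7.mul_pow, h3.2, mul_one, H.pow_m_F H.t_mem]
    rw [← h5]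
    exact N.pow_mem h0 _
  Nt := by
    rintro _ ⟨n, hn, rfl⟩
    have h0 : (n : G) ∈ N := Subgroup.mem_subgroupOf.1 hn
    have h1 : QuotientGroup.mk' H.O n = H.p (n : G) := (H.p_of n.2).symm
    rw [h1, ← H.p_mul H.t_mem_NF n.2, H.Nt _ h0, H.p_mul n.2 H.t_mem_NF]
  sε k hk i hi := by
    rw [← H.p_mul (H.s_mem hk) (H.eps_mem_NF hi), H.sε k hk i hi,
      H.p_mul (H.eps_mem_NF (gm_lt _ _)) (H.s_mem hk)]
  cen h h1 h2 := by
    obtain ⟨x, hx, rfl⟩ := H.p_surj h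
    have hxC : x ∈ H.C := H.mem_C.2 ⟨(H.comm_of_p hx H.t_mem h1.symm).symm,
      fun i hi => H.comm_of_p hx (H.eps_mem_F hi) (h2 i hi)⟩
    obtain ⟨f, hf, o, hoC, ho, rfl⟩ := H.exists_dec hxC
    have h3 : H.p (f * o) = H.p f := by
      rw [H.p_mul (H.F_le_NF hf) (H.C_le_NF hoC), (H.p_eq_one (H.C_le_NF hoC)).2 ⟨hoC, ho⟩, mul_one]
    obtain ⟨i, hi, rfl | rfl⟩ := hf
    · exact ⟨i, hi, Or.inl h3⟩
    · refine ⟨i, hi, Or.inr ?_⟩
      rw [h3, H.p_mul H.t_mem_NF (H.eps_mem_NF hi)]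
  x0 := by
    obtain ⟨x, hx, h1, k, hk, hk0, h2⟩ := H.exists_centE hx0
    refine ⟨H.p x, fun i hi => ?_, k, hk, hk0, ?_⟩
    · rw [← H.p_mul hx (H.eps_mem_NF hi), h1 i hi, H.p_mul (H.eps_mem_NF hi) hx]
    · rw [mul_inv_eq_iff_eq_mul] at h2
      rw [← H.p_mul hx H.t_mem_NF, h2, H.p_mul (H.NF.mul_mem H.t_mem_NF (H.eps_mem_NF hk)) hx,
        H.p_mul H.t_mem_NF (H.eps_mem_NF hk)]

/-- **Lemma Q**, group part -/
theorem exists_mu (hx0 : ∃ x, (∀ i < 16, ∃ j < 16, x * ε i * x⁻¹ = ε j) ∧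
    ∃ k < 16, k ≠ 0 ∧ x * t * x⁻¹ = t * ε k) :
    ∃ μ s' : ℕ → G, (∀ k < 5, ∃ o ∈ H.C, o ^ H.m = 1 ∧ s' k = o * s k) ∧ (∀ i < 16, μ i ∈ H.NF) ∧
      (∀ i < 16, ∀ j < 16, μ i * μ j = μ (i ^^^ j)) ∧
      (∀ i < 16, ∀ j < 16, ε i * μ j = μ j * ε i) ∧
      (∀ i < 16, ∀ j < 16, ε i * μ j = 1 → i = 0 ∧ j = 0) ∧
      (∀ i < 16, t * μ i = μ i * ε i * t) ∧
      (∀ k < 5, ∀ i < 16, s' k * μ i = μ (gm k i) * s' k) := by
  have hq := H.qhyp hx0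
  obtain ⟨u, h1, h2, h3, h4, h5⟩ := hq.exists_u
  have h : UHyp (H.p t) (fun i => H.p (ε i)) (fun i => H.p (s i))
    ((N.subgroupOf H.NF).map (QuotientGroup.mk' H.O)) u := ⟨hq, h1, h2, h3, h4, h5⟩
  obtain ⟨P, hP2, hFP, hPR, hRP, hPi, hPg⟩ := exists_two_lift (QuotientGroup.mk' H.O)
    (QuotientGroup.mk'_surjective _) (by
      intro x hx
      rw [QuotientGroup.mk'_apply, QuotientGroup.eq_one_iff] at hx
      have := (H.mem_O.1 hx).2
      have h6 : x ^ H.m = 1 := Subtype.ext (by simpa using this)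
      exact H.m_odd.of_dvd_nat (orderOf_dvd_of_pow_eq_one h6)) h.R h.R_two (H.F.subgroupOf H.NF) (by
      rintro ⟨x, hx⟩
      refine ⟨1, Subtype.ext (Subtype.ext ?_)⟩
      change (x : G) ^ 2 ^ 1 = 1
      rw [pow_one, pow_two]
      exact H.F_sq (Subgroup.mem_subgroupOf.1 hx)) (by
      intro x hx
      have e : QuotientGroup.mk' H.O x = H.p (x : G) := (H.p_of x.2).symm
      rw [e]
      obtain ⟨i, hi, h6 | h6⟩ := Subgroup.mem_subgroupOf.1 hx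
      · rw [h6]
        exact h.mem_R_eps hi
      · rw [h6, H.p_mul H.t_mem_NF (H.eps_mem_NF hi)]
        exact h.R.mul_mem h.mem_R_t (h.mem_R_eps hi))
  have hπ : ∀ x : H.NF, QuotientGroup.mk' H.O x = H.p (x : G) := fun x => (H.p_of x.2).symm
  -- lifts
  have hL : ∀ r ∈ h.R, ∃ x : G, x ∈ P.map H.NF.subtype ∧ H.p x = r := by
    intro r hr
    obtain ⟨x, hx, h6⟩ := hRP r hr
    exact ⟨x, ⟨x, hx, rfl⟩, by rw [← hπ, h6]⟩
  have hI : ∀ x ∈ P.map H.NF.subtype, ∀ y ∈ P.map H.NF.subtype, H.p x = H.p y → x = y := by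
    rintro _ ⟨x, hx, rfl⟩ _ ⟨y, hy, rfl⟩ h6
    have h7 := hPi x hx y hy (by rw [hπ, hπ]; exact h6)
    rw [h7]
  have hNF : ∀ x ∈ P.map H.NF.subtype, x ∈ H.NF := by
    rintro _ ⟨x, hx, rfl⟩
    exact x.2
  have hG : ∀ k < 5, ∃ o, (o ∈ H.C ∧ o ^ H.m = 1) ∧
      ∀ x ∈ P.map H.NF.subtype, (o * s k) * x * (o * s k)⁻¹ ∈ P.map H.NF.subtype := by
    intro k hk
    obtain ⟨o, ho, h6⟩ := hPg ⟨s k, H.s_mem hk⟩ (by
      rw [hπ]
      exact fun r hr => h.s_R hk hr)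
    refine ⟨o, ?_, ?_⟩
    · rw [← H.p_eq_one o.2, ← hπ, ho]
    · rintro _ ⟨x, hx, rfl⟩
      exact ⟨_, h6 x hx, rfl⟩
  have hFP₁ : ∀ x ∈ H.F, x ∈ P.map H.NF.subtype := by
    intro x hx
    exact ⟨⟨x, H.F_le_NF hx⟩, hFP (Subgroup.mem_subgroupOf.2 hx), rfl⟩
  have hεP : ∀ i < 16, ε i ∈ P.map H.NF.subtype := fun i hi => hFP₁ _ (H.eps_mem_F hi)
  have htP : t ∈ P.map H.NF.subtype := hFP₁ _ H.t_mem
  clear hFP₁ hFP hPR hRP hPi hPg
  generalize P.map H.NF.subtype = P₁ at *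
  choose! μ hμP hμ using fun i (hi : i < 16) => hL _ (h.mem_R_mu hi)
  choose! o hoC ho using hG
  have hoNF : ∀ k < 5, o k ∈ H.NF := fun k hk => H.C_le_NF (hoC k hk).1
  have hos : ∀ k < 5, H.p (o k * s k) = H.p (s k) := by
    intro k hk
    rw [H.p_mul (hoNF k hk) (H.s_mem hk), (H.p_eq_one (hoNF k hk)).2 (hoC k hk), one_mul]
  refine ⟨μ, fun k => o k * s k, fun k hk => ⟨o k, (hoC k hk).1, (hoC k hk).2, rfl⟩,
    fun i hi => hNF _ (hμP i hi), ?_, ?_, ?_, ?_, ?_⟩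
  · intro i hi j hj
    apply hI _ (P₁.mul_mem (hμP i hi) (hμP j hj)) _ (hμP _ (xor_lt hi hj))
    rw [H.p_mul (hNF _ (hμP i hi)) (hNF _ (hμP j hj)), hμ i hi, hμ j hj, hμ _ (xor_lt hi hj), h.mu_mul hi hj]
  · intro i hi j hj
    apply hI _ (P₁.mul_mem (hεP i hi) (hμP j hj)) _ (P₁.mul_mem (hμP j hj) (hεP i hi))
    rw [H.p_mul (hNF _ (hεP i hi)) (hNF _ (hμP j hj)), H.p_mul (hNF _ (hμP j hj)) (hNF _ (hεP i hi)), hμ j hj]
    exact (h.mu_eps hj hi).symm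
  · intro i hi j hj h6
    apply h.mu_inj hi hj
    rw [← hμ j hj, ← H.p_mul (hNF _ (hεP i hi)) (hNF _ (hμP j hj)), h6, H.p_one]
  · intro i hi
    have h6 := P₁.mul_mem (hμP i hi) (hεP i hi)
    apply hI _ (P₁.mul_mem htP (hμP i hi)) _ (P₁.mul_mem h6 htP)
    rw [H.p_mul (hNF _ htP) (hNF _ (hμP i hi)), H.p_mul (hNF _ h6) (hNF _ htP),
      H.p_mul (hNF _ (hμP i hi)) (hNF _ (hεP i hi)), hμ i hi]
    have h7 := h.mu_t hi
    have h8 := h.mu_eps hi hi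
    have h9 := h.tε i hi
    calc H.p t * mu (fun i => H.p (s i)) u i
        = H.p t * mu (fun i => H.p (s i)) u i * H.p t * H.p t := by
          rw [mul_assoc _ (H.p t) (H.p t), h.tt, mul_one]
      _ = H.p t * (mu (fun i => H.p (s i)) u i * H.p t) * H.p t := by simp only [mul_assoc]
      _ = H.p t * (H.p t * H.p (ε i) * mu (fun i => H.p (s i)) u i) * H.p t := by rw [h7]
      _ = (H.p t * H.p t) * (H.p (ε i) * mu (fun i => H.p (s i)) u i) * H.p t := by simp only [mul_assoc]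
      _ = mu (fun i => H.p (s i)) u i * H.p (ε i) * H.p t := by rw [h.tt, one_mul, h8]
  · intro k hk i hi
    have h6 := ho k hk _ (hμP i hi)
    have h7 : (o k * s k) * μ i * (o k * s k)⁻¹ = μ (gm k i) := by
      apply hI _ h6 _ (hμP _ (gm_lt _ _))
      have hosk : o k * s k ∈ H.NF := H.NF.mul_mem (hoNF k hk) (H.s_mem hk)
      have h8 : H.p ((o k * s k) * μ i * (o k * s k)⁻¹) * H.p (o k * s k) =
          H.p (μ (gm k i)) * H.p (o k * s k) := by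
        rw [← H.p_mul (hNF _ h6) hosk, inv_mul_cancel_right, H.p_mul hosk (hNF _ (hμP i hi)), hos k hk, hμ i hi,
          hμ _ (gm_lt _ _)]
        exact h.s_mu hk hi
      exact mul_right_cancel h8
    rwa [mul_inv_eq_iff_eq_mul] at h7

end

end EPre

end Cfsg.Agent.TypeM
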