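import Cfsg.Agent.TypeM.ExistX
import Cfsg.Agent.TypeM.Enum16
import Cfsg.Agent.Lib.LocalCore

/-!
# Lifting through an odd kernel, and the automorphisms of `L = K / O(K)` induced by `C(t)`

(piece Lift of Theorem W, S1739)
-/

set_option autoImplicit false

namespace Cfsg.Agent.TypeM

open Subgroup

/-! ### 2-subgroups and their normalizers lift through odd kernels -/

section odd

variable {K L : Type*} [Group K] [Group L]

theorem eq_one_of_two_odd {x : K} (h : TwoElt x) {N : Subgroup K} (hN : Odd (Nat.card N)) (hx : x ∈ N) : x = 1 := by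
  obtain ⟨n, hn⟩ := h
  have h1 : orderOf x ∣ 2 ^ n := orderOf_dvd_of_pow_eq_one hn
  have h2 : orderOf x ∣ Nat.card N := Subgroup.orderOf_dvd_natCard N hx
  have h3 : Nat.Coprime (2 ^ n) (Nat.card N) := Nat.Coprime.pow_left _ (Nat.coprime_two_left.mpr hN)
  have h4 : orderOf x ∣ 1 := by
    rw [← h3.gcd_eq_one]; exact Nat.dvd_gcd h1 h2
  rw [Nat.dvd_one, orderOf_eq_one_iff] at h4
  exact h4

theorem twoElt_of_mem {P : Subgroup K} (hP : IsPGroup 2 P) {x : K} (hx : x ∈ P) : TwoElt x := by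
  obtain ⟨n, hn⟩ := hP ⟨x, hx⟩
  exact ⟨n, by simpa using congrArg Subtype.val hn⟩

/-- A 2-subgroup lifts through a surjection with odd kernel. -/
theorem exists_lift_two [Finite K] (π : K →* L) (hπ : Function.Surjective π) (hodd : Odd (Nat.card π.ker))
    (A : Subgroup L) (hA : IsPGroup 2 A) : ∃ P : Subgroup K, IsPGroup 2 P ∧ (∀ x ∈ P, π x ∈ A) ∧
      (∀ a ∈ A, ∃ x ∈ P, π x = a) ∧ ∀ x ∈ P, ∀ y ∈ P, π x = π y → x = y := by
  have : Fact (Nat.Prime 2) := ⟨Nat.prime_two⟩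
  let f : ↥(A.comap π) →* ↥A := π.subgroupComap A
  have hf : Function.Surjective f := by
    rintro ⟨a, ha⟩
    obtain ⟨x, rfl⟩ := hπ a
    exact ⟨⟨x, ha⟩, rfl⟩
  let S : Sylow 2 ↥(A.comap π) := default
  have h1 : ((S.mapSurjective hf : Sylow 2 ↥A) : Subgroup ↥A) = ⊤ := by
    have h2 : IsPGroup 2 (⊤ : Subgroup ↥A) := hA.to_subgroup ⊤
    exact ((S.mapSurjective hf).is_maximal' h2 le_top).symm
  refine ⟨(S : Subgroup ↥(A.comap π)).map (A.comap π).subtype, S.2.map _, ?_, ?_, ?_⟩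
  · rintro _ ⟨x, _, rfl⟩; exact x.2
  · intro a ha
    have h2 : (⟨a, ha⟩ : ↥A) ∈ (S : Subgroup ↥(A.comap π)).map f := by
      rw [← Sylow.coe_mapSurjective hf, h1]; exact mem_top _
    obtain ⟨x, hx, hx'⟩ := h2
    exact ⟨x, ⟨x, hx, rfl⟩, congrArg Subtype.val hx'⟩
  · rintro _ ⟨x, hx, rfl⟩ _ ⟨y, hy, rfl⟩ h
    have h2 : TwoElt ((x : K)⁻¹ * y) :=
      twoElt_of_mem (S.2.map (A.comap π).subtype)
        (mul_mem (inv_mem ⟨x, hx, rfl⟩) ⟨y, hy, rfl⟩)
    have h3 : (x : K)⁻¹ * y ∈ π.ker := by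
      rw [MonoidHom.mem_ker, map_mul, map_inv]
      have h' : π (x : K) = π (y : K) := h
      rw [h', inv_mul_cancel]
    have h4 := eq_one_of_two_odd h2 hodd h3
    exact inv_mul_eq_one.mp h4

/-- Elements of `L` normalizing `π(P)` lift to elements normalizing `P`. -/
theorem exists_lift_norm [Finite K] (π : K →* L) (hπ : Function.Surjective π) (hodd : Odd (Nat.card π.ker))
    {A : Subgroup L} {P : Subgroup K} (hP : IsPGroup 2 P) (h1 : ∀ x ∈ P, π x ∈ A) (h2 : ∀ a ∈ A, ∃ x ∈ P, π x = a)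
    {g : L} (hg : ∀ a ∈ A, g * a * g⁻¹ ∈ A) : ∃ x, π x = g ∧ x ∈ normalizer (P : Set K) := by
  have : Fact (Nat.Prime 2) := ⟨Nat.prime_two⟩
  obtain ⟨y, rfl⟩ := hπ g
  obtain ⟨n, hn, hny⟩ := Cfsg.Agent.Lib.LocalCore.exists_mul_mem_normalizer 2 π.ker P
    (Nat.coprime_two_right.mpr hodd) hP (g := y) (by
      intro x hx
      obtain ⟨z, hz, hz'⟩ := h2 _ (hg _ (h1 x hx))
      have h3 : z⁻¹ * (y * x * y⁻¹) ∈ π.ker := by
        rw [MonoidHom.mem_ker, map_mul, map_inv, hz', map_mul, map_mul, map_inv]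
        group
      have h4 : y * x * y⁻¹ = z * (z⁻¹ * (y * x * y⁻¹)) := by group
      rw [h4]
      exact mul_mem (mem_sup_left hz) (mem_sup_right h3))
  exact ⟨n * y, by rw [map_mul, MonoidHom.mem_ker.mp hn, one_mul], hny⟩

end odd

/-! ### the setup -/

/-- `K ≤ C(t)` normal in `C(t)`, `π : K → L` a surjection with odd kernel stable under `C(t)`, `Z(L) = 1`,
`⟨t⟩` is a Sylow 2-subgroup of the centralizer of `K / ker π` in `C(t)`, no involution of `K` is conjugate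
to `t`. -/
structure LHyp {G L : Type*} [Group G] [Group L] (t : G) (K : Subgroup G) (π : K →* L) : Prop where
  tt : t * t = 1
  Kt : ∀ k ∈ K, t * k = k * t
  norm : ∀ c : G, c * t = t * c → ∀ k ∈ K, c * k * c⁻¹ ∈ K
  surj : Function.Surjective π
  odd : Odd (Nat.card π.ker)
  stab : ∀ (c : G) (hc : c * t = t * c) (k : G) (hk : k ∈ K), π ⟨k, hk⟩ = 1 → π ⟨c * k * c⁻¹, norm c hc k hk⟩ = 1
  cent : ∀ l : L, (∀ m : L, l * m = m * l) → l = 1
  nn : ∀ (x : G) (hx : x * t = t * x), TwoElt x → (∀ (k : G) (hk : k ∈ K),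
    π ⟨x * k * x⁻¹, norm x hx k hk⟩ = π ⟨k, hk⟩) → x = 1 ∨ x = t
  nc : ∀ k ∈ K, k * k = 1 → ¬ IsConj t k

namespace LHyp

variable {G L : Type*} [Group G] [Group L] {t : G} {K : Subgroup G} {π : K →* L}

theorem tK (H : LHyp t K π) : t ∉ K := fun h => H.nc t h H.tt (IsConj.refl t)

theorem t1 (H : LHyp t K π) : t ≠ 1 := fun h => H.tK (h ▸ K.one_mem)

/-- conjugation by `c ∈ C(t)` on `K` -/
def cjK (H : LHyp t K π) (c : G) (hc : c * t = t * c) : K →* K where
  toFun k := ⟨c * k * c⁻¹, H.norm c hc k k.2⟩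
  map_one' := Subtype.ext (by simp)
  map_mul' a b := Subtype.ext (by simp [mul_assoc])

/-- the endomorphism of `L` induced by `c ∈ C(t)` -/
noncomputable def hom (H : LHyp t K π) (c : G) (hc : c * t = t * c) : L →* L :=
  π.liftOfSurjective H.surj ⟨π.comp (H.cjK c hc), by
    rintro ⟨k, hk⟩ h
    exact H.stab c hc k hk (MonoidHom.mem_ker.mp h)⟩

theorem hom_apply (H : LHyp t K π) (c : G) (hc : c * t = t * c) (k : K) :
    H.hom c hc (π k) = π (H.cjK c hc k) :=
  π.liftOfRightInverse_comp_apply _ _ _ _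

theorem mem_cent {c : G} : c ∈ centralizer ({t} : Set G) ↔ c * t = t * c :=
  mem_centralizer_singleton_iff

/-- The action of `C(t)` on `L`. -/
noncomputable def φ (H : LHyp t K π) : ↥(centralizer ({t} : Set G)) →* MulAut L where
  toFun c := (H.hom c (mem_cent.mp c.2)).toMulEquiv (H.hom (c⁻¹ : ↥(centralizer ({t} : Set G))) (mem_cent.mp (c⁻¹).2))
    (by
      ext l
      obtain ⟨k, rfl⟩ := H.surj l
      simp only [MonoidHom.comp_apply, hom_apply, MonoidHom.id_apply]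
      congr 1
      apply Subtype.ext
      simp [cjK, mul_assoc])
    (by
      ext l
      obtain ⟨k, rfl⟩ := H.surj l
      simp only [MonoidHom.comp_apply, hom_apply, MonoidHom.id_apply]
      congr 1
      apply Subtype.ext
      simp [cjK, mul_assoc])
  map_one' := by
    ext l
    obtain ⟨k, rfl⟩ := H.surj l
    change H.hom _ _ (π k) = π k
    rw [hom_apply]
    congr 1
    apply Subtype.ext
    simp [cjK]
  map_mul' c d := by
    ext l
    obtain ⟨k, rfl⟩ := H.surj l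
    change H.hom _ _ (π k) = H.hom _ _ (H.hom _ _ (π k))
    rw [hom_apply, hom_apply, hom_apply]
    congr 1
    apply Subtype.ext
    simp [cjK, mul_assoc]

theorem φ_apply (H : LHyp t K π) (c : ↥(centralizer ({t} : Set G))) (k : G) (hk : k ∈ K) :
    H.φ c (π ⟨k, hk⟩) = π ⟨c * k * (c : G)⁻¹, H.norm c (mem_cent.mp c.2) k hk⟩ := by
  change H.hom _ _ (π _) = _
  rw [hom_apply]
  rfl

theorem φ_of_mem (H : LHyp t K π) {k : G} (hk : k ∈ K) (hc : k ∈ centralizer ({t} : Set G)) :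
    H.φ ⟨k, hc⟩ = MulAut.conj (π ⟨k, hk⟩) := by
  ext l
  obtain ⟨m, rfl⟩ := H.surj l
  have h1 := H.φ_apply ⟨k, hc⟩ m m.2
  rw [MulAut.conj_apply, ← map_inv, ← map_mul, ← map_mul]
  exact h1

theorem φ_t (H : LHyp t K π) (hc : t ∈ centralizer ({t} : Set G)) : H.φ ⟨t, hc⟩ = 1 := by
  ext l
  obtain ⟨m, rfl⟩ := H.surj l
  have h1 := H.φ_apply ⟨t, hc⟩ m m.2
  refine h1.trans ?_
  change π _ = π m
  congr 1
  apply Subtype.ext
  change t * (m : G) * t⁻¹ = m
  rw [H.Kt m m.2]; group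

theorem conj_inj (H : LHyp t K π) {l m : L} (h : MulAut.conj l = MulAut.conj m) : l = m := by
  have h1 : l⁻¹ * m = 1 := by
    apply H.cent
    intro n
    have h2 : l * (n) * l⁻¹ = m * n * m⁻¹ := by
      have := congrArg (fun f : MulAut L => f n) h
      simpa using this
    calc l⁻¹ * m * n = l⁻¹ * (m * n * m⁻¹) * m := by group
      _ = n * (l⁻¹ * m) := by rw [← h2]; group
  exact inv_mul_eq_one.mp h1

/-- 2-elements in the kernel of `φ` -/
theorem eq_of_φ (H : LHyp t K π) {c : ↥(centralizer ({t} : Set G))} (h2 : TwoElt (c : G)) (h : H.φ c = 1) :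
    (c : G) = 1 ∨ (c : G) = t := by
  refine H.nn c (mem_cent.mp c.2) h2 ?_
  intro k hk
  rw [← H.φ_apply c k hk, h]
  rfl

end LHyp

end Cfsg.Agent.TypeM
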