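import Cfsg.Agent.TypeM.LiftPre
import Cfsg.Agent.SignalizersComponents.RelSylow

/-!
# Lift, part 2: the elementary abelian subgroups of order 32 of `C(t)` containing `t`
-/

set_option autoImplicit false

namespace Cfsg.Agent.TypeM

open Subgroup
open Cfsg.Agent.SignalizersComponents.RelSylow

theorem card_ker_mul_card_range {A B : Type*} [Group A] [Group B] (f : A →* B) :
    Nat.card f.ker * Nat.card f.range = Nat.card A := by
  rw [← Nat.card_congr (QuotientGroup.quotientKerEquivRange f).toEquiv, mul_comm]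
  exact (Subgroup.card_eq_card_quotient_mul_card_subgroup f.ker).symm

namespace LHyp

variable {G L : Type*} [Group G] [Group L] {t : G} {K : Subgroup G} {π : K →* L}

/-- the group of inner automorphisms -/
abbrev Inn (L : Type*) [Group L] : Subgroup (MulAut L) := (MulAut.conj : L →* MulAut L).range

/-- `φ` on a subgroup of `C(t)` -/
noncomputable def ψ (H : LHyp t K π) {Q : Subgroup G} (hQ : Q ≤ centralizer ({t} : Set G)) : Q →* MulAut L :=
  H.φ.comp (Subgroup.inclusion hQ)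

theorem ker_sub (H : LHyp t K π) {Q : Subgroup G} (hQ : Q ≤ centralizer ({t} : Set G)) (h2 : IsPGroup 2 Q)
    {x : Q} (hx : x ∈ (H.ψ hQ).ker) : (x : G) = 1 ∨ (x : G) = t := by
  have h1 : H.φ (Subgroup.inclusion hQ x) = 1 := MonoidHom.mem_ker.mp hx
  exact H.eq_of_φ (c := Subgroup.inclusion hQ x) (twoElt_of_mem h2 x.2) h1

theorem card_ker_le (H : LHyp t K π) {Q : Subgroup G} (hQ : Q ≤ centralizer ({t} : Set G)) (h2 : IsPGroup 2 Q) :
    Nat.card (H.ψ hQ).ker ≤ 2 := by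
  have h0 : ∀ x : (H.ψ hQ).ker, ((x : Q) : G) ∈ ({1, t} : Set G) := by
    intro x
    rcases H.ker_sub hQ h2 x.2 with h | h
    · exact Or.inl h
    · exact Or.inr h
  have h1 : Nat.card (H.ψ hQ).ker ≤ Nat.card ({1, t} : Set G) :=
    Nat.card_le_card_of_injective (fun x => (⟨((x : Q) : G), h0 x⟩ : ({1, t} : Set G))) (by
      intro x y h
      exact Subtype.ext (Subtype.ext (congrArg (fun z : ({1, t} : Set G) => (z : G)) h)))
  refine h1.trans ?_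
  rw [Nat.card_coe_set_eq]
  refine (Set.ncard_insert_le 1 {t}).trans ?_
  simp

theorem card_le_of_range [Finite L] (H : LHyp t K π) {Q : Subgroup G} (hQ : Q ≤ centralizer ({t} : Set G))
    (h2 : IsPGroup 2 Q) {B : Subgroup (MulAut L)} (hB : (H.ψ hQ).range ≤ B) {n : ℕ} (hn : Nat.card B ≤ n) :
    Nat.card Q ≤ 2 * n := by
  rw [← card_ker_mul_card_range (H.ψ hQ)]
  exact Nat.mul_le_mul (H.card_ker_le hQ h2) ((Subgroup.card_le_of_le hB).trans hn)

theorem conj_inj' (H : LHyp t K π) : Function.Injective (MulAut.conj : L →* MulAut L) :=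
  fun _ _ h => H.conj_inj h

theorem card_range_of_t [Finite L] [Finite G] (H : LHyp t K π) {Q : Subgroup G}
    (hQ : Q ≤ centralizer ({t} : Set G)) (h2 : IsPGroup 2 Q) (ht : t ∈ Q) :
    Nat.card Q = 2 * Nat.card (H.ψ hQ).range := by
  rw [← card_ker_mul_card_range (H.ψ hQ)]
  congr 1
  refine le_antisymm (H.card_ker_le hQ h2) ?_
  have h3 : (⟨t, ht⟩ : Q) ∈ (H.ψ hQ).ker := by
    rw [MonoidHom.mem_ker]
    exact H.φ_t (hQ ht)
  have h4 : (H.ψ hQ).ker ≠ ⊥ := by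
    intro h
    rw [h, mem_bot] at h3
    exact H.t1 (congrArg Subtype.val h3)
  have h5 := (Subgroup.one_lt_card_iff_ne_bot _).mpr h4
  exact h5

/-- The elements of `R` act on `L` as inner automorphisms. -/
theorem range_le_inn [Finite L] [Finite G] (H : LHyp t K π)
    (o2 : ∀ φ : MulAut L, φ * φ = 1 → ∀ A : Subgroup L, (∀ x ∈ A, x * x = 1) → Nat.card A = 8 →
      (∀ x ∈ A, φ x = x) → φ ∈ Inn L)
    (o3 : ∀ φ ψ : MulAut L, φ ∉ Inn L → ψ ∉ Inn L → φ * ψ ∈ Inn L)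
    {M : Subgroup (MulAut L)} (hM : ∀ x ∈ M, x * x = 1) (hc : Nat.card M = 16) : M ≤ Inn L := by
  by_contra hcon
  obtain ⟨σ, hσM, hσ⟩ := SetLike.not_le_iff_exists.mp hcon
  have hcomm : ∀ x ∈ M, ∀ y ∈ M, x * y = y * x := fun x hx y hy => comm_of_sq hM hx hy
  have hidx : ((Inn L).subgroupOf M).index = 2 := by
    rw [Subgroup.index_eq_two_iff]
    refine ⟨⟨σ, hσM⟩, ?_⟩
    rintro ⟨b, hb⟩
    by_cases hbi : b ∈ Inn L
    · refine Or.inr ⟨?_, ?_⟩
      · exact hbi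
      · intro h
        have h1 : b * σ ∈ Inn L := h
        exact hσ ((mul_mem_cancel_left hbi).mp h1)
    · refine Or.inl ⟨?_, ?_⟩
      · exact o3 b σ hbi hσ
      · exact hbi
  have hcA : Nat.card ((Inn L).subgroupOf M) = 8 := by
    have h1 := ((Inn L).subgroupOf M).card_mul_index
    rw [hidx, hc] at h1
    omega
  set A : Subgroup L := M.comap (MulAut.conj : L →* MulAut L) with hA
  have hAc : Nat.card A = 8 := by
    rw [← hcA]
    refine Nat.card_congr (Equiv.ofBijective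
      (fun l : A => (⟨⟨MulAut.conj (l : L), l.2⟩, ⟨l, rfl⟩⟩ : (Inn L).subgroupOf M)) ⟨?_, ?_⟩)
    · intro l m h
      have h1 : (MulAut.conj (l : L)) = MulAut.conj (m : L) :=
        congrArg (fun z : (Inn L).subgroupOf M => ((z : M) : MulAut L)) h
      exact Subtype.ext (H.conj_inj h1)
    · rintro ⟨⟨x, hx⟩, l, hl⟩
      have hl' : MulAut.conj l = x := hl
      subst hl'
      exact ⟨⟨l, hx⟩, rfl⟩
  apply hσ
  refine o2 σ (hM σ hσM) A ?_ hAc ?_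
  · intro x hx
    apply H.conj_inj
    rw [map_mul, map_one]
    exact hM _ hx
  · intro x hx
    apply H.conj_inj
    have h1 : σ * MulAut.conj x = MulAut.conj x * σ := hcomm σ hσM _ hx
    ext m
    have h2 : (σ * MulAut.conj x) (σ⁻¹ m) = (MulAut.conj x * σ) (σ⁻¹ m) := by rw [h1]
    simp only [MulAut.mul_apply, MulAut.conj_apply, map_mul, MulAut.apply_inv_self, map_inv] at h2
    simpa using h2

/-- every 2-subgroup of `C(t)` inducing only automorphisms `conj a`, `a ∈ A`, `|A| = 16`, has order at most 32 -/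
theorem card_le_32 [Finite L] (H : LHyp t K π) {Q : Subgroup G} (hQ : Q ≤ centralizer ({t} : Set G))
    (h2 : IsPGroup 2 Q) {A : Subgroup L} (hA : Nat.card A = 16)
    (h : ∀ x (hx : x ∈ centralizer ({t} : Set G)), x ∈ Q → ∃ a ∈ A, H.φ ⟨x, hx⟩ = MulAut.conj a) :
    Nat.card Q ≤ 32 := by
  have h1 := H.card_le_of_range hQ h2 (B := A.map (MulAut.conj : L →* MulAut L)) (n := 16) (by
    rintro _ ⟨x, rfl⟩
    obtain ⟨a, ha, ha'⟩ := h x (hQ x.2) x.2
    exact ⟨a, ha, ha'.symm⟩) (by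
    rw [← hA]
    exact (Nat.card_congr (A.equivMapOfInjective _ H.conj_inj').toEquiv).ge)
  omega

/-- the preimage of `conj A` in `C(t)` -/
noncomputable def Z (H : LHyp t K π) (A : Subgroup L) : Subgroup G :=
  ((A.map (MulAut.conj : L →* MulAut L)).comap H.φ).map (centralizer ({t} : Set G)).subtype

theorem mem_Z (H : LHyp t K π) {A : Subgroup L} {x : G} : x ∈ H.Z A ↔
    ∃ hx : x ∈ centralizer ({t} : Set G), ∃ a ∈ A, H.φ ⟨x, hx⟩ = MulAut.conj a := by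
  constructor
  · rintro ⟨⟨y, hy⟩, ⟨a, ha, ha'⟩, rfl⟩
    exact ⟨hy, a, ha, ha'.symm⟩
  · rintro ⟨hx, a, ha, ha'⟩
    exact ⟨⟨x, hx⟩, ⟨a, ha, ha'.symm⟩, rfl⟩

theorem isMaxP_Z [Finite L] [Finite G] (H : LHyp t K π) {Q : Subgroup G} (h2 : IsPGroup 2 Q) {A : Subgroup L}
    (hA : Nat.card A = 16) (hQZ : Q ≤ H.Z A) (hc : Nat.card Q = 32) : IsMaxP 2 (H.Z A) Q := by
  refine ⟨h2, hQZ, ?_⟩
  intro R' h3 h4 h5
  have h6 : Nat.card R' ≤ 32 := H.card_le_32 (fun x hx => (H.mem_Z.mp (h4 hx)).1) h3 hA (by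
    intro x _ hxR
    obtain ⟨_, a, ha, ha'⟩ := H.mem_Z.mp (h4 hxR)
    exact ⟨a, ha, ha'⟩)
  exact (Subgroup.eq_of_le_of_card_ge h5 (h6.trans hc.ge)).ge

theorem isPGroup_of_sq {R : Subgroup G} (hR : ∀ x ∈ R, x * x = 1) : IsPGroup 2 R := by
  rintro ⟨x, hx⟩
  exact ⟨1, Subtype.ext (by simpa [pow_two] using hR x hx)⟩

/-- one of the two alternatives of `e16` -/
theorem exists_conj_of [Finite L] [Finite G] (H : LHyp t K π) {ε s : ℕ → L} {e f : ℕ → G} {N : Subgroup G}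
    (E : ELoc ε s) (I : IsLift π ε s e f) (HE : EPre t e f N) {R : Subgroup G}
    (hR : ∀ x ∈ R, x * x = 1) (hc : Nat.card R = 32) (hRC : R ≤ centralizer ({t} : Set G))
    (g : L) (hg : ∀ x (hx : x ∈ centralizer ({t} : Set G)), x ∈ R →
      ∃ l : L, H.φ ⟨x, hx⟩ = MulAut.conj l ∧ ∃ j < 16, g * l * g⁻¹ = ε j) :
    ∃ c, c * t = t * c ∧ ∀ x ∈ R, ∃ i < 16, c * x * c⁻¹ = e i ∨ c * x * c⁻¹ = t * e i := by
  obtain ⟨⟨k, hk⟩, hkg⟩ := H.surj g
  have hkc : k ∈ centralizer ({t} : Set G) := mem_cent.mpr (H.Kt k hk).symm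
  set R' : Subgroup G := R.map (MulAut.conj k).toMonoidHom with hR'
  have hR'Z : R' ≤ H.Z E.A := by
    rintro _ ⟨x, hx, rfl⟩
    have hxc := hRC hx
    obtain ⟨l, hl, j, hj, hlj⟩ := hg x hxc hx
    refine H.mem_Z.mpr ⟨?_, ε j, ⟨j, hj, rfl⟩, ?_⟩
    · exact mul_mem (mul_mem hkc hxc) (inv_mem hkc)
    · have h1 : (⟨(MulAut.conj k).toMonoidHom x, mul_mem (mul_mem hkc hxc) (inv_mem hkc)⟩ :
          ↥(centralizer ({t} : Set G))) = ⟨k, hkc⟩ * ⟨x, hxc⟩ * ⟨k, hkc⟩⁻¹ := Subtype.ext rfl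
      rw [h1, map_mul, map_mul, map_inv, H.φ_of_mem hk hkc, hkg, hl, ← map_inv, ← map_mul, ← map_mul, hlj]
  have hFZ : HE.F ≤ H.Z E.A := by
    rintro y ⟨i, hi, rfl | rfl⟩
    · obtain ⟨h1, h2⟩ := I.ev i hi
      have h3 : e i ∈ centralizer ({t} : Set G) := mem_cent.mpr (H.Kt _ h1).symm
      refine H.mem_Z.mpr ⟨h3, ε i, ⟨i, hi, rfl⟩, ?_⟩
      rw [H.φ_of_mem h1 h3, h2]
    · obtain ⟨h1, h2⟩ := I.ev i hi
      have h3 : e i ∈ centralizer ({t} : Set G) := mem_cent.mpr (H.Kt _ h1).symm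
      have h4 : t ∈ centralizer ({t} : Set G) := mem_cent.mpr rfl
      refine H.mem_Z.mpr ⟨mul_mem h4 h3, ε i, ⟨i, hi, rfl⟩, ?_⟩
      have h5 : (⟨t * e i, mul_mem h4 h3⟩ : ↥(centralizer ({t} : Set G))) = ⟨t, h4⟩ * ⟨e i, h3⟩ := rfl
      rw [h5, map_mul, H.φ_t h4, H.φ_of_mem h1 h3, h2, one_mul]
  have hR'c : Nat.card R' = 32 := (card_map_conj R k).trans hc
  have hm1 := H.isMaxP_Z (isPGroup_of_sq (R := R') (by
    rintro _ ⟨x, hx, rfl⟩
    rw [← map_mul, hR x hx, map_one])) E.card_A hR'Z hR'c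
  have hm2 := H.isMaxP_Z (isPGroup_of_sq (R := HE.F) (fun x hx => HE.F_sq hx)) E.card_A hFZ HE.card_F
  have : Fact (Nat.Prime 2) := ⟨Nat.prime_two⟩
  obtain ⟨c, hc, hcF⟩ := hm1.exists_conj hm2
  have hcc : c ∈ centralizer ({t} : Set G) := (H.mem_Z.mp hc).1
  refine ⟨c * k, mem_cent.mp (mul_mem hcc hkc), ?_⟩
  intro x hx
  have h1 : c * (k * x * k⁻¹) * c⁻¹ ∈ HE.F := by
    rw [← hcF]
    exact ⟨k * x * k⁻¹, ⟨x, hx, rfl⟩, rfl⟩
  have h2 : c * k * x * (c * k)⁻¹ = c * (k * x * k⁻¹) * c⁻¹ := by group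
  rw [h2]
  exact h1

/-- **Lift, part 2**: every elementary abelian subgroup of order 32 containing `t` is conjugate in `C(t)`
to `⟨t⟩E` or `⟨t⟩E'`. -/
theorem exists_conj32 [Finite L] [Finite G] (H : LHyp t K π) {ε s ε' s' : ℕ → L} {e f e' f' : ℕ → G}
    {N N' : Subgroup G} (F : LFacts ε s ε' s') (I : IsLift π ε s e f) (I' : IsLift π ε' s' e' f')
    (HE : EPre t e f N) (HE' : EPre t e' f' N')
    (o2 : ∀ φ : MulAut L, φ * φ = 1 → ∀ A : Subgroup L, (∀ x ∈ A, x * x = 1) → Nat.card A = 8 →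
      (∀ x ∈ A, φ x = x) → φ ∈ Inn L)
    (o3 : ∀ φ ψ : MulAut L, φ ∉ Inn L → ψ ∉ Inn L → φ * ψ ∈ Inn L)
    (R : Subgroup G) (htR : t ∈ R) (hR : ∀ x ∈ R, x * x = 1) (hc : Nat.card R = 32) :
    ∃ c, c * t = t * c ∧ ((∀ x ∈ R, ∃ i < 16, c * x * c⁻¹ = e i ∨ c * x * c⁻¹ = t * e i) ∨
      (∀ x ∈ R, ∃ i < 16, c * x * c⁻¹ = e' i ∨ c * x * c⁻¹ = t * e' i)) := by
  have hRC : R ≤ centralizer ({t} : Set G) := fun x hx => mem_cent.mpr (comm_of_sq hR hx htR)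
  have hR2 := isPGroup_of_sq hR
  have h1 := H.card_range_of_t hRC hR2 htR
  rw [hc] at h1
  have hM16 : Nat.card (H.ψ hRC).range = 16 := by omega
  have hMsq : ∀ x ∈ (H.ψ hRC).range, x * x = 1 := by
    rintro _ ⟨x, rfl⟩
    rw [← map_mul]
    have h2 : x * x = 1 := Subtype.ext (hR x x.2)
    rw [h2, map_one]
  have hinn := H.range_le_inn o2 o3 hMsq hM16
  -- the image in `L`
  set A : Subgroup L := (H.ψ hRC).range.comap (MulAut.conj : L →* MulAut L) with hA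
  have hA16 : Nat.card A = 16 := by
    rw [← hM16]
    refine Nat.card_congr (Equiv.ofBijective
      (fun l : A => (⟨MulAut.conj (l : L), l.2⟩ : (H.ψ hRC).range)) ⟨?_, ?_⟩)
    · intro l m h
      have h1 : (MulAut.conj (l : L)) = MulAut.conj (m : L) :=
        congrArg (fun z : (H.ψ hRC).range => (z : MulAut L)) h
      exact Subtype.ext (H.conj_inj h1)
    · rintro ⟨x, hx⟩
      obtain ⟨l, rfl⟩ := hinn hx
      exact ⟨⟨l, hx⟩, rfl⟩
  obtain ⟨v, hv, hv'⟩ := exists_isE16 A (by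
    intro x hx
    apply H.conj_inj
    rw [map_mul, map_one]
    exact hMsq _ hx) hA16
  have hφ : ∀ x (hx : x ∈ centralizer ({t} : Set G)), x ∈ R → ∃ i < 16, H.φ ⟨x, hx⟩ = MulAut.conj (v i) := by
    intro x hx hxR
    have h2 : H.φ ⟨x, hx⟩ ∈ (H.ψ hRC).range := ⟨⟨x, hxR⟩, rfl⟩
    obtain ⟨l, hl⟩ := hinn h2
    have h3 : l ∈ A := by
      rw [hA, mem_comap]
      exact hl ▸ h2
    obtain ⟨i, hi, rfl⟩ := (hv' l).mp h3
    exact ⟨i, hi, hl.symm⟩
  obtain ⟨g, hg | hg⟩ := F.e16 v hv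
  · obtain ⟨c, hc1, hc2⟩ := H.exists_conj_of F.E I HE hR hc hRC g (by
      intro x hx hxR
      obtain ⟨i, hi, h2⟩ := hφ x hx hxR
      exact ⟨v i, h2, hg i hi⟩)
    exact ⟨c, hc1, Or.inl hc2⟩
  · obtain ⟨c, hc1, hc2⟩ := H.exists_conj_of F.E' I' HE' hR hc hRC g (by
      intro x hx hxR
      obtain ⟨i, hi, h2⟩ := hφ x hx hxR
      exact ⟨v i, h2, hg i hi⟩)
    exact ⟨c, hc1, Or.inr hc2⟩

end LHyp

end Cfsg.Agent.TypeM
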