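import Cfsg.Agent.TypeM.LiftBasic

/-!
# Lift, part 1: from `ELoc ε s` in `L = K / O(K)` to `EPre t e f N` in `G`
-/

set_option autoImplicit false

namespace Cfsg.Agent.TypeM

open Subgroup

namespace ELoc

variable {L : Type*} [Group L] {ε s : ℕ → L}

theorem zero (E : ELoc ε s) : ε 0 = 1 := by
  have h := E.mul 0 (by norm_num) 0 (by norm_num)
  simpa using h

theorem sq (E : ELoc ε s) {i : ℕ} (hi : i < 16) : ε i * ε i = 1 := by
  rw [E.mul i hi i hi, Nat.xor_self, E.zero]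

theorem eq_of (E : ELoc ε s) {i j : ℕ} (hi : i < 16) (hj : j < 16) (e : ε i = ε j) : i = j := by
  have h1 : ε (i ^^^ j) = 1 := by rw [← E.mul i hi j hj, e, E.sq hj]
  exact Nat.xor_eq_zero_iff.mp (E.inj _ (xor_lt hi hj) h1)

/-- the group `{ε 0, …, ε 15}` -/
def A (E : ELoc ε s) : Subgroup L where
  carrier := {y | ∃ i < 16, y = ε i}
  mul_mem' := by
    rintro _ _ ⟨i, hi, rfl⟩ ⟨j, hj, rfl⟩
    exact ⟨_, xor_lt hi hj, E.mul i hi j hj⟩
  one_mem' := ⟨0, by norm_num, E.zero.symm⟩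
  inv_mem' := by
    rintro _ ⟨i, hi, rfl⟩
    exact ⟨i, hi, inv_eq_of_mul_eq_one_right (E.sq hi)⟩

theorem mem_A (E : ELoc ε s) {y : L} : y ∈ E.A ↔ ∃ i < 16, y = ε i := Iff.rfl

theorem isPGroup_A (E : ELoc ε s) : IsPGroup 2 E.A := by
  rintro ⟨y, i, hi, rfl⟩
  exact ⟨1, Subtype.ext (by simpa [pow_two] using E.sq hi)⟩

theorem card_A (E : ELoc ε s) : Nat.card E.A = 16 := by
  have h1 : Function.Bijective (fun i : Fin 16 => (⟨ε i, ⟨i, i.2, rfl⟩⟩ : E.A)) := by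
    constructor
    · intro i j h
      exact Fin.ext (E.eq_of i.2 j.2 (congrArg Subtype.val h))
    · rintro ⟨y, i, hi, rfl⟩
      exact ⟨⟨i, hi⟩, rfl⟩
  rw [← Nat.card_eq_of_bijective _ h1]
  simp

end ELoc

theorem TwoElt.mul {G : Type*} [Group G] {x y : G} (hx : TwoElt x) (hy : TwoElt y) (h : x * y = y * x) :
    TwoElt (x * y) := by
  obtain ⟨m, hm⟩ := hx
  obtain ⟨n, hn⟩ := hy
  refine ⟨m + n, ?_⟩
  have hc : Commute x y := h
  rw [hc.mul_pow, pow_add, pow_mul, hm, one_pow, mul_comm (2 ^ m), pow_mul, hn, one_pow, one_mul]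

theorem twoElt_of_sq {G : Type*} [Group G] {x : G} (hx : x * x = 1) : TwoElt x := ⟨1, by simpa [pow_two] using hx⟩

/-- a lift `e, f` of `ε, s` to `G` -/
structure IsLift {G L : Type*} [Group G] [Group L] {K : Subgroup G} (π : K →* L) (ε s : ℕ → L) (e f : ℕ → G) :
    Prop where
  ev : ∀ i < 16, ∃ h : e i ∈ K, π ⟨e i, h⟩ = ε i
  fv : ∀ k < 5, ∃ h : f k ∈ K, π ⟨f k, h⟩ = s k
  mul : ∀ i < 16, ∀ j < 16, e i * e j = e (i ^^^ j)
  act : ∀ k < 5, ∀ i < 16, f k * e i = e (gm k i) * f k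

namespace LHyp

variable {G L : Type*} [Group G] [Group L] {t : G} {K : Subgroup G} {π : K →* L}

/-- existence of lifts -/
theorem exists_isLift [Finite G] (H : LHyp t K π) {ε s : ℕ → L} (E : ELoc ε s) :
    ∃ e f : ℕ → G, IsLift π ε s e f := by
  obtain ⟨P, hP, h1, h2, h3⟩ := exists_lift_two π H.surj H.odd E.A E.isPGroup_A
  have h4 : ∀ i : ℕ, ∃ x : K, i < 16 → x ∈ P ∧ π x = ε i := by
    intro i
    by_cases hi : i < 16
    · obtain ⟨x, hx, hx'⟩ := h2 (ε i) ⟨i, hi, rfl⟩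
      exact ⟨x, fun _ => ⟨hx, hx'⟩⟩
    · exact ⟨1, fun h => absurd h hi⟩
  choose e he using h4
  have h5 : ∀ k : ℕ, ∃ x : K, k < 5 → x ∈ normalizer (P : Set K) ∧ π x = s k := by
    intro k
    by_cases hk : k < 5
    · obtain ⟨x, hx, hx'⟩ := exists_lift_norm π H.surj H.odd hP h1 h2 (g := s k) (by
        rintro _ ⟨i, hi, rfl⟩
        refine ⟨gm k i, gm_lt k i, ?_⟩
        rw [E.sε k hk i hi]; group)
      exact ⟨x, fun _ => ⟨hx', hx⟩⟩
    · exact ⟨1, fun h => absurd h hk⟩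
  choose f hf using h5
  refine ⟨fun i => e i, fun k => f k, ?_, ?_, ?_, ?_⟩
  · exact fun i hi => ⟨(e i).2, (he i hi).2⟩
  · exact fun k hk => ⟨(f k).2, (hf k hk).2⟩
  · intro i hi j hj
    have h6 : e i * e j = e (i ^^^ j) := by
      apply h3 _ (P.mul_mem (he i hi).1 (he j hj).1) _ (he _ (xor_lt hi hj)).1
      rw [map_mul, (he i hi).2, (he j hj).2, (he _ (xor_lt hi hj)).2, E.mul i hi j hj]
    exact congrArg Subtype.val h6
  · intro k hk i hi
    have h6 : f k * e i * (f k)⁻¹ = e (gm k i) := by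
      apply h3 _ ((mem_normalizer_iff.mp (hf k hk).1 _).mp (he i hi).1) _ (he _ (gm_lt k i)).1
      rw [map_mul, map_mul, map_inv, (hf k hk).2, (he i hi).2, (he _ (gm_lt k i)).2, E.sε k hk i hi]
      group
    have h7 : f k * e i = e (gm k i) * f k := by rw [← h6]; group
    exact congrArg Subtype.val h7

section lift

variable {ε s : ℕ → L} {e f : ℕ → G}

theorem lift_inj (E : ELoc ε s) (I : IsLift π ε s e f) {i : ℕ} (hi : i < 16)
    (h : e i = 1) : i = 0 := by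
  obtain ⟨h1, h2⟩ := I.ev i hi
  apply E.inj i hi
  rw [← h2]
  have h3 : (⟨e i, h1⟩ : K) = 1 := Subtype.ext h
  rw [h3, map_one]

theorem lift_zero (I : IsLift π ε s e f) : e 0 = 1 := by
  have h := I.mul 0 (by norm_num) 0 (by norm_num)
  simpa using h

theorem lift_sq (I : IsLift π ε s e f) {i : ℕ} (hi : i < 16) : e i * e i = 1 := by
  rw [I.mul i hi i hi, Nat.xor_self, lift_zero I]

theorem lift_mem (I : IsLift π ε s e f) {i : ℕ} (hi : i < 16) : e i ∈ K := (I.ev i hi).1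

/-- the action of `c ∈ C(t)` on the lift and `φ c` -/
theorem φ_eps (H : LHyp t K π) (I : IsLift π ε s e f) {i j : ℕ} (hi : i < 16) (hj : j < 16)
    (c : ↥(centralizer ({t} : Set G))) (h : (c : G) * e i * (c : G)⁻¹ = e j) : H.φ c (ε i) = ε j := by
  obtain ⟨h1, h2⟩ := I.ev i hi
  obtain ⟨h3, h4⟩ := I.ev j hj
  rw [← h2, H.φ_apply, ← h4]
  congr 1
  exact Subtype.ext h

/-- An element `l` with `φ c = conj l`, `c` a 2-element, is a 2-element. -/
theorem twoElt_of_φ (H : LHyp t K π) {c : ↥(centralizer ({t} : Set G))} (hc : TwoElt (c : G)) {l : L}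
    (h : H.φ c = MulAut.conj l) : TwoElt l := by
  obtain ⟨n, hn⟩ := hc
  refine ⟨n, ?_⟩
  apply H.conj_inj
  rw [map_pow, ← h, ← map_pow, map_one]
  have h1 : c ^ 2 ^ n = 1 := Subtype.ext (by simpa using hn)
  rw [h1, map_one]

/-- field `cen` -/
theorem lift_cen (H : LHyp t K π) (E : ELoc ε s) (I : IsLift π ε s e f)
    (o1 : ∀ φ : MulAut L, (∀ i < 16, ∃ j < 16, φ (ε i) = ε j) → φ ∈ (MulAut.conj : L →* MulAut L).range)
    (x : G) (hx : TwoElt x) (hxt : t * x = x * t) (hxe : ∀ i < 16, x * e i = e i * x) :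
    ∃ i < 16, x = e i ∨ x = t * e i := by
  have hxc : x ∈ centralizer ({t} : Set G) := mem_cent.mpr hxt.symm
  have h1 : ∀ i < 16, H.φ ⟨x, hxc⟩ (ε i) = ε i := fun i hi =>
    H.φ_eps I hi hi ⟨x, hxc⟩ (by
      change x * e i * x⁻¹ = e i
      rw [hxe i hi]; group)
  obtain ⟨l, hl⟩ := o1 (H.φ ⟨x, hxc⟩) (fun i hi => ⟨i, hi, h1 i hi⟩)
  have h2 : ∀ i < 16, l * ε i = ε i * l := by
    intro i hi
    have h3 := h1 i hi
    rw [← hl, MulAut.conj_apply] at h3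
    calc l * ε i = l * ε i * l⁻¹ * l := by group
      _ = ε i * l := by rw [h3]
  obtain ⟨i, hi, rfl⟩ := E.cen l (H.twoElt_of_φ (c := ⟨x, hxc⟩) hx hl.symm) h2
  obtain ⟨h3, h4⟩ := I.ev i hi
  have h5 : e i ∈ centralizer ({t} : Set G) := mem_cent.mpr (H.Kt _ h3).symm
  have h6 : H.φ (⟨x, hxc⟩ * ⟨e i, h5⟩) = 1 := by
    rw [map_mul, ← hl, H.φ_of_mem h3 h5, h4, ← map_mul, E.sq hi, map_one]
  have h7 : TwoElt (x * e i) := hx.mul (twoElt_of_sq (lift_sq I hi)) (hxe i hi)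
  have h8 : x = (x * e i) * e i := by rw [mul_assoc, lift_sq I hi, mul_one]
  rcases H.eq_of_φ (c := ⟨x, hxc⟩ * ⟨e i, h5⟩) h7 h6 with h9 | h9
  · refine ⟨i, hi, Or.inl ?_⟩
    have h9' : x * e i = 1 := h9
    rw [h8, h9', one_mul]
  · refine ⟨i, hi, Or.inr ?_⟩
    have h9' : x * e i = t := h9
    rw [h8, h9']

/-- the normalizer of `E` in `K` -/
def NE (K : Subgroup G) (e : ℕ → G) : Subgroup G := K ⊓ normalizer ({y | ∃ i < 16, y = e i} : Set G)

theorem mem_NE {K : Subgroup G} {n : G} (hn : n ∈ NE K e) {i : ℕ} (hi : i < 16) : ∃ j < 16, n * e i * n⁻¹ = e j :=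
  (mem_set_normalizer_iff.mp (mem_inf.mp hn).2 (e i)).mp ⟨i, hi, rfl⟩

theorem pre_of_isLift (H : LHyp t K π) (E : ELoc ε s) (I : IsLift π ε s e f)
    (o1 : ∀ φ : MulAut L, (∀ i < 16, ∃ j < 16, φ (ε i) = ε j) → φ ∈ (MulAut.conj : L →* MulAut L).range) :
    EPre t e f (NE K e) where
  tt := H.tt
  mul := I.mul
  inj := fun i hi h => lift_inj E I hi h
  tε := fun i hi => H.Kt _ (lift_mem I hi)
  εN := fun i hi => by
    refine mem_inf.mpr ⟨lift_mem I hi, mem_set_normalizer_iff.mpr ?_⟩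
    intro x
    have h1 : ∀ j < 16, e i * e j * (e i)⁻¹ = e j := by
      intro j hj
      rw [I.mul i hi j hj, Nat.xor_comm, ← I.mul j hj i hi]; group
    constructor
    · rintro ⟨j, hj, rfl⟩
      exact ⟨j, hj, h1 j hj⟩
    · rintro ⟨j, hj, h2⟩
      refine ⟨j, hj, ?_⟩
      rw [← h1 j hj] at h2
      simpa using h2
  sN := fun k hk => by
    refine mem_inf.mpr ⟨(I.fv k hk).1, mem_set_normalizer_iff.mpr ?_⟩
    intro x
    constructor
    · rintro ⟨j, hj, rfl⟩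
      refine ⟨gm k j, gm_lt k j, ?_⟩
      rw [I.act k hk j hj]; group
    · rintro ⟨j, hj, h2⟩
      obtain ⟨i, hi, rfl⟩ := gm_surj k hk j hj
      refine ⟨i, hi, ?_⟩
      have h3 : e (gm k i) = f k * e i * (f k)⁻¹ := by rw [I.act k hk i hi]; group
      rw [h3] at h2
      simpa using h2
  tN := fun h => H.tK (mem_inf.mp h).1
  Nt := fun n hn => H.Kt n (mem_inf.mp hn).1
  sε := I.act
  cen := fun x hx hxt hxe => H.lift_cen E I o1 x hx hxt hxe
  tE := fun i hi g h => H.nc (e i) (lift_mem I hi) (lift_sq I hi) (isConj_iff.mpr ⟨g, h⟩)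

/-- **Lift, part 1.** -/
theorem exists_pre [Finite G] (H : LHyp t K π) (E : ELoc ε s)
    (o1 : ∀ φ : MulAut L, (∀ i < 16, ∃ j < 16, φ (ε i) = ε j) → φ ∈ (MulAut.conj : L →* MulAut L).range) :
    ∃ e f : ℕ → G, IsLift π ε s e f ∧ EPre t e f (NE K e) := by
  obtain ⟨e, f, I⟩ := H.exists_isLift E
  exact ⟨e, f, I, H.pre_of_isLift E I o1⟩

/-- `C(t) ∩ N(E)` acts on `E` as the group generated by the five matrices. -/
theorem exists_word (H : LHyp t K π) (E : ELoc ε s) (I : IsLift π ε s e f)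
    (o1 : ∀ φ : MulAut L, (∀ i < 16, ∃ j < 16, φ (ε i) = ε j) → φ ∈ (MulAut.conj : L →* MulAut L).range)
    {c : G} (hct : c * t = t * c) (hc : ∀ i < 16, ∃ j < 16, c * e i * c⁻¹ = e j) :
    ∃ w : List ℕ, (∀ k ∈ w, k < 5) ∧ ∀ i < 16, c * e i * c⁻¹ = e (act w i) := by
  have hcc : c ∈ centralizer ({t} : Set G) := mem_cent.mpr hct
  have h1 : ∀ i < 16, ∃ j < 16, H.φ ⟨c, hcc⟩ (ε i) = ε j := fun i hi => by
    obtain ⟨j, hj, h2⟩ := hc i hi
    exact ⟨j, hj, H.φ_eps I hi hj ⟨c, hcc⟩ h2⟩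
  obtain ⟨l, hl⟩ := o1 _ h1
  obtain ⟨w, hw, hw'⟩ := E.aut l (fun i hi => by
    obtain ⟨j, hj, h2⟩ := h1 i hi
    rw [← hl, MulAut.conj_apply] at h2
    exact ⟨j, hj, h2⟩)
  refine ⟨w, hw, fun i hi => ?_⟩
  obtain ⟨j, hj, h2⟩ := hc i hi
  have h3 := H.φ_eps I hi hj ⟨c, hcc⟩ h2
  rw [← hl, MulAut.conj_apply, hw' i hi] at h3
  rw [h2, E.eq_of (act_lt w hi) hj h3]

end lift

end LHyp

end Cfsg.Agent.TypeM
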