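import Cfsg.Agent.TypeM.Two
import Cfsg.Agent.TypeM.CoverTools

/-!
# `2.A_8` as an involution centraliser in `C(x) / ⟨x⟩`, `x` of order three in a group of Lyons type
-/

set_option autoImplicit false

namespace Cfsg.Agent.TypeM.McLFromLy

open Subgroup Cfsg.Agent.TypeM.Two Equiv Cfsg.Agent.SporRec.TwoAn Cfsg.Agent.TypeM.CoverTools

variable {G : Type*} [Group G] [Finite G]

/-- an involution commuting with `x` and with a subgroup of order `2^7` of `C(x)` -/
theorem exists_involution {x : G} (h : 2 ^ 7 ∣ Nat.card (centralizer ({x} : Set G))) :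
    ∃ s : G, s * s = 1 ∧ s ≠ 1 ∧ s * x = x * s ∧
      2 ^ 7 ∣ Nat.card (centralizer ({x} : Set G) ⊓ centralizer ({s} : Set G) : Subgroup G) := by
  have : Fact (Nat.Prime 2) := ⟨Nat.prime_two⟩
  let P : Sylow 2 (centralizer ({x} : Set G)) := default
  have hP : 2 ^ 7 ∣ Nat.card P := P.pow_dvd_card_of_pow_dvd_card h
  have hPnt : Nontrivial P := by
    rw [← Finite.one_lt_card_iff_nontrivial]
    exact lt_of_lt_of_le (by norm_num) (Nat.le_of_dvd Nat.card_pos hP)
  have hZ := P.isPGroup'.center_nontrivial
  have hZ2 : 2 ∣ Nat.card (center P) := by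
    obtain ⟨k, hk⟩ := IsPGroup.iff_card.1 (P.isPGroup'.to_subgroup (center P))
    rw [hk]
    refine dvd_pow_self 2 ?_
    rintro rfl
    rw [pow_zero] at hk
    have := Finite.one_lt_card_iff_nontrivial.2 hZ
    omega
  obtain ⟨s, hs⟩ := exists_prime_orderOf_dvd_card' (G := center P) 2 hZ2
  have hs' : orderOf ((s : P) : centralizer ({x} : Set G)) = 2 :=
    (Subgroup.orderOf_coe _).trans ((Subgroup.orderOf_coe _).trans hs)
  have hs'' : orderOf (((s : P) : centralizer ({x} : Set G)) : G) = 2 := (Subgroup.orderOf_coe _).trans hs'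
  obtain ⟨h1, h2⟩ := MT.sq_of_orderOf hs''
  refine ⟨_, h1, h2, mem_centralizer_singleton_iff.1 ((s : P) : centralizer ({x} : Set G)).2, ?_⟩
  refine hP.trans ?_
  have hle : (P : Subgroup (centralizer ({x} : Set G))).map (centralizer ({x} : Set G)).subtype ≤
      centralizer ({x} : Set G) ⊓ centralizer ({(((s : P) : centralizer ({x} : Set G)) : G)} : Set G) := by
    rintro _ ⟨y, hy, rfl⟩
    refine ⟨y.2, ?_⟩
    show (y : G) ∈ centralizer ({(((s : P) : centralizer ({x} : Set G)) : G)} : Set G)
    rw [mem_centralizer_singleton_iff]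
    have h5 := mem_center_iff.1 s.2 ⟨y, hy⟩
    have h6 := congrArg (fun w : P => ((w : centralizer ({x} : Set G)) : G)) h5
    exact h6
  have h7 := card_dvd_of_le hle
  rwa [← Nat.card_congr ((P : Subgroup (centralizer ({x} : Set G))).equivMapOfInjective _
    (subtype_injective _)).toEquiv] at h7

variable {x t : G}

/-- the image of `t` in `C(x) / Z(C(x))` -/
def tb (htx : t * x = x * t) : centralizer ({x} : Set G) ⧸ center (centralizer ({x} : Set G)) :=
  QuotientGroup.mk ⟨t, mem_centralizer_singleton_iff.2 htx⟩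

omit [Finite G] in
theorem mem_center_iff_zpowers (hx : orderOf x = 3) (hZ : Nat.card (center (centralizer ({x} : Set G))) = 3)
    {y : centralizer ({x} : Set G)} : y ∈ center (centralizer ({x} : Set G)) ↔ (y : G) ∈ zpowers x := by
  have hfin : Finite (center (centralizer ({x} : Set G))) := Nat.finite_of_card_ne_zero (by rw [hZ]; norm_num)
  have h1 : (zpowers x).subgroupOf (centralizer ({x} : Set G)) ≤ center (centralizer ({x} : Set G)) := by
    intro z hz
    rw [mem_subgroupOf] at hz
    obtain ⟨i, hi⟩ := mem_zpowers_iff.1 hz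
    rw [mem_center_iff]
    intro g
    apply Subtype.ext
    show (g : G) * (z : G) = (z : G) * (g : G)
    rw [← hi]
    exact ((show Commute (g : G) x from mem_centralizer_singleton_iff.1 g.2).zpow_right i).eq
  have hle : zpowers x ≤ centralizer ({x} : Set G) := by
    rw [zpowers_le, mem_centralizer_singleton_iff]
  have h2 : Nat.card ((zpowers x).subgroupOf (centralizer ({x} : Set G))) = 3 := by
    rw [Nat.card_congr (subgroupOfEquivOfLe hle).toEquiv, Nat.card_zpowers, hx]
  have h3 : (zpowers x).subgroupOf (centralizer ({x} : Set G)) = center (centralizer ({x} : Set G)) :=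
    SetLike.coe_injective (Set.Finite.eq_of_subset_of_card_le (Set.toFinite _) h1 (by
      show Nat.card (center (centralizer ({x} : Set G))) ≤ Nat.card ((zpowers x).subgroupOf (centralizer ({x} : Set G)))
      rw [hZ, h2]))
  rw [← h3, mem_subgroupOf]

omit [Finite G] in
/-- an element whose image commutes with that of `t` commutes with `t` -/
theorem comm_of_mk (hx : orderOf x = 3) (hZ : Nat.card (center (centralizer ({x} : Set G))) = 3)
    (htx : t * x = x * t) (ht2 : t * t = 1) {y : centralizer ({x} : Set G)}
    (h : (QuotientGroup.mk y : centralizer ({x} : Set G) ⧸ center (centralizer ({x} : Set G))) * tb htx =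
      tb htx * QuotientGroup.mk y) : (y : G) * t = t * y := by
  set t' : centralizer ({x} : Set G) := ⟨t, mem_centralizer_singleton_iff.2 htx⟩ with ht'
  have h1 : (QuotientGroup.mk (y * t') : centralizer ({x} : Set G) ⧸ center (centralizer ({x} : Set G))) =
      QuotientGroup.mk (t' * y) := h
  rw [QuotientGroup.eq] at h1
  rw [mem_center_iff_zpowers hx hZ] at h1
  obtain ⟨i, hi⟩ := mem_zpowers_iff.1 h1
  have hi' : x ^ i = ((y : G) * t)⁻¹ * (t * y) := hi
  have hct : Commute t (x ^ i) := (show Commute t x from htx).zpow_right i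
  have hcy : Commute (y : G) (x ^ i) :=
    (show Commute (y : G) x from mem_centralizer_singleton_iff.1 y.2).zpow_right i
  have h2 : t * (y : G) = y * t * x ^ i := by rw [hi']; group
  have ht1 : t⁻¹ = t := inv_eq_of_mul_eq_one_left ht2
  -- `y = t (t y) = t y t x^i = y t x^i t x^i = y x^{2i}`
  have h3 : (y : G) = y * (x ^ i * x ^ i) := by
    calc (y : G) = t * (t * y) := by rw [← mul_assoc, ht2, one_mul]
      _ = t * (y * t * x ^ i) := by rw [h2]
      _ = (t * y) * (t * x ^ i) := by group
      _ = y * t * x ^ i * (t * x ^ i) := by rw [h2]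
      _ = y * t * (x ^ i * t) * x ^ i := by group
      _ = y * t * (t * x ^ i) * x ^ i := by rw [hct.eq]
      _ = y * (t * t) * (x ^ i * x ^ i) := by group
      _ = y * (x ^ i * x ^ i) := by rw [ht2, mul_one]
  have h4 : x ^ i * x ^ i = 1 := (mul_eq_left.1 h3.symm)
  have h5 : x ^ i = 1 := by
    have h6 : (x ^ i) ^ 3 = 1 := by
      rw [← zpow_natCast, ← zpow_mul, mul_comm, zpow_mul, zpow_natCast, ← hx, pow_orderOf_eq_one, one_zpow]
    rw [pow_succ, pow_two, h4, one_mul] at h6
    exact h6
  rw [h2, h5, mul_one]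

section main

omit [Finite G]

variable (K : Cover (Fin 11) (centralizer ({t} : Set G))) (hx : orderOf x = 3)
  (hZ : Nat.card (center (centralizer ({x} : Set G))) = 3) (htx : t * x = x * t) (ht2 : t * t = 1)

/-- `x` as an element of `C(t)` -/
def xc (htx : t * x = x * t) : centralizer ({t} : Set G) := ⟨x, mem_centralizer_singleton_iff.2 htx.symm⟩

theorem xc_cube (hx : orderOf x = 3) (htx : t * x = x * t) : (xc htx) ^ 3 = 1 := by
  apply Subtype.ext
  show x ^ 3 = 1
  rw [← hx, pow_orderOf_eq_one]

/-- the homomorphism from `2.A_8` -/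
def θ : K.sub (fun i => K.π (xc htx) i = i) →*
    centralizer ({tb htx} : Set (centralizer ({x} : Set G) ⧸ center (centralizer ({x} : Set G)))) where
  toFun d := ⟨QuotientGroup.mk ⟨((d : centralizer ({t} : Set G)) : G), by
      rw [mem_centralizer_singleton_iff]
      have hdis : (K.π (d : centralizer ({t} : Set G))).Disjoint (K.π (xc htx)) := by
        intro i
        by_cases hi : K.π (xc htx) i = i
        · exact Or.inr hi
        · exact Or.inl (d.2 i hi)
      exact congrArg Subtype.val (K.commute_of_disjoint hdis)⟩, by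
    rw [mem_centralizer_singleton_iff]
    unfold tb
    rw [← QuotientGroup.mk_mul, ← QuotientGroup.mk_mul]
    congr 1
    apply Subtype.ext
    exact mem_centralizer_singleton_iff.1 (d : centralizer ({t} : Set G)).2⟩
  map_one' := rfl
  map_mul' _ _ := rfl

include hx hZ ht2 in
theorem θ_bijective (hs : (K.π (xc htx)).support.card = 3) : Function.Bijective (θ K htx) := by
  constructor
  · rw [injective_iff_map_eq_one]
    intro d hd
    have h1 := congrArg Subtype.val hd
    have h2 : (QuotientGroup.mk ⟨((d : centralizer ({t} : Set G)) : G), _⟩ :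
      centralizer ({x} : Set G) ⧸ center (centralizer ({x} : Set G))) = 1 := h1
    rw [QuotientGroup.eq_one_iff, mem_center_iff_zpowers hx hZ] at h2
    obtain ⟨i, hi⟩ := mem_zpowers_iff.1 h2
    have hi' : (xc htx) ^ i = (d : centralizer ({t} : Set G)) := Subtype.ext hi
    apply Subtype.ext
    rw [← hi']
    exact pow_mem_sub K (xc_cube hx htx) hs (by rw [hi']; exact d.2)
  · rintro ⟨q, hq⟩
    obtain ⟨y, rfl⟩ := QuotientGroup.mk_surjective q
    have hyt := comm_of_mk hx hZ htx ht2 (mem_centralizer_singleton_iff.1 hq)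
    have hyx := mem_centralizer_singleton_iff.1 y.2
    obtain ⟨i, d, hd, hg⟩ := (cent_of_three K (xc_cube hx htx) hs
      ⟨(y : G), mem_centralizer_singleton_iff.2 hyt⟩).1 (Subtype.ext hyx)
    refine ⟨⟨d, hd⟩, ?_⟩
    apply Subtype.ext
    show (QuotientGroup.mk ⟨((d : centralizer ({t} : Set G)) : G), _⟩ :
      centralizer ({x} : Set G) ⧸ center (centralizer ({x} : Set G))) = QuotientGroup.mk y
    rw [QuotientGroup.eq, mem_center_iff_zpowers hx hZ]
    have h5 : (y : G) = x ^ i * d := congrArg Subtype.val hg
    show ((d : centralizer ({t} : Set G)) : G)⁻¹ * (y : G) ∈ zpowers x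
    have h6 : x ^ i * ((d : centralizer ({t} : Set G)) : G) = d * x ^ i := by
      -- `d` commutes with `x`
      have hdis : (K.π d).Disjoint (K.π (xc htx)) := by
        intro j
        by_cases hj : K.π (xc htx) j = j
        · exact Or.inr hj
        · exact Or.inl (hd j hj)
      have h7 : Commute ((d : centralizer ({t} : Set G)) : G) x := congrArg Subtype.val (K.commute_of_disjoint hdis)
      exact (h7.pow_right i).eq.symm
    rw [h5, h6, inv_mul_cancel_left]
    exact ⟨i, by simp⟩

include hx hZ ht2 in
/-- the cover of `A_8` -/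
theorem exists_cover (hKz : (K.z : G) = t) (hs : (K.π (xc htx)).support.card = 3) :
    ∃ K' : Cover (Fin 8) (centralizer ({tb htx} :
      Set (centralizer ({x} : Set G) ⧸ center (centralizer ({x} : Set G))))),
      (K'.z : centralizer ({x} : Set G) ⧸ center (centralizer ({x} : Set G))) = tb htx := by
  classical
  let p : Fin 11 → Prop := fun i => K.π (xc htx) i = i
  have hcard : Fintype.card (Subtype p) = 8 := by
    rw [Fintype.card_subtype]
    have h1 : (Finset.univ.filter p) = (K.π (xc htx)).supportᶜ := by
      ext i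
      simp [p]
    rw [h1, Finset.card_compl, hs, Fintype.card_fin]
  let e1 : Subtype p ≃ Fin 8 := Fintype.equivFinOfCardEq hcard
  let K1 : Cover (Subtype p) (K.sub p) := K.restrict p
  let K2 : Cover (Fin 8) (K.sub p) := K1.congr e1
  refine ⟨K2.map (MulEquiv.ofBijective (θ K htx) (θ_bijective K hx hZ htx ht2 hs)), ?_⟩
  show ((θ K htx (K.restrict p).z :
    centralizer ({tb htx} : Set (centralizer ({x} : Set G) ⧸ center (centralizer ({x} : Set G))))) :
      centralizer ({x} : Set G) ⧸ center (centralizer ({x} : Set G))) = tb htx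
  unfold tb
  show (QuotientGroup.mk ⟨(((K.restrict p).z : centralizer ({t} : Set G)) : G), _⟩ :
      centralizer ({x} : Set G) ⧸ center (centralizer ({x} : Set G))) = _
  congr 1
  apply Subtype.ext
  exact hKz

end main

/-- **The centraliser `2.A_8`** of an involution of `C(x) / Z(C(x))`. -/
theorem exists_two_eight (L : MT 11 G) {x : G} (hx : orderOf x = 3)
    (hcard : Nat.card (centralizer ({x} : Set G)) = 2694384000)
    (hZ : Nat.card (center (centralizer ({x} : Set G))) = 3) :
    ∃ (s : centralizer ({x} : Set G) ⧸ center (centralizer ({x} : Set G)))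
      (K : Cover (Fin 8) (centralizer ({s} : Set (centralizer ({x} : Set G) ⧸ center (centralizer ({x} : Set G)))))),
      (K.z : centralizer ({x} : Set G) ⧸ center (centralizer ({x} : Set G))) = s := by
  obtain ⟨s, h1, h2, h3, h4⟩ := exists_involution (x := x) (by rw [hcard]; norm_num)
  obtain ⟨L', rfl⟩ := L.exists_rebase h1 h2
  refine ⟨tb h3, exists_cover L'.K hx hZ h3 h1 L'.hz ?_⟩
  refine card_support_of_three L'.K (xc_cube hx h3) (fun e => ?_) ?_
  · have : x = 1 := congrArg Subtype.val e
    rw [this, orderOf_one] at hx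
    omega
  · refine h4.trans ?_
    have hle : (centralizer ({x} : Set G) ⊓ centralizer ({L'.t} : Set G)).subgroupOf (centralizer ({L'.t} : Set G)) ≤
        centralizer ({xc h3} : Set (centralizer ({L'.t} : Set G))) := by
      intro y hy
      rw [mem_subgroupOf] at hy
      rw [mem_centralizer_singleton_iff]
      exact Subtype.ext (mem_centralizer_singleton_iff.1 hy.1)
    have h5 := card_dvd_of_le hle
    rwa [Nat.card_congr (subgroupOfEquivOfLe (inf_le_right :
      centralizer ({x} : Set G) ⊓ centralizer ({L'.t} : Set G) ≤ centralizer ({L'.t} : Set G))).toEquiv] at h5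

end Cfsg.Agent.TypeM.McLFromLy
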