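import Cfsg.Agent.TypeM.SLift
import Cfsg.Agent.TypeM.GlueW

/-!
# The odd part of `C(⟨t⟩E)`; elements of `K ∩ N(E)` preserve the frame modulo it

(piece [WA] of Theorem W, S1739)
-/

set_option autoImplicit false

namespace Cfsg.Agent.TypeM.OddF

open Subgroup

section

variable {G : Type*} [Group G]

theorem isPGroup_of_sq' {Q : Subgroup G} (sq : ∀ x ∈ Q, x * x = 1) : IsPGroup 2 Q := by
  intro x
  refine ⟨1, ?_⟩
  rw [pow_one, pow_two]
  exact Subtype.ext (sq x x.2)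

/-- The elements of odd order of a group with a central elementary abelian subgroup containing all 2-elements. -/
theorem exists_oddPart [Finite G] (C Z : Subgroup G) (hZC : Z ≤ C) (hc : ∀ z ∈ Z, ∀ c ∈ C, z * c = c * z)
    (hsq : ∀ z ∈ Z, z * z = 1) (h2 : ∀ x ∈ C, TwoElt x → x ∈ Z) :
    ∃ O : Subgroup G, (∀ x, x ∈ O ↔ x ∈ C ∧ Odd (orderOf x)) ∧ ∀ x ∈ C, ∃ z ∈ Z, ∃ o ∈ O, x = z * o := by
  set Z' : Subgroup C := Z.subgroupOf C with hZ'
  set m : ℕ := Z'.index with hm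
  have hodd : Odd m := by
    rw [← Nat.not_even_iff_odd, even_iff_two_dvd]
    refine odd_index Z' ?_
    rintro x ⟨n, hn⟩
    rw [hZ', Subgroup.mem_subgroupOf]
    exact h2 x x.2 ⟨n, by simpa using congrArg Subtype.val hn⟩
  have hpow : ∀ x ∈ C, ∀ y ∈ C, (x * y) ^ m = x ^ m * y ^ m := by
    intro x hx y hy
    have h1 := mul_pow_index Z' (by
      intro x hx
      rw [Subgroup.mem_center_iff]
      intro y
      apply Subtype.ext
      rw [hZ', Subgroup.mem_subgroupOf] at hx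
      exact (hc x hx y y.2).symm) ⟨x, hx⟩ ⟨y, hy⟩
    exact congrArg Subtype.val h1
  obtain ⟨k, hk⟩ := IsPGroup.iff_card.mp (isPGroup_of_sq' hsq)
  have hmem : ∀ x ∈ C, x ^ m ∈ Z := by
    intro x hx
    refine h2 _ (C.pow_mem hx _) ⟨k, ?_⟩
    have h1 : Nat.card Z' * Z'.index = Nat.card C := Subgroup.card_mul_index _
    have h3 : Nat.card Z' = 2 ^ k := by
      rw [Nat.card_congr (Subgroup.subgroupOfEquivOfLe hZC).toEquiv, hk]
    rw [← pow_mul, hm, mul_comm, ← h3, h1]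
    exact congrArg Subtype.val (pow_card_eq_one' (x := (⟨x, hx⟩ : C)))
  have hZm : ∀ z ∈ Z, z ^ m = z := by
    intro z hz
    obtain ⟨q, hq⟩ := hodd
    rw [hq, pow_succ, pow_mul, pow_two, hsq z hz, one_pow, one_mul]
  have hiff : ∀ x ∈ C, (x ^ m = 1 ↔ Odd (orderOf x)) := by
    intro x hx
    constructor
    · intro h
      exact Odd.of_dvd_nat hodd (orderOf_dvd_of_pow_eq_one h)
    · intro h
      have h3 : Odd (orderOf (x ^ m)) := Odd.of_dvd_nat h (orderOf_pow_dvd m)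
      exact OddConj.eq_one_of_two (isPGroup_of_sq' hsq) (hmem x hx) h3
  refine ⟨{ carrier := {x | x ∈ C ∧ x ^ m = 1}
            one_mem' := ⟨one_mem _, one_pow _⟩
            mul_mem' := by
              rintro x y ⟨hx, hx'⟩ ⟨hy, hy'⟩
              exact ⟨mul_mem hx hy, by rw [hpow x hx y hy, hx', hy', one_mul]⟩
            inv_mem' := by
              rintro x ⟨hx, hx'⟩
              exact ⟨inv_mem hx, by rw [inv_pow, hx', inv_one]⟩ }, ?_, ?_⟩
  · intro x
    constructor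
    · rintro ⟨h1, h3⟩
      exact ⟨h1, (hiff x h1).1 h3⟩
    · rintro ⟨h1, h3⟩
      exact ⟨h1, (hiff x h1).2 h3⟩
  · intro x hx
    refine ⟨x ^ m, hmem x hx, (x ^ m)⁻¹ * x, ⟨mul_mem (inv_mem (hZC (hmem x hx))) hx, ?_⟩, by group⟩
    rw [hpow _ (inv_mem (hZC (hmem x hx))) x hx, inv_pow, hZm _ (hmem x hx), inv_mul_cancel]

/-- `O` is the odd part of `C(⟨t⟩E)` -/
structure IsO (t : G) (e : ℕ → G) (O : Subgroup G) : Prop where
  mem : ∀ x, x ∈ O ↔ Odd (orderOf x) ∧ x * t = t * x ∧ ∀ i < 16, x * e i = e i * x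
  dec : ∀ x, x * t = t * x → (∀ i < 16, x * e i = e i * x) → ∃ i < 16, ∃ o ∈ O, x = e i * o ∨ x = t * e i * o

variable {t : G} {e μ s : ℕ → G}

/-- the group `⟨t⟩E` -/
def FF (H : QConf t e μ s) : Subgroup G where
  carrier := {x | ∃ i < 16, x = e i ∨ x = t * e i}
  one_mem' := ⟨0, by norm_num, Or.inl (WThree.eps_zero H).symm⟩
  mul_mem' := by
    rintro _ _ ⟨i, hi, rfl | rfl⟩ ⟨j, hj, rfl | rfl⟩
    · exact ⟨_, xor_lt hi hj, Or.inl (H.εmul i hi j hj)⟩
    · exact ⟨_, xor_lt hi hj, Or.inr (by rw [← H.εmul i hi j hj, ← mul_assoc, ← mul_assoc, H.tε i hi])⟩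
    · exact ⟨_, xor_lt hi hj, Or.inr (by rw [← H.εmul i hi j hj, mul_assoc])⟩
    · refine ⟨_, xor_lt hi hj, Or.inl ?_⟩
      rw [← H.εmul i hi j hj]
      calc t * e i * (t * e j) = (t * e i) * t * e j := by group
        _ = (e i * t) * t * e j := by rw [H.tε i hi]
        _ = e i * (t * t) * e j := by group
        _ = e i * e j := by rw [H.tt, mul_one]
  inv_mem' := by
    have h1 : ∀ i < 16, (e i)⁻¹ = e i := fun i hi => inv_eq_of_mul_eq_one_left (WThree.eps_sq H hi)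
    have h2 : t⁻¹ = t := inv_eq_of_mul_eq_one_left H.tt
    rintro _ ⟨i, hi, rfl | rfl⟩
    · exact ⟨i, hi, Or.inl (h1 i hi)⟩
    · exact ⟨i, hi, Or.inr (by rw [mul_inv_rev, h1 i hi, h2, H.tε i hi])⟩

theorem mem_FF {H : QConf t e μ s} {x : G} : x ∈ FF H ↔ ∃ i < 16, x = e i ∨ x = t * e i := Iff.rfl

theorem FF_sq (H : QConf t e μ s) : ∀ x ∈ FF H, x * x = 1 := by
  rintro _ ⟨i, hi, rfl | rfl⟩
  · exact WThree.eps_sq H hi
  · calc t * e i * (t * e i) = (t * e i) * t * e i := by group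
      _ = (e i * t) * t * e i := by rw [H.tε i hi]
      _ = e i * (t * t) * e i := by group
      _ = 1 := by rw [H.tt, mul_one, WThree.eps_sq H hi]

/-- existence of the odd part -/
theorem exists_oddF [Finite G] (H : QConf t e μ s) : ∃ O : Subgroup G, IsO t e O := by
  have he : ∀ i < 16, ∀ j < 16, e i * e j = e j * e i := fun i hi j hj => by
    rw [H.εmul i hi j hj, H.εmul j hj i hi, Nat.xor_comm]
  let C : Subgroup G := centralizer {x | x = t ∨ ∃ i < 16, x = e i}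
  have hC : ∀ x, x ∈ C ↔ x * t = t * x ∧ ∀ i < 16, x * e i = e i * x := by
    intro x
    rw [Subgroup.mem_centralizer_iff]
    constructor
    · intro h
      exact ⟨(h t (Or.inl rfl)).symm, fun i hi => (h _ (Or.inr ⟨i, hi, rfl⟩)).symm⟩
    · rintro ⟨h1, h2⟩ y (rfl | ⟨i, hi, rfl⟩)
      · exact h1.symm
      · exact (h2 i hi).symm
  obtain ⟨O, hO1, hO2⟩ := exists_oddPart C (FF H) (by
      rintro _ ⟨i, hi, rfl | rfl⟩
      · exact (hC _).2 ⟨(H.tε i hi).symm, fun j hj => he i hi j hj⟩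
      · refine (hC _).2 ⟨?_, fun j hj => ?_⟩
        · rw [mul_assoc, ← H.tε i hi]
        · rw [mul_assoc, he i hi j hj, ← mul_assoc, H.tε j hj, mul_assoc]) (by
      rintro _ ⟨i, hi, rfl | rfl⟩ c hc
      · exact (((hC c).1 hc).2 i hi).symm
      · obtain ⟨h1, h2⟩ := (hC c).1 hc
        rw [mul_assoc, ← h2 i hi, ← mul_assoc, ← h1, mul_assoc]) (FF_sq H) (by
      intro x hx h2
      obtain ⟨h3, h4⟩ := (hC x).1 hx
      exact H.cenF x h2 h3.symm h4)
  refine ⟨O, ⟨fun x => ?_, fun x h1 h2 => ?_⟩⟩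
  · rw [hO1, hC]
    tauto
  · obtain ⟨z, ⟨i, hi, hz⟩, o, ho, hx⟩ := hO2 x ((hC x).2 ⟨h1, h2⟩)
    refine ⟨i, hi, o, ho, ?_⟩
    rcases hz with rfl | rfl
    · exact Or.inl hx
    · exact Or.inr hx

namespace IsO

variable {O : Subgroup G}

theorem odd (h : IsO t e O) : ∀ x ∈ O, Odd (orderOf x) := fun x hx => ((h.mem x).1 hx).1

theorem ct (h : IsO t e O) {x : G} (hx : x ∈ O) : x * t = t * x := ((h.mem x).1 hx).2.1

theorem ce (h : IsO t e O) {x : G} (hx : x ∈ O) {i : ℕ} (hi : i < 16) : x * e i = e i * x := ((h.mem x).1 hx).2.2 i hi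

/-- `O` is normalised by everything that normalises `⟨t⟩E` -/
theorem norm [Finite G] (h : IsO t e O) (H : QConf t e μ s) {g : G} (hF : ∀ i < 16, ∃ j < 16, g * e i * g⁻¹ = e j)
    (ht : ∃ j < 16, g * t * g⁻¹ = t * e j) : (∀ o ∈ O, g * o * g⁻¹ ∈ O) ∧ ∀ o ∈ O, g⁻¹ * o * g ∈ O := by
  have h1 : g ∈ normalizer (FF H : Set G) := by
    apply WThreeAbs.mem_norm
    rintro _ ⟨i, hi, rfl | rfl⟩
    · obtain ⟨j, hj, h2⟩ := hF i hi
      exact ⟨j, hj, Or.inl h2⟩
    · obtain ⟨j, hj, h2⟩ := hF i hi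
      obtain ⟨k, hk, h3⟩ := ht
      refine ⟨k ^^^ j, xor_lt hk hj, Or.inr ?_⟩
      rw [← H.εmul k hk j hj, ← h2]
      calc g * (t * e i) * g⁻¹ = (g * t * g⁻¹) * (g * e i * g⁻¹) := by group
        _ = _ := by rw [h3, mul_assoc]
  have key : ∀ g ∈ normalizer (FF H : Set G), ∀ o ∈ O, g * o * g⁻¹ ∈ O := by
    intro g hg o ho
    have h2 : ∀ y ∈ FF H, o * y = y * o := by
      rintro _ ⟨i, hi, rfl | rfl⟩
      · exact h.ce ho hi
      · rw [← mul_assoc, h.ct ho, mul_assoc, h.ce ho hi, mul_assoc]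
    have h3 : ∀ y ∈ FF H, g * o * g⁻¹ * y = y * (g * o * g⁻¹) := by
      intro y hy
      have h4 : g⁻¹ * y * g ∈ FF H := by
        have := (Subgroup.mem_normalizer_iff.1 (inv_mem hg) y).1 hy
        rwa [inv_inv] at this
      calc g * o * g⁻¹ * y = g * (o * (g⁻¹ * y * g)) * g⁻¹ := by group
        _ = g * ((g⁻¹ * y * g) * o) * g⁻¹ := by rw [h2 _ h4]
        _ = _ := by group
    rw [h.mem]
    refine ⟨?_, h3 t ⟨0, by norm_num, Or.inr (by rw [WThree.eps_zero H, mul_one])⟩, fun i hi => h3 _ ⟨i, hi, Or.inl rfl⟩⟩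
    have h4 : orderOf (g * o * g⁻¹) = orderOf o := by
      rw [← MulAut.conj_apply]
      exact orderOf_injective (MulAut.conj g).toMonoidHom (MulAut.conj g).injective o
    rw [h4]
    exact h.odd o ho
  refine ⟨key g h1, fun o ho => ?_⟩
  have := key g⁻¹ (inv_mem h1) o ho
  rwa [inv_inv] at this

theorem norm_mu [Finite G] (h : IsO t e O) (H : QConf t e μ s) {i : ℕ} (hi : i < 16) :
    (∀ o ∈ O, μ i * o * (μ i)⁻¹ ∈ O) ∧ ∀ o ∈ O, (μ i)⁻¹ * o * μ i ∈ O := by
  refine h.norm H (fun j hj => ⟨j, hj, ?_⟩) ⟨i, hi, ?_⟩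
  · rw [← H.εμ j hj i hi, mul_inv_cancel_right]
  · have h1 := H.tμ i hi
    have h2 : (μ i)⁻¹ = μ i := inv_eq_of_mul_eq_one_left (WThree.mu_sq H hi)
    have h3 : μ i * t = t * (μ i * e i) := by
      calc μ i * t = t * t * μ i * t := by rw [H.tt, one_mul]
        _ = t * (t * μ i) * t := by group
        _ = t * (μ i * e i) * (t * t) := by rw [h1]; group
        _ = _ := by rw [H.tt, mul_one]
    rw [h3, ← H.εμ i hi i hi, h2]
    calc t * (e i * μ i) * μ i = t * e i * (μ i * μ i) := by group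
      _ = _ := by rw [WThree.mu_sq H hi, mul_one]

theorem norm_e [Finite G] (h : IsO t e O) {i : ℕ} (hi : i < 16) :
    (∀ o ∈ O, e i * o * (e i)⁻¹ ∈ O) ∧ ∀ o ∈ O, (e i)⁻¹ * o * e i ∈ O := by
  constructor
  · intro o ho
    rw [← h.ce ho hi, mul_inv_cancel_right]; exact ho
  · intro o ho
    rw [mul_assoc, h.ce ho hi, inv_mul_cancel_left]; exact ho

theorem norm_O {x : G} (hx : x ∈ O) : (∀ o ∈ O, x * o * x⁻¹ ∈ O) ∧ ∀ o ∈ O, x⁻¹ * o * x ∈ O :=
  ⟨fun _ ho => mul_mem (mul_mem hx ho) (inv_mem hx), fun _ ho => mul_mem (mul_mem (inv_mem hx) ho) hx⟩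

end IsO

/-- congruence modulo `O` -/
def Cong (O : Subgroup G) (x y : G) : Prop := x⁻¹ * y ∈ O

theorem Cong.refl {O : Subgroup G} (x : G) : Cong O x x := by rw [Cong, inv_mul_cancel]; exact one_mem _

theorem Cong.symm {O : Subgroup G} {x y : G} (h : Cong O x y) : Cong O y x := by
  have := inv_mem h
  rwa [mul_inv_rev, inv_inv] at this

theorem Cong.trans {O : Subgroup G} {x y z : G} (h : Cong O x y) (h' : Cong O y z) : Cong O x z := by
  have := mul_mem h h'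
  have e : x⁻¹ * y * (y⁻¹ * z) = x⁻¹ * z := by group
  rwa [e] at this

/-- conjugation by an element normalising `O` -/
theorem Cong.conj {O : Subgroup G} {x y g : G} (hg : ∀ o ∈ O, g * o * g⁻¹ ∈ O) (h : Cong O x y) :
    Cong O (g * x * g⁻¹) (g * y * g⁻¹) := by
  have := hg _ h
  have e : g * (x⁻¹ * y) * g⁻¹ = (g * x * g⁻¹)⁻¹ * (g * y * g⁻¹) := by group
  rwa [e] at this

/-- conjugation by an element of `O` -/
theorem Cong.of_mem {O : Subgroup G} {x o : G} (hx : ∀ o ∈ O, x⁻¹ * o * x ∈ O) (ho : o ∈ O) : Cong O x (o * x * o⁻¹) := by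
  have := mul_mem (hx o ho) (inv_mem ho)
  have e : x⁻¹ * o * x * o⁻¹ = x⁻¹ * (o * x * o⁻¹) := by group
  rwa [e] at this

theorem Cong.mul {O : Subgroup G} {x y x' y' : G} (hx : ∀ o ∈ O, x'⁻¹ * o * x' ∈ O) (h : Cong O x y) (h' : Cong O x' y') :
    Cong O (x * x') (y * y') := by
  have := mul_mem (hx _ h) h'
  have e : x'⁻¹ * (x⁻¹ * y) * x' * (x'⁻¹ * y') = (x * x')⁻¹ * (y * y') := by group
  rwa [e] at this

/-! ### elements of `K ∩ N(E)` -/

/-- Elements of `K` acting on `E` by a word act on `{μ i}` in the same way, modulo `O`. -/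
def KM (K : Subgroup G) (e μ : ℕ → G) (O : Subgroup G) : Prop :=
  ∀ y ∈ K, ∀ w : List ℕ, (∀ k ∈ w, k < 5) → (∀ i < 16, y * e i * y⁻¹ = e (act w i)) →
    ∀ i < 16, Cong O (μ (act w i)) (y * μ i * y⁻¹)

theorem km [Finite G] {K O : Subgroup G} (hKt : ∀ k ∈ K, k * t = t * k) (htK : t ∉ K) (H : QConf t e μ s)
    (hO : IsO t e O) {f : ℕ → G} (heK : ∀ i < 16, e i ∈ K) (hfK : ∀ k < 5, f k ∈ K)
    (hfe : ∀ k < 5, ∀ i < 16, f k * e i = e (gm k i) * f k)
    (hs : ∀ k < 5, ∃ o : G, (∃ r : ℕ, Odd r ∧ o ^ r = 1) ∧ o * t = t * o ∧ (∀ i < 16, o * e i = e i * o) ∧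
      s k = o * f k) : KM K e μ O := by
  -- words
  have hW : ∀ w : List ℕ, (∀ k ∈ w, k < 5) → (w.map f).prod ∈ K ∧
      (∀ i < 16, (w.map f).prod * e i * (w.map f).prod⁻¹ = e (act w i)) ∧
      (∀ i < 16, (w.map s).prod * μ i * (w.map s).prod⁻¹ = μ (act w i)) ∧
      (w.map s).prod * (w.map f).prod⁻¹ ∈ O := by
    intro w
    induction w with
    | nil =>
      intro _
      simp only [List.map_nil, List.prod_nil]
      refine ⟨one_mem _, fun i _ => by simp [act_nil], fun i _ => by simp [act_nil], by simp⟩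
    | cons k w ih =>
      intro hw
      obtain ⟨h1, h2, h3, h4⟩ := ih fun j hj => hw j (List.mem_cons_of_mem _ hj)
      have hk : k < 5 := hw k List.mem_cons_self
      simp only [List.map_cons, List.prod_cons]
      refine ⟨mul_mem (hfK k hk) h1, fun i hi => ?_, fun i hi => ?_, ?_⟩
      · rw [act_cons]
        have h5 := hfe k hk _ (act_lt w hi)
        rw [← h2 i hi] at h5
        calc f k * (w.map f).prod * e i * (f k * (w.map f).prod)⁻¹
            = f k * ((w.map f).prod * e i * (w.map f).prod⁻¹) * (f k)⁻¹ := by group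
          _ = _ := by rw [h2 i hi, hfe k hk _ (act_lt w hi), mul_inv_cancel_right]
      · rw [act_cons]
        calc s k * (w.map s).prod * μ i * (s k * (w.map s).prod)⁻¹
            = s k * ((w.map s).prod * μ i * (w.map s).prod⁻¹) * (s k)⁻¹ := by group
          _ = _ := by rw [h3 i hi, H.sμ k hk _ (act_lt w hi), mul_inv_cancel_right]
      · obtain ⟨o, ⟨r, hr, hor⟩, h5, h6, h7⟩ := hs k hk
        have ho : o ∈ O := (hO.mem o).2 ⟨Odd.of_dvd_nat hr (orderOf_dvd_of_pow_eq_one hor), h5, h6⟩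
        rw [h7]
        have h8 := (hO.norm H (g := f k) (fun i hi => ⟨_, gm_lt k i, by rw [hfe k hk i hi, mul_inv_cancel_right]⟩)
          ⟨0, by norm_num, by rw [hKt _ (hfK k hk), mul_inv_cancel_right, WThree.eps_zero H, mul_one]⟩).1 _ h4
        have h9 : o * f k * (w.map s).prod * (f k * (w.map f).prod)⁻¹ =
            o * (f k * ((w.map s).prod * (w.map f).prod⁻¹) * (f k)⁻¹) := by group
        rw [h9]
        exact mul_mem ho h8
  intro y hy w hw hye i hi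
  obtain ⟨h1, h2, h3, h4⟩ := hW w hw
  set F := (w.map f).prod
  set W := (w.map s).prod
  -- `F⁻¹ y` centralises `⟨t⟩E`
  have h5 : F⁻¹ * y ∈ K := mul_mem (inv_mem h1) hy
  have h6 : ∀ i < 16, F⁻¹ * y * e i = e i * (F⁻¹ * y) := by
    intro i hi
    have h7 : y * e i * y⁻¹ = F * e i * F⁻¹ := by rw [hye i hi, h2 i hi]
    calc F⁻¹ * y * e i = F⁻¹ * (y * e i * y⁻¹) * y := by group
      _ = e i * (F⁻¹ * y) := by rw [h7]; group
  obtain ⟨j, hj, o, ho, h7⟩ := hO.dec _ (hKt _ h5) h6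
  have h8 : F⁻¹ * y = e j * o := by
    rcases h7 with h7 | h7
    · exact h7
    · exfalso
      -- `(t e_j o) ^ m = t e_j`
      obtain ⟨q, hq⟩ := hO.odd o ho
      have hte : (t * e j) * (t * e j) = 1 := FF_sq H _ ⟨j, hj, Or.inr rfl⟩
      have hco : Commute (t * e j) o := by
        show t * e j * o = o * (t * e j)
        rw [mul_assoc, ← hO.ce ho hj, ← mul_assoc, ← hO.ct ho, mul_assoc]
      have h9 : (F⁻¹ * y) ^ orderOf o = t * e j := by
        rw [h7, hco.mul_pow, pow_orderOf_eq_one, mul_one, hq, pow_succ, pow_mul, pow_two, hte, one_pow, one_mul]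
      apply htK
      have h10 : t = (F⁻¹ * y) ^ orderOf o * (e j)⁻¹ := by rw [h9]; group
      rw [h10]
      exact mul_mem (K.pow_mem h5 _) (inv_mem (heK j hj))
  have h9 : y = F * (e j * o) := by rw [← h8]; group
  -- conjugation, step by step
  have n1 := hO.norm_mu H hi
  have n2 := hO.norm_mu H (act_lt w hi)
  have c1 : Cong O (μ i) (o * μ i * o⁻¹) := Cong.of_mem n1.2 ho
  have c2 : Cong O (μ i) (e j * (o * μ i * o⁻¹) * (e j)⁻¹) := by
    have := c1.conj (hO.norm_e hj).1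
    rwa [H.εμ j hj i hi, mul_inv_cancel_right] at this
  have hFn : (∀ o ∈ O, F * o * F⁻¹ ∈ O) := by
    refine (hO.norm H (fun i hi => ⟨_, act_lt w hi, h2 i hi⟩) ⟨0, by norm_num, ?_⟩).1
    rw [hKt _ h1, mul_inv_cancel_right, WThree.eps_zero H, mul_one]
  have c3 := c2.conj hFn
  -- `F μ F⁻¹ ≡ W μ W⁻¹`
  have c4 : Cong O (μ (act w i)) (F * μ i * F⁻¹) := by
    have h10 : F * μ i * F⁻¹ = (W * F⁻¹)⁻¹ * μ (act w i) * (W * F⁻¹)⁻¹⁻¹ := by
      rw [← h3 i hi]; group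
    rw [h10]
    exact Cong.of_mem n2.2 (inv_mem h4)
  have h11 : F * (e j * (o * μ i * o⁻¹) * (e j)⁻¹) * F⁻¹ = y * μ i * y⁻¹ := by
    rw [h9]; group
  rw [h11] at c3
  exact c4.trans c3

end

end Cfsg.Agent.TypeM.OddF
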