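import Cfsg.Agent.TypeM.LAll

/-!
# An outer automorphism of order 2 of `McL`

If a group of type `MT 8` has an outer automorphism then it has one of order 2 which fixes `t` and induces the
transposition `(0 1)` on `C(t)/t = A₈`.
-/

set_option autoImplicit false
set_option maxRecDepth 100000

namespace Cfsg.Agent.TypeM.OutInvMcL

open Subgroup Equiv Cfsg.Agent.SporRec.TwoAn Cfsg.Agent.TypeM.Two Cfsg.Agent.TypeM.OuterMcL

variable {M : Type*} [Group M] (L : MT 8 M)

/-- three-cycles -/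
def pa : Perm (Fin 8) := swap 2 3 * swap 3 4
def pb : Perm (Fin 8) := swap 3 4 * swap 4 5

theorem pa_mem : pa ∈ alternatingGroup (Fin 8) := by
  rw [Perm.mem_alternatingGroup]; decide +kernel
theorem pb_mem : pb ∈ alternatingGroup (Fin 8) := by
  rw [Perm.mem_alternatingGroup]; decide +kernel
theorem pa_comm : swap (0 : Fin 8) 1 * pa * (swap (0 : Fin 8) 1)⁻¹ = pa := by decide +kernel
theorem pb_comm : swap (0 : Fin 8) 1 * pb * (swap (0 : Fin 8) 1)⁻¹ = pb := by decide +kernel
theorem pab : pa * pb * pa⁻¹ * pb⁻¹ = swap 2 5 * swap 3 4 := by decide +kernel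

/-- An automorphism which commutes with an automorphism modulo inner ones. -/
theorem comp_conj (φ : MulAut M) (x : M) : φ * MulAut.conj x = MulAut.conj (φ x) * φ := by
  ext w
  simp only [MulAut.mul_apply, MulAut.conj_apply, map_mul, map_inv]

include L in
/-- **(G2)** -/
theorem exists_outer (hE : ExPerm L) (hI : EvenInner L) {φ : MulAut M}
    (hφ : φ ∉ (MulAut.conj : M →* MulAut M).range) :
    ∃ ψ : MulAut M, ψ ∉ (MulAut.conj : M →* MulAut M).range ∧ ψ * ψ = 1 ∧ ψ L.t = L.t := by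
  -- step 1: `ψ` fixes `t` and induces `(0 1)`
  obtain ⟨g, hg⟩ := L.conj_of_involutions (r := φ L.t) (s := L.t) (by rw [← map_mul, L.t_mul_t, map_one])
    (fun h => L.t_ne (by rwa [EmbeddingLike.map_eq_one_iff] at h)) L.t_mul_t L.t_ne
  have h1 : (MulAut.conj g * φ) L.t = L.t := by rw [MulAut.mul_apply, MulAut.conj_apply, hg]
  obtain ⟨σ, hσ⟩ := hE _ h1
  have hs : Perm.sign σ = -1 := by
    rcases Int.units_eq_one_or (Perm.sign σ) with h | h
    · exact absurd (mem_range_of_conj (hI _ σ h1 hσ h)) hφ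
    · exact h
  obtain ⟨c, hc⟩ := L.K.exists_lift (σ := swap 0 1 * σ⁻¹) (by
    rw [Perm.mem_alternatingGroup, Perm.sign_mul, Perm.sign_inv, hs, Perm.sign_swap (by decide)]; rfl)
  have hcc : Compat L (MulAut.conj (c : M)) (L.K.π c) := by
    intro x y hy
    have : y = c * x * c⁻¹ := Subtype.ext (by rw [hy]; rfl)
    rw [this, map_mul, map_mul, map_inv]
  obtain ⟨ψ, hψ⟩ : ∃ ψ : MulAut M, ψ = MulAut.conj (c : M) * (MulAut.conj g * φ) := ⟨_, rfl⟩
  have hψt : ψ L.t = L.t := by
    rw [hψ, MulAut.mul_apply, h1, MulAut.conj_apply, mem_centralizer_singleton_iff.1 c.2, mul_inv_cancel_right]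
  have hψc : Compat L ψ (swap 0 1) := by
    rw [hψ]
    have := hcc.mul hσ h1
    rwa [hc, mul_assoc, inv_mul_cancel, mul_one] at this
  have hψo : ψ ∉ (MulAut.conj : M →* MulAut M).range := by
    intro h
    rw [hψ] at h
    exact hφ (mem_range_of_conj (mem_range_of_conj h))
  -- step 2: `ψ² = 1` or conjugation by `t`
  have hψψ : Compat L (ψ * ψ) 1 := by
    have := hψc.mul hψc hψt
    rwa [swap_mul_self] at this
  obtain ⟨w, hw⟩ := hI (ψ * ψ) 1 (by rw [MulAut.mul_apply, hψt, hψt]) hψψ (by simp)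
  have hwt : w ∈ centralizer ({L.t} : Set M) := by
    rw [mem_centralizer_singleton_iff]
    have h2 := DFunLike.congr_fun hw L.t
    rw [MulAut.conj_apply, MulAut.mul_apply, hψt, hψt] at h2
    exact mul_inv_eq_iff_eq_mul.1 h2
  have hw1 : L.K.π ⟨w, hwt⟩ = 1 := by
    have hc : (⟨L.K.π ⟨w, hwt⟩, L.K.mem_alternating _⟩ : alternatingGroup (Fin 8)) ∈
        center (alternatingGroup (Fin 8)) := by
      rw [mem_center_iff]
      rintro ⟨τ, hτ⟩
      obtain ⟨x, rfl⟩ := L.K.exists_lift hτ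
      apply Subtype.ext
      have h3 : L.K.π (⟨w, hwt⟩ * x * ⟨w, hwt⟩⁻¹) = 1 * L.K.π x * 1⁻¹ := by
        apply hψψ
        have h4 := DFunLike.congr_fun hw (x : M)
        rw [MulAut.conj_apply] at h4
        exact h4
      rw [map_mul, map_mul, map_inv, one_mul, inv_one, mul_one, mul_inv_eq_iff_eq_mul] at h3
      exact h3.symm
    rw [alternatingGroup.center_eq_bot (by rw [Nat.card_eq_fintype_card, Fintype.card_fin]; norm_num), mem_bot] at hc
    exact congrArg Subtype.val hc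
  rcases (L.K.ker _).1 hw1 with h2 | h2
  · -- `ψ² = 1`
    refine ⟨ψ, hψo, ?_, hψt⟩
    have h3 : w = 1 := congrArg Subtype.val h2
    rw [← hw, h3, map_one]
  · -- `ψ²` is conjugation by `t`
    have h3 : w = L.t := (congrArg Subtype.val h2).trans L.hz
    rw [h3] at hw
    obtain ⟨a, ha⟩ := L.K.exists_lift pa_mem
    obtain ⟨b, hb⟩ := L.K.exists_lift pb_mem
    -- `ψ` fixes the lifts of permutations commuting with `(0 1)` modulo `t`
    have key : ∀ x : centralizer ({L.t} : Set M), swap (0 : Fin 8) 1 * L.K.π x * (swap (0 : Fin 8) 1)⁻¹ = L.K.π x →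
        ψ x = x ∨ ψ x = x * L.t := by
      intro x hx
      have hm : ψ x ∈ centralizer ({L.t} : Set M) := by
        have h4 := mem_centralizer_singleton_iff.1 x.2
        rw [mem_centralizer_singleton_iff]
        have h5 := congrArg ψ h4
        rwa [map_mul, map_mul, hψt] at h5
      have h4 := hψc x ⟨ψ x, hm⟩ rfl
      rw [hx] at h4
      rcases L.K.lift_eq h4 with h5 | h5
      · exact Or.inl (congrArg Subtype.val h5)
      · right
        have h6 := congrArg Subtype.val h5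
        rwa [Subgroup.coe_mul, L.hz] at h6
    have htc : ∀ x : centralizer ({L.t} : Set M), (x : M) * L.t = L.t * x := fun x => mem_centralizer_singleton_iff.1 x.2
    have hti : L.t⁻¹ = L.t := inv_eq_of_mul_eq_one_left L.t_mul_t
    have key2 : ψ ((a * b * a⁻¹ * b⁻¹ : centralizer ({L.t} : Set M)) : M) = ((a * b * a⁻¹ * b⁻¹ : centralizer ({L.t} : Set M)) : M) := by
      have ha' := key a (by rw [ha]; exact pa_comm)
      have hb' := key b (by rw [hb]; exact pb_comm)
      simp only [Subgroup.coe_mul, Subgroup.coe_inv, map_mul, map_inv]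
      have hta := htc a
      have htb := htc b
      have htb' : (b : M)⁻¹ * L.t = L.t * (b : M)⁻¹ := by
        calc (b : M)⁻¹ * L.t = (b : M)⁻¹ * (L.t * b) * (b : M)⁻¹ := by group
          _ = (b : M)⁻¹ * (b * L.t) * (b : M)⁻¹ := by rw [htb]
          _ = _ := by group
      have hta' : (a : M)⁻¹ * L.t = L.t * (a : M)⁻¹ := by
        calc (a : M)⁻¹ * L.t = (a : M)⁻¹ * (L.t * a) * (a : M)⁻¹ := by group
          _ = (a : M)⁻¹ * (a * L.t) * (a : M)⁻¹ := by rw [hta]
          _ = _ := by group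
      have ca : ∀ y : M, y * L.t = L.t * y → (a : M) * L.t * y * ((a : M) * L.t)⁻¹ = a * y * (a : M)⁻¹ := by
        intro y hy
        calc (a : M) * L.t * y * ((a : M) * L.t)⁻¹ = (a : M) * (L.t * y) * L.t⁻¹ * (a : M)⁻¹ := by group
          _ = (a : M) * (y * L.t) * L.t⁻¹ * (a : M)⁻¹ := by rw [hy]
          _ = _ := by group
      have hA : ψ a * ψ b * (ψ a)⁻¹ = a * ψ b * (a : M)⁻¹ := by
        have hbt : ψ b * L.t = L.t * ψ b := by
          rcases hb' with h | h
          · rw [h, htb]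
          · rw [h, htb, mul_assoc, htb]
        rcases ha' with h | h
        · rw [h]
        · rw [h]; exact ca _ hbt
      rw [hA]
      rcases hb' with h | h
      · rw [h]
      · rw [h]
        calc (a : M) * (b * L.t) * (a : M)⁻¹ * ((b : M) * L.t)⁻¹
            = (a : M) * b * (L.t * (a : M)⁻¹) * L.t⁻¹ * (b : M)⁻¹ := by group
          _ = (a : M) * b * ((a : M)⁻¹ * L.t) * L.t⁻¹ * (b : M)⁻¹ := by rw [hta']
          _ = _ := by group
    have hsq : ((a * b * a⁻¹ * b⁻¹ : centralizer ({L.t} : Set M)) : M) * ((a * b * a⁻¹ * b⁻¹ : centralizer ({L.t} : Set M)) : M) = L.t := by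
      have h4 := L.K.dbl 2 5 3 4 (by decide) (by decide) (by decide) (by decide) (by decide) (by decide)
        (a * b * a⁻¹ * b⁻¹) (by rw [map_mul, map_mul, map_mul, map_inv, map_inv, ha, hb, pab])
      have h5 := congrArg Subtype.val h4
      rw [L.hz] at h5
      exact h5
    obtain ⟨c', hc'⟩ : ∃ c' : M, c' = ((a * b * a⁻¹ * b⁻¹ : centralizer ({L.t} : Set M)) : M) := ⟨_, rfl⟩
    have hct : c' * L.t = L.t * c' := by rw [hc']; exact htc _
    rw [← hc'] at key2 hsq
    refine ⟨ψ * MulAut.conj c', ?_, ?_, ?_⟩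
    · intro h
      apply hψo
      have h4 : ψ = (ψ * MulAut.conj c') * MulAut.conj c'⁻¹ := by
        rw [mul_assoc, ← map_mul, mul_inv_cancel, map_one, mul_one]
      rw [h4]
      exact mul_mem h ⟨c'⁻¹, rfl⟩
    · have h4 := comp_conj ψ c'
      rw [key2] at h4
      calc ψ * MulAut.conj c' * (ψ * MulAut.conj c') = ψ * (MulAut.conj c' * ψ) * MulAut.conj c' := by group
        _ = ψ * (ψ * MulAut.conj c') * MulAut.conj c' := by rw [h4]
        _ = (ψ * ψ) * MulAut.conj (c' * c') := by rw [map_mul]; group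
        _ = 1 := by rw [← hw, hsq, ← map_mul, L.t_mul_t, map_one]
    · rw [MulAut.mul_apply, MulAut.conj_apply, hct, mul_inv_cancel_right, hψt]

/-- **(G2)** for groups of type `MT 8` of order `|McL|` -/
theorem exists_outer_mt [Finite M] (L : MT 8 M) (hcard : Nat.card M = 898128000)
    (h : ∃ φ : MulAut M, φ ∉ (MulAut.conj : M →* MulAut M).range) :
    ∃ φ : MulAut M, φ ∉ (MulAut.conj : M →* MulAut M).range ∧ φ * φ = 1 := by
  obtain ⟨φ, hφ⟩ := h
  obtain ⟨ψ, h1, h2, -⟩ := exists_outer L (OutLyFin.exPerm L (by norm_num))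
    (OutLyFin.evenInner L (Or.inl rfl) (Or.inl ⟨rfl, hcard⟩)) hφ
  exact ⟨ψ, h1, h2⟩

/-- **(G2)** in the form of helper339 -/
theorem exists_outer_mcl [Finite M] (hM : Cfsg.Spor.IsoMcL M)
    (h : ∃ φ : MulAut M, φ ∉ (MulAut.conj : M →* MulAut M).range) :
    ∃ φ : MulAut M, φ ∉ (MulAut.conj : M →* MulAut M).range ∧ φ * φ = 1 := by
  obtain ⟨φ, hφ⟩ := h
  obtain ⟨-, -, hcard, ⟨L⟩⟩ := FactsMcL.facts hM
  obtain ⟨ψ, h1, h2, -⟩ := exists_outer L (OutLyFin.exPerm L (by norm_num))
    (OutLyFin.evenInner L (Or.inl rfl) (Or.inl ⟨rfl, hcard⟩)) hφ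
  exact ⟨ψ, h1, h2⟩

end Cfsg.Agent.TypeM.OutInvMcL
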