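import Cfsg.Agent.TypeM.OuterMcL
import Cfsg.Agent.TypeM.McLFromLy

/-!
# The automorphisms of a group of Lyons type are inner

`inner_of_data`: `x` is an element of order three whose centraliser `C(x) = 3.McL` is perfect, `C(x) / ⟨x⟩` of type
`MT 8`. An automorphism `φ` which acts on `C(t) / t = A_11` as a transposition inverts `x` and is trivial or conjugation
by `t` on `C(x) / ⟨x⟩`; this contradicts `C(x)' = C(x)`.
-/

set_option autoImplicit false
set_option maxRecDepth 100000

namespace Cfsg.Agent.TypeM.OutLy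

open scoped commutatorElement
open Subgroup Equiv Cfsg.Agent.SporRec.TwoAn Cfsg.Agent.TypeM.Two Cfsg.Agent.TypeM.OuterMcL Cfsg.Agent.TypeM.McLFromLy

/-! ### permutations -/

/-- a transposition inside the support of a three-cycle inverts it -/
theorem swap_conj {τ : Perm (Fin 11)} (h3 : τ ^ 3 = 1) (hs : τ.support.card = 3) {a : Fin 11} (ha : τ a ≠ a) :
    swap a (τ a) * τ * (swap a (τ a))⁻¹ = τ⁻¹ := by
  have e3 : τ (τ (τ a)) = a := by
    have : (τ ^ 3) a = a := by rw [h3, Perm.one_apply]
    rwa [pow_succ, pow_two, Perm.mul_apply, Perm.mul_apply] at this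
  have hca : τ (τ a) ≠ a := by
    intro h
    rw [h] at e3
    exact ha e3
  have hcb : τ (τ a) ≠ τ a := fun h => ha (τ.injective h)
  have hsup : τ.support = {a, τ a, τ (τ a)} := by
    symm
    apply Finset.eq_of_subset_of_card_le
    · intro y hy
      rw [Finset.mem_insert, Finset.mem_insert, Finset.mem_singleton] at hy
      rw [Perm.mem_support]
      rcases hy with rfl | rfl | rfl
      · exact ha
      · exact hcb
      · rw [e3]; exact hca.symm
    · rw [hs, Finset.card_insert_of_notMem, Finset.card_pair hcb.symm]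
      rw [Finset.mem_insert, Finset.mem_singleton, not_or]
      exact ⟨ha.symm, hca.symm⟩
  rw [mul_inv_eq_iff_eq_mul]
  ext y
  congr 1
  rw [Perm.mul_apply, Perm.mul_apply, eq_comm, Perm.inv_eq_iff_eq]
  by_cases hya : y = a
  · rw [hya, swap_apply_left, swap_apply_right]
  by_cases hyb : y = τ a
  · rw [hyb, swap_apply_right, swap_apply_of_ne_of_ne hca hcb, e3]
  by_cases hyc : y = τ (τ a)
  · rw [hyc, e3, swap_apply_left, swap_apply_of_ne_of_ne hca hcb]
  · have hy : τ y = y := by
      by_contra h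
      have h1 : y ∈ τ.support := Perm.mem_support.2 h
      rw [hsup, Finset.mem_insert, Finset.mem_insert, Finset.mem_singleton] at h1
      rcases h1 with h1 | h1 | h1
      · exact hya h1
      · exact hyb h1
      · exact hyc h1
    rw [hy, swap_apply_of_ne_of_ne hya hyb, hy]

/-- a permutation which commutes with the alternating group is trivial -/
theorem eq_one_of_comm {ρ : Perm (Fin 8)} (h : ∀ σ ∈ alternatingGroup (Fin 8), ρ * σ = σ * ρ) : ρ = 1 := by
  by_contra hne
  obtain ⟨a, ha⟩ : ∃ a, ρ a ≠ a := by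
    by_contra h
    push Not at h
    exact hne (Perm.ext h)
  have key : ∀ a b : Fin 8, b ≠ a → ∃ c d, c ≠ a ∧ c ≠ b ∧ d ≠ a ∧ d ≠ b ∧ c ≠ d := by decide
  obtain ⟨c, d, h1, h2, h3, h4, h5⟩ := key a (ρ a) ha
  have h6 := h (swap (ρ a) c * swap (ρ a) d) (Cover.swap_mul_swap_mem _ _ _ _ h2.symm h4.symm)
  have h7 := congrArg (fun f : Perm (Fin 8) => f a) h6
  simp only [Perm.mul_apply] at h7
  rw [swap_apply_of_ne_of_ne ha.symm h3.symm, swap_apply_of_ne_of_ne ha.symm h1.symm, swap_apply_left,
    swap_apply_of_ne_of_ne h4 h5.symm] at h7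
  exact h4 h7.symm

section

variable {G : Type*} [Group G]

/-- conjugation by an element of `C(t)` -/
theorem compat_conj {n : ℕ} (L : MT n G) (g : centralizer ({L.t} : Set G)) :
    Compat L (MulAut.conj (g : G)) (L.K.π g) := by
  intro h k hk
  rw [← map_inv, ← map_mul, ← map_mul]
  congr 1
  exact Subtype.ext hk

/-- restriction of an automorphism which inverts `x` -/
def res {x : G} (φ : MulAut G) (h : φ x = x⁻¹) : MulAut (centralizer ({x} : Set G)) where
  toFun g := ⟨φ g, by
    have h1 := mem_centralizer_singleton_iff.1 g.2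
    have h2 := congrArg φ h1
    rw [map_mul, map_mul, h] at h2
    rw [mem_centralizer_singleton_iff]
    have h3 : Commute (φ g) x⁻¹ := h2
    exact (Commute.inv_right_iff.1 h3).eq⟩
  invFun g := ⟨φ.symm g, by
    have h1 := mem_centralizer_singleton_iff.1 g.2
    have h' : φ.symm x = x⁻¹ := by
      rw [MulEquiv.symm_apply_eq, map_inv, h, inv_inv]
    have h2 := congrArg φ.symm h1
    rw [map_mul, map_mul, h'] at h2
    rw [mem_centralizer_singleton_iff]
    have h3 : Commute (φ.symm g) x⁻¹ := h2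
    exact (Commute.inv_right_iff.1 h3).eq⟩
  left_inv g := Subtype.ext (φ.symm_apply_apply g)
  right_inv g := Subtype.ext (φ.apply_symm_apply g)
  map_mul' g h := Subtype.ext (map_mul φ (g : G) h)

theorem res_coe {x : G} (φ : MulAut G) (h : φ x = x⁻¹) (g : centralizer ({x} : Set G)) :
    ((res φ h g : centralizer ({x} : Set G)) : G) = φ g := rfl

/-- the automorphism of `C(x) / Z(C(x))` -/
def resq {x : G} (φ : MulAut G) (h : φ x = x⁻¹) :
    MulAut (centralizer ({x} : Set G) ⧸ center (centralizer ({x} : Set G))) :=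
  QuotientGroup.congr _ _ (res φ h) (Subgroup.characteristic_iff_map_eq.1 inferInstance (res φ h))

theorem resq_mk {x : G} (φ : MulAut G) (h : φ x = x⁻¹) (g : centralizer ({x} : Set G)) :
    resq φ h (QuotientGroup.mk g) = QuotientGroup.mk (res φ h g) := rfl

/-- an automorphism which inverts `x` is non-trivial on `C(x) / Z` if `C(x)` is perfect -/
theorem resq_ne_one {x : G} (hx : orderOf x = 3) (hp : commutator (centralizer ({x} : Set G)) = ⊤) (φ : MulAut G)
    (h : φ x = x⁻¹) : ∃ g, resq φ h g ≠ g := by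
  by_contra hcon
  push Not at hcon
  have hz : ∀ c : centralizer ({x} : Set G), res φ h c * c⁻¹ ∈ center (centralizer ({x} : Set G)) := by
    intro c
    have h1 := hcon (QuotientGroup.mk c)
    rw [resq_mk, eq_comm, QuotientGroup.eq] at h1
    have h3 : c * (c⁻¹ * res φ h c) * c⁻¹ ∈ center (centralizer ({x} : Set G)) :=
      (inferInstance : (center (centralizer ({x} : Set G))).Normal).conj_mem _ h1 c
    rwa [mul_inv_cancel_left] at h3
  let f : centralizer ({x} : Set G) →* center (centralizer ({x} : Set G)) :=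
    { toFun := fun c => ⟨res φ h c * c⁻¹, hz c⟩
      map_one' := by
        apply Subtype.ext
        show res φ h 1 * 1⁻¹ = 1
        rw [map_one, inv_one, mul_one]
      map_mul' := fun c d => by
        apply Subtype.ext
        show res φ h (c * d) * (c * d)⁻¹ = (res φ h c * c⁻¹) * (res φ h d * d⁻¹)
        have h1 := mem_center_iff.1 (hz d) c⁻¹
        calc res φ h (c * d) * (c * d)⁻¹ = res φ h c * ((res φ h d * d⁻¹) * c⁻¹) := by
              rw [map_mul]; group
          _ = res φ h c * (c⁻¹ * (res φ h d * d⁻¹)) := by rw [h1]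
          _ = _ := by group }
  have h1 : (⊤ : Subgroup (centralizer ({x} : Set G))) ≤ f.ker := by
    rw [← hp]
    rw [commutator_eq_closure, closure_le]
    rintro _ ⟨c, d, rfl⟩
    show f ⁅c, d⁆ = 1
    rw [map_commutatorElement, commutatorElement_eq_one_iff_mul_comm]
    exact Subtype.ext (mem_center_iff.1 (f d).2 _)
  have hxm : x ∈ centralizer ({x} : Set G) := mem_centralizer_singleton_iff.2 rfl
  have h2 : f ⟨x, hxm⟩ = 1 := h1 (mem_top _)
  have h3 := congrArg (fun y : center (centralizer ({x} : Set G)) => ((y : centralizer ({x} : Set G)) : G)) h2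
  have h4 : φ x * x⁻¹ = 1 := h3
  rw [h, ← mul_inv_rev, inv_eq_one, ← pow_two] at h4
  have h5 := orderOf_dvd_of_pow_eq_one h4
  rw [hx] at h5
  exact absurd h5 (by norm_num)

variable (L : MT 11 G) {x : G}

/-- **All automorphisms are inner.** -/
theorem inner_of_data (hE : ExPerm L) (hI : EvenInner L) (hx : orderOf x = 3)
    (hZ : Nat.card (center (centralizer ({x} : Set G))) = 3) (htx : L.t * x = x * L.t)
    (hs : (L.K.π (xc htx)).support.card = 3) (hp : commutator (centralizer ({x} : Set G)) = ⊤)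
    (L8 : MT 8 (centralizer ({x} : Set G) ⧸ center (centralizer ({x} : Set G)))) (h8 : L8.t = tb htx)
    (hI8 : EvenInner L8) (φ : MulAut G) : φ ∈ (MulAut.conj : G →* MulAut G).range := by
  by_contra hφ
  -- fix `t`
  obtain ⟨g0, hg0⟩ := L.conj_of_involutions (r := φ L.t) (s := L.t) (by rw [← map_mul, L.t_mul_t, map_one])
    (fun h => L.t_ne (by rwa [EmbeddingLike.map_eq_one_iff] at h)) L.t_mul_t L.t_ne
  set φ1 : MulAut G := MulAut.conj g0 * φ with hφ1
  have h1t : φ1 L.t = L.t := by rw [hφ1, MulAut.mul_apply, MulAut.conj_apply, hg0]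
  have h1n : φ1 ∉ (MulAut.conj : G →* MulAut G).range := fun h => hφ (mem_range_of_conj h)
  obtain ⟨σ, hσ⟩ := hE φ1 h1t
  have hσs : Perm.sign σ = -1 := by
    rcases Int.units_eq_one_or (Perm.sign σ) with h | h
    · exact absurd (hI _ σ h1t hσ h) h1n
    · exact h
  -- the three-cycle
  set τ := L.K.π (xc htx) with hτ
  have hx3 : (xc htx) ^ 3 = 1 := xc_cube hx htx
  have hτ3 : τ ^ 3 = 1 := by rw [hτ, ← map_pow, hx3, map_one]
  obtain ⟨a, ha⟩ : ∃ a, τ a ≠ a := by
    by_contra hcon
    push Not at hcon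
    have : τ = 1 := Perm.ext hcon
    rw [this] at hs
    simp at hs
  obtain ⟨g1, hg1⟩ := L.K.exists_lift (σ := swap a (τ a) * σ⁻¹) (by
    rw [Perm.mem_alternatingGroup, Perm.sign_mul, Perm.sign_inv, hσs, Perm.sign_swap ha.symm]
    rfl)
  have hg1t := mem_centralizer_singleton_iff.1 g1.2
  set φ2 : MulAut G := MulAut.conj (g1 : G) * φ1 with hφ2
  have h2n : φ2 ∉ (MulAut.conj : G →* MulAut G).range := fun h => h1n (mem_range_of_conj h)
  have h2t : φ2 L.t = L.t := by
    rw [hφ2, MulAut.mul_apply, h1t, MulAut.conj_apply, hg1t, mul_inv_cancel_right]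
  have h2c : Compat L φ2 (swap a (τ a)) := by
    have h := (compat_conj L g1).mul hσ h1t
    rwa [hg1, inv_mul_cancel_right] at h
  -- `φ2` inverts `x`
  have hmem : ∀ g : centralizer ({L.t} : Set G), φ2 g ∈ centralizer ({L.t} : Set G) := by
    intro g
    have h1 := mem_centralizer_singleton_iff.1 g.2
    rw [mem_centralizer_singleton_iff]
    have h2 := congrArg φ2 h1
    rwa [map_mul, map_mul, h2t] at h2
  have h2x : φ2 x = x⁻¹ := by
    have h1 := h2c (xc htx) ⟨φ2 x, hmem (xc htx)⟩ rfl
    rw [← hτ, swap_conj hτ3 hs ha, hτ, ← map_inv] at h1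
    have h2 := L.K.odd_lift_unique (n := 3) (by decide) (by
      apply Subtype.ext
      show φ2 x ^ 3 = 1
      rw [← map_pow, ← hx, pow_orderOf_eq_one, map_one]) (by rw [inv_pow, hx3, inv_one]) h1
    exact congrArg Subtype.val h2
  -- the action on `2.A_8`
  have h28 : ∀ d : centralizer ({L.t} : Set G), d ∈ L.K.sub (fun i => τ i = i) → φ2 d = d ∨ φ2 d = d * L.t := by
    intro d hd
    have hd' : ∀ i, ¬ τ i = i → L.K.π d i = i := hd
    have h1 := h2c d ⟨φ2 d, hmem d⟩ rfl
    have h2 : swap a (τ a) * L.K.π d * (swap a (τ a))⁻¹ = L.K.π d := by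
      have h3 := Equiv.mul_swap_eq_swap_mul (L.K.π d) a (τ a)
      rw [hd' a ha, hd' (τ a) (fun h => ha (τ.injective h))] at h3
      rw [mul_inv_eq_iff_eq_mul, h3]
    rw [h2] at h1
    rcases L.K.lift_eq h1 with h | h
    · left; exact congrArg Subtype.val h
    · right
      have h3 := congrArg Subtype.val h
      rw [Subgroup.coe_mul, L.hz] at h3
      exact h3
  -- on the quotient
  set ψ := resq φ2 h2x with hψ
  have hq : ∀ g : centralizer ({L8.t} : Set (centralizer ({x} : Set G) ⧸ center (centralizer ({x} : Set G)))),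
      ψ g = g ∨ ψ g = g * L8.t := by
    rintro ⟨g, hg⟩
    have hg' : g ∈ centralizer ({tb htx} : Set (centralizer ({x} : Set G) ⧸ center (centralizer ({x} : Set G)))) := by
      rw [← h8]; exact hg
    obtain ⟨d, hd⟩ := (θ_bijective L.K hx hZ htx L.t_mul_t hs).2 ⟨g, hg'⟩
    have hdx : ((d : centralizer ({L.t} : Set G)) : G) ∈ centralizer ({x} : Set G) := by
      rw [mem_centralizer_singleton_iff]
      have hdis : (L.K.π (d : centralizer ({L.t} : Set G))).Disjoint (L.K.π (xc htx)) := by
        intro i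
        by_cases hi : L.K.π (xc htx) i = i
        · exact Or.inr hi
        · exact Or.inl (d.2 i hi)
      exact congrArg Subtype.val (L.K.commute_of_disjoint hdis)
    have hd' : (QuotientGroup.mk ⟨((d : centralizer ({L.t} : Set G)) : G), hdx⟩ :
        centralizer ({x} : Set G) ⧸ center (centralizer ({x} : Set G))) = g := congrArg Subtype.val hd
    have hψd : ψ g = QuotientGroup.mk (res φ2 h2x ⟨((d : centralizer ({L.t} : Set G)) : G), hdx⟩) := by
      rw [← hd', hψ, resq_mk]
    rcases h28 d d.2 with h | h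
    · left
      show ψ g = g
      rw [hψd]
      refine Eq.trans ?_ hd'
      congr 1
      exact Subtype.ext h
    · right
      show ψ g = g * L8.t
      rw [hψd, h8, ← hd']
      unfold tb
      rw [← QuotientGroup.mk_mul]
      congr 1
      exact Subtype.ext h
  have hψt : ψ L8.t = L8.t := by
    rw [h8, hψ]
    unfold tb
    rw [resq_mk]
    congr 1
    exact Subtype.ext h2t
  have hψc : Compat L8 ψ 1 := by
    intro g h hh
    rw [one_mul, inv_one, mul_one]
    rcases hq g with h1 | h1
    · have : h = g := Subtype.ext (hh.trans h1)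
      rw [this]
    · have : h = g * L8.K.z := by
        apply Subtype.ext
        rw [Subgroup.coe_mul, L8.hz]
        exact hh.trans h1
      rw [this, map_mul, L8.K.π_z, mul_one]
  obtain ⟨q, hqψ⟩ := hI8 ψ 1 hψt hψc (map_one _)
  have hqt : q * L8.t = L8.t * q := by
    have h1 := DFunLike.congr_fun hqψ L8.t
    rw [MulAut.conj_apply, hψt, mul_inv_eq_iff_eq_mul] at h1
    exact h1
  -- `q` is central in `C / t`
  have hq1 : L8.K.π ⟨q, mem_centralizer_singleton_iff.2 hqt⟩ = 1 := by
    apply eq_one_of_comm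
    intro ρ hρ
    obtain ⟨g, rfl⟩ := L8.K.exists_lift hρ
    have h1 : q * g * q⁻¹ = ψ g := by rw [← hqψ, MulAut.conj_apply]
    have h2 : L8.K.π (⟨q, mem_centralizer_singleton_iff.2 hqt⟩ * g * ⟨q, mem_centralizer_singleton_iff.2 hqt⟩⁻¹) =
        L8.K.π g := by
      have h3 := hψc g (⟨q, mem_centralizer_singleton_iff.2 hqt⟩ * g * ⟨q, mem_centralizer_singleton_iff.2 hqt⟩⁻¹) h1
      rwa [one_mul, inv_one, mul_one] at h3
    rw [map_mul, map_mul, map_inv, mul_inv_eq_iff_eq_mul] at h2
    exact h2
  have hq2 : q = 1 ∨ q = L8.t := by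
    rcases (L8.K.ker _).1 hq1 with h | h
    · left; exact congrArg Subtype.val h
    · right
      have h3 := congrArg Subtype.val h
      rw [L8.hz] at h3
      exact h3
  -- the contradiction
  have hfin : ∃ φ3 : MulAut G, ∃ h3 : φ3 x = x⁻¹, ∀ g, resq φ3 h3 g = g := by
    rcases hq2 with h | h
    · refine ⟨φ2, h2x, fun g => ?_⟩
      rw [← hψ, ← hqψ, h, map_one, MulAut.one_apply]
    · have h3x : (MulAut.conj L.t * φ2) x = x⁻¹ := by
        rw [MulAut.mul_apply, h2x, MulAut.conj_apply, mul_inv_eq_iff_eq_mul]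
        have h4 : Commute L.t x := htx
        exact h4.inv_right.eq
      refine ⟨MulAut.conj L.t * φ2, h3x, fun g => ?_⟩
      obtain ⟨c, rfl⟩ := QuotientGroup.mk_surjective g
      have h4 : resq (MulAut.conj L.t * φ2) h3x (QuotientGroup.mk c) =
          tb htx * ψ (QuotientGroup.mk c) * (tb htx)⁻¹ := rfl
      rw [h4, ← hqψ, h, ← h8, MulAut.conj_apply]
      have h5 := L8.t_mul_t
      have h6 := L8.t_inv
      rw [h6]
      calc L8.t * (L8.t * (QuotientGroup.mk c) * L8.t) * L8.t = (L8.t * L8.t) * (QuotientGroup.mk c) * (L8.t * L8.t) := by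
            group
        _ = QuotientGroup.mk c := by rw [h5, one_mul, mul_one]
  obtain ⟨φ3, h3, h4⟩ := hfin
  obtain ⟨g, hg⟩ := resq_ne_one hx hp φ3 h3
  exact hg (h4 g)

end

end Cfsg.Agent.TypeM.OutLy
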