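import Mathlib

/-!
# Permutations of eight points which commute with a semiregular four-group are even
-/

set_option autoImplicit false
set_option maxRecDepth 100000

namespace Cfsg.Agent.TypeM.Parity

open Equiv

/-- `xor` with `p` -/
def X (p : Fin 8) : Perm (Fin 8) where
  toFun i := i ^^^ p
  invFun i := i ^^^ p
  left_inv := by revert p; decide
  right_inv := by revert p; decide

/-- `xor` with `p` on `{4, 5, 6, 7}`, for `p < 4` -/
def Y (p : Fin 4) : Perm (Fin 8) where
  toFun i := if i < 4 then i else i ^^^ (p.castLE (by norm_num) : Fin 8)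
  invFun i := if i < 4 then i else i ^^^ (p.castLE (by norm_num) : Fin 8)
  left_inv := by revert p; decide
  right_inv := by revert p; decide

theorem sign_X : ∀ p, Perm.sign (X p) = 1 := by decide +kernel

theorem sign_Y : ∀ p, Perm.sign (Y p) = 1 := by decide +kernel

theorem X_apply (p i : Fin 8) : X p i = i ^^^ p := rfl

theorem sign_std {σ : Perm (Fin 8)} (h1 : ∀ i, σ (i ^^^ 1) = σ i ^^^ 1) (h2 : ∀ i, σ (i ^^^ 2) = σ i ^^^ 2) :
    Perm.sign σ = 1 := by
  have hx : ∀ p i j : Fin 8, (i ^^^ j) ^^^ p = (i ^^^ p) ^^^ j := by decide +kernel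
  have hxx : ∀ p : Fin 8, p ^^^ p = 0 := by decide +kernel
  set τ : Perm (Fin 8) := X (σ 0) * σ with hτ
  have τ0 : τ 0 = 0 := by rw [hτ, Perm.mul_apply, X_apply, hxx]
  have τ1 : ∀ i, τ (i ^^^ 1) = τ i ^^^ 1 := by
    intro i
    rw [hτ, Perm.mul_apply, Perm.mul_apply, X_apply, X_apply, h1, hx]
  have τ2 : ∀ i, τ (i ^^^ 2) = τ i ^^^ 2 := by
    intro i
    rw [hτ, Perm.mul_apply, Perm.mul_apply, X_apply, X_apply, h2, hx]
  have t1 : τ 1 = 1 := by have := τ1 0; rw [τ0] at this; exact this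
  have t2 : τ 2 = 2 := by have := τ2 0; rw [τ0] at this; exact this
  have t3 : τ 3 = 3 := by have := τ2 1; rw [t1] at this; exact this
  have t5 : τ 5 = τ 4 ^^^ 1 := τ1 4
  have t6 : τ 6 = τ 4 ^^^ 2 := τ2 4
  have t7 : τ 7 = τ 5 ^^^ 2 := τ2 5
  have hτY : ∃ p, τ = Y p := by
    have h4 : ∀ q : Fin 8, q ≠ 0 → q ≠ 1 → q ≠ 2 → q ≠ 3 → ∃ p, q = Y p 4 := by decide +kernel
    obtain ⟨p, hp⟩ := h4 (τ 4) (fun h => by
        have := τ.injective (h.trans τ0.symm)
        exact absurd this (by decide)) (fun h => by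
        have := τ.injective (h.trans t1.symm)
        exact absurd this (by decide)) (fun h => by
        have := τ.injective (h.trans t2.symm)
        exact absurd this (by decide)) (fun h => by
        have := τ.injective (h.trans t3.symm)
        exact absurd this (by decide))
    refine ⟨p, ?_⟩
    rw [hp] at t5 t6
    rw [t5] at t7
    have hY : ∀ p, Y p 0 = 0 ∧ Y p 1 = 1 ∧ Y p 2 = 2 ∧ Y p 3 = 3 ∧ Y p 5 = Y p 4 ^^^ 1 ∧ Y p 6 = Y p 4 ^^^ 2 ∧
        Y p 7 = Y p 4 ^^^ 1 ^^^ 2 := by decide +kernel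
    obtain ⟨y0, y1, y2, y3, y5, y6, y7⟩ := hY p
    have hi : ∀ i : Fin 8, τ i = Y p i := by
      intro i
      fin_cases i
      · exact τ0.trans y0.symm
      · exact t1.trans y1.symm
      · exact t2.trans y2.symm
      · exact t3.trans y3.symm
      · exact hp
      · exact t5.trans y5.symm
      · exact t6.trans y6.symm
      · exact t7.trans y7.symm
    exact Equiv.ext hi
  obtain ⟨p, hp⟩ := hτY
  have h3 : Perm.sign τ = Perm.sign σ := by rw [hτ, Perm.sign_mul, sign_X, one_mul]
  rw [← h3, hp, sign_Y]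

/-- **A permutation of eight points which commutes with a semiregular four-group is even.** -/
theorem sign_of_comm {u v σ : Perm (Fin 8)} (hu : u * u = 1) (hv : v * v = 1) (huv : u * v = v * u)
    (fu : ∀ i, u i ≠ i) (fv : ∀ i, v i ≠ i) (fuv : ∀ i, u (v i) ≠ i) (cu : σ * u = u * σ) (cv : σ * v = v * σ) :
    Perm.sign σ = 1 := by
  have hu' : ∀ i, u (u i) = i := fun i => by rw [← Perm.mul_apply, hu, Perm.one_apply]
  have hv' : ∀ i, v (v i) = i := fun i => by rw [← Perm.mul_apply, hv, Perm.one_apply]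
  have huv' : ∀ i, u (v i) = v (u i) := fun i => by rw [← Perm.mul_apply, huv, Perm.mul_apply]
  -- a point outside the orbit of `0`
  obtain ⟨b, hb⟩ : ∃ b : Fin 8, b ∉ ({0, u 0, v 0, u (v 0)} : Finset (Fin 8)) := by
    by_contra hcon
    push Not at hcon
    have h1 : (Finset.univ : Finset (Fin 8)) ⊆ {0, u 0, v 0, u (v 0)} := fun b _ => hcon b
    have h2 := Finset.card_le_card h1
    have h3 : ({0, u 0, v 0, u (v 0)} : Finset (Fin 8)).card ≤ 4 := Finset.card_le_four
    rw [Finset.card_univ, Fintype.card_fin] at h2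
    omega
  simp only [Finset.mem_insert, Finset.mem_singleton, not_or] at hb
  obtain ⟨b0, b1, b2, b3⟩ := hb
  let g : Fin 8 → Fin 8 := ![0, u 0, v 0, u (v 0), b, u b, v b, u (v b)]
  have g0 : g 0 = 0 := rfl
  have g1 : g 1 = u 0 := rfl
  have g2 : g 2 = v 0 := rfl
  have g3 : g 3 = u (v 0) := rfl
  have g4 : g 4 = b := rfl
  have g5 : g 5 = u b := rfl
  have g6 : g 6 = v b := rfl
  have g7 : g 7 = u (v b) := rfl
  have gu : ∀ i, g (i ^^^ 1) = u (g i) := by
    intro i
    fin_cases i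
    · rfl
    · exact (hu' 0).symm
    · rfl
    · exact (hu' _).symm
    · rfl
    · exact (hu' _).symm
    · rfl
    · exact (hu' _).symm
  have gv : ∀ i, g (i ^^^ 2) = v (g i) := by
    intro i
    fin_cases i
    · rfl
    · exact huv' 0
    · exact (hv' _).symm
    · show u 0 = v (u (v 0))
      rw [← huv', hv']
    · rfl
    · exact huv' _
    · exact (hv' _).symm
    · show u b = v (u (v b))
      rw [← huv', hv']
  -- `g` is injective
  have h0 : ∀ j, g j = 0 → j = 0 := by
    intro j hj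
    fin_cases j
    · rfl
    · exact absurd hj (fu 0)
    · exact absurd hj (fv 0)
    · exact absurd hj (fuv 0)
    · exact absurd hj b0
    · exact absurd (show b = u 0 by rw [← (show u b = 0 from hj), hu']) b1
    · exact absurd (show b = v 0 by rw [← (show v b = 0 from hj), hv']) b2
    · refine absurd ?_ b3
      have h : u (v b) = 0 := hj
      rw [huv', ← h, hu', hv']
  have h4 : ∀ j, g j = b → j = 4 := by
    intro j hj
    fin_cases j
    · exact absurd (show (0 : Fin 8) = b from hj).symm b0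
    · exact absurd (show u 0 = b from hj).symm b1
    · exact absurd (show v 0 = b from hj).symm b2
    · exact absurd (show u (v 0) = b from hj).symm b3
    · rfl
    · exact absurd hj (fu b)
    · exact absurd hj (fv b)
    · exact absurd hj (fuv b)
  have hk : ∀ k : Fin 8, k < 4 → ∀ i j, g i = g j → g (i ^^^ k) = g (j ^^^ k) := by
    intro k hk i j h
    have hk' : k = 0 ∨ k = 1 ∨ k = 2 ∨ k = 3 := by revert k; decide
    have x0 : ∀ i : Fin 8, i ^^^ 0 = i := by decide
    have x3 : ∀ i : Fin 8, i ^^^ 3 = (i ^^^ 1) ^^^ 2 := by decide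
    rcases hk' with rfl | rfl | rfl | rfl
    · rw [x0, x0, h]
    · rw [gu, gu, h]
    · rw [gv, gv, h]
    · rw [x3, x3, gv, gv, gu, gu, h]
  have hgi : Function.Injective g := by
    intro i j h
    have hx : ∀ i : Fin 8, ∃ k : Fin 8, k < 4 ∧ (i ^^^ k = 0 ∨ i ^^^ k = 4) := by decide
    have hc : ∀ i j k : Fin 8, i ^^^ k = j ^^^ k → i = j := by decide +kernel
    obtain ⟨k, hk4, hk0⟩ := hx i
    have h5 := hk k hk4 i j h
    rcases hk0 with hk0 | hk0
    · rw [hk0, g0] at h5
      exact hc i j k (by rw [hk0, h0 _ h5.symm])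
    · rw [hk0, g4] at h5
      exact hc i j k (by rw [hk0, h4 _ h5.symm])
  set τ : Perm (Fin 8) := Equiv.ofBijective g (Finite.injective_iff_bijective.1 hgi) with hτ
  have τu : ∀ i, τ (i ^^^ 1) = u (τ i) := gu
  have τv : ∀ i, τ (i ^^^ 2) = v (τ i) := gv
  have cu' : ∀ i, σ (u i) = u (σ i) := fun i => by rw [← Perm.mul_apply, cu, Perm.mul_apply]
  have cv' : ∀ i, σ (v i) = v (σ i) := fun i => by rw [← Perm.mul_apply, cv, Perm.mul_apply]
  have hinv : ∀ x, τ (τ⁻¹ x) = x := fun x => by rw [← Perm.mul_apply, mul_inv_cancel, Perm.one_apply]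
  have h5 := sign_std (σ := τ⁻¹ * σ * τ) (fun i => by
    rw [Perm.mul_apply, Perm.mul_apply, Perm.mul_apply, Perm.mul_apply, τu, cu', Perm.inv_eq_iff_eq, τu, hinv])
    (fun i => by
    rw [Perm.mul_apply, Perm.mul_apply, Perm.mul_apply, Perm.mul_apply, τv, cv', Perm.inv_eq_iff_eq, τv, hinv])
  rw [Perm.sign_mul, Perm.sign_mul, Perm.sign_inv, mul_comm, ← mul_assoc, Int.units_mul_self, one_mul] at h5
  exact h5

end Cfsg.Agent.TypeM.Parity
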