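import Cfsg.Agent.TypeM.LFactsMcL
import Cfsg.Agent.TypeM.Parity

/-!
# Automorphisms of `McL` and elementary abelian subgroups

`inner_of_norm` (o1), `inner_of_fix` (o2), `inner_mul` (o3), from two facts on the automorphisms which fix the
involution `t`.
-/

set_option autoImplicit false
set_option maxRecDepth 100000

namespace Cfsg.Agent.TypeM.OuterMcL

open Subgroup Equiv Cfsg.Agent.SporRec.TwoAn Cfsg.Agent.TypeM.Two Cfsg.Agent.TypeM.StdAut

variable {n : ℕ} {M : Type*} [Group M]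

/-- `σ` describes the action of `φ` on `C(t) / t = A_n` -/
def Compat (L : MT n M) (φ : MulAut M) (σ : Perm (Fin n)) : Prop :=
  ∀ g h : centralizer ({L.t} : Set M), (h : M) = φ g → L.K.π h = σ * L.K.π g * σ⁻¹

/-- existence of `σ` -/
def ExPerm (L : MT n M) : Prop := ∀ φ : MulAut M, φ L.t = L.t → ∃ σ, Compat L φ σ

/-- the even permutations are inner -/
def EvenInner (L : MT n M) : Prop := ∀ (φ : MulAut M) (σ : Perm (Fin n)), φ L.t = L.t → Compat L φ σ →
  Perm.sign σ = 1 → φ ∈ (MulAut.conj : M →* MulAut M).range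

theorem Compat.mul {L : MT n M} {φ ψ : MulAut M} {σ τ : Perm (Fin n)} (h : Compat L φ σ) (h' : Compat L ψ τ)
    (hψ : ψ L.t = L.t) : Compat L (φ * ψ) (σ * τ) := by
  intro g k hk
  have hm : ψ g ∈ centralizer ({L.t} : Set M) := by
    have h1 := mem_centralizer_singleton_iff.1 g.2
    rw [mem_centralizer_singleton_iff]
    have h2 := congrArg ψ h1
    rwa [map_mul, map_mul, hψ] at h2
  rw [h ⟨ψ g, hm⟩ k hk, h' g ⟨ψ g, hm⟩ rfl]
  group

/-- composition with inner automorphisms -/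
theorem mem_range_of_conj {φ : MulAut M} {g : M}
    (h : MulAut.conj g * φ ∈ (MulAut.conj : M →* MulAut M).range) : φ ∈ (MulAut.conj : M →* MulAut M).range := by
  have h1 : φ = MulAut.conj g⁻¹ * (MulAut.conj g * φ) := by
    rw [← mul_assoc, ← map_mul, inv_mul_cancel, map_one, one_mul]
  rw [h1]
  exact mul_mem ⟨g⁻¹, rfl⟩ h

section eight

variable (L : MT 8 M)

/-- commuting involutions of `C(t)` different from `t` are fixed-point-free on the eight points -/
theorem fpf {g : centralizer ({L.t} : Set M)} (h2 : (g : M) * g = 1) (h1 : (g : M) ≠ 1) (ht : (g : M) ≠ L.t) (i : Fin 8) :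
    L.K.π g i ≠ i := by
  intro hi
  have h3 : (L.K.π g).support.card = 8 :=
    Cfsg.Agent.SporRec.LyType.card_support_eq_eight L.K (by simp) (Subtype.ext h2) (fun e => h1 (by rw [e]; rfl))
      (fun e => ht (by rw [e, L.hz]))
  have h4 : (L.K.π g).support = Finset.univ := by
    rw [← Finset.card_eq_iff_eq_univ, h3, Fintype.card_fin]
  have h5 : i ∈ (L.K.π g).support := by rw [h4]; exact Finset.mem_univ i
  exact Perm.mem_support.1 h5 hi

/-- an automorphism which fixes `t` and centralises a four-group of `C(t)/t` is inner -/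
theorem inner_of_four (hE : ExPerm L) (hI : EvenInner L) {φ : MulAut M} (hφ : φ L.t = L.t) {u v : M}
    (hu : u * u = 1) (hu1 : u ≠ 1) (hut : u ≠ L.t) (ut : u * L.t = L.t * u)
    (hv : v * v = 1) (hv1 : v ≠ 1) (hvt : v ≠ L.t) (vt : v * L.t = L.t * v)
    (huv : u * v = v * u) (huv1 : u ≠ v) (huvt : u * v ≠ L.t)
    (fu : φ u = u ∨ φ u = u * L.t) (fv : φ v = v ∨ φ v = v * L.t) :
    φ ∈ (MulAut.conj : M →* MulAut M).range := by
  obtain ⟨σ, hσ⟩ := hE φ hφ
  refine hI φ σ hφ hσ ?_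
  have hum : u ∈ centralizer ({L.t} : Set M) := mem_centralizer_singleton_iff.2 ut
  have hvm : v ∈ centralizer ({L.t} : Set M) := mem_centralizer_singleton_iff.2 vt
  have key : ∀ (w : M) (hw : w ∈ centralizer ({L.t} : Set M)), (φ w = w ∨ φ w = w * L.t) →
      σ * L.K.π ⟨w, hw⟩ = L.K.π ⟨w, hw⟩ * σ := by
    intro w hw h
    rcases h with h | h
    · have h1 := hσ ⟨w, hw⟩ ⟨w, hw⟩ h.symm
      rw [eq_mul_inv_iff_mul_eq] at h1
      exact h1.symm
    · have h1 := hσ ⟨w, hw⟩ (⟨w, hw⟩ * L.K.z) (by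
        rw [Subgroup.coe_mul, L.hz]; exact h.symm)
      rw [map_mul, L.K.π_z, mul_one, eq_mul_inv_iff_mul_eq] at h1
      exact h1.symm
  have hinv : v⁻¹ = v := inv_eq_of_mul_eq_one_left hv
  refine Parity.sign_of_comm (u := L.K.π ⟨u, hum⟩) (v := L.K.π ⟨v, hvm⟩) ?_ ?_ ?_ (fpf L hu hu1 hut)
    (fpf L hv hv1 hvt) ?_ (key u hum fu) (key v hvm fv)
  · rw [← map_mul, show (⟨u, hum⟩ * ⟨u, hum⟩ : centralizer ({L.t} : Set M)) = 1 from Subtype.ext hu, map_one]
  · rw [← map_mul, show (⟨v, hvm⟩ * ⟨v, hvm⟩ : centralizer ({L.t} : Set M)) = 1 from Subtype.ext hv, map_one]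
  · rw [← map_mul, ← map_mul]
    exact congrArg L.K.π (Subtype.ext huv)
  · intro i
    have h1 := fpf L (g := ⟨u, hum⟩ * ⟨v, hvm⟩) (by
      show u * v * (u * v) = 1
      calc u * v * (u * v) = u * (v * u) * v := by group
        _ = u * u * (v * v) := by rw [← huv]; group
        _ = 1 := by rw [hu, hv, mul_one]) (by
      show u * v ≠ 1
      intro h
      rw [mul_eq_one_iff_eq_inv, hinv] at h
      exact huv1 h) huvt i
    rwa [map_mul, Perm.mul_apply] at h1

/-- **(o1)** an automorphism which normalises a standard `E` is inner -/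
theorem inner_of_norm (hE : ExPerm L) (hI : EvenInner L) (hc : ∀ x : M, (∀ y, x * y = y * x) → x = 1) {ε s : ℕ → M}
    (h1 : ε 1 = L.t)
    (mul : ∀ i < 16, ∀ j < 16, ε i * ε j = ε (i ^^^ j)) (inj : ∀ i < 16, ε i = 1 → i = 0)
    (sε : ∀ k < 5, ∀ i < 16, s k * ε i = ε (gm k i) * s k) {φ : MulAut M}
    (hφ : ∀ i < 16, ∃ j < 16, φ (ε i) = ε j) : φ ∈ (MulAut.conj : M →* MulAut M).range := by
  have hci : ∀ x y : M, MulAut.conj x = MulAut.conj y → x = y := by
    intro x y h
    have h2 : y⁻¹ * x = 1 := by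
      apply hc
      intro w
      have h3 := DFunLike.congr_fun h w
      rw [MulAut.conj_apply, MulAut.conj_apply] at h3
      calc y⁻¹ * x * w = y⁻¹ * (x * w * x⁻¹) * x := by group
        _ = w * (y⁻¹ * x) := by rw [h3]; group
    rw [inv_mul_eq_one] at h2
    exact h2.symm
  have hφc : ∀ (φ : MulAut M) (x : M), φ * MulAut.conj x = MulAut.conj (φ x) * φ := by
    intro φ x
    ext w
    simp only [MulAut.mul_apply, MulAut.conj_apply, map_mul, map_inv]
  obtain ⟨w, ψ, hw, hφψ, hψ1, hψ⟩ := core (M := MulAut M) (ε := fun i => MulAut.conj (ε i))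
    (s := fun k => MulAut.conj (s k)) (fun i hi j hj => by rw [← map_mul, mul i hi j hj])
    (fun i hi h => inj i hi (hci _ _ (by rw [h, map_one])))
    (fun k hk i hi => by rw [← map_mul, sε k hk i hi, map_mul]) φ (fun i hi => by
      obtain ⟨j, hj, h⟩ := hφ i hi
      exact ⟨j, hj, by rw [hφc, h, mul_inv_cancel_right]⟩)
  have hψt : ψ L.t = L.t := by
    rw [← h1]
    apply hci
    have h2 : ψ * MulAut.conj (ε 1) = MulAut.conj (ε 1) * ψ := hψ1
    rw [hφc] at h2
    exact mul_right_cancel h2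
  have hψi : ∀ i < 16, ψ (ε i) = ε i ∨ ψ (ε i) = ε i * L.t := by
    intro i hi
    have h2 : ψ * MulAut.conj (ε i) = MulAut.conj (ε i) * ψ ∨
        ψ * MulAut.conj (ε i) = MulAut.conj (ε i) * ψ * MulAut.conj (ε 1) := hψ i hi
    rcases h2 with h2 | h2
    · left
      rw [hφc] at h2
      exact hci _ _ (mul_right_cancel h2)
    · right
      rw [mul_assoc, hφc ψ (ε 1), h1, hψt, ← mul_assoc, ← map_mul, hφc] at h2
      exact hci _ _ (mul_right_cancel h2)
  have h0 : ε 0 = 1 := by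
    have := mul 0 (by norm_num) 0 (by norm_num)
    rw [Nat.xor_self] at this
    exact mul_eq_left.1 this
  have injε : ∀ i < 16, ∀ j < 16, ε i = ε j → i = j := by
    intro i hi j hj h
    have h2 := mul i hi j hj
    rw [h, mul j hj j hj, Nat.xor_self, h0] at h2
    have h3 := inj _ (xor_lt hi hj) h2.symm
    exact Nat.xor_eq_zero_iff.1 h3
  have comm : ∀ i < 16, ∀ j < 16, ε i * ε j = ε j * ε i := fun i hi j hj => by
    rw [mul i hi j hj, mul j hj i hi, Nat.xor_comm]
  have sq : ∀ i < 16, ε i * ε i = 1 := fun i hi => by rw [mul i hi i hi, Nat.xor_self, h0]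
  have hψr : ψ ∈ (MulAut.conj : M →* MulAut M).range := by
    refine inner_of_four L hE hI hψt (u := ε 2) (v := ε 4) (sq 2 (by norm_num)) (fun h => ?_) (fun h => ?_) ?_
      (sq 4 (by norm_num)) (fun h => ?_) (fun h => ?_) ?_ (comm 2 (by norm_num) 4 (by norm_num)) (fun h => ?_)
      (fun h => ?_) (hψi 2 (by norm_num)) (hψi 4 (by norm_num))
    · exact absurd (inj 2 (by norm_num) h) (by norm_num)
    · rw [← h1] at h
      exact absurd (injε 2 (by norm_num) 1 (by norm_num) h) (by norm_num)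
    · rw [← h1]; exact comm 2 (by norm_num) 1 (by norm_num)
    · exact absurd (inj 4 (by norm_num) h) (by norm_num)
    · rw [← h1] at h
      exact absurd (injε 4 (by norm_num) 1 (by norm_num) h) (by norm_num)
    · rw [← h1]; exact comm 4 (by norm_num) 1 (by norm_num)
    · exact absurd (injε 2 (by norm_num) 4 (by norm_num) h) (by norm_num)
    · rw [mul 2 (by norm_num) 4 (by norm_num), ← h1] at h
      exact absurd (injε 6 (by norm_num) 1 (by norm_num) h) (by norm_num)
  have hwr : wp (fun k => MulAut.conj (s k)) w ∈ (MulAut.conj : M →* MulAut M).range := by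
    unfold wp
    apply list_prod_mem
    intro y hy
    obtain ⟨k, -, rfl⟩ := List.mem_map.1 hy
    exact ⟨s k, rfl⟩
  rw [hφψ]
  exact mul_mem hwr hψr

/-- **(o2)** an automorphism which fixes an elementary abelian subgroup of order 8 pointwise is inner -/
theorem inner_of_fix (hE : ExPerm L) (hI : EvenInner L) {A : Subgroup M} (hA : ∀ x ∈ A, x * x = 1)
    (h8 : 8 ≤ Nat.card A) {φ : MulAut M} (hφ : ∀ x ∈ A, φ x = x) : φ ∈ (MulAut.conj : M →* MulAut M).range := by
  -- three generators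
  have hcomm : ∀ x ∈ A, ∀ y ∈ A, x * y = y * x := by
    intro x hx y hy
    have h1 := hA _ (mul_mem hx hy)
    have hxi : x⁻¹ = x := inv_eq_of_mul_eq_one_left (hA x hx)
    have hyi : y⁻¹ = y := inv_eq_of_mul_eq_one_left (hA y hy)
    rw [mul_eq_one_iff_eq_inv, mul_inv_rev, hxi, hyi] at h1
    exact h1
  have hpick : ∀ T : Finset M, T.card < 8 → ∃ x ∈ A, x ∉ T := by
    intro T hT
    by_contra hcon
    push Not at hcon
    have h1 : (A : Set M) ⊆ (T : Set M) := fun x hx => hcon x hx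
    have h2 := Set.ncard_le_ncard h1 T.finite_toSet
    rw [Set.ncard_coe_finset] at h2
    have h3 : (A : Set M).ncard = Nat.card A := rfl
    omega
  classical
  obtain ⟨z, hz, hz1⟩ := hpick {1} (by rw [Finset.card_singleton]; norm_num)
  rw [Finset.mem_singleton] at hz1
  obtain ⟨g, hg⟩ := L.conj_of_involutions (hA z hz) hz1 L.t_mul_t L.t_ne
  obtain ⟨u, hu, hu1⟩ := hpick {1, z} (lt_of_le_of_lt Finset.card_le_two (by norm_num))
  obtain ⟨v, hv, hv1⟩ := hpick {1, z, u, u * z} (lt_of_le_of_lt Finset.card_le_four (by norm_num))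
  simp only [Finset.mem_insert, Finset.mem_singleton, not_or] at hu1 hv1
  obtain ⟨u1, uz⟩ := hu1
  obtain ⟨v1, vz, vu, vuz⟩ := hv1
  have hzi : z⁻¹ = z := inv_eq_of_mul_eq_one_left (hA z hz)
  have hui : u⁻¹ = u := inv_eq_of_mul_eq_one_left (hA u hu)
  -- conjugate
  have cmul : ∀ x y : M, g * (x * y) * g⁻¹ = g * x * g⁻¹ * (g * y * g⁻¹) := fun x y => by group
  have cone : ∀ x : M, g * x * g⁻¹ = 1 → x = 1 := fun x h => by
    rwa [mul_inv_eq_one, mul_eq_left] at h
  have cinj : ∀ x y : M, g * x * g⁻¹ = g * y * g⁻¹ → x = y := fun x y h => by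
    rwa [mul_left_inj, mul_right_inj] at h
  have cφ : ∀ x ∈ A, (MulAut.conj g * φ * MulAut.conj g⁻¹) (g * x * g⁻¹) = g * x * g⁻¹ := by
    intro x hx
    have h1 : g⁻¹ * (g * x * g⁻¹) * g⁻¹⁻¹ = x := by group
    rw [MulAut.mul_apply, MulAut.mul_apply, MulAut.conj_apply g⁻¹, h1, hφ x hx, MulAut.conj_apply]
  have hin : MulAut.conj g * φ * MulAut.conj g⁻¹ ∈ (MulAut.conj : M →* MulAut M).range := by
    refine inner_of_four L hE hI (by rw [← hg]; exact cφ z hz) (u := g * u * g⁻¹) (v := g * v * g⁻¹) ?_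
      (fun h => u1 (cone _ h)) (fun h => ?_) ?_ ?_ (fun h => v1 (cone _ h)) (fun h => ?_) ?_ ?_ (fun h => ?_)
      (fun h => ?_) (Or.inl (cφ u hu)) (Or.inl (cφ v hv))
    · rw [← cmul, hA u hu]; group
    · rw [← hg] at h
      exact uz (cinj _ _ h)
    · rw [← hg, ← cmul, ← cmul, hcomm u hu z hz]
    · rw [← cmul, hA v hv]; group
    · rw [← hg] at h
      exact vz (cinj _ _ h)
    · rw [← hg, ← cmul, ← cmul, hcomm v hv z hz]
    · rw [← cmul, ← cmul, hcomm u hu v hv]
    · exact vu (cinj _ _ h).symm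
    · rw [← hg, ← cmul] at h
      have h2 := cinj _ _ h
      rw [← eq_inv_mul_iff_mul_eq, hui] at h2
      exact vuz h2
  have h3 : φ = MulAut.conj g⁻¹ * (MulAut.conj g * φ * MulAut.conj g⁻¹) * MulAut.conj g := by
    rw [map_inv]; group
  rw [h3]
  exact mul_mem (mul_mem ⟨g⁻¹, rfl⟩ hin) ⟨g, rfl⟩

end eight

/-- **(o3)** the outer automorphism group has order at most 2 -/
theorem inner_mul (L : MT n M) (hE : ExPerm L) (hI : EvenInner L) {φ ψ : MulAut M}
    (hφ : φ ∉ (MulAut.conj : M →* MulAut M).range) (hψ : ψ ∉ (MulAut.conj : M →* MulAut M).range) :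
    φ * ψ ∈ (MulAut.conj : M →* MulAut M).range := by
  have key : ∀ φ : MulAut M, φ ∉ (MulAut.conj : M →* MulAut M).range → ∃ (g : M) (σ : Perm (Fin n)),
      (MulAut.conj g * φ) L.t = L.t ∧ Compat L (MulAut.conj g * φ) σ ∧ Perm.sign σ = -1 := by
    intro φ hφ
    obtain ⟨g, hg⟩ := L.conj_of_involutions (r := φ L.t) (s := L.t) (by rw [← map_mul, L.t_mul_t, map_one])
      (fun h => L.t_ne (by rwa [EmbeddingLike.map_eq_one_iff] at h)) L.t_mul_t L.t_ne
    have h1 : (MulAut.conj g * φ) L.t = L.t := by rw [MulAut.mul_apply, MulAut.conj_apply, hg]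
    obtain ⟨σ, hσ⟩ := hE _ h1
    refine ⟨g, σ, h1, hσ, ?_⟩
    rcases Int.units_eq_one_or (Perm.sign σ) with h | h
    · exact absurd (mem_range_of_conj (hI _ σ h1 hσ h)) hφ
    · exact h
  obtain ⟨g, σ, h1, h2, h3⟩ := key φ hφ
  obtain ⟨k, τ, k1, k2, k3⟩ := key ψ hψ
  have h4 : (MulAut.conj g * φ) * (MulAut.conj k * ψ) ∈ (MulAut.conj : M →* MulAut M).range := by
    refine hI _ (σ * τ) ?_ (h2.mul k2 k1) ?_
    · rw [MulAut.mul_apply, k1, h1]
    · rw [Perm.sign_mul, h3, k3]; rfl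
  have h5 : (MulAut.conj g * φ) * (MulAut.conj k * ψ) = MulAut.conj (g * φ k) * (φ * ψ) := by
    ext w
    simp only [MulAut.mul_apply, MulAut.conj_apply, map_mul, map_inv, mul_inv_rev, mul_assoc]
  rw [h5] at h4
  exact mem_range_of_conj h4

end Cfsg.Agent.TypeM.OuterMcL
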