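import Cfsg.Agent.TypeM.Resid

/-!
# The 2-group `A` (bridge [WA](E) of Theorem W of S1739)

`A ≤ R` is isomorphic to the 2-subgroup `S` of `C(t)`: `S = {a * a^t : a ∈ A}`.
-/

set_option autoImplicit false
set_option linter.unusedSectionVars false
set_option linter.unusedVariables false

namespace Cfsg.Agent.TypeM

open Subgroup WThree ResidP

open scoped commutatorElement

namespace ResidA

section sylow

variable {G : Type*} [Group G] [Finite G]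

theorem card_mul_relIndex {H K : Subgroup G} (h : H ≤ K) :
    Nat.card H * H.relIndex K = Nat.card K := by
  rw [Subgroup.relIndex, ← Nat.card_congr (Subgroup.subgroupOfEquivOfLe h).toEquiv]
  exact Subgroup.card_mul_index _

/-- `|K H| |K ∩ H| = |K| |H|` -/
theorem card_sup_mul {K H : Subgroup G} (h : H ≤ normalizer (K : Set G)) :
    Nat.card (K ⊔ H : Subgroup G) * Nat.card (K ⊓ H : Subgroup G) = Nat.card K * Nat.card H := by
  have hKn : (K.subgroupOf (K ⊔ H)).Normal :=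
    normal_subgroupOf_of_le_normalizer (sup_le le_normalizer h)
  have h1 := relIndex_sup_left (H.subgroupOf (K ⊔ H)) (K.subgroupOf (K ⊔ H))
  rw [← Subgroup.subgroupOf_sup le_sup_left le_sup_right, Subgroup.subgroupOf_self,
    Subgroup.relIndex_subgroupOf le_sup_right, relIndex_top_right] at h1
  have h2 : Nat.card K * K.relIndex H = Nat.card (K ⊔ H : Subgroup G) := by
    rw [← h1]
    exact card_mul_relIndex le_sup_left
  have h3 : Nat.card (K ⊓ H : Subgroup G) * K.relIndex H = Nat.card H := by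
    rw [← Subgroup.inf_relIndex_right K H]
    exact card_mul_relIndex inf_le_right
  calc _ = Nat.card (K ⊔ H : Subgroup G) * Nat.card (K ⊓ H : Subgroup G) := rfl
    _ = Nat.card K * (Nat.card (K ⊓ H : Subgroup G) * K.relIndex H) := by rw [← h2]; ring
    _ = _ := by rw [h3]

/-- a Sylow 2-subgroup of `Y` containing `T` -/
theorem exists_syl {T Y : Subgroup G} (hT : IsPGroup 2 T) (hTY : T ≤ Y) :
    ∃ P : Subgroup G, IsPGroup 2 P ∧ T ≤ P ∧ P ≤ Y ∧ ∃ m, Odd m ∧ Nat.card Y = Nat.card P * m := by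
  have : Fact (Nat.Prime 2) := ⟨Nat.prime_two⟩
  have h1 : IsPGroup 2 (T.subgroupOf Y) := hT.of_equiv (subgroupOfEquivOfLe hTY).symm
  obtain ⟨P, hP⟩ := h1.exists_le_sylow
  refine ⟨(P : Subgroup Y).map Y.subtype, P.isPGroup'.map _, ?_, ?_, (P : Subgroup Y).index, ?_, ?_⟩
  · intro x hx
    exact ⟨⟨x, hTY hx⟩, hP (mem_subgroupOf.mpr hx), rfl⟩
  · rintro _ ⟨x, _, rfl⟩
    exact x.2
  · have := P.not_dvd_index
    exact Nat.not_even_iff_odd.mp fun h => this h.two_dvd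
  · rw [Subgroup.card_map_of_injective Y.subtype_injective, card_mul_index]

/-- `P ∩ N` is a Sylow 2-subgroup of the normal subgroup `N` -/
theorem inf_syl {P Y N : Subgroup G} (hPY : P ≤ Y) (hm : ∃ m, Odd m ∧ Nat.card Y = Nat.card P * m)
    (hNY : N ≤ Y) (hn : Y ≤ normalizer (N : Set G)) :
    ∃ l, Odd l ∧ Nat.card N = Nat.card (N ⊓ P : Subgroup G) * l := by
  obtain ⟨m, hm, h1⟩ := hm
  have h2 := card_sup_mul (K := N) (H := P) (hPY.trans hn)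
  obtain ⟨l, hl⟩ := card_dvd_of_le (inf_le_left : N ⊓ P ≤ N)
  obtain ⟨j, hj⟩ := card_dvd_of_le (sup_le hNY hPY : N ⊔ P ≤ Y)
  refine ⟨l, ?_, hl⟩
  have p1 : 0 < Nat.card P := Nat.card_pos
  have p2 : 0 < Nat.card (N ⊓ P : Subgroup G) := Nat.card_pos
  have h3 : Nat.card (N ⊓ P : Subgroup G) * Nat.card P * (l * j) =
      Nat.card (N ⊓ P : Subgroup G) * Nat.card P * m := by
    calc _ = (Nat.card (N ⊓ P : Subgroup G) * l) * Nat.card P * j := by ring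
      _ = (Nat.card (N ⊔ P : Subgroup G) * Nat.card (N ⊓ P : Subgroup G)) * j := by rw [← hl, h2]
      _ = (Nat.card (N ⊔ P : Subgroup G) * j) * Nat.card (N ⊓ P : Subgroup G) := by ring
      _ = _ := by rw [← hj, h1]; ring
  have h4 : l * j = m := Nat.eq_of_mul_eq_mul_left (Nat.mul_pos p2 p1) h3
  rw [← h4] at hm
  exact (Nat.odd_mul.mp hm).1

/-- In `X = R R₂`, `R`, `R₂` normal, `|R| = |R₂|`, `R ∩ R₂` of odd order, a Sylow subgroup is the product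
of its intersections. -/
theorem eq_sup {P R R2 : Subgroup G} (hp : IsPGroup 2 P) (hP : P ≤ R ⊔ R2)
    (hm : ∃ m, Odd m ∧ Nat.card (R ⊔ R2 : Subgroup G) = Nat.card P * m)
    (h2 : R2 ≤ normalizer (R : Set G)) (h1 : R ≤ normalizer (R2 : Set G))
    (ho : Odd (Nat.card (R ⊓ R2 : Subgroup G))) (hd : (R ⊓ P) ⊓ (R2 ⊓ P) = ⊥) :
    P ≤ (R ⊓ P) ⊔ (R2 ⊓ P) := by
  have : Fact (Nat.Prime 2) := ⟨Nat.prime_two⟩
  obtain ⟨l1, hl1, e1⟩ := inf_syl hP hm (le_sup_left : R ≤ R ⊔ R2) (sup_le le_normalizer h2)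
  obtain ⟨l2, hl2, e2⟩ := inf_syl hP hm (le_sup_right : R2 ≤ R ⊔ R2) (sup_le h1 le_normalizer)
  obtain ⟨m, hm, e3⟩ := hm
  have e4 := card_sup_mul h2
  have hn : R2 ⊓ P ≤ normalizer ((R ⊓ P : Subgroup G) : Set G) := by
    intro x hx
    refine WThreeAbs.mem_norm fun y hy => mem_inf.mpr ⟨?_, ?_⟩
    · exact (mem_normalizer_iff.mp (h2 (mem_inf.mp hx).1) y).mp (mem_inf.mp hy).1
    · exact P.mul_mem (P.mul_mem (mem_inf.mp hx).2 (mem_inf.mp hy).2) (P.inv_mem (mem_inf.mp hx).2)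
  have e5 := card_sup_mul hn
  rw [hd, Subgroup.card_bot, mul_one] at e5
  have hle : (R ⊓ P) ⊔ (R2 ⊓ P) ≤ P := sup_le inf_le_right inf_le_right
  obtain ⟨c, hc⟩ := card_dvd_of_le hle
  have hpos : 0 < Nat.card ((R ⊓ P) ⊔ (R2 ⊓ P) : Subgroup G) := Nat.card_pos
  have e6 : Nat.card ((R ⊓ P) ⊔ (R2 ⊓ P) : Subgroup G) * (c * m * Nat.card (R ⊓ R2 : Subgroup G)) =
      Nat.card ((R ⊓ P) ⊔ (R2 ⊓ P) : Subgroup G) * (l1 * l2) := by
    calc _ = (Nat.card ((R ⊓ P) ⊔ (R2 ⊓ P) : Subgroup G) * c) * m * Nat.card (R ⊓ R2 : Subgroup G) := by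
          ring
      _ = Nat.card R * Nat.card R2 := by rw [← hc, ← e3, e4]
      _ = (Nat.card (R ⊓ P : Subgroup G) * Nat.card (R2 ⊓ P : Subgroup G)) * (l1 * l2) := by
          rw [e1, e2]; ring
      _ = _ := by rw [← e5]
  have e7 := Nat.eq_of_mul_eq_mul_left hpos e6
  have hodd : Odd (c * m * Nat.card (R ⊓ R2 : Subgroup G)) := by rw [e7]; exact hl1.mul hl2
  have hc1 : Odd c := (Nat.odd_mul.mp (Nat.odd_mul.mp hodd).1).1
  obtain ⟨n, hn⟩ := IsPGroup.iff_card.mp hp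
  have hc2 : c ∣ 2 ^ n := ⟨_, by rw [← hn, hc]; ring⟩
  obtain ⟨k, hk, hk2⟩ := (Nat.dvd_prime_pow Nat.prime_two).mp hc2
  have hc3 : c = 1 := by
    rcases Nat.eq_zero_or_pos k with h | h
    · rw [hk2, h, pow_zero]
    · exfalso
      rw [hk2] at hc1
      have : Even (2 ^ k) := by
        rw [Nat.even_pow]
        exact ⟨even_two, h.ne'⟩
      exact Nat.not_even_iff_odd.mpr hc1 this
  rw [hc3, mul_one] at hc
  exact (Subgroup.eq_of_le_of_card_ge hle hc.le).ge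

end sylow

variable {G : Type*} [Group G] {t : G} {e mu s : ℕ → G}

/-- `R^t` -/
def Rt (t : G) (R : Subgroup G) : Subgroup G := R.map (MulAut.conj t).toMonoidHom

theorem mem_Rt {R : Subgroup G} {x : G} : x ∈ Rt t R ↔ ∃ r ∈ R, x = t * r * t⁻¹ := by
  constructor
  · rintro ⟨r, hr, rfl⟩
    exact ⟨r, hr, rfl⟩
  · rintro ⟨r, hr, rfl⟩
    exact ⟨r, hr, rfl⟩

variable [Finite G] (H : QConf t e mu s) {O R : Subgroup G}

include H

theorem core (hR : Resid t e mu O R) : Core H O := ⟨hR.memO, hR.cenQ⟩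

theorem O_le (hR : Resid t e mu O R) : O ≤ R := by
  intro o ho
  obtain ⟨h1, h2, h3⟩ := (hR.memO o).mp ho
  refine hR.odd o h1 (fun i hi => ⟨i, hi, ?_⟩) fun i hi => ?_
  · rw [h3 i hi, mul_inv_cancel_right]
  · rw [← mul_assoc, h3 i hi, mul_assoc, h2 i hi, ← mul_assoc]

theorem R_le (hR : Resid t e mu O R) : R ≤ DD H := fun r hr => mem_DD.mpr (hR.le r hr)

theorem Rt_norm (hR : Resid t e mu O R) : Rt t R ≤ normalizer (R : Set G) := by
  intro x hx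
  obtain ⟨r', hr', rfl⟩ := mem_Rt.mp hx
  refine WThreeAbs.mem_norm fun r hr => ?_
  have h := O_le H hR (hR.comm r hr r' hr')
  have e1 : t * r' * t⁻¹ * r * (t * r' * t⁻¹)⁻¹ = ⁅r, t * r' * t⁻¹⁆⁻¹ * r := by
    rw [commutatorElement_def]; group
  rw [e1]
  exact R.mul_mem (R.inv_mem h) hr

theorem t_O (hR : Resid t e mu O R) {o : G} (ho : o ∈ O) : t * o * t⁻¹ ∈ O :=
  (mem_normalizer_iff.mp (Core.t_normO (core H hR)) o).mp ho

theorem O_le_Rt (hR : Resid t e mu O R) : O ≤ Rt t R := by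
  intro o ho
  refine mem_Rt.mpr ⟨t * o * t⁻¹, O_le H hR (t_O H hR ho), ?_⟩
  rw [tt_conj H]

theorem R_norm (hR : Resid t e mu O R) : R ≤ normalizer (Rt t R : Set G) := by
  intro r hr
  refine WThreeAbs.mem_norm fun x hx => ?_
  obtain ⟨r', hr', rfl⟩ := mem_Rt.mp hx
  have h := O_le_Rt (H := H) hR (hR.comm r hr r' hr')
  have e1 : r * (t * r' * t⁻¹) * r⁻¹ = ⁅r, t * r' * t⁻¹⁆ * (t * r' * t⁻¹) := by
    rw [commutatorElement_def]; group
  rw [e1]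
  exact (Rt t R).mul_mem h hx

/-- `R ∩ R^t = O` -/
theorem inf_le_O (hR : Resid t e mu O R) {x : G} (hx : x ∈ R) (hx2 : x ∈ Rt t R) : x ∈ O := by
  have C := core H hR
  obtain ⟨r, hr, rfl⟩ := mem_Rt.mp hx2
  have h1 : t * (t * r * t⁻¹) * t⁻¹ ∈ DD H := by rw [tt_conj H]; exact R_le H hR hr
  obtain ⟨i, hi, o, ho, e1⟩ := hR.cen _ hx (mem_DDt h1).2
  have h2 : t * r * t⁻¹ ∈ DD H := R_le H hR hx
  obtain ⟨j, hj, o', ho', e2⟩ := hR.cen _ hr (mem_DDt h2).2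
  have e3 : t * r * t⁻¹ = mu j * e j * (t * o' * t⁻¹) := by
    calc t * r * t⁻¹ = (t * mu j * t⁻¹) * (t * o' * t⁻¹) := by rw [e2]; group
      _ = _ := by rw [t_mu H hj]
  have e4 : (mu j * e j)⁻¹ * mu i = (t * o' * t⁻¹) * o⁻¹ := by
    have e5 : mu i * o = mu j * e j * (t * o' * t⁻¹) := by rw [← e1, e3]
    calc (mu j * e j)⁻¹ * mu i = (mu j * e j)⁻¹ * (mu i * o) * o⁻¹ := by group
      _ = _ := by rw [e5]; group
  have e5 : (mu j * e j)⁻¹ * mu i = 1 := by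
    refine C.inf ?_ (e4 ▸ O.mul_mem (t_O H hR ho') (O.inv_mem ho))
    exact (QQ H).mul_mem ((QQ H).inv_mem ((QQ H).mul_mem (mu_mem H hj) (eps_mem H hj))) (mu_mem H hi)
  rw [inv_mul_eq_one] at e5
  have e6 : mu i = 1 := MM_NN H ⟨i, hi, rfl⟩ ⟨j, hj, e5.symm⟩
  rw [e1, e6, one_mul]
  exact ho

/-- **(E5)** -/
theorem mem_sup_of_word (hR : Resid t e mu O R) {x : G} (hxt : x * t = t * x) {w : List ℕ}
    (hw : ∀ k ∈ w, k < 5) (hx : ∀ i < 16, x * mu i * x⁻¹ = mu (act w i)) : x ∈ R ⊔ Rt t R := by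
  have C := core H hR
  obtain ⟨r, hr, _, h1⟩ := hR.word w hw
  have hrt : t * (t * r * t⁻¹) * t⁻¹ ∈ DD H := by rw [tt_conj H]; exact R_le H hR hr
  obtain ⟨_, c2⟩ := mem_DDt hrt
  have d2 := (hR.le r hr).2
  set y := r * (t * r * t⁻¹) with hy
  have y1 : ∀ i < 16, y * mu i * y⁻¹ = mu (act w i) := by
    intro i hi
    calc y * mu i * y⁻¹ = r * (t * r * t⁻¹ * mu i) * (t * r * t⁻¹)⁻¹ * r⁻¹ := by rw [hy]; group
      _ = r * mu i * r⁻¹ := by rw [c2 i hi]; group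
      _ = _ := h1 i hi
  have y2 : ∀ i < 16, y * (mu i * e i) * y⁻¹ = mu (act w i) * e (act w i) := by
    intro i hi
    calc y * (mu i * e i) * y⁻¹ = r * (t * r * t⁻¹ * (t * mu i * t⁻¹) * (t * r * t⁻¹)⁻¹) * r⁻¹ := by
          rw [hy, t_mu H hi]; group
      _ = r * (t * (r * mu i * r⁻¹) * t⁻¹) * r⁻¹ := by group
      _ = r * (mu (act w i) * e (act w i)) * r⁻¹ := by rw [h1 i hi, t_mu H (act_lt w hi)]
      _ = _ := by rw [d2 _ (act_lt w hi), mul_inv_cancel_right]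
  have x2 : ∀ i < 16, x * (mu i * e i) * x⁻¹ = mu (act w i) * e (act w i) := by
    intro i hi
    have hxt' : t⁻¹ * x⁻¹ = x⁻¹ * t⁻¹ := by rw [← mul_inv_rev, hxt, mul_inv_rev]
    calc x * (mu i * e i) * x⁻¹ = (x * t) * mu i * (t⁻¹ * x⁻¹) := by rw [← t_mu H hi]; group
      _ = t * (x * mu i * x⁻¹) * t⁻¹ := by rw [hxt, hxt']; group
      _ = _ := by rw [hx i hi, t_mu H (act_lt w hi)]
  have key : ∀ a b : G, x * a * x⁻¹ = b → y * a * y⁻¹ = b → x⁻¹ * y * a = a * (x⁻¹ * y) := by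
    intro a b h1 h2
    calc x⁻¹ * y * a = x⁻¹ * (y * a * y⁻¹) * y := by group
      _ = x⁻¹ * (x * a * x⁻¹) * y := by rw [h2, h1]
      _ = _ := by group
  obtain ⟨n, hn, m, hm, o, ho, hk⟩ := C.dec (x := x⁻¹ * y)
    (fun i hi => key _ _ (hx i hi) (y1 i hi)) (fun i hi => key _ _ (x2 i hi) (y2 i hi))
  have e1 : x = y * (n * m * o)⁻¹ := by rw [← hk]; group
  have hyX : y ∈ R ⊔ Rt t R :=
    mul_mem (le_sup_left (a := R) hr) (le_sup_right (a := R) (mem_Rt.mpr ⟨r, hr, rfl⟩))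
  rw [e1]
  refine mul_mem hyX (inv_mem (mul_mem (mul_mem ?_ ?_) ?_))
  · obtain ⟨i, hi, rfl⟩ := hn
    exact le_sup_right (a := R) (mem_Rt.mpr ⟨_, hR.mu_mem i hi, (t_mu H hi).symm⟩)
  · obtain ⟨i, hi, rfl⟩ := hm
    exact le_sup_left (a := R) (hR.mu_mem i hi)
  · exact le_sup_left (a := R) (O_le H hR ho)

omit H in
theorem odd_pow_two {x : G} (h1 : Odd (orderOf x)) {n : ℕ} (h2 : x ^ 2 ^ n = 1) : x = 1 := by
  have h3 := orderOf_dvd_of_pow_eq_one h2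
  have h4 : (orderOf x).Coprime (2 ^ n) := Nat.Coprime.pow_right _ h1.coprime_two_right
  exact orderOf_eq_one_iff.mp (Nat.Coprime.eq_one_of_dvd h4 h3)

end ResidA

open ResidA in
/-- **[WA](E5)** -/
theorem exists_A {G : Type*} [Group G] {t : G} {e mu s : ℕ → G} {O R : Subgroup G} [Finite G]
    (H : QConf t e mu s) (ha : Glue.Aut t e) (hR : Resid t e mu O R)
    (S : Subgroup G) (hS : IsPGroup 2 S) (hSt : ∀ x ∈ S, x * t = t * x) (he : ∀ i < 16, e i ∈ S)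
    (hw : ∀ x ∈ S, ∃ w : List ℕ, (∀ k ∈ w, k < 5) ∧ ∀ i < 16, x * mu i * x⁻¹ = mu (act w i))
    (hc : Nat.card S = 128) :
    ∃ A : Subgroup G, A ≤ R ∧ Nat.card A = 128 ∧ (∀ i < 16, mu i ∈ A) ∧
      (∀ x ∈ S, ∃ a ∈ A, x = a * (t * a * t⁻¹)) ∧ (∀ a ∈ A, a * (t * a * t⁻¹) ∈ S) ∧
      (∀ a ∈ A, ∀ b ∈ A, a * (t * b * t⁻¹) = (t * b * t⁻¹) * a) ∧
      (∀ a ∈ A, ∀ b ∈ A, a = t * b * t⁻¹ → a = 1) := by
  have : Fact (Nat.Prime 2) := ⟨Nat.prime_two⟩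
  have C := core H hR
  -- a 2-group containing `Q`, `S`, `t`
  have hQ2 : IsPGroup 2 (QQ H) := by
    rintro ⟨x, hx⟩
    refine ⟨1, ?_⟩
    apply Subtype.ext
    simpa [pow_two] using QQ_sq H x hx
  have ht2 : IsPGroup 2 (zpowers t) := by
    have h1 : Nat.card (zpowers t) ∣ 2 ^ 1 := by
      rw [Nat.card_zpowers]
      exact orderOf_dvd_of_pow_eq_one (by rw [pow_one, pow_two, H.tt])
    obtain ⟨k, _, hk⟩ := (Nat.dvd_prime_pow Nat.prime_two).mp h1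
    exact IsPGroup.of_card hk
  have hSQ : S ≤ normalizer (QQ H : Set G) := by
    intro x hx
    refine WThreeAbs.mem_norm ?_
    obtain ⟨w, hw1, hw2⟩ := hw x hx
    have hm : ∀ i < 16, x * mu i * x⁻¹ ∈ QQ H := fun i hi => by
      rw [hw2 i hi]; exact mu_mem H (act_lt w hi)
    have hxt : t⁻¹ * x⁻¹ = x⁻¹ * t⁻¹ := by rw [← mul_inv_rev, hSt x hx, mul_inv_rev]
    have hn : ∀ i < 16, x * (mu i * e i) * x⁻¹ ∈ QQ H := by
      intro i hi
      have e1 : x * (mu i * e i) * x⁻¹ = t * (x * mu i * x⁻¹) * t⁻¹ := by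
        calc x * (mu i * e i) * x⁻¹ = (x * t) * mu i * (t⁻¹ * x⁻¹) := by rw [← t_mu H hi]; group
          _ = t * (x * mu i * x⁻¹) * t⁻¹ := by rw [hSt x hx, hxt]; group
      rw [e1]
      exact QQ_t H _ (hm i hi)
    rintro _ ⟨i, hi, j, hj, rfl⟩
    rw [form H hi hj]
    have e1 : x * (mu i * e i * mu (i ^^^ j)) * x⁻¹ =
        (x * (mu i * e i) * x⁻¹) * (x * mu (i ^^^ j) * x⁻¹) := by group
    rw [e1]
    exact mul_mem (hn i hi) (hm _ (xor_lt hi hj))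
  have hSt2 : IsPGroup 2 (S ⊔ zpowers t : Subgroup G) := by
    refine hS.to_sup_of_normal_right' ht2 ?_
    intro x hx
    refine WThreeAbs.mem_norm ?_
    intro y hy
    obtain ⟨n, rfl⟩ := mem_zpowers_iff.mp hy
    have h1 : Commute x t := hSt x hx
    rw [(h1.zpow_right n).eq, mul_inv_cancel_right]
    exact hy
  have hT0 : IsPGroup 2 ((S ⊔ zpowers t) ⊔ QQ H : Subgroup G) := by
    refine hSt2.to_sup_of_normal_right' hQ2 (sup_le hSQ ?_)
    rw [zpowers_le]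
    exact WThreeAbs.mem_norm (QQ_t H)
  -- the groups
  set X := R ⊔ Rt t R with hX
  have htX : t ∈ normalizer (X : Set G) := by
    refine WThreeAbs.mem_norm fun x hx => ?_
    have h1 : X.map (MulAut.conj t).toMonoidHom ≤ X := by
      rw [hX, Subgroup.map_sup]
      refine sup_le le_sup_right ?_
      rintro _ ⟨x, hx, rfl⟩
      obtain ⟨r, hr, rfl⟩ := mem_Rt.mp hx
      have e1 : (MulAut.conj t).toMonoidHom (t * r * t⁻¹) = r := tt_conj H r
      rw [e1]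
      exact le_sup_left (a := R) hr
    exact h1 ⟨x, hx, rfl⟩
  have hSX : S ≤ X := by
    intro x hx
    obtain ⟨w, hw1, hw2⟩ := hw x hx
    exact mem_sup_of_word H hR (hSt x hx) hw1 hw2
  have hQX : QQ H ≤ X := by
    rintro _ ⟨i, hi, j, hj, rfl⟩
    rw [form H hi hj]
    exact mul_mem (le_sup_right (a := R) (mem_Rt.mpr ⟨_, hR.mu_mem i hi, (t_mu H hi).symm⟩))
      (le_sup_left (a := R) (hR.mu_mem _ (xor_lt hi hj)))
  have hT0Y : ((S ⊔ zpowers t) ⊔ QQ H : Subgroup G) ≤ X ⊔ zpowers t :=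
    sup_le (sup_le (hSX.trans le_sup_left) le_sup_right) (hQX.trans le_sup_left)
  obtain ⟨T, hT, hT0T, hTY, hTm⟩ := exists_syl hT0 hT0Y
  have htT : t ∈ T := hT0T (le_sup_left (b := QQ H) (le_sup_right (a := S) (mem_zpowers t)))
  obtain ⟨m1, hm1, em1⟩ := inf_syl hTY hTm (le_sup_left : X ≤ X ⊔ zpowers t)
    (sup_le le_normalizer (by rw [zpowers_le]; exact htX))
  have hTO : ∀ x ∈ T, x ∈ O → x = 1 := by
    intro x hx ho
    obtain ⟨n, hn⟩ := hT ⟨x, hx⟩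
    have hn' : x ^ 2 ^ n = 1 := congrArg Subtype.val hn
    exact odd_pow_two ((hR.memO x).mp ho).1 hn'
  have hP2 : IsPGroup 2 (X ⊓ T : Subgroup G) := hT.to_le inf_le_right
  have hoO : Odd (Nat.card (R ⊓ Rt t R : Subgroup G)) := by
    by_contra hcon
    rw [Nat.not_odd_iff_even] at hcon
    obtain ⟨x, hx⟩ := exists_prime_orderOf_dvd_card' 2 hcon.two_dvd
    have h1 : (x : G) ∈ O := inf_le_O H hR (mem_inf.mp x.2).1 (mem_inf.mp x.2).2
    have h2 := ((hR.memO _).mp h1).1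
    rw [Subgroup.orderOf_coe, hx] at h2
    exact absurd h2 (by decide)
  have hdis : (R ⊓ (X ⊓ T)) ⊓ (Rt t R ⊓ (X ⊓ T)) = ⊥ := by
    rw [eq_bot_iff]
    intro x hx
    obtain ⟨h1, h2⟩ := mem_inf.mp hx
    exact mem_bot.mpr (hTO x (mem_inf.mp (mem_inf.mp h1).2).2
      (inf_le_O H hR (mem_inf.mp h1).1 (mem_inf.mp h2).1))
  have key := eq_sup (P := X ⊓ T) (R := R) (R2 := Rt t R) hP2 inf_le_left ⟨m1, hm1, em1⟩
    (Rt_norm H hR) (R_norm H hR) hoO hdis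
  -- `A₀ = T ∩ R`
  have hcomm : ∀ a ∈ R ⊓ T, ∀ b ∈ R ⊓ T, a * (t * b * t⁻¹) = (t * b * t⁻¹) * a := by
    intro a ha b hb
    obtain ⟨ha1, ha2⟩ := mem_inf.mp ha
    obtain ⟨hb1, hb2⟩ := mem_inf.mp hb
    have htb : t * b * t⁻¹ ∈ T := mul_mem (mul_mem htT hb2) (inv_mem htT)
    have h1 : ⁅a, t * b * t⁻¹⁆ ∈ T := by
      rw [commutatorElement_def]
      exact mul_mem (mul_mem (mul_mem ha2 htb) (inv_mem ha2)) (inv_mem htb)
    exact commutatorElement_eq_one_iff_mul_comm.mp (hTO _ h1 (hR.comm a ha1 b hb1))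
  have hdisj : ∀ a ∈ R ⊓ T, ∀ b ∈ R ⊓ T, a = t * b * t⁻¹ → a = 1 := by
    intro a ha b hb h
    exact hTO a (mem_inf.mp ha).2 (inf_le_O H hR (mem_inf.mp ha).1
      (mem_Rt.mpr ⟨b, (mem_inf.mp hb).1, h⟩))
  have hmu : ∀ i < 16, mu i ∈ R ⊓ T := fun i hi =>
    mem_inf.mpr ⟨hR.mu_mem i hi, hT0T (le_sup_right (a := S ⊔ zpowers t) (mu_mem H hi))⟩
  let φ : (R ⊓ T : Subgroup G) →* G :=
    { toFun := fun a => a * (t * a * t⁻¹)
      map_one' := by simp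
      map_mul' := by
        intro a b
        have h := hcomm b b.2 a a.2
        show (a : G) * b * (t * (a * b) * t⁻¹) = a * (t * a * t⁻¹) * (b * (t * b * t⁻¹))
        calc (a : G) * b * (t * (a * b) * t⁻¹) = a * (b * (t * a * t⁻¹)) * (t * b * t⁻¹) := by group
          _ = _ := by rw [h]; group }
  have hφ : ∀ a : (R ⊓ T : Subgroup G), φ a = a * (t * a * t⁻¹) := fun a => rfl
  have hinj : Function.Injective φ := by
    rw [injective_iff_map_eq_one]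
    intro a ha
    rw [hφ] at ha
    apply Subtype.ext
    refine hdisj a a.2 ((a : G)⁻¹) (inv_mem a.2) ?_
    have h1 : (a : G) = (t * a * t⁻¹)⁻¹ := eq_inv_of_mul_eq_one_left ha
    calc (a : G) = (t * a * t⁻¹)⁻¹ := h1
      _ = t * (a : G)⁻¹ * t⁻¹ := by group
  have hrange : S ≤ φ.range := by
    intro x hx
    have hxT : x ∈ X ⊓ T := mem_inf.mpr ⟨hSX hx,
      hT0T (le_sup_left (b := QQ H) (le_sup_left (b := zpowers t) hx))⟩
    have h1 := key hxT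
    have hn : (Rt t R ⊓ (X ⊓ T) : Subgroup G) ≤ normalizer ((R ⊓ (X ⊓ T) : Subgroup G) : Set G) := by
      intro y hy
      refine WThreeAbs.mem_norm fun z hz => mem_inf.mpr ⟨?_, ?_⟩
      · exact (mem_normalizer_iff.mp (Rt_norm H hR (mem_inf.mp hy).1) z).mp (mem_inf.mp hz).1
      · exact mul_mem (mul_mem (mem_inf.mp hy).2 (mem_inf.mp hz).2) (inv_mem (mem_inf.mp hy).2)
    have h2 : x ∈ ((R ⊓ (X ⊓ T) ⊔ Rt t R ⊓ (X ⊓ T) : Subgroup G) : Set G) := h1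
    rw [coe_mul_of_right_le_normalizer_left _ _ hn] at h2
    obtain ⟨a, ha, c, hc, h3⟩ := h2
    obtain ⟨ha1, ha2⟩ := mem_inf.mp (SetLike.mem_coe.mp ha)
    obtain ⟨hc1, hc2⟩ := mem_inf.mp (SetLike.mem_coe.mp hc)
    obtain ⟨b, hb, rfl⟩ := mem_Rt.mp hc1
    have haA : a ∈ R ⊓ T := mem_inf.mpr ⟨ha1, (mem_inf.mp ha2).2⟩
    have hbA : b ∈ R ⊓ T := by
      refine mem_inf.mpr ⟨hb, ?_⟩
      have h4 := mul_mem (mul_mem (inv_mem htT) (mem_inf.mp hc2).2) htT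
      have e1 : t⁻¹ * (t * b * t⁻¹) * t = b := by group
      rwa [e1] at h4
    have h3' : a * (t * b * t⁻¹) = x := h3
    -- `x^t = x`
    have h5 : t * x * t⁻¹ = x := by rw [← hSt x hx, mul_inv_cancel_right]
    have h6 : t * a * t⁻¹ * b = x := by
      calc t * a * t⁻¹ * b = t * a * t⁻¹ * (t * (t * b * t⁻¹) * t⁻¹) := by rw [tt_conj H]
        _ = t * (a * (t * b * t⁻¹)) * t⁻¹ := by group
        _ = x := by rw [h3', h5]
    have h7 : b * (t * a * t⁻¹) = a * (t * b * t⁻¹) := by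
      rw [hcomm b hbA a haA, h6, h3']
    have h8 : a⁻¹ * b = 1 := by
      refine hdisj _ (mul_mem (inv_mem haA) hbA) (b * a⁻¹) (mul_mem hbA (inv_mem haA)) ?_
      calc a⁻¹ * b = a⁻¹ * (b * (t * a * t⁻¹)) * (t * a * t⁻¹)⁻¹ := by group
        _ = t * (b * a⁻¹) * t⁻¹ := by rw [h7]; group
    have h9 : a = b := inv_mul_eq_one.mp h8
    exact ⟨⟨a, haA⟩, by rw [hφ]; show a * (t * a * t⁻¹) = x; rw [← h3', h9]⟩
  refine ⟨(S.comap φ).map (R ⊓ T).subtype, ?_, ?_, ?_, ?_, ?_, ?_, ?_⟩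
  · rintro _ ⟨a, _, rfl⟩
    exact (mem_inf.mp a.2).1
  · rw [Subgroup.card_map_of_injective (Subgroup.subtype_injective _)]
    rw [← hc, ← Subgroup.map_comap_eq_self hrange, Subgroup.card_map_of_injective hinj,
      Subgroup.map_comap_eq_self hrange]
  · intro i hi
    refine ⟨⟨mu i, hmu i hi⟩, ?_, rfl⟩
    rw [SetLike.mem_coe, mem_comap, hφ]
    show mu i * (t * mu i * t⁻¹) ∈ S
    rw [t_mu H hi, ← mul_assoc, mu_sq H hi, one_mul]
    exact he i hi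
  · intro x hx
    obtain ⟨a, ha⟩ := hrange hx
    refine ⟨a, ⟨a, ?_, rfl⟩, ha.symm⟩
    rw [SetLike.mem_coe, mem_comap, ha]
    exact hx
  · rintro _ ⟨a, ha, rfl⟩
    exact ha
  · rintro _ ⟨a, ha, rfl⟩ _ ⟨b, hb, rfl⟩
    exact hcomm a a.2 b b.2
  · rintro _ ⟨a, ha, rfl⟩ _ ⟨b, hb, rfl⟩
    exact hdisj a a.2 b b.2

end Cfsg.Agent.TypeM
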