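import Cfsg.Agent.TypeM.GlueW

/-!
# `C(Q) = Q × O` (bridge [WA](E) of Theorem W of S1739)
-/

set_option autoImplicit false

namespace Cfsg.Agent.TypeM

open Subgroup WThree

variable {G : Type*} [Group G] {t : G} {e mu s : ℕ → G}

/-- commuting with the `e i` and the `mu i` is commuting with `Q` -/
theorem mem_cen_iff (H : QConf t e mu s) {x : G} :
    x ∈ centralizer (QQ H : Set G) ↔ (∀ i < 16, x * e i = e i * x) ∧ (∀ i < 16, x * mu i = mu i * x) := by
  rw [mem_centralizer_iff]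
  constructor
  · intro h
    exact ⟨fun i hi => (h _ (eps_mem H hi)).symm, fun i hi => (h _ (mu_mem H hi)).symm⟩
  · rintro ⟨h1, h2⟩ y hy
    obtain ⟨i, hi, j, hj, rfl⟩ := mem_QQ.mp hy
    rw [mul_assoc, ← h2 j hj, ← mul_assoc, ← h1 i hi, mul_assoc]

theorem exists_core [Finite G] (H : QConf t e mu s) :
    ∃ O : Subgroup G,
      (∀ x, x ∈ O ↔ Odd (orderOf x) ∧ (∀ i < 16, x * e i = e i * x) ∧
        (∀ i < 16, x * mu i = mu i * x)) ∧
      (∀ x, (∀ i < 16, x * e i = e i * x) → (∀ i < 16, x * mu i = mu i * x) →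
        ∃ i < 16, ∃ j < 16, ∃ o ∈ O, x = e i * mu j * o) := by
  have : Fact (Nat.Prime 2) := ⟨Nat.prime_two⟩
  set C := centralizer (QQ H : Set G) with hC
  have hQC : QQ H ≤ C := fun x hx => by
    rw [hC, mem_centralizer_iff]
    exact fun y hy => QQ_comm H y hy x hx
  have hcen : ∀ x ∈ C, ∀ y ∈ QQ H, x * y = y * x := fun x hx y hy =>
    (mem_centralizer_iff.mp hx y hy).symm
  set Q' := (QQ H).subgroupOf C with hQ'
  have hmem : ∀ x : C, x ∈ Q' ↔ (x : G) ∈ QQ H := fun x => mem_subgroupOf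
  have hp : IsPGroup 2 Q' := by
    rintro ⟨⟨x, hx⟩, hxQ⟩
    refine ⟨1, ?_⟩
    have h1 := QQ_sq H x ((hmem _).mp hxQ)
    apply Subtype.ext
    apply Subtype.ext
    simpa [pow_two] using h1
  let P : Sylow 2 C := ⟨Q', hp, by
    intro Q2 h2 hle
    refine le_antisymm (fun x hx => ?_) hle
    rw [hmem]
    obtain ⟨k, hk⟩ := h2 ⟨x, hx⟩
    have hk' : (x : G) ^ 2 ^ k = 1 := by
      have := congrArg (fun z : Q2 => ((z : C) : G)) hk
      simpa using this
    obtain ⟨c1, c2⟩ := (mem_cen_iff H).mp x.2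
    obtain ⟨i, hi, j, hj, e1⟩ := H.cenQ _ ⟨k, hk'⟩ c1 c2
    exact mem_QQ.mpr ⟨i, hi, j, hj, e1⟩⟩
  have hP : normalizer (P : Set C) ≤ centralizer (P : Set C) := by
    intro x _
    rw [mem_centralizer_iff]
    intro y hy
    apply Subtype.ext
    exact (hcen x x.2 y ((hmem y).mp hy)).symm
  set N := (MonoidHom.transferSylow P hP).ker with hN
  have hcompl : IsComplement' N (P : Subgroup C) := MonoidHom.ker_transferSylow_isComplement' P hP
  have hodd : ¬ 2 ∣ Nat.card N := MonoidHom.not_dvd_card_ker_transferSylow P hP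
  -- decomposition
  have hdec : ∀ x ∈ C, ∃ n : C, n ∈ N ∧ ∃ y ∈ QQ H, x = y * n := by
    intro x hx
    obtain ⟨⟨n, p⟩, hnp⟩ := hcompl.2 ⟨x, hx⟩
    have hpQ : ((p : C) : G) ∈ QQ H := (hmem _).mp p.2
    refine ⟨n, n.2, _, hpQ, ?_⟩
    have h1 : ((n : C) : G) * ((p : C) : G) = x := congrArg Subtype.val hnp
    rw [← h1]
    exact hcen _ (n : C).2 _ hpQ
  have hNodd : ∀ n : C, n ∈ N → Odd (orderOf (n : G)) := by
    intro n hn
    have h1 : orderOf (n : G) ∣ Nat.card N := by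
      have h2 : orderOf (⟨n, hn⟩ : N) ∣ Nat.card N := orderOf_dvd_natCard _
      rwa [← orderOf_injective N.subtype N.subtype_injective, subtype_apply,
        ← orderOf_injective C.subtype C.subtype_injective, subtype_apply] at h2
    rcases Nat.even_or_odd (orderOf (n : G)) with h2 | h2
    · exact absurd (h2.two_dvd.trans h1) hodd
    · exact h2
  refine ⟨N.map C.subtype, fun x => ⟨?_, ?_⟩, fun x h1 h2 => ?_⟩
  · rintro ⟨n, hn, rfl⟩
    exact ⟨hNodd n hn, (mem_cen_iff H).mp n.2⟩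
  · rintro ⟨hx, hxc⟩
    have hxC := (mem_cen_iff H).mpr hxc
    obtain ⟨n, hn, y, hy, e1⟩ := hdec x hxC
    have hy1 : y = 1 := by
      have hc : Commute y (n : G) := (hcen _ n.2 _ hy).symm
      obtain ⟨a, ha⟩ := hx.mul (hNodd n hn)
      have h3 : x ^ (orderOf x * orderOf (n : G)) = 1 := by
        rw [pow_mul, pow_orderOf_eq_one, one_pow]
      rw [e1, hc.mul_pow, ← e1] at h3
      have h4 : (n : G) ^ (orderOf x * orderOf (n : G)) = 1 := by
        rw [mul_comm, pow_mul, pow_orderOf_eq_one, one_pow]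
      rw [h4, mul_one, ha, pow_succ, pow_mul, pow_two, QQ_sq H y hy, one_pow, one_mul] at h3
      exact h3
    exact ⟨n, hn, by rw [e1, hy1, one_mul]; rfl⟩
  · obtain ⟨n, hn, y, hy, e1⟩ := hdec x ((mem_cen_iff H).mpr ⟨h1, h2⟩)
    obtain ⟨i, hi, j, hj, rfl⟩ := mem_QQ.mp hy
    exact ⟨i, hi, j, hj, n, ⟨n, hn, rfl⟩, e1⟩

end Cfsg.Agent.TypeM
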