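import Cfsg.Agent.TypeM.QConf
import Cfsg.Agent.TypeM.Glue
import Cfsg.Agent.TypeM.WFourAbs

/-!
# 2-subgroups of `C(t) ∩ N(E)` have order at most `2^8` (bridge [WA](E), (W6), of Theorem W of S1739)
-/

set_option autoImplicit false

namespace Cfsg.Agent.TypeM

open Subgroup Equiv

namespace ResidCard

open WFour (triple)

/-- the generators on 7 points -/
def P7 : ℕ → Perm (Fin 7)
  | 0 => swap 1 5 * swap 2 3
  | 1 => swap 0 6 * swap 1 3
  | 2 => swap 0 3 * swap 1 6
  | 3 => swap 0 4 * swap 2 3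
  | 4 => swap 0 6 * swap 1 2
  | _ => 1

theorem P7_p7 : ∀ k < 5, ∀ i : Fin 7, ((P7 k i : Fin 7) : ℕ) = WFour.p7 k i := by decide +kernel

theorem P7_alt : ∀ k < 5, P7 k ∈ alternatingGroup (Fin 7) := by
  intro k hk
  rw [Perm.mem_alternatingGroup]
  revert k
  decide +kernel

/-- the permutation of a word -/
def wp (w : List ℕ) : Perm (Fin 7) := (w.map P7).prod

theorem wp_cons (k : ℕ) (w : List ℕ) : wp (k :: w) = P7 k * wp w := by simp [wp]

theorem wp_append (w w' : List ℕ) : wp (w ++ w') = wp w * wp w' := by simp [wp]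

theorem wp_alt (w : List ℕ) (hw : ∀ k ∈ w, k < 5) : wp w ∈ alternatingGroup (Fin 7) := by
  induction w with
  | nil => exact one_mem _
  | cons k w ih =>
    rw [wp_cons]
    exact mul_mem (P7_alt k (hw k List.mem_cons_self)) (ih fun j hj => hw j (List.mem_cons_of_mem _ hj))

theorem triple_act (w : List ℕ) (hw : ∀ k ∈ w, k < 5) (i : Fin 7) {u v : ℕ} (hu : u < 16)
    (hv : v < 16) : (triple (act w u) (act w v)).testBit (wp w i : Fin 7) = (triple u v).testBit i := by
  induction w with
  | nil => rfl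
  | cons k w ih =>
    have hk := hw k List.mem_cons_self
    rw [act_cons, act_cons, wp_cons, Perm.mul_apply, P7_p7 k hk,
      WFour.triple_gm k hk _ (wp w i).2 _ (act_lt w hu) _ (act_lt w hv)]
    exact ih fun j hj => hw j (List.mem_cons_of_mem _ hj)

theorem sep : ∀ j < 7, ∀ j' < 7, (∀ u < 16, ∀ v < 16, (triple u v).testBit j = (triple u v).testBit j') →
    j = j' := by decide +kernel

theorem wp_unique {w w' : List ℕ} (hw : ∀ k ∈ w, k < 5) (hw' : ∀ k ∈ w', k < 5)
    (h : ∀ i < 16, act w i = act w' i) : wp w = wp w' := by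
  ext i
  refine sep _ (wp w i).2 _ (wp w' i).2 fun u' hu' v' hv' => ?_
  obtain ⟨u, hu, rfl⟩ := act_surj w hw u' hu'
  obtain ⟨v, hv, rfl⟩ := act_surj w hw v' hv'
  rw [triple_act w hw i hu hv, h u hu, h v hv, triple_act w' hw' i hu hv]

def chk : Bool :=
  (List.range 16).all fun u => (List.range 16).all fun u' => u == 0 || u == u' ||
    (List.range 16).any fun v => !(List.range 16).any fun v' => triple u' v' == triple u v

set_option maxRecDepth 100000 in
theorem chk_true : chk = true := by decide +kernel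

theorem fix_of_triple {w : List ℕ} (hw : ∀ k ∈ w, k < 5) (h : wp w = 1) : ∀ i < 16, act w i = i := by
  have h1 : ∀ u < 16, ∀ v < 16, triple (act w u) (act w v) = triple u v := by
    intro u hu v hv
    apply Nat.eq_of_testBit_eq
    intro i
    by_cases hi : i < 7
    · have h2 := triple_act w hw ⟨i, hi⟩ hu hv
      rw [h, Perm.one_apply] at h2
      exact h2
    · have h3 : ∀ a b : ℕ, (triple a b).testBit i = false := fun a b =>
        Nat.testBit_eq_false_of_lt (lt_of_lt_of_le (WFour.triple_lt a b)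
          (Nat.pow_le_pow_right (by norm_num) (by omega)))
      rw [h3, h3]
  intro u hu
  have h2 := chk_true
  simp only [chk, List.all_eq_true, List.mem_range] at h2
  have h3 := h2 u hu (act w u) (act_lt w hu)
  simp only [Bool.or_eq_true, beq_iff_eq, List.any_eq_true, Bool.not_eq_true',
    List.any_eq_false, List.mem_range] at h3
  rcases h3 with (h3 | h3) | ⟨v, hv, h3⟩
  · rw [h3]
    exact WFour.act_zero hw
  · exact h3.symm
  · exact absurd (h1 u hu v hv) (by simpa using h3 (act w v) (act_lt w hv))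

/-- a subgroup of `A₇` that is a 2-group has order at most 8 -/
theorem card_le_eight {K : Subgroup (Perm (Fin 7))} (hK : IsPGroup 2 K)
    (h : K ≤ alternatingGroup (Fin 7)) : Nat.card K ≤ 8 := by
  have : Fact (Nat.Prime 2) := ⟨Nat.prime_two⟩
  obtain ⟨n, hn⟩ := IsPGroup.iff_card.mp hK
  have h1 : Nat.card K ∣ Nat.card (alternatingGroup (Fin 7)) := card_dvd_of_le h
  have h2 : Nat.card (alternatingGroup (Fin 7)) = 2520 := by
    rw [nat_card_alternatingGroup, Nat.card_eq_fintype_card, Fintype.card_fin]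
    decide
  rw [hn, h2] at h1
  rw [hn]
  have h3 : n ≤ 3 := by
    by_contra hcon
    have h4 : 2 ^ 4 ∣ 2520 := (pow_dvd_pow 2 (by omega)).trans h1
    exact absurd h4 (by decide)
  calc 2 ^ n ≤ 2 ^ 3 := Nat.pow_le_pow_right (by norm_num) h3
    _ = 8 := by norm_num

end ResidCard

open ResidCard in
/-- **(W6)**: a 2-subgroup of `C(t)` normalising `E` has order at most `2^8`. -/
theorem card_le {G : Type*} [Group G] {t : G} {e mu s : ℕ → G} [Finite G] (H : QConf t e mu s)
    (ha : Glue.Aut t e) (T : Subgroup G) (hT : IsPGroup 2 T) (hTt : ∀ x ∈ T, x * t = t * x)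
    (hTe : ∀ r ∈ T, ∀ i < 16, ∃ j < 16, r * e i * r⁻¹ = e j) : Nat.card T ≤ 2 ^ 8 := by
  classical
  have hinj : ∀ i < 16, ∀ j < 16, e i = e j → i = j := by
    intro i hi j hj h
    have h1 : e (i ^^^ j) = 1 := by rw [← H.εmul i hi j hj, h, WThree.eps_sq H hj]
    have h2 := (H.inj (i ^^^ j) (xor_lt hi hj) 0 (by norm_num) (by
      rw [h1, WThree.mu_zero H, one_mul])).1
    exact Nat.xor_eq_zero_iff.mp h2
  have hex : ∀ x : T, ∃ w : List ℕ, (∀ k ∈ w, k < 5) ∧
      ∀ i < 16, (x : G) * e i * (x : G)⁻¹ = e (act w i) := fun x => ha x (hTt x x.2) (hTe x x.2)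
  choose w hw1 hw2 using hex
  let σ : T →* Perm (Fin 7) := MonoidHom.mk' (fun x => wp (w x)) (by
    intro x y
    show wp (w (x * y)) = wp (w x) * wp (w y)
    rw [← wp_append]
    refine wp_unique (hw1 _) ?_ fun i hi => ?_
    · intro k hk
      rcases List.mem_append.mp hk with h | h
      · exact hw1 x k h
      · exact hw1 y k h
    · rw [act_append]
      refine hinj _ (act_lt _ hi) _ (act_lt _ (act_lt _ hi)) ?_
      rw [← hw2 (x * y) i hi, ← hw2 x _ (act_lt _ hi), ← hw2 y i hi]
      show (x : G) * y * e i * ((x : G) * y)⁻¹ = _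
      group)
  have hσ : ∀ x, σ x = wp (w x) := fun x => rfl
  have hker : Nat.card σ.ker ≤ 32 := by
    let f : σ.ker → Fin 16 × Bool → Prop := fun x p => ((x : T) : G) = if p.2 then t * e p.1 else e p.1
    have hf : ∀ x : σ.ker, ∃ p, f x p := by
      intro x
      have h1 : wp (w (x : T)) = 1 := x.2
      have h2 := fix_of_triple (hw1 _) h1
      obtain ⟨n, hn⟩ := hT (x : T)
      have hn' : ((x : T) : G) ^ 2 ^ n = 1 := congrArg Subtype.val hn
      obtain ⟨i, hi, h3⟩ := H.cenF ((x : T) : G) ⟨n, hn'⟩ (hTt _ (x : T).2).symm (fun i hi => by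
        have h4 := hw2 (x : T) i hi
        rw [h2 i hi, mul_inv_eq_iff_eq_mul] at h4
        exact h4)
      rcases h3 with h3 | h3
      · exact ⟨(⟨i, hi⟩, false), h3⟩
      · exact ⟨(⟨i, hi⟩, true), h3⟩
    choose p hp using hf
    have hpi : Function.Injective p := by
      intro x y hxy
      have h1 := hp x
      have h2 := hp y
      rw [hxy] at h1
      apply Subtype.ext
      apply Subtype.ext
      exact h1.trans h2.symm
    have := Nat.card_le_card_of_injective p hpi
    simpa using this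
  have hrange : Nat.card σ.range ≤ 8 := by
    refine card_le_eight ?_ ?_
    · rintro ⟨_, ⟨x, rfl⟩⟩
      obtain ⟨n, hn⟩ := hT x
      refine ⟨n, ?_⟩
      apply Subtype.ext
      show (σ x) ^ 2 ^ n = 1
      rw [← map_pow, hn, map_one]
    · rintro _ ⟨x, rfl⟩
      exact wp_alt _ (hw1 x)
  have h1 := σ.ker.card_mul_index
  rw [Subgroup.index_ker] at h1
  calc Nat.card T = Nat.card σ.ker * Nat.card σ.range := h1.symm
    _ ≤ 32 * 8 := Nat.mul_le_mul hker hrange
    _ = 2 ^ 8 := by norm_num

end Cfsg.Agent.TypeM
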