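import Cfsg.Agent.TypeM.SRel
import Cfsg.Agent.TypeM.OddConj
import Cfsg.Agent.TypeM.Lift

/-!
# The 2-group `S = E E' ⟨b⟩` of order 128 in `L` and in `K`

(piece [WA] of Theorem W, S1739)
-/

set_option autoImplicit false

namespace Cfsg.Agent.TypeM.SLift

open Subgroup Cfsg.Agent.TypeM.LyL Cfsg.Agent.TypeM.SRel

/-- The relations between the two elementary abelian groups. -/
structure PairRel {L : Type*} [Group L] (ε s ε' s' : ℕ → L) : Prop where
  b : s' 1 = s 1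
  e8' : ε' 8 = s 0

section L

variable {L : Type*} [Group L] {ε s ε' s' : ℕ → L}

theorem act_pow {x : L} {k : ℕ} (hk : k < 5) (hx : ∀ i < 16, x * ε i = ε (gm k i) * x) :
    ∀ m, Odd m → ∀ i < 16, x ^ m * ε i = ε (gm k i) * x ^ m := by
  rintro m ⟨q, rfl⟩ i hi
  have h1 : ∀ i < 16, (x ^ 2) * ε i = ε i * x ^ 2 := by
    intro i hi
    rw [pow_two, mul_assoc, hx i hi, ← mul_assoc, hx _ (gm_lt k i), gm_gm k hk i hi, mul_assoc]
  have h2 : ∀ q : ℕ, ∀ i < 16, (x ^ 2) ^ q * ε i = ε i * (x ^ 2) ^ q := by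
    intro q i hi
    have : Commute (x ^ 2) (ε i) := h1 i hi
    exact (this.pow_left q).eq
  rw [pow_succ, pow_mul, mul_assoc, hx i hi, ← mul_assoc, h2 q _ (gm_lt k i), mul_assoc]

/-- action of `{ε' j}` on `{ε i}` -/
theorem nact (E : ELoc ε s) (E' : ELoc ε' s') (low : ∀ i < 4, ε' i = ε i) (R : PairRel ε s ε' s') :
    ∀ j < 16, ∀ i < 16, ε' j * ε i = ε (act (cl (j / 4)) i) * ε' j := by
  have comm : ∀ i < 16, ∀ j < 16, ε i * ε j = ε j * ε i := fun i hi j hj => by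
    rw [E.mul i hi j hj, E.mul j hj i hi, Nat.xor_comm]
  have zero' : ε' 0 = 1 := by
    have := E'.mul 0 (by norm_num) 0 (by norm_num)
    simpa using this
  have h8 : ∀ i < 16, ε' 8 * ε i = ε (gm 0 i) * ε' 8 := fun i hi => by
    rw [R.e8']; exact E.sε 0 (by norm_num) i hi
  have e4 : ε' 4 = s 1 * ε' 8 * (s 1)⁻¹ := by
    have := E'.sε 1 (by norm_num) 8 (by norm_num)
    rw [show gm 1 8 = 4 by decide, R.b] at this
    rw [this, mul_inv_cancel_right]
  have hb : ∀ i < 16, (s 1)⁻¹ * ε i = ε (gm 1 i) * (s 1)⁻¹ := by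
    intro i hi
    have := E.sε 1 (by norm_num) (gm 1 i) (gm_lt 1 i)
    rw [gm_gm 1 (by norm_num) i hi] at this
    rw [inv_mul_eq_iff_eq_mul, ← mul_assoc, this, mul_inv_cancel_right]
  have h4 : ∀ i < 16, ε' 4 * ε i = ε (gm 1 (gm 0 (gm 1 i))) * ε' 4 := by
    intro i hi
    rw [e4, mul_assoc, hb i hi, ← mul_assoc, mul_assoc (s 1), h8 _ (gm_lt 1 i), ← mul_assoc,
      E.sε 1 (by norm_num) _ (gm_lt 0 _)]
    simp only [mul_assoc]
  have hc : ∀ c < 4, ∀ i < 16, ε' (4 * c) * ε i = ε (act (cl c) i) * ε' (4 * c) := by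
    intro c hc i hi
    interval_cases c
    · rw [mul_zero, zero', one_mul, mul_one]; rfl
    · exact h4 i hi
    · exact h8 i hi
    · have e12 : ε' (4 * 3) = ε' 4 * ε' 8 := by
        rw [E'.mul 4 (by norm_num) 8 (by norm_num)]; rfl
      rw [e12, mul_assoc, h8 i hi, ← mul_assoc, h4 _ (gm_lt 0 i), mul_assoc]
      rfl
  intro j hj i hi
  have hsp : ∀ j < 16, 4 * (j / 4) ^^^ (j % 4) = j := by decide
  have e : ε' j = ε' (4 * (j / 4)) * ε (j % 4) := by
    rw [← low (j % 4) (by omega), E'.mul _ (by omega) _ (by omega), hsp j hj]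
  rw [e, mul_assoc, comm _ (by omega) _ hi, ← mul_assoc, hc _ (by omega) i hi, mul_assoc]

theorem fix_low : ∀ i < 4, gm 1 i = i → i = 0 ∨ i = 1 := by decide +kernel

/-- **The group `S` in `L`.** -/
theorem exists_SRel_L [Finite L] (F : LFacts ε s ε' s') (R : PairRel ε s ε' s') : ∃ b : L, SRel ε ε' b := by
  have hact := nact F.E F.E' F.low R
  have comm : ∀ i < 16, ∀ j < 16, ε i * ε j = ε j * ε i := fun i hi j hj => by
    rw [F.E.mul i hi j hj, F.E.mul j hj i hi, Nat.xor_comm]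
  have comm' : ∀ i < 16, ∀ j < 16, ε' i * ε' j = ε' j * ε' i := fun i hi j hj => by
    rw [F.E'.mul i hi j hj, F.E'.mul j hj i hi, Nat.xor_comm]
  obtain ⟨m, hm, n, hn⟩ := OddConj.exists_two_pow (s 1)
  set x : L := s 1 ^ m with hx
  have h1 : ∀ i < 16, x * ε i = ε (gm 1 i) * x := act_pow (by norm_num) (F.E.sε 1 (by norm_num)) m hm
  have h1' : ∀ i < 16, x * ε' i = ε' (gm 1 i) * x :=
    act_pow (by norm_num) (fun i hi => by rw [← R.b]; exact F.E'.sε 1 (by norm_num) i hi) m hm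
  have h2 : TwoElt (x * x) := ⟨n, by rw [← pow_two, ← pow_mul, mul_comm, pow_mul, hn, one_pow]⟩
  have h3 : ∀ i < 16, x * x * ε i = ε i * (x * x) := by
    intro i hi
    rw [mul_assoc, h1 i hi, ← mul_assoc, h1 _ (gm_lt 1 i), gm_gm 1 (by norm_num) i hi, mul_assoc]
  have h3' : ∀ i < 16, x * x * ε' i = ε' i * (x * x) := by
    intro i hi
    rw [mul_assoc, h1' i hi, ← mul_assoc, h1' _ (gm_lt 1 i), gm_gm 1 (by norm_num) i hi, mul_assoc]
  obtain ⟨i, hi, h4⟩ := F.E.cen _ h2 h3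
  have eq_of : ∀ i < 16, ∀ j < 16, ε i = ε j → i = j := by
    intro i hi j hj h
    have zero : ε 0 = 1 := by
      have := F.E.mul 0 (by norm_num) 0 (by norm_num)
      simpa using this
    have h5 : ε (i ^^^ j) = 1 := by
      rw [← F.E.mul i hi j hj, h, F.E.mul j hj j hj, Nat.xor_self, zero]
    exact Nat.xor_eq_zero_iff.1 (F.E.inj _ (xor_lt hi hj) h5)
  have h5 : i < 4 := by
    refine cl_fix 1 (by norm_num) (by norm_num) i hi (eq_of _ (act_lt _ hi) _ hi ?_)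
    have h6 := hact 4 (by norm_num) i hi
    have h7 := h3' 4 (by norm_num)
    rw [h4] at h7
    rw [← h7] at h6
    exact (mul_right_cancel h6).symm
  have h6 : gm 1 i = i := by
    refine eq_of _ (gm_lt 1 i) _ hi ?_
    have h7 := h1 i hi
    rw [← h4] at h7
    have h8 : x * (x * x) = x * x * x := by group
    rw [h8, h4] at h7
    exact (mul_right_cancel h7).symm
  have base : ∀ y : L, y * y = 1 → (∀ i < 16, y * ε i = ε (gm 1 i) * y) → (∀ i < 16, y * ε' i = ε' (gm 1 i) * y) →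
      SRel ε ε' y := fun y hy h h' =>
    ⟨F.E.mul, F.E.inj, F.E'.mul, F.E'.inj, F.low, hact, hy, h, h'⟩
  rcases fix_low i h5 h6 with h7 | h7
  · refine ⟨x, base x ?_ h1 h1'⟩
    rw [h4, h7]
    have := F.E.mul 0 (by norm_num) 0 (by norm_num)
    simpa using this
  · refine ⟨x * ε 2, base _ ?_ ?_ ?_⟩
    · have h8 : ε 2 * x = x * ε 3 := by
        rw [h1 3 (by norm_num), show gm 1 3 = 2 by decide]
      calc x * ε 2 * (x * ε 2) = x * (ε 2 * x) * ε 2 := by group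
        _ = (x * x) * (ε 3 * ε 2) := by rw [h8]; group
        _ = ε 1 * ε 1 := by rw [h4, h7, F.E.mul 3 (by norm_num) 2 (by norm_num)]; rfl
        _ = 1 := by
          rw [F.E.mul 1 (by norm_num) 1 (by norm_num), Nat.xor_self]
          have := F.E.mul 0 (by norm_num) 0 (by norm_num)
          simpa using this
    · intro i hi
      rw [mul_assoc, comm 2 (by norm_num) i hi, ← mul_assoc, h1 i hi, mul_assoc]
    · intro i hi
      rw [mul_assoc, ← F.low 2 (by norm_num), comm' 2 (by norm_num) i hi, ← mul_assoc, h1' i hi, mul_assoc]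

end L

section K

variable {G L : Type*} [Group G] [Group L] {K : Subgroup G} {π : K →* L}

/-- **The group `S` in `K`.** -/
theorem exists_SRel_K [Finite G] (hπ : Function.Surjective π) (hodd : Odd (Nat.card π.ker)) {ε ε' : ℕ → L} {b₀ : L}
    (S : SRel ε ε' b₀) : ∃ e e' : ℕ → G, ∃ b : G, SRel e e' b ∧ (∀ i < 16, ∃ h : e i ∈ K, π ⟨e i, h⟩ = ε i) ∧
      (∀ i < 16, ∃ h : e' i ∈ K, π ⟨e' i, h⟩ = ε' i) ∧ b ∈ K := by
  obtain ⟨P, hP, h1, h2, h3⟩ := exists_lift_two π hπ hodd S.S S.isPGroup_S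
  have h4 : ∀ a : L, ∃ x : K, a ∈ S.S → x ∈ P ∧ π x = a := by
    intro a
    by_cases ha : a ∈ S.S
    · obtain ⟨x, hx, hx'⟩ := h2 a ha
      exact ⟨x, fun _ => ⟨hx, hx'⟩⟩
    · exact ⟨1, fun h => absurd h ha⟩
  choose f hf using h4
  have hmul : ∀ x ∈ S.S, ∀ y ∈ S.S, f (x * y) = f x * f y := by
    intro x hx y hy
    refine h3 _ (hf _ (mul_mem hx hy)).1 _ (mul_mem (hf x hx).1 (hf y hy).1) ?_
    rw [(hf _ (mul_mem hx hy)).2, map_mul, (hf x hx).2, (hf y hy).2]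
  have hinj : ∀ x ∈ S.S, f x = 1 → x = 1 := by
    intro x hx h
    rw [← (hf x hx).2, h, map_one]
  have hS := S.map (fun x => ((f x : K) : G)) (fun x hx y hy => by rw [hmul x hx y hy]; rfl)
    (fun x hx h => hinj x hx (Subtype.ext h))
  refine ⟨_, _, _, hS, fun i hi => ⟨(f (ε i)).2, (hf _ (S.mu_mem hi)).2⟩,
    fun i hi => ⟨(f (ε' i)).2, (hf _ (S.nu_mem hi)).2⟩, (f b₀).2⟩

end K

end Cfsg.Agent.TypeM.SLift
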