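import Cfsg.Agent.TypeM.GEnd
import Cfsg.Agent.TypeM.ResidA
import Cfsg.Agent.TypeM.ResidCard

/-!
# The output of the bridge from the local part to the end of the wreath pattern

(piece [WA] of Theorem W, S1739)

`Hyp` + second frame: everything about the group `A` of order 128, from `BaseS.Data` alone.
-/

set_option autoImplicit false

namespace Cfsg.Agent.TypeM.WAOut

open Subgroup Cfsg.Agent.TypeM.LyL Cfsg.Agent.TypeM.SRel Cfsg.Agent.TypeM.OddF Cfsg.Agent.TypeM.Glue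
open Cfsg.Agent.TypeM.GlueW Cfsg.Agent.TypeM.AMap Cfsg.Agent.TypeM.Cmp

variable {G : Type*} [Group G] {t : G}

/-- The two frames `M₁ = {μ i}`, `M₂ = {ν i}` with the groups `O`, `R` of both, and the group `A ≤ R ∩ R₂`. -/
structure WOut (t : G) (K : Subgroup G) (e e' : ℕ → G) (b : G) (μ σ μ' σ' ν σ₂ : ℕ → G) (β : G)
    (O R A O' O₂ R₂ : Subgroup G) : Prop where
  hyp : Hyp t K e e' b μ σ μ' σ' ν β O R A O'
  Q₂ : QConf t e' ν σ₂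
  dbl₂ : Dbl e' ν
  res₂ : Resid t e' ν O₂ R₂

/-- the first frame: `e i = μ i * (μ i)ᵗ` -/
theorem e_eq {e μ σ : ℕ → G} (Q : QConf t e μ σ) {i : ℕ} (hi : i < 16) : e i = μ i * (t * μ i * t⁻¹) := by
  rw [Base.conj_t Q hi, ← mul_assoc, Q.μmul i hi i hi, Nat.xor_self, WThree.mu_zero Q, one_mul]

/-- **[WA].** -/
theorem exists_wout [Finite G] {K : Subgroup G} {e e' : ℕ → G} {b : G} {μ σ μ' σ' : ℕ → G}
    (D : BaseS.Data t K e e' b μ σ μ' σ') :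
    ∃ (ν σ₂ : ℕ → G) (β : G) (O R A O' O₂ R₂ : Subgroup G), WOut t K e e' b μ σ μ' σ' ν σ₂ β O R A O' O₂ R₂ := by
  obtain ⟨O, R, hR⟩ := exists_resid D.Q D.dbl
  have hSK : D.S.S ≤ K := D.S.S_le D.eK D.eK' D.bK
  obtain ⟨A, h1, h2, h3, h4, h5, h6, h7⟩ := exists_A D.Q D.aut hR D.S.S D.S.isPGroup_S
    (fun x hx => D.Kt x (hSK hx)) (fun i hi => D.S.mu_mem hi)
    (fun x hx => by
      obtain ⟨w, hw, -, h⟩ := D.inv x hx
      exact ⟨w, hw, h⟩) D.S.card_S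
  have hA : AOut t D.S.S A R μ := ⟨h1, h2, h3, h4, h5, h6, h7⟩
  obtain ⟨ν, β, hS, hAS, he', hb⟩ := exists_srel hA D.S rfl fun i hi => e_eq D.Q hi
  obtain ⟨O', hO', km⟩ := D.km'
  have h : Hyp t K e e' b μ σ μ' σ' ν β O R A O' := ⟨D, hR, hA, hS, hAS, he', hb, hO', km⟩
  obtain ⟨σ₂, Q₂, D₂⟩ := CmpEnd.exists_frame h
  obtain ⟨O₂, R₂, hR₂⟩ := exists_resid Q₂ D₂
  exact ⟨ν, σ₂, β, O, R, A, O', O₂, R₂, h, Q₂, D₂, hR₂⟩

namespace WOut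

variable {K : Subgroup G} {e e' : ℕ → G} {b : G} {μ σ μ' σ' ν σ₂ : ℕ → G} {β : G} {O R A O' O₂ R₂ : Subgroup G}
  (h : WOut t K e e' b μ σ μ' σ' ν σ₂ β O R A O' O₂ R₂)
include h

theorem tt : t * t = 1 := h.hyp.D.Q.tt

theorem t_ne : t ≠ 1 := by
  intro h1
  have h2 := h.hyp.D.Q.tμ 1 (by norm_num)
  rw [h1, one_mul, mul_one, left_eq_mul] at h2
  have h3 := (h.hyp.D.Q.inj 1 (by norm_num) 0 (by norm_num) (by rw [h2, WThree.mu_zero h.hyp.D.Q, mul_one])).1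
  omega

/-- **the relations of `A = ⟨μ, ν, β⟩`, of order 128** -/
theorem srel : SRel μ ν β := h.hyp.hS

theorem A_eq : A = h.srel.S := h.hyp.hAS

theorem card : Nat.card A = 128 := h.hyp.hA.card

theorem mu {i : ℕ} (hi : i < 16) : μ i ∈ A := h.hyp.muA hi

theorem nu {i : ℕ} (hi : i < 16) : ν i ∈ A := h.hyp.nuA hi

theorem comm : ∀ a ∈ A, ∀ b ∈ A, a * (t * b * t⁻¹) = (t * b * t⁻¹) * a := h.hyp.hA.comm

theorem disj : ∀ a ∈ A, t * a * t⁻¹ ∈ A → a = 1 := by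
  intro a ha h1
  refine h.hyp.hA.disj a ha _ h1 ?_
  have h2 : t⁻¹ = t := h.hyp.tinv
  have h3 : t * (t * a * t⁻¹) * t⁻¹ = (t * t) * a * (t * t)⁻¹ := by group
  rw [h3, h.tt]; group

theorem aout [Finite G] : AOut t h.hyp.D.S.S A R₂ ν := GEnd.aout h.hyp h.Q₂ h.res₂

/-- every word is induced on `M₁` by an element of `⟨odd⟩ ∩ C(Aᵗ)` -/
theorem exists_k₁ [Finite G] {w : List ℕ} (hw : ∀ k ∈ w, k < 5) :
    ∃ k : G, k ∈ closure {g : G | Odd (orderOf g)} ∧ (∀ a ∈ A, k * (t * a * t⁻¹) = (t * a * t⁻¹) * k) ∧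
      ∀ i < 16, k * μ i * k⁻¹ = μ (act w i) := by
  obtain ⟨k, -, h1⟩ := KElt.exists_k h.hyp.D.Q h.hyp.hR h.hyp.hA hw
  exact ⟨k, h1⟩

/-- every word is induced on `M₂` by an element of `⟨odd⟩ ∩ C(Aᵗ)` -/
theorem exists_k₂ [Finite G] {w : List ℕ} (hw : ∀ k ∈ w, k < 5) :
    ∃ k : G, k ∈ closure {g : G | Odd (orderOf g)} ∧ (∀ a ∈ A, k * (t * a * t⁻¹) = (t * a * t⁻¹) * k) ∧
      ∀ i < 16, k * ν i * k⁻¹ = ν (act w i) := by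
  obtain ⟨k, -, h1⟩ := KElt.exists_k h.Q₂ h.res₂ h.aout hw
  exact ⟨k, h1⟩

/-- (W9) an element of odd order normalising `M₁` and `M₂`, centralising `Aᵗ`, not centralising `μ 1` -/
theorem exists_k₉ [Finite G] : ∃ k : G, Odd (orderOf k) ∧ (∀ a ∈ A, k * (t * a * t⁻¹) = (t * a * t⁻¹) * k) ∧
    (∀ i < 16, ∃ j < 16, k * μ i * k⁻¹ = μ j) ∧ (∀ i < 16, ∃ j < 16, k * ν i * k⁻¹ = ν j) ∧ k * μ 1 * k⁻¹ ≠ μ 1 :=
  GEnd.exists_k9 h.hyp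

end WOut

/-- a 2-element centralising a frame and its conjugate lies in their product -/
theorem cen_two {e μ σ : ℕ → G} (Q : QConf t e μ σ) {g : G}
    (hg : ∃ k : ℕ, g ^ 2 ^ k = 1) (h1 : ∀ i < 16, g * μ i = μ i * g) (h2 : ∀ i < 16, g * (t * μ i * t⁻¹) = (t * μ i * t⁻¹) * g) :
    ∃ i < 16, ∃ j < 16, g = μ i * (t * μ j * t⁻¹) := by
  have h3 : ∀ i < 16, g * e i = e i * g := by
    intro i hi
    rw [e_eq Q hi, ← mul_assoc, h1 i hi, mul_assoc, h2 i hi]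
    group
  obtain ⟨i, hi, j, hj, h4⟩ := Q.cenQ g hg h3 h1
  have h9 : t * μ i * t⁻¹ = μ i * e i := Base.conj_t Q hi
  refine ⟨i ^^^ j, xor_lt hi hj, i, hi, ?_⟩
  rw [h9, h4, ← Q.μmul i hi j hj]
  have c4 : e i * μ j = μ j * e i := Q.εμ i hi j hj
  have c5 : μ i * μ j = μ j * μ i := by rw [Q.μmul i hi j hj, Q.μmul j hj i hi, Nat.xor_comm]
  rw [c5, c4]
  calc μ j * e i = μ j * (μ i * μ i) * e i := by rw [WThree.mu_sq Q hi, mul_one]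
    _ = _ := by group

namespace WOut

variable {K : Subgroup G} {e e' : ℕ → G} {b : G} {μ σ μ' σ' ν σ₂ : ℕ → G} {β : G} {O R A O' O₂ R₂ : Subgroup G}
  (h : WOut t K e e' b μ σ μ' σ' ν σ₂ β O R A O' O₂ R₂)
include h

/-- (W4) -/
theorem cen₁ {g : G} (hg : ∃ k : ℕ, g ^ 2 ^ k = 1) (h1 : ∀ i < 16, g * μ i = μ i * g)
    (h2 : ∀ i < 16, g * (t * μ i * t⁻¹) = (t * μ i * t⁻¹) * g) : ∃ i < 16, ∃ j < 16, g = μ i * (t * μ j * t⁻¹) :=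
  cen_two h.hyp.D.Q hg h1 h2

theorem cen₂ {g : G} (hg : ∃ k : ℕ, g ^ 2 ^ k = 1) (h1 : ∀ i < 16, g * ν i = ν i * g)
    (h2 : ∀ i < 16, g * (t * ν i * t⁻¹) = (t * ν i * t⁻¹) * g) : ∃ i < 16, ∃ j < 16, g = ν i * (t * ν j * t⁻¹) :=
  cen_two h.Q₂ hg h1 h2

/-- (W6) -/
theorem card_le₁ [Finite G] (T : Subgroup G) (hT : IsPGroup 2 T) (hTt : ∀ x ∈ T, x * t = t * x)
    (hTe : ∀ x ∈ T, ∀ i < 16, ∃ j < 16, x * (μ i * (t * μ i * t⁻¹)) * x⁻¹ = μ j * (t * μ j * t⁻¹)) :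
    Nat.card T ≤ 2 ^ 8 := by
  refine card_le h.hyp.D.Q h.hyp.D.aut T hT hTt fun x hx i hi => ?_
  obtain ⟨j, hj, h1⟩ := hTe x hx i hi
  exact ⟨j, hj, by rw [e_eq h.hyp.D.Q hi, e_eq h.hyp.D.Q hj]; exact h1⟩

end WOut

end Cfsg.Agent.TypeM.WAOut
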