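import Cfsg.Agent.TypeM.WAOut
import Cfsg.Agent.TypeM.WFourAbs

/-!
# The involutions of `A` are fused under `C(Aᵗ)`

(piece [WA] of Theorem W, S1739)
-/

set_option autoImplicit false

namespace Cfsg.Agent.TypeM.WFiveB

open Subgroup Cfsg.Agent.TypeM.LyL Cfsg.Agent.TypeM.SRel Cfsg.Agent.TypeM.OddF Cfsg.Agent.TypeM.Glue
open Cfsg.Agent.TypeM.GlueW Cfsg.Agent.TypeM.AMap Cfsg.Agent.TypeM.Cmp Cfsg.Agent.TypeM.WAOut
open Cfsg.Agent.TypeM.WFour

/-- words acting as involutions are conjugate -/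
theorem conj_words {w v : List ℕ} (hw : Wd w) (hv : Wd v) (w2 : ∀ i < 16, act w (act w i) = i)
    (v2 : ∀ i < 16, act v (act v i) = i) (w1 : ∃ i < 16, act w i ≠ i) (v1 : ∃ i < 16, act v i ≠ i) :
    ∃ u, Wd u ∧ ∀ i < 16, act u (act w i) = act v (act u i) := by
  have key : ∀ {w : List ℕ}, Wd w → (∀ i < 16, act w (act w i) = i) → (∃ i < 16, act w i ≠ i) →
      ∃ u, Wd u ∧ ∀ i < 16, act u.reverse (act w (act u i)) = gm 0 i := by
    intro w hw w2 w1
    have h1 : comp (wm w) (wm w) = idL := by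
      rw [← wm_append]
      exact wm_ext (v := []) (hw.append hw) (by intro k hk; simp at hk) (by
        simp only [WFour.em, act_nil, act_append, w2 1 (by norm_num), w2 2 (by norm_num), w2 4 (by norm_num),
          w2 8 (by norm_num)])
    have h2 : wm w ≠ idL := by
      intro h
      obtain ⟨i, hi, h3⟩ := w1
      apply h3
      have h4 := act_of_wm (u := w) (v := []) hw (by intro k hk; simp at hk) (by rw [h]; rfl) hi
      rw [h4, act_nil]
    obtain ⟨u, hu, h3⟩ := conj_invol hw h1 h2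
    refine ⟨u, hu, fun i hi => ?_⟩
    have h4 := act_of_wm (u := u.reverse ++ (w ++ u)) (v := [0]) (hu.rev.append (hw.append hu))
      (by intro k hk; simp at hk; omega) (by rw [wm_append, wm_append, wm_one, h3]) hi
    rw [act_append, act_append] at h4
    exact h4
  obtain ⟨u, hu, h1⟩ := key hw w2 w1
  obtain ⟨u', hu', h2⟩ := key hv v2 v1
  refine ⟨u' ++ u.reverse, hu'.append hu.rev, fun i hi => ?_⟩
  rw [act_append, act_append]
  obtain ⟨j, hj, rfl⟩ : ∃ j < 16, act u j = i := ⟨act u.reverse i, act_lt _ hi, by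
    have := act_rev hu.rev hi
    rwa [List.reverse_reverse] at this⟩
  rw [act_rev hu hj, h1 j hj]
  have h3 : act v (act u' j) = act u' (gm 0 j) := by
    have := act_rev hu'.rev (act_lt v (act_lt u' hj))
    rw [List.reverse_reverse, h2 j hj] at this
    exact this.symm
  exact h3.symm

/-- two-transitivity -/
theorem two_trans' {i j i' j' : ℕ} (hi : i < 16) (hj : j < 16) (hi' : i' < 16) (hj' : j' < 16) (hi0 : i ≠ 0) (hj0 : j ≠ 0)
    (hi0' : i' ≠ 0) (hj0' : j' ≠ 0) (hij : i ≠ j) (hij' : i' ≠ j') : ∃ w, Wd w ∧ act w i = i' ∧ act w j = j' := by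
  obtain ⟨u, hu, h1, h2⟩ := two_trans hi hj hi0 hj0 hij
  obtain ⟨u', hu', h1', h2'⟩ := two_trans hi' hj' hi0' hj0' hij'
  refine ⟨u' ++ u.reverse, hu'.append hu.rev, ?_, ?_⟩
  · rw [act_append, ← h1, act_rev hu (by norm_num), h1']
  · rw [act_append, ← h2, act_rev hu (by norm_num), h2']

theorem trans' {i i' : ℕ} (hi : i < 16) (hi' : i' < 16) (hi0 : i ≠ 0) (hi0' : i' ≠ 0) : ∃ w, Wd w ∧ act w i = i' := by
  obtain ⟨j, hj, hj0, hij⟩ : ∃ j < 16, j ≠ 0 ∧ i ≠ j := by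
    by_cases h : i = 1
    · exact ⟨2, by norm_num, by norm_num, by omega⟩
    · exact ⟨1, by norm_num, by norm_num, h⟩
  obtain ⟨j', hj', hj0', hij'⟩ : ∃ j < 16, j ≠ 0 ∧ i' ≠ j := by
    by_cases h : i' = 1
    · exact ⟨2, by norm_num, by norm_num, by omega⟩
    · exact ⟨1, by norm_num, by norm_num, h⟩
  obtain ⟨w, hw, h1, -⟩ := two_trans' hi hj hi' hj' hi0 hj0 hi0' hj0' hij hij'
  exact ⟨w, hw, h1⟩

theorem cl1_ne : ∃ i < 16, act (cl 1) i ≠ i := by decide +kernel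

theorem cl1_sq : ∀ i < 16, act (cl 1) (act (cl 1) i) = i := by decide +kernel

variable {G : Type*} [Group G] {t : G} {K : Subgroup G} {e e' : ℕ → G} {b : G} {μ σ μ' σ' ν σ₂ : ℕ → G} {β : G}
  {O R A O' O₂ R₂ : Subgroup G}

/-- **(W5b)** every involution of `A` is conjugate to an element of `M₂` under an element of `⟨odd⟩` which centralises
`Aᵗ` and normalises `M₁`. -/
theorem exists_w5b [Finite G] (h : WOut t K e e' b μ σ μ' σ' ν σ₂ β O R A O' O₂ R₂) {a : G} (ha : a ∈ A) (haa : a * a = 1) :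
    ∃ n ∈ closure {g : G | Odd (orderOf g)}, (∀ c ∈ A, n * (t * c * t⁻¹) = (t * c * t⁻¹) * n) ∧
      (∀ i < 16, ∃ j < 16, n * μ i * n⁻¹ = μ j) ∧ ∃ j < 16, n * a * n⁻¹ = ν j := by
  have hR := h.hyp.hR
  have hA := h.hyp.hA
  obtain ⟨w, hw, hwa⟩ := h.srel.exists_word (h.A_eq ▸ ha)
  by_cases hc : ∀ i < 16, act w i = i
  · -- `a ∈ M₁`
    obtain ⟨i, hi, o, ho, h1⟩ := hR.cen a (hA.le ha) fun i hi => by
      have := hwa i hi
      rwa [hc i hi, mul_inv_eq_iff_eq_mul] at this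
    have h2 : o = 1 := by
      refine OddConj.eq_one_of_two (KElt.isPGroup_A hA) (x := o) ?_ (KElt.odd hR _ ho)
      have h3 : o = (μ i)⁻¹ * a := by rw [h1]; group
      rw [h3]
      exact mul_mem (inv_mem (h.mu hi)) ha
    rw [h2, mul_one] at h1
    by_cases hi0 : i = 0
    · refine ⟨1, one_mem _, fun c _ => by group, fun i hi => ⟨i, hi, by group⟩, 0, by norm_num, ?_⟩
      rw [h1, hi0, h.srel.zero, h.srel.zero']; group
    · obtain ⟨v, hv, h3⟩ := trans' hi (i' := 1) (by norm_num) hi0 (by norm_num)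
      obtain ⟨k, hk, hkA, hkw⟩ := h.exists_k₁ hv
      exact ⟨k, hk, hkA, fun i hi => ⟨_, act_lt v hi, hkw i hi⟩, 1, by norm_num, by
        rw [h1, hkw i hi, h3, h.srel.low 1 (by norm_num)]⟩
  · -- `a` acts as an involution on `M₁`
    push Not at hc
    have w2 : ∀ i < 16, act w (act w i) = i := by
      intro i hi
      refine h.srel.eq_of (act_lt _ (act_lt _ hi)) hi ?_
      rw [← hwa _ (act_lt w hi), ← hwa i hi]
      calc a * (a * μ i * a⁻¹) * a⁻¹ = (a * a) * μ i * (a * a)⁻¹ := by group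
        _ = μ i := by rw [haa]; group
    obtain ⟨u, hu, huw⟩ := conj_words hw (v := cl 1) (cl_lt 1 (by norm_num)) w2 cl1_sq hc cl1_ne
    obtain ⟨k, hkR, hk, hkA, hkw⟩ := KElt.exists_k h.hyp.D.Q hR hA hu
    set x : G := k * a * k⁻¹ with hx
    have hxR : x ∈ R := mul_mem (mul_mem hkR (hA.le ha)) (inv_mem hkR)
    have h4 : (4 : ℕ) < 16 := by norm_num
    have hnR : ν 4 ∈ R := hA.le (h.nu h4)
    have hyw : ∀ i < 16, x * (ν 4)⁻¹ * μ i = μ i * (x * (ν 4)⁻¹) := by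
      intro i hi
      obtain ⟨j, hj, rfl⟩ : ∃ j < 16, act (cl 1) j = i := ⟨act (cl 1) i, act_lt _ hi, cl1_sq i hi⟩
      obtain ⟨l, hl, rfl⟩ : ∃ l < 16, act u l = j := ⟨act u.reverse j, act_lt _ hj, by
        have := act_rev hu.rev hj
        rwa [List.reverse_reverse] at this⟩
      have h5 : ν 4 * μ (act u l) * (ν 4)⁻¹ = μ (act (cl 1) (act u l)) := by
        rw [h.srel.nact 4 h4 _ hj, mul_inv_cancel_right]
      have h6 : x * μ (act u l) * x⁻¹ = μ (act (cl 1) (act u l)) := by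
        rw [← hkw l hl, ← huw l hl, ← hkw _ (act_lt w hl), ← hwa l hl, hx]
        group
      rw [← h5]
      calc x * (ν 4)⁻¹ * (ν 4 * μ (act u l) * (ν 4)⁻¹) = (x * μ (act u l) * x⁻¹) * x * (ν 4)⁻¹ := by group
        _ = _ := by rw [h6, ← h5]; group
    obtain ⟨i, hi, o, ho, h7⟩ := hR.cen _ (mul_mem hxR (inv_mem hnR)) hyw
    have hxt : ∀ c ∈ A, x * (t * c * t⁻¹) = (t * c * t⁻¹) * x := by
      intro c hc
      have c1 : Commute k (t * c * t⁻¹) := hkA c hc
      have c2 : Commute a (t * c * t⁻¹) := hA.comm a ha c hc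
      exact ((c1.mul_left c2).mul_left c1.inv_left).eq
    have hot : ∀ c ∈ A, o * (t * c * t⁻¹) = (t * c * t⁻¹) * o := by
      intro c hc
      have c1 : Commute x (t * c * t⁻¹) := hxt c hc
      have c2 : Commute (ν 4) (t * c * t⁻¹) := hA.comm _ (h.nu h4) c hc
      have c3 : Commute (μ i) (t * c * t⁻¹) := hA.comm _ (h.mu hi) c hc
      have h8 : o = (μ i)⁻¹ * (x * (ν 4)⁻¹) := by rw [h7]; group
      rw [h8]
      exact (c3.inv_left.mul_left (c1.mul_left c2.inv_left)).eq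
    -- the group `O ∩ C(Aᵗ)`
    let O₀ : Subgroup G := O ⊓ centralizer {y | ∃ c ∈ A, y = t * c * t⁻¹}
    have hO₀ : ∀ y, y ∈ O₀ ↔ y ∈ O ∧ ∀ c ∈ A, y * (t * c * t⁻¹) = (t * c * t⁻¹) * y := by
      intro y
      constructor
      · rintro ⟨h1, h2⟩
        exact ⟨h1, fun c hc => (Subgroup.mem_centralizer_iff.1 h2 _ ⟨c, hc, rfl⟩).symm⟩
      · rintro ⟨h1, h2⟩
        refine ⟨h1, Subgroup.mem_centralizer_iff.2 ?_⟩
        rintro _ ⟨c, hc, rfl⟩
        exact (h2 c hc).symm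
    have nO₀ : ∀ y ∈ A, ∀ o ∈ O₀, y * o * y⁻¹ ∈ O₀ := by
      intro y hy o ho
      obtain ⟨h1, h2⟩ := (hO₀ o).1 ho
      refine (hO₀ _).2 ⟨KElt.normR hR (hA.le hy) o h1, fun c hc => ?_⟩
      have c1 : Commute y (t * c * t⁻¹) := hA.comm y hy c hc
      have c2 : Commute o (t * c * t⁻¹) := h2 c hc
      exact ((c1.mul_left c2).mul_left c1.inv_left).eq
    set p : G := μ i * ν 4 with hp
    have hpA : p ∈ A := mul_mem (h.mu hi) (h.nu h4)
    have hpx : p⁻¹ * x ∈ O₀ := by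
      have h8 : p⁻¹ * x = (ν 4)⁻¹ * o * ((ν 4)⁻¹)⁻¹ := by
        have h9 : x = μ i * o * ν 4 := by rw [← h7]; group
        rw [h9, hp]; group
      rw [h8]
      exact nO₀ _ (inv_mem (h.nu h4)) o ((hO₀ o).2 ⟨ho, hot⟩)
    have hxx : x * x = 1 := by
      calc x * x = k * (a * a) * k⁻¹ := by rw [hx]; group
        _ = 1 := by rw [haa]; group
    have hmem : ∀ z ∈ zpowers x, z = 1 ∨ z = x := by
      rintro z ⟨m, rfl⟩
      show x ^ m = 1 ∨ x ^ m = x
      rcases Int.even_or_odd' m with ⟨m', rfl | rfl⟩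
      · left
        rw [zpow_mul, zpow_two, hxx, one_zpow]
      · right
        rw [zpow_add, zpow_mul, zpow_two, hxx, one_zpow, one_mul, zpow_one]
    obtain ⟨n, hn, hn'⟩ := OddConj.conj_exact (O := O₀) (T₁ := zpowers x) (T₂ := A)
      (fun y hy => KElt.odd hR y ((hO₀ y).1 hy).1) (isPGroup_of_sq' (by
        intro z hz
        rcases hmem z hz with rfl | rfl
        · exact one_mul 1
        · exact hxx)) (KElt.isPGroup_A hA) nO₀ (by
        intro z hz
        rcases hmem z hz with rfl | rfl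
        · exact ⟨1, one_mem _, by simp⟩
        · exact ⟨p, hpA, hpx⟩)
    have h9 : n * x * n⁻¹ = p := hn' x (mem_zpowers x) p hpA hpx
    obtain ⟨hn1, hn2⟩ := (hO₀ n).1 hn
    obtain ⟨n1, -, n3⟩ := (hR.memO n).1 hn1
    have hpp : p * p = 1 := by
      rw [← h9]
      calc n * x * n⁻¹ * (n * x * n⁻¹) = n * (x * x) * n⁻¹ := by group
        _ = 1 := by rw [hxx]; group
    have h10 : i < 4 := by
      refine cl_fix 1 (by norm_num) (by norm_num) i hi ?_
      have h11 : μ i * μ (act (cl 1) i) = 1 := by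
        calc μ i * μ (act (cl 1) i) = μ i * (μ (act (cl 1) i) * ν 4) * (ν 4)⁻¹ := by group
          _ = μ i * (ν 4 * μ i) * (ν 4)⁻¹ := by rw [← h.srel.nact 4 h4 i hi]
          _ = (p * p) * (ν 4 * ν 4)⁻¹ := by rw [hp]; group
          _ = 1 := by rw [hpp, h.srel.sq' h4]; group
      rw [h.srel.mul i hi _ (act_lt _ hi)] at h11
      exact (Nat.xor_eq_zero_iff.1 (h.srel.inj _ (xor_lt hi (act_lt _ hi)) h11)).symm
    refine ⟨n * k, mul_mem (subset_closure n1) hk, fun c hc => ?_, fun i hi => ⟨_, act_lt u hi, ?_⟩,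
      i ^^^ 4, xor_lt hi h4, ?_⟩
    · have c1 : Commute n (t * c * t⁻¹) := hn2 c hc
      have c2 : Commute k (t * c * t⁻¹) := hkA c hc
      exact (c1.mul_left c2).eq
    · calc n * k * μ i * (n * k)⁻¹ = n * (k * μ i * k⁻¹) * n⁻¹ := by group
        _ = _ := by rw [hkw i hi, n3 _ (act_lt u hi), mul_inv_cancel_right]
    · calc n * k * a * (n * k)⁻¹ = n * x * n⁻¹ := by rw [hx]; group
        _ = _ := by rw [h9, hp, ← h.srel.low i h10, h.srel.mul' i hi 4 h4]

end Cfsg.Agent.TypeM.WFiveB
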