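import Cfsg.Agent.TypeM.WFourLin

/-!
# Step W4 of Theorem W of S1739: the elements of `N(Q)` commuting with `t` modulo `C(Q)`
-/

set_option autoImplicit false

namespace Cfsg.Agent.TypeM.WFour

open Cfsg.Agent.TypeM

variable {G : Type*} [Group G]

/-- `Q = {ε i * μ j}` -/
def qv (ε μ : ℕ → G) (v : ℕ) : G := ε (v % 16) * μ (v / 16)

theorem xor_mod16 (v w : ℕ) : (v ^^^ w) % 16 = v % 16 ^^^ w % 16 := by
  have := Nat.xor_mod_two_pow (a := v) (b := w) (n := 4)
  simpa using this

theorem xor_div16 (v w : ℕ) : (v ^^^ w) / 16 = v / 16 ^^^ w / 16 := by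
  have := Nat.shiftRight_xor_distrib (a := v) (b := w) (i := 4)
  simpa [Nat.shiftRight_eq_div_pow] using this

theorem lt16 (v : ℕ) : v % 16 < 16 := Nat.mod_lt _ (by norm_num)

theorem div16 {v : ℕ} (hv : v < 256) : v / 16 < 16 := by omega

/-- `t` -/
def tL : List ℕ := [1, 2, 4, 8, 17, 34, 68, 136]

/-- the diagonal action of `s k` -/
def dgL (k : ℕ) : List ℕ :=
  [gm k 1, gm k 2, gm k 4, gm k 8, 16 * gm k 1, 16 * gm k 2, 16 * gm k 4, 16 * gm k 8]

/-- matrix of a word -/
def wm : List ℕ → List ℕ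
  | [] => idL
  | k :: w => comp (dgL k) (wm w)

theorem tL_spec : ∀ v < 256, app tL v % 16 = v % 16 ^^^ v / 16 ∧ app tL v / 16 = v / 16 := by
  decide +kernel

theorem dgL_spec : ∀ k < 5, ∀ v < 256,
    app (dgL k) v % 16 = gm k (v % 16) ∧ app (dgL k) v / 16 = gm k (v / 16) := by
  decide +kernel

theorem dgL_lt : ∀ k < 5, ∀ x ∈ dgL k, x < 256 := by decide +kernel

variable {t : G} {ε μ s : ℕ → G}

theorem qs (h : QConf t ε μ s) : QS (qv ε μ) := by
  constructor
  · intro v hv w hw
    have h1 := h.εmul _ (lt16 v) _ (lt16 w)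
    have h2 := h.μmul _ (div16 hv) _ (div16 hw)
    have h3 := h.εμ _ (lt16 w) _ (div16 hv)
    rw [qv, qv, qv, xor_mod16, xor_div16, ← h1, ← h2]
    calc ε (v % 16) * μ (v / 16) * (ε (w % 16) * μ (w / 16))
        = ε (v % 16) * (μ (v / 16) * ε (w % 16)) * μ (w / 16) := by group
      _ = ε (v % 16) * (ε (w % 16) * μ (v / 16)) * μ (w / 16) := by rw [h3]
      _ = _ := by group
  · intro v hv e
    obtain ⟨h1, h2⟩ := h.inj _ (lt16 v) _ (div16 hv) e
    omega

theorem acts_t (h : QConf t ε μ s) : Acts (qv ε μ) t tL := by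
  refine ⟨rfl, by simp [tL], fun v hv => ?_⟩
  obtain ⟨e1, e2⟩ := tL_spec v hv
  rw [qv, qv, e1, e2, ← h.εmul _ (lt16 v) _ (div16 hv), ← mul_assoc, h.tε _ (lt16 v), mul_assoc,
    h.tμ _ (div16 hv), ← h.εμ _ (div16 hv) _ (div16 hv)]
  simp only [mul_assoc]

theorem acts_s (h : QConf t ε μ s) {k : ℕ} (hk : k < 5) : Acts (qv ε μ) (s k) (dgL k) := by
  refine ⟨rfl, dgL_lt k hk, fun v hv => ?_⟩
  obtain ⟨e1, e2⟩ := dgL_spec k hk v hv
  rw [qv, qv, e1, e2, ← mul_assoc, h.sε k hk _ (lt16 v), mul_assoc, h.sμ k hk _ (div16 hv),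
    mul_assoc]

theorem acts_word (h : QConf t ε μ s) (w : List ℕ) (hw : ∀ k ∈ w, k < 5) :
    Acts (qv ε μ) (w.map s).prod (wm w) := by
  induction w with
  | nil => exact Acts.one
  | cons k w ih =>
    rw [List.map_cons, List.prod_cons]
    exact (acts_s h (hw k (by simp))).mul (ih fun k hk => hw k (by simp [hk]))

theorem tt_id : comp tL tL = idL := by decide +kernel

theorem tL_fix : ∀ v < 256, app tL v = v → v < 16 := by decide +kernel

/-- an element centralizing `Q` (as seen by `qv`) -/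
theorem cen_of_acts (h : QConf t ε μ s) {c : G} (hc : Acts (qv ε μ) c idL) :
    (∀ i < 16, c * ε i = ε i * c) ∧ (∀ i < 16, c * μ i = μ i * c) := by
  have hμ0 : μ 0 = 1 := by
    have := h.μmul 0 (by norm_num) 0 (by norm_num); simpa using this
  have hε0 : ε 0 = 1 := by
    have := h.εmul 0 (by norm_num) 0 (by norm_num); simpa using this
  constructor
  · intro i hi
    have h1 := hc.act i (by omega)
    rw [app_id i (by omega), qv, Nat.mod_eq_of_lt hi, Nat.div_eq_of_lt hi, hμ0, mul_one] at h1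
    exact h1
  · intro i hi
    have h1 := hc.act (16 * i) (by omega)
    rw [app_id _ (by omega), qv, Nat.mul_mod_right, Nat.mul_div_cancel_left _ (by norm_num), hε0,
      one_mul] at h1
    exact h1

theorem exists_twoElt_pow [Finite G] (r : G) : ∃ l : ℕ, TwoElt (r ^ (2 * l + 1)) := by
  obtain ⟨k, m, hm, e⟩ := Nat.exists_eq_two_pow_mul_odd (orderOf_pos r).ne'
  obtain ⟨l, rfl⟩ := hm
  refine ⟨l, k, ?_⟩
  rw [← pow_mul, mul_comm, ← e, pow_orderOf_eq_one]

/-- an involution acting as `t` is conjugate to `t` under `C(Q)` -/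
theorem conj_t [Finite G] (h : QConf t ε μ s) {X : G} (hX : X * X = 1)
    (hXa : Acts (qv ε μ) X tL) : ∃ c, Acts (qv ε μ) c idL ∧ c * X * c⁻¹ = t := by
  have hq := qs h
  have hr : Acts (qv ε μ) (X * t) idL := by
    have := hXa.mul (acts_t h); rwa [tt_id] at this
  obtain ⟨l, hl⟩ := exists_twoElt_pow (X * t)
  obtain ⟨hc1, hc2⟩ := cen_of_acts h (hr.pow_id (2 * l + 1))
  obtain ⟨i, hi, j, hj, e⟩ := h.cenQ _ hl hc1 hc2
  have htr : t * (X * t) = (X * t)⁻¹ * t := by
    rw [mul_inv_rev, inv_eq_of_mul_eq_one_left h.tt, inv_eq_of_mul_eq_one_left hX]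
    simp [mul_assoc]
  have htrn : ∀ n : ℕ, t * (X * t) ^ n = ((X * t) ^ n)⁻¹ * t := by
    intro n
    induction n with
    | zero => simp
    | succ n ih =>
      rw [pow_succ, ← mul_assoc, ih, mul_assoc, htr, ← mul_assoc, ← mul_inv_rev, ← pow_succ',
        ← pow_succ]
  -- `r ^ (2 l + 1) = q v`
  set v := i + 16 * j with hv
  have hv256 : v < 256 := by omega
  have ev : (X * t) ^ (2 * l + 1) = qv ε μ v := by
    rw [e, qv]; congr 2 <;> omega
  have hvt : app tL v = v := by
    apply hq.eq ((acts_t h).app_lt v) hv256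
    have h1 := (acts_t h).act v hv256
    rw [← ev, htrn, ev, hq.inv hv256] at h1
    exact (mul_right_cancel h1).symm
  have hv16 := tL_fix v hv256 hvt
  have hμ : qv ε μ (16 * v) * t * (qv ε μ (16 * v))⁻¹ = qv ε μ v * t := by
    have h256 : 16 * v < 256 := by omega
    rw [hq.inv h256, mul_assoc, (acts_t h).act _ h256, ← mul_assoc,
      hq.mul _ h256 _ ((acts_t h).app_lt _)]
    congr 2
    have : ∀ v < 16, 16 * v ^^^ app tL (16 * v) = v := by decide +kernel
    exact this v hv16
  have hcomm : qv ε μ v * (X * t) = (X * t) * qv ε μ v := by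
    rw [← ev]; exact (pow_mul_comm' _ _)
  have key : (X * t) ^ (l + 1) * (qv ε μ v * t) * ((X * t) ^ (l + 1))⁻¹ = X := by
    have h1 : t * ((X * t) ^ (l + 1))⁻¹ = (X * t) ^ (l + 1) * t := by
      rw [mul_inv_eq_iff_eq_mul, mul_assoc, htrn, mul_inv_cancel_left]
    have h2 : (X * t) ^ (l + 1) * qv ε μ v * (X * t) ^ (l + 1) = X * t := by
      have h3 : qv ε μ v * (X * t) ^ (l + 1) = (X * t) ^ (l + 1) * qv ε μ v :=
        ((show Commute (qv ε μ v) (X * t) from hcomm).pow_right (l + 1)).eq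
      rw [mul_assoc, h3, ← mul_assoc, ← pow_add, ← ev]
      have h4 : (X * t) ^ (2 * l + 1) * (X * t) ^ (2 * l + 1) = 1 := by
        rw [ev, hq.sq hv256]
      rw [show l + 1 + (l + 1) = 1 + (2 * l + 1) by ring, pow_add, pow_one, mul_assoc, h4, mul_one]
    calc (X * t) ^ (l + 1) * (qv ε μ v * t) * ((X * t) ^ (l + 1))⁻¹
        = (X * t) ^ (l + 1) * qv ε μ v * (t * ((X * t) ^ (l + 1))⁻¹) := by group
      _ = ((X * t) ^ (l + 1) * qv ε μ v * (X * t) ^ (l + 1)) * t := by rw [h1]; group
      _ = X := by rw [h2, mul_assoc, h.tt, mul_one]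
  have h256 : 16 * v < 256 := by omega
  rw [← hμ] at key
  obtain ⟨d, hd, hdX⟩ : ∃ d, Acts (qv ε μ) d idL ∧ d * t * d⁻¹ = X :=
    ⟨(X * t) ^ (l + 1) * qv ε μ (16 * v), (hr.pow_id (l + 1)).mulc (Acts.q_acts hq h256), by
      refine Eq.trans ?_ key
      group⟩
  exact ⟨d⁻¹, hd.inv_id, by rw [← hdX]; group⟩

/-- an element whose matrix commutes with `t` may be replaced by one commuting with `t` -/
theorem exists_comm [Finite G] (h : QConf t ε μ s) {g : G} {L : List ℕ} (hg : Acts (qv ε μ) g L)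
    (hL : comp L tL = comp tL L) : ∃ g', Acts (qv ε μ) g' L ∧ g' * t = t * g' := by
  obtain ⟨L', h1, h2, h3⟩ := hg.exists_inv (qs h)
  have hX : Acts (qv ε μ) (g * t * g⁻¹) tL := by
    have h4 := (hg.mul (acts_t h)).mul h1
    rwa [hL, comp_assoc, h2, comp_id rfl] at h4
  obtain ⟨c, hc, e⟩ := conj_t h (X := g * t * g⁻¹) (by
    rw [show g * t * g⁻¹ * (g * t * g⁻¹) = g * (t * t) * g⁻¹ by group, h.tt]; group) hX
  refine ⟨c * g, hg.cmul hc, ?_⟩
  calc c * g * t = (c * (g * t * g⁻¹) * c⁻¹) * (c * g) := by group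
    _ = t * (c * g) := by rw [e]

/-! ### forbidden matrices -/

theorem app_append (A B : List ℕ) (v : ℕ) :
    app (A ++ B) v = app A v ^^^ app B (v / 2 ^ A.length) := by
  induction A generalizing v with
  | nil => simp [app_nil]
  | cons x A ih =>
    rw [List.cons_append, app_cons, ih, app_cons, List.length_cons, pow_succ', Nat.xor_assoc,
      Nat.div_div_eq_div_mul]

theorem app_take4 {L : List ℕ} (hl : L.length = 8) {v : ℕ} (hv : v < 16) :
    app L v = app (L.take 4) v := by
  conv_lhs => rw [← List.take_append_drop 4 L]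
  rw [app_append, List.length_take, hl]
  have : v / 2 ^ min 4 8 = 0 := by norm_num; omega
  rw [this, app_zero, Nat.xor_zero]

theorem app_id4 : ∀ v < 16, app [1, 2, 4, 8] v = v := by decide +kernel

theorem tL_xor : ∀ v < 256, app tL v ^^^ v = v / 16 := by decide +kernel

theorem qv_eps (h : QConf t ε μ s) {i : ℕ} (hi : i < 16) : qv ε μ i = ε i := by
  have hμ0 : μ 0 = 1 := by
    have := h.μmul 0 (by norm_num) 0 (by norm_num); simpa using this
  rw [qv, Nat.mod_eq_of_lt hi, Nat.div_eq_of_lt hi, hμ0, mul_one]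

/-- a matrix commuting with `t` and trivial on `E` -/
theorem triv_E [Finite G] (h : QConf t ε μ s) {g' : G} {L : List ℕ}
    (hg' : Acts (qv ε μ) g' L) (hgt : g' * t = t * g') (hL : comp L tL = comp tL L)
    (hfix : ∀ v < 16, app L v = v) : L = idL ∨ L = tL := by
  have hq := qs h
  have hsm : ∀ v < 256, app L v ^^^ v < 16 := by
    intro v hv
    have h1 : app L (app tL v) = app tL (app L v) := by rw [app_comp, hL, app_comp]
    have h2 : app L (app tL v ^^^ v) = app tL (app L v) ^^^ app L v := by rw [app_xor, h1]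
    rw [tL_xor v hv, tL_xor _ (hg'.app_lt v), hfix _ (div16 hv)] at h2
    have h3 := xor_div16 (app L v) v
    rw [← h2, Nat.xor_self] at h3
    omega
  have hLL : comp L L = idL := by
    refine ext_of (by rw [comp_length, hg'.len]) rfl fun v hv => ?_
    rw [app_id v hv, ← app_comp]
    have h1 := hfix _ (hsm v hv)
    rw [app_xor] at h1
    have h2 := congrArg (· ^^^ app L v) h1
    simp only [Nat.xor_assoc, Nat.xor_self, Nat.xor_zero] at h2
    rw [h2, Nat.xor_comm v, ← Nat.xor_assoc, Nat.xor_self, Nat.zero_xor]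
  obtain ⟨l, hl⟩ := exists_twoElt_pow g'
  have hpow : ∀ l : ℕ, Acts (qv ε μ) (g' ^ (2 * l + 1)) L := by
    intro l
    induction l with
    | zero => simpa using hg'
    | succ l ih =>
      have h1 : Acts (qv ε μ) (g' * g') idL := by
        have := hg'.mul hg'; rwa [hLL] at this
      have h2 := ih.mulc h1
      have : g' ^ (2 * l + 1) * (g' * g') = g' ^ (2 * (l + 1) + 1) := by
        rw [← pow_two, ← pow_add]
        congr 1
      rwa [this] at h2
  have hLa := hpow l
  obtain ⟨i, hi, e⟩ := h.cenF _ hl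
    ((show Commute t g' from hgt.symm).pow_right _).eq (fun i hi => by
      have h1 := hLa.act i (by omega)
      rw [hfix i hi, qv_eps h hi] at h1
      exact h1)
  have hi256 : i < 256 := by omega
  rcases e with e | e
  · have h1 := Acts.q_acts hq hi256
    rw [qv_eps h hi, ← e] at h1
    exact Or.inl (hLa.unique hq h1)
  · have h1 := (acts_t h).mulc (Acts.q_acts hq hi256)
    rw [qv_eps h hi, ← e] at h1
    exact Or.inr (hLa.unique hq h1)

/-! ### words -/

theorem id_comp {L : List ℕ} (hL : ∀ x ∈ L, x < 256) : comp idL L = L := by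
  rw [comp]
  conv_rhs => rw [← List.map_id L]
  apply List.map_congr_left
  intro x hx
  exact app_id x (hL x hx)

theorem dgL_lt' (k : ℕ) : ∀ x ∈ dgL k, x < 256 := by
  intro x hx
  have h := gm_lt k
  simp only [dgL, List.mem_cons, List.not_mem_nil, or_false] at hx
  rcases hx with rfl | rfl | rfl | rfl | rfl | rfl | rfl | rfl
  · have := h 1; omega
  · have := h 2; omega
  · have := h 4; omega
  · have := h 8; omega
  · have := h 1; omega
  · have := h 2; omega
  · have := h 4; omega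
  · have := h 8; omega

theorem wm_len (w : List ℕ) : (wm w).length = 8 := by
  induction w with
  | nil => rfl
  | cons k w ih => rw [wm, comp_length, ih]

theorem wm_lt (w : List ℕ) : ∀ x ∈ wm w, x < 256 := by
  cases w with
  | nil => simp [wm, idL]
  | cons k w => exact comp_lt (dgL_lt' k) _

theorem wm_append (u v : List ℕ) : wm (u ++ v) = comp (wm u) (wm v) := by
  induction u with
  | nil => exact (id_comp (wm_lt v)).symm
  | cons k u ih => rw [List.cons_append, wm, ih, wm, comp_assoc]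

theorem dg_sq : ∀ k < 5, comp (dgL k) (dgL k) = idL := by decide +kernel

theorem wm_one (k : ℕ) : wm [k] = dgL k := comp_id rfl

/-- inverse word -/
theorem wm_rev (w : List ℕ) (hw : ∀ k ∈ w, k < 5) : comp (wm w) (wm w.reverse) = idL := by
  induction w with
  | nil => rfl
  | cons k w ih =>
    rw [List.reverse_cons, wm_append, wm, wm_one, comp_assoc, ← comp_assoc (wm w),
      ih fun k hk => hw k (by simp [hk]), id_comp (dgL_lt' k), dg_sq k (hw k (by simp))]

theorem wm_rev' (w : List ℕ) (hw : ∀ k ∈ w, k < 5) : comp (wm w.reverse) (wm w) = idL := by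
  have := wm_rev w.reverse (fun k hk => hw k (by simpa using hk))
  rwa [List.reverse_reverse] at this

theorem dgL_app {k : ℕ} (hk : k < 5) {i : ℕ} (hi : i < 16) : app (dgL k) i = gm k i := by
  obtain ⟨h1, h2⟩ := dgL_spec k hk i (by omega)
  rw [Nat.mod_eq_of_lt hi] at h1
  rw [Nat.div_eq_of_lt hi] at h2
  have h3 : ∀ k < 5, gm k 0 = 0 := by decide +kernel
  rw [h3 k hk] at h2
  omega

theorem wm_app (w : List ℕ) (hw : ∀ k ∈ w, k < 5) {i : ℕ} (hi : i < 16) :
    app (wm w) i = act w i := by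
  induction w with
  | nil => rw [wm, app_id i (by omega), act_nil]
  | cons k w ih =>
    have hw' : ∀ k ∈ w, k < 5 := fun k hk => hw k (by simp [hk])
    rw [wm, ← app_comp, ih hw', act_cons, dgL_app (hw k (by simp)) (act_lt w hi)]

theorem tL_dg : ∀ k < 5, comp tL (dgL k) = comp (dgL k) tL := by decide +kernel

theorem tL_wm (w : List ℕ) (hw : ∀ k ∈ w, k < 5) : comp tL (wm w) = comp (wm w) tL := by
  induction w with
  | nil => rfl
  | cons k w ih =>
    rw [wm, ← comp_assoc, tL_dg k (hw k (by simp)), comp_assoc,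
      ih fun k hk => hw k (by simp [hk]), comp_assoc]

theorem word_t (h : QConf t ε μ s) (w : List ℕ) (hw : ∀ k ∈ w, k < 5) :
    (w.map s).prod * t = t * (w.map s).prod := by
  induction w with
  | nil => simp
  | cons k w ih =>
    rw [List.map_cons, List.prod_cons, mul_assoc, ih fun k hk => hw k (by simp [hk]),
      ← mul_assoc, ← mul_assoc, h.st k (hw k (by simp))]

/-- **(C2)** an element of `N(Q)` whose matrix commutes with `t` lies in `⟨t⟩ × A₇` modulo `C(Q)` -/
theorem real_comm [Finite G] (h : QConf t ε μ s)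
    (aut : ∀ c : G, c * t = t * c → (∀ i < 16, ∃ j < 16, c * ε i * c⁻¹ = ε j) →
      ∃ w : List ℕ, (∀ k ∈ w, k < 5) ∧ ∀ i < 16, c * ε i * c⁻¹ = ε (act w i))
    {g : G} {L : List ℕ} (hg : Acts (qv ε μ) g L) (hL : comp L tL = comp tL L) :
    ∃ w : List ℕ, (∀ k ∈ w, k < 5) ∧ (L = wm w ∨ L = comp tL (wm w)) := by
  have hq := qs h
  obtain ⟨g', hg', hgt⟩ := exists_comm h hg hL
  have hlt : ∀ i < 16, app L i < 16 := by
    intro i hi
    apply tL_fix _ (hg.app_lt i)
    have h1 : ∀ i < 16, app tL i = i := by decide +kernel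
    rw [app_comp, ← hL, ← app_comp, h1 i hi]
  have hgε : ∀ i < 16, g' * ε i * g'⁻¹ = ε (app L i) := by
    intro i hi
    have h1 := hg'.act i (by omega)
    rw [qv_eps h hi, qv_eps h (hlt i hi)] at h1
    rw [h1, mul_inv_cancel_right]
  obtain ⟨w, hw, he⟩ := aut g' hgt fun i hi => ⟨_, hlt i hi, hgε i hi⟩
  have hLw : ∀ i < 16, app L i = act w i := by
    intro i hi
    have h1 := hgε i hi
    rw [he i hi] at h1
    have h2 := hq.eq (v := act w i) (w := app L i)
      (by have := act_lt w hi; omega) (by have := hlt i hi; omega)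
      (by rw [qv_eps h (act_lt w hi), qv_eps h (hlt i hi), h1])
    exact h2.symm
  have hrev : ∀ k ∈ w.reverse, k < 5 := fun k hk => hw k (by simpa using hk)
  -- `g'' = w⁻¹ g'`
  have h2 := (acts_word h w.reverse hrev).mul hg'
  have hcomm : comp (comp (wm w.reverse) L) tL = comp tL (comp (wm w.reverse) L) := by
    rw [comp_assoc, hL, ← comp_assoc, ← comp_assoc, tL_wm _ hrev]
  have h3 := triv_E h h2 (by rw [mul_assoc, hgt, ← mul_assoc, word_t h _ hrev, mul_assoc]) hcomm
    (fun i hi => by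
      rw [← app_comp, hLw i hi, ← wm_app w hw hi, app_comp, wm_rev' w hw, app_id i (by omega)])
  have h4 : ∀ M, comp (wm w.reverse) L = M → L = comp (wm w) M := by
    intro M e
    rw [← e, ← comp_assoc, wm_rev w hw, id_comp hg.lt]
  refine ⟨w, hw, ?_⟩
  rcases h3 with e | e
  · left; rw [h4 _ e, comp_id (wm_len w)]
  · right; rw [h4 _ e, tL_wm w hw]

end Cfsg.Agent.TypeM.WFour
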