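import Cfsg.Agent.TypeM.WFourMat

/-!
# Step W4 of Theorem W of S1739: the main finite check
-/

set_option autoImplicit false

namespace Cfsg.Agent.TypeM.WFour

set_option maxRecDepth 100000 in
theorem chk2_all : (pairs2.all fun p => (List.range 256).all (chk2 p.1 p.2)) = true := by
  decide +kernel

end Cfsg.Agent.TypeM.WFour
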