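import Cfsg.Agent.TypeM.QConf

/-!
# Linear algebra on bit vectors and the relation "`g` acts on `Q` by the matrix `L`"

A linear map is the list of the images of `1, 2, 4, …`; `Acts q g L`: `g * q v = q (L v) * g` for all
`v < 256`, where `q v` is an elementary abelian group of order `2^8`.
-/

set_option autoImplicit false

namespace Cfsg.Agent.TypeM.WFour

/-- apply the linear map with columns `L` to the bit vector `v` -/
def app : List ℕ → ℕ → ℕ
  | [], _ => 0
  | x :: L, v => Nat.xor (Nat.mul (Nat.mod v 2) x) (app L (Nat.div v 2))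

/-- composition `M ∘ N` -/
def comp (M N : List ℕ) : List ℕ := N.map (app M)

def idL : List ℕ := [1, 2, 4, 8, 16, 32, 64, 128]

theorem app_nil (v : ℕ) : app [] v = 0 := rfl

theorem app_cons (x : ℕ) (L : List ℕ) (v : ℕ) :
    app (x :: L) v = (v % 2 * x) ^^^ app L (v / 2) := rfl

theorem app_zero (L : List ℕ) : app L 0 = 0 := by
  induction L with
  | nil => rfl
  | cons x L ih => rw [app_cons]; simpa using ih

theorem xor_div_two (v w : ℕ) : (v ^^^ w) / 2 = v / 2 ^^^ w / 2 := by
  have := Nat.shiftRight_xor_distrib (a := v) (b := w) (i := 1)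
  simpa [Nat.shiftRight_eq_div_pow] using this

theorem app_xor (L : List ℕ) : ∀ v w : ℕ, app L (v ^^^ w) = app L v ^^^ app L w := by
  induction L with
  | nil => intro v w; simp [app_nil]
  | cons x L ih =>
    intro v w
    rw [app_cons, app_cons, app_cons, xor_div_two, ih]
    have h : (v ^^^ w) % 2 * x = (v % 2 * x) ^^^ (w % 2 * x) := by
      rw [Nat.xor_mod_two_eq]
      rcases Nat.mod_two_eq_zero_or_one v with hv | hv <;>
        rcases Nat.mod_two_eq_zero_or_one w with hw | hw <;>
        simp [Nat.add_mod, hv, hw]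
    rw [h]
    generalize v % 2 * x = p
    generalize w % 2 * x = q
    generalize app L (v / 2) = r
    generalize app L (w / 2) = s
    rw [Nat.xor_assoc, Nat.xor_assoc, ← Nat.xor_assoc q, Nat.xor_comm q, Nat.xor_assoc r]

theorem xor_lt {v w : ℕ} (hv : v < 256) (hw : w < 256) : v ^^^ w < 256 :=
  Nat.xor_lt_two_pow (n := 8) hv hw

theorem app_lt {L : List ℕ} (hL : ∀ x ∈ L, x < 256) (v : ℕ) : app L v < 256 := by
  induction L generalizing v with
  | nil => simp [app_nil]
  | cons x L ih =>
    rw [app_cons]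
    refine xor_lt ?_ (ih (fun y hy => hL y (by simp [hy])) _)
    have := hL x (by simp)
    rcases Nat.mod_two_eq_zero_or_one v with hv | hv <;> simp [hv, this]

theorem app_map {f : ℕ → ℕ} (f0 : f 0 = 0)
    (fadd : ∀ v < 256, ∀ w < 256, f (v ^^^ w) = f v ^^^ f w) {L : List ℕ}
    (hL : ∀ x ∈ L, x < 256) (v : ℕ) : f (app L v) = app (L.map f) v := by
  induction L generalizing v with
  | nil => simp [app_nil, f0]
  | cons x L ih =>
    have hx := hL x (by simp)
    rw [app_cons, List.map_cons, app_cons, fadd _ _ _ (app_lt (fun y hy => hL y (by simp [hy])) _),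
      ih (fun y hy => hL y (by simp [hy]))]
    · congr 1
      rcases Nat.mod_two_eq_zero_or_one v with hv | hv <;> simp [hv, f0]
    · rcases Nat.mod_two_eq_zero_or_one v with hv | hv <;> simp [hv, hx]

theorem app_comp (M N : List ℕ) (v : ℕ) : app M (app N v) = app (comp M N) v := by
  induction N generalizing v with
  | nil => simp [comp, app_nil, app_zero]
  | cons x N ih =>
    rw [comp, List.map_cons, app_cons, app_cons, app_xor, ih]
    congr 1
    rcases Nat.mod_two_eq_zero_or_one v with hv | hv <;> simp [hv, app_zero]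

theorem comp_assoc (L M N : List ℕ) : comp (comp L M) N = comp L (comp M N) := by
  change List.map (app (comp L M)) N = List.map (app L) (List.map (app M) N)
  rw [List.map_map]
  apply List.map_congr_left
  intro x _
  exact (app_comp L M x).symm

theorem app_id : ∀ v < 256, app idL v = v := by decide +kernel

theorem comp_id {L : List ℕ} (h : L.length = 8) : comp L idL = L := by
  match L, h with
  | [a, b, c, d, e, f, g, k], _ => simp [comp, idL, app_cons, app_nil]

theorem ext_of {L L' : List ℕ} (h : L.length = 8) (h' : L'.length = 8)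
    (he : ∀ v < 256, app L v = app L' v) : L = L' := by
  rw [← comp_id h, ← comp_id h', comp, comp]
  apply List.map_congr_left
  intro x hx
  apply he
  simp [idL] at hx
  omega

theorem comp_length (M N : List ℕ) : (comp M N).length = N.length := by simp [comp]

theorem comp_lt {M : List ℕ} (hM : ∀ x ∈ M, x < 256) (N : List ℕ) : ∀ x ∈ comp M N, x < 256 := by
  intro x hx
  rw [comp, List.mem_map] at hx
  obtain ⟨y, _, rfl⟩ := hx
  exact app_lt hM y

/-! ### actions -/

variable {G : Type*} [Group G]

/-- `q v`, `v < 256`, is an elementary abelian group -/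
structure QS (q : ℕ → G) : Prop where
  mul : ∀ v < 256, ∀ w < 256, q v * q w = q (v ^^^ w)
  inj : ∀ v < 256, q v = 1 → v = 0

/-- `g` acts on `Q` by the matrix `L` -/
structure Acts (q : ℕ → G) (g : G) (L : List ℕ) : Prop where
  len : L.length = 8
  lt : ∀ x ∈ L, x < 256
  act : ∀ v < 256, g * q v = q (app L v) * g

variable {q : ℕ → G}

namespace QS

variable (hq : QS q)
include hq

theorem zero : q 0 = 1 := by
  have := hq.mul 0 (by norm_num) 0 (by norm_num)
  simpa using this

theorem sq {v : ℕ} (hv : v < 256) : q v * q v = 1 := by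
  rw [hq.mul v hv v hv, Nat.xor_self, hq.zero]

theorem inv {v : ℕ} (hv : v < 256) : (q v)⁻¹ = q v := inv_eq_of_mul_eq_one_left (hq.sq hv)

theorem comm {v w : ℕ} (hv : v < 256) (hw : w < 256) : q v * q w = q w * q v := by
  rw [hq.mul v hv w hw, hq.mul w hw v hv, Nat.xor_comm]

theorem eq {v w : ℕ} (hv : v < 256) (hw : w < 256) (h : q v = q w) : v = w := by
  have h1 : q (v ^^^ w) = 1 := by rw [← hq.mul v hv w hw, h, hq.sq hw]
  exact Nat.xor_eq_zero_iff.mp (hq.inj _ (xor_lt hv hw) h1)

end QS

namespace Acts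

theorem app_lt {g : G} {L : List ℕ} (h : Acts q g L) (v : ℕ) : app L v < 256 := WFour.app_lt h.lt v

theorem one : Acts q 1 idL :=
  ⟨rfl, by simp [idL], fun v hv => by rw [app_id v hv, one_mul, mul_one]⟩

theorem mul {g g' : G} {L L' : List ℕ} (h : Acts q g L) (h' : Acts q g' L') :
    Acts q (g * g') (comp L L') := by
  refine ⟨by rw [comp_length, h'.len], comp_lt h.lt _, fun v hv => ?_⟩
  rw [mul_assoc, h'.act v hv, ← mul_assoc, h.act _ (h'.app_lt v), mul_assoc, app_comp]

theorem unique (hq : QS q) {g : G} {L L' : List ℕ} (h : Acts q g L) (h' : Acts q g L') :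
    L = L' := by
  refine ext_of h.len h'.len fun v hv => ?_
  apply hq.eq (h.app_lt v) (h'.app_lt v)
  exact mul_right_cancel ((h.act v hv).symm.trans (h'.act v hv))

theorem inj (hq : QS q) {g : G} {L : List ℕ} (h : Acts q g L) {v w : ℕ} (hv : v < 256)
    (hw : w < 256) (e : app L v = app L w) : v = w := by
  apply hq.eq hv hw
  have h1 := h.act v hv
  rw [e, ← h.act w hw] at h1
  exact mul_left_cancel h1

theorem surj (hq : QS q) {g : G} {L : List ℕ} (h : Acts q g L) {v : ℕ} (hv : v < 256) :
    ∃ w < 256, app L w = v := by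
  have hinj : Function.Injective (fun w : Fin 256 => (⟨app L w, h.app_lt w⟩ : Fin 256)) := by
    intro x y e
    exact Fin.ext (h.inj hq x.2 y.2 (Fin.mk.inj e))
  obtain ⟨w, hw⟩ := (Finite.injective_iff_surjective.mp hinj) ⟨v, hv⟩
  exact ⟨w, w.2, Fin.mk.inj hw⟩

theorem inv {g : G} {L L' : List ℕ} (h : Acts q g L) (hl : L'.length = 8)
    (h' : ∀ x ∈ L', x < 256) (e : comp L L' = idL) : Acts q g⁻¹ L' := by
  refine ⟨hl, h', fun v hv => ?_⟩
  have h1 := h.act _ (WFour.app_lt h' v)
  rw [app_comp, e, app_id v hv] at h1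
  rw [inv_mul_eq_iff_eq_mul, ← mul_assoc, h1, mul_inv_cancel_right]

/-- the matrix of the inverse exists -/
theorem exists_inv (hq : QS q) {g : G} {L : List ℕ} (h : Acts q g L) :
    ∃ L', Acts q g⁻¹ L' ∧ comp L L' = idL ∧ comp L' L = idL := by
  choose! f hf hf' using fun v (hv : v < 256) => h.surj hq hv
  have f0 : f 0 = 0 := h.inj hq (hf 0 (by norm_num)) (by norm_num) (by
    rw [hf' 0 (by norm_num), app_zero])
  have fadd : ∀ v < 256, ∀ w < 256, f (v ^^^ w) = f v ^^^ f w := by
    intro v hv w hw
    apply h.inj hq (hf _ (xor_lt hv hw)) (xor_lt (hf v hv) (hf w hw))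
    rw [app_xor, hf' v hv, hf' w hw, hf' _ (xor_lt hv hw)]
  have hid : ∀ x ∈ idL, x < 256 := by simp [idL]
  have hl : (idL.map f).length = 8 := by simp [idL]
  have hlt : ∀ x ∈ idL.map f, x < 256 := by
    intro x hx
    rw [List.mem_map] at hx
    obtain ⟨y, hy, rfl⟩ := hx
    exact hf y (hid y hy)
  have e : comp L (idL.map f) = idL := by
    rw [comp, List.map_map]
    conv_rhs => rw [← List.map_id idL]
    apply List.map_congr_left
    intro x hx
    exact hf' x (hid x hx)
  have h1 := h.inv hl hlt e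
  refine ⟨_, h1, e, ?_⟩
  have h2 : Acts q (g⁻¹ * g) (comp (idL.map f) L) := h1.mul h
  rw [inv_mul_cancel] at h2
  exact h2.unique hq Acts.one

/-- an element normalizing `Q` acts by some matrix -/
theorem exists_of (hq : QS q) {g : G} (hg : ∀ v < 256, ∃ w < 256, g * q v * g⁻¹ = q w) :
    ∃ L, Acts q g L := by
  choose! f hf hf' using hg
  have hm : ∀ v < 256, g * q v = q (f v) * g := fun v hv => by
    rw [← hf' v hv, inv_mul_cancel_right]
  have f0 : f 0 = 0 := by
    apply hq.inj _ (hf 0 (by norm_num))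
    rw [← hf' 0 (by norm_num), hq.zero, mul_one, mul_inv_cancel]
  have fadd : ∀ v < 256, ∀ w < 256, f (v ^^^ w) = f v ^^^ f w := by
    intro v hv w hw
    apply hq.eq (hf _ (xor_lt hv hw)) (xor_lt (hf v hv) (hf w hw))
    rw [← hq.mul _ (hf v hv) _ (hf w hw), ← hf' v hv, ← hf' w hw, ← hf' _ (xor_lt hv hw),
      ← hq.mul v hv w hw]
    group
  have hid : ∀ x ∈ idL, x < 256 := by simp [idL]
  have hlt : ∀ x ∈ idL.map f, x < 256 := by
    intro x hx
    rw [List.mem_map] at hx
    obtain ⟨y, hy, rfl⟩ := hx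
    exact hf y (hid y hy)
  refine ⟨idL.map f, by simp [idL], hlt, fun v hv => ?_⟩
  rw [← app_map f0 fadd hid, app_id v hv, hm v hv]

/-- multiplication by an element centralizing `Q` -/
theorem cmul {g c : G} {L : List ℕ} (h : Acts q g L) (hc : Acts q c idL) : Acts q (c * g) L := by
  have h1 := hc.mul h
  have : comp idL L = L := by
    rw [comp]
    conv_rhs => rw [← List.map_id L]
    apply List.map_congr_left
    intro x hx
    exact app_id x (h.lt x hx)
  rwa [this] at h1

theorem mulc {g c : G} {L : List ℕ} (h : Acts q g L) (hc : Acts q c idL) : Acts q (g * c) L := by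
  have h1 := h.mul hc
  rwa [comp_id h.len] at h1

theorem q_acts (hq : QS q) {v : ℕ} (hv : v < 256) : Acts q (q v) idL :=
  ⟨rfl, by simp [idL], fun w hw => by rw [app_id w hw, hq.comm hv hw]⟩

theorem inv_id {c : G} (hc : Acts q c idL) : Acts q c⁻¹ idL :=
  hc.inv rfl hc.lt (comp_id rfl)

theorem pow_id {c : G} (hc : Acts q c idL) (n : ℕ) : Acts q (c ^ n) idL := by
  induction n with
  | zero => rw [pow_zero]; exact Acts.one
  | succ n ih => rw [pow_succ]; exact ih.mulc hc

end Acts

end Cfsg.Agent.TypeM.WFour
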