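import Cfsg.Agent.TypeM.WFourBase

/-!
# Step W4 of Theorem W of S1739: finite checks

`A₇` acts on 7 points; the 35 lines of `E` correspond to the 35 triples.  `triple u v` is the bit mask
of the triple of the line through `u, v`.  A matrix in `GL₄(2)` lies in `A₇` iff it preserves
disjointness for two explicit pairs of lines (`inA`).
-/

set_option autoImplicit false

namespace Cfsg.Agent.TypeM.WFour

open Cfsg.Agent.TypeM

def tripT : ℕ := 0x1a0d685431264343263154680d1a001a0046232c49701570152c4946231a000d460034612a13582a615813460d3400682334001952450e1952450e68233400542c611900074a3219612c54324a070031492a5207001c642a5231491c640700267013454a1c0029702645131c4a29004315580e326429004315580e3264290043702a19192a7043004c162525164c0026156152615226154c000b380b384c00312c58452c314558160b00620b1662005449130e5449130e253862002538620068464668321c1c32250b0b25005151000d230d234a644a6416381638510051001a1a3434070729294c4c62625151000000000000000000000000000000000000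

def triple (u v : ℕ) : ℕ := (tripT >>> (8 * (16 * u + v))) &&& 127

/-- the five generators on the 7 points -/
def p7 (k i : ℕ) : ℕ :=
  ([[0, 5, 3, 2, 4, 1, 6], [6, 3, 2, 1, 4, 5, 0], [3, 6, 2, 0, 4, 5, 1], [4, 1, 3, 2, 0, 5, 6],
    [6, 2, 1, 3, 4, 5, 0]].getD k []).getD i 0

theorem triple_gm : ∀ k < 5, ∀ i < 7, ∀ u < 16, ∀ v < 16,
    (triple (gm k u) (gm k v)).testBit (p7 k i) = (triple u v).testBit i := by decide +kernel

theorem p7_surj : ∀ k < 5, ∀ j < 7, ∃ i < 7, p7 k i = j := by decide +kernel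

theorem triple_lt (u v : ℕ) : triple u v < 2 ^ 7 :=
  Nat.lt_of_le_of_lt Nat.and_le_right (by norm_num)

/-- disjoint lines -/
def dj (u v u' v' : ℕ) : Prop := ∀ i < 7, (triple u v).testBit i = true →
  (triple u' v').testBit i = false

theorem dj_iff (u v u' v' : ℕ) : dj u v u' v' ↔ triple u v &&& triple u' v' = 0 := by
  constructor
  · intro h
    apply Nat.eq_of_testBit_eq
    intro i
    rw [Nat.testBit_and, Nat.zero_testBit]
    by_cases hi : i < 7
    · by_cases h1 : (triple u v).testBit i = true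
      · rw [h i hi h1, Bool.and_false]
      · simp only [Bool.not_eq_true] at h1
        rw [h1, Bool.false_and]
    · have : (triple u v).testBit i = false :=
        Nat.testBit_eq_false_of_lt (lt_of_lt_of_le (triple_lt u v)
          (Nat.pow_le_pow_right (by norm_num) (by omega)))
      rw [this, Bool.false_and]
  · intro h i _ h1
    have := congrArg (fun n => n.testBit i) h
    simpa [Nat.testBit_and, h1] using this

theorem dj_gm {k : ℕ} (hk : k < 5) {u v u' v' : ℕ} (hu : u < 16) (hv : v < 16) (hu' : u' < 16)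
    (hv' : v' < 16) (h : dj u v u' v') : dj (gm k u) (gm k v) (gm k u') (gm k v') := by
  intro j hj h1
  obtain ⟨i, hi, rfl⟩ := p7_surj k hk j hj
  rw [triple_gm k hk i hi u hu v hv] at h1
  rw [triple_gm k hk i hi u' hu' v' hv']
  exact h i hi h1

theorem dj_act (w : List ℕ) (hw : ∀ k ∈ w, k < 5) {u v u' v' : ℕ} (hu : u < 16) (hv : v < 16)
    (hu' : u' < 16) (hv' : v' < 16) (h : dj u v u' v') :
    dj (act w u) (act w v) (act w u') (act w v') := by
  induction w with
  | nil => exact h
  | cons k w ih =>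
    have hw' : ∀ k ∈ w, k < 5 := fun k hk => hw k (by simp [hk])
    simp only [act_cons]
    exact dj_gm (hw k (by simp)) (act_lt w hu) (act_lt w hv) (act_lt w hu') (act_lt w hv') (ih hw')

/-- the criterion for a matrix `M` (images of `1, 2, 4, 8`) to lie in `A₇` -/
def inA (M : List ℕ) : Bool :=
  (triple (app M 1) (app M 2) &&& triple (app M 4) (app M 8) == 0) &&
    (triple (app M 1) (app M 2) &&& triple (app M 5) (app M 11) == 0)

/-- the matrix on `E` of a word -/
def em (w : List ℕ) : List ℕ := [act w 1, act w 2, act w 4, act w 8]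

theorem em_app (w : List ℕ) (hw : ∀ k ∈ w, k < 5) {i : ℕ} (hi : i < 16) : app (em w) i = act w i := by
  have hlt : ∀ i < 16, act w i < 16 := fun i hi => act_lt w hi
  have h0 : app (em w) i = app ((wm w).take 4) i := by
    have : (wm w).take 4 = em w := by
      have h := wm_len w
      have e1 := wm_app w hw (i := 1) (by norm_num)
      have e2 := wm_app w hw (i := 2) (by norm_num)
      have e4 := wm_app w hw (i := 4) (by norm_num)
      have e8 := wm_app w hw (i := 8) (by norm_num)
      rw [em, ← e1, ← e2, ← e4, ← e8]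
      generalize wm w = L at h
      match L, h with
      | [a, b, c, d, e, f, g, k], _ => simp [app_cons, app_nil]
    rw [this]
  rw [h0, ← app_take4 (wm_len w) hi, wm_app w hw hi]

theorem inA_word (w : List ℕ) (hw : ∀ k ∈ w, k < 5) : inA (em w) = true := by
  have h1 := (dj_iff _ _ _ _).mp (dj_act w hw (u := 1) (v := 2) (u' := 4) (v' := 8) (by norm_num)
    (by norm_num) (by norm_num) (by norm_num) ((dj_iff _ _ _ _).mpr (by decide +kernel)))
  have h2 := (dj_iff _ _ _ _).mp (dj_act w hw (u := 1) (v := 2) (u' := 5) (v' := 11) (by norm_num)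
    (by norm_num) (by norm_num) (by norm_num) ((dj_iff _ _ _ _).mpr (by decide +kernel)))
  simp only [inA, em_app w hw (i := 1) (by norm_num), em_app w hw (i := 2) (by norm_num),
    em_app w hw (i := 4) (by norm_num), em_app w hw (i := 8) (by norm_num),
    em_app w hw (i := 5) (by norm_num), em_app w hw (i := 11) (by norm_num), h1, h2,
    beq_self_eq_true, Bool.and_self]

theorem wm_app16 (w : List ℕ) (hw : ∀ k ∈ w, k < 5) {i : ℕ} (hi : i < 16) :
    app (wm w) (16 * i) = 16 * act w i := by
  induction w with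
  | nil => rw [wm, app_id _ (by omega), act_nil]
  | cons k w ih =>
    have hw' : ∀ k ∈ w, k < 5 := fun k hk => hw k (by simp [hk])
    have hlt := act_lt w hi
    rw [wm, ← app_comp, ih hw', act_cons]
    obtain ⟨h1, h2⟩ := dgL_spec k (hw k (by simp)) (16 * act w i) (by omega)
    rw [Nat.mul_mod_right] at h1
    rw [Nat.mul_div_cancel_left _ (by norm_num)] at h2
    have h3 : ∀ k < 5, gm k 0 = 0 := by decide +kernel
    rw [h3 k (hw k (by simp))] at h1
    omega

theorem wm_eq (w : List ℕ) (hw : ∀ k ∈ w, k < 5) : wm w = em w ++ (em w).map (16 * ·) := by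
  have e1 := wm_app w hw (i := 1) (by norm_num)
  have e2 := wm_app w hw (i := 2) (by norm_num)
  have e4 := wm_app w hw (i := 4) (by norm_num)
  have e8 := wm_app w hw (i := 8) (by norm_num)
  have f1 := wm_app16 w hw (i := 1) (by norm_num)
  have f2 := wm_app16 w hw (i := 2) (by norm_num)
  have f4 := wm_app16 w hw (i := 4) (by norm_num)
  have f8 := wm_app16 w hw (i := 8) (by norm_num)
  have h : comp (wm w) idL = wm w := comp_id (wm_len w)
  rw [← h, em, ← e1, ← e2, ← e4, ← e8, comp, idL]
  simp only [List.map_cons, List.map_nil, List.cons_append, List.nil_append, e1, e2, e4, e8]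
  norm_num at f1 f2 f4 f8
  rw [f1, f2, f4, f8]

/-! ### the centralizer of `w = s 0` -/

/-- words for the 24 elements of `C(w)` in `A₇` -/
def c24w : List (List ℕ) :=
  [[3, 1, 0, 1], [1, 3, 0, 4], [4, 3, 1], [4, 1, 3, 1], [1, 0, 1, 3], [4, 0, 4], [], [0],
   [1, 0, 4, 1], [1, 4, 0, 1], [4, 3, 1, 0], [1, 4, 1], [4, 3, 0, 1], [4, 3, 0, 4, 1],
   [3, 4, 3, 0, 1], [4, 1, 3, 1, 0], [3, 0], [3], [3, 4, 3, 1, 0], [1, 4, 1, 0], [3, 4, 3, 1],
   [1, 0, 1], [4, 1, 3, 0, 1], [4, 0, 1, 3, 1]]

/-- the matrix commuting with `w` with `4 ↦ x`, `8 ↦ y` -/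
def M24 (x y : ℕ) : List ℕ := [x ^^^ gm 0 x, x ^^^ gm 0 x ^^^ y ^^^ gm 0 y, x, y]

theorem c24_check : ((List.range 16).all fun x => (List.range 16).all fun y =>
    ((List.range 15).any fun i => app (M24 x y) (i + 1) == 0) || !inA (M24 x y) ||
      (c24w.map em).any fun M => M == M24 x y) = true := by decide +kernel

/-- `⟨t⟩ × C(w)` -/
def C48 : List (List ℕ) := c24w.map wm ++ c24w.map fun w => comp tL (wm w)

/-- `t w` -/
def tpL : List ℕ := comp tL (dgL 0)

def bL : List ℕ := wm [3, 0]
def oL : List ℕ := wm [3, 4, 3, 1]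
def fL : List ℕ := wm [1, 0, 1, 3]

def coords2 : List ℕ := [255, 204, 195, 3, 85, 68, 65, 1]

def pairs2 : List (List ℕ × List ℕ) :=
  let Bs := C48.filter fun B => comp B B == idL
  let Os := C48.filter fun O => comp O (comp O O) == idL && !(O == idL)
  (Os.map fun O => (Bs.filter fun B => comp B (comp O (comp B O)) == idL).map
    fun B => (B, O)).flatten

def F12 : List (List ℕ) := C48.filter fun F => comp F F == dgL 0

/-- `diag(w, 1)` and representatives of the other three cosets -/
def W0 : List ℕ := [1, 2, 20, 56, 16, 32, 80, 176]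
def reps : List (List ℕ) :=
  [W0, [2, 3, 45, 23, 32, 48, 242, 97], [2, 3, 44, 20, 33, 50, 244, 104],
   [2, 3, 44, 20, 33, 50, 246, 105]]

def chk2 (B O : List ℕ) (u : ℕ) : Bool :=
  let tu := app tpL u
  let bu := app B u
  let tbu := app tpL bu
  let wu := app (dgL 0) u
  let wtu := app (dgL 0) tu
  let wbu := app (dgL 0) bu
  let wtbu := app (dgL 0) tbu
  if (u ^^^ wbu) != app O u then true else
  if (u ^^^ tu ^^^ bu ^^^ tbu ^^^ wu ^^^ wtu ^^^ wbu ^^^ wtbu) == 0 then true else
  let D := comp [u, tu, bu, tbu, wu, wtu, wbu, wtbu] coords2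
  !(comp D tL == comp tpL D) || !(comp D (dgL 0) == comp (dgL 0) D) || !(comp D bL == comp B D)
    || !(comp D oL == comp O D) || !(F12.any fun F => comp D fL == comp F D)
    || C48.any fun x => reps.any fun R => (app x u == app R 128) && (comp x D == R)

/-! ### other data -/

/-- words for the six involutions of `A₇` interchanging `1` and `2` -/
def l6w : List (List ℕ) :=
  [[0, 4, 2, 3, 2], [4, 2, 3, 2], [2, 3, 4, 0, 2], [2, 4, 3, 2], [4, 0, 2, 4], [4, 2, 4]]

theorem l6_check : ((List.range 16).all fun x => (List.range 16).all fun y =>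
    ((List.range 15).any fun i => app [2, 1, x, y] (i + 1) == 0) || !inA [2, 1, x, y] ||
      !(comp [2, 1, x, y] [2, 1, x, y] == [1, 2, 4, 8]) ||
      l6w.any fun u => comp [2, 1, x, y] (em u) == comp (em u) [1, 2, 5, 11]) = true := by
  decide +kernel

/-- inverses of `reps` -/
def repsI : List (List ℕ) :=
  [W0, [3, 1, 58, 45, 48, 16, 147, 242], [3, 1, 58, 45, 50, 19, 190, 229],
    [3, 1, 58, 45, 50, 19, 189, 231]]

theorem repsI_spec : ∀ j < 4, comp (reps.getD j []) (repsI.getD j []) = idL := by decide +kernel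

theorem repsI_lt : ∀ j < 4, ∀ x ∈ repsI.getD j [], x < 256 := by decide +kernel

/-- necessary condition for `r` to lie in `⟨t⟩ × A₇` -/
def okY (r : List ℕ) : Bool :=
  inA (r.take 4) && (r.drop 4 == (r.take 4).map (16 * ·) || r.drop 4 == (r.take 4).map (17 * ·))

/-- `γ s_k γ⁻¹` -/
def Bk (j k : ℕ) : List ℕ := comp (comp (repsI.getD j []) (dgL k)) (reps.getD j [])

def xj (j : ℕ) : List ℕ := if j = 1 then comp (Bk 1 2) (comp (dgL 1) (Bk 1 2))
  else comp (Bk j 2) (comp (dgL 1) (Bk j 4))

def xjI (j : ℕ) : List ℕ := if j = 1 then comp (Bk 1 2) (comp (dgL 1) (Bk 1 2))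
  else comp (Bk j 4) (comp (dgL 1) (Bk j 2))

def pj (j : ℕ) : List ℕ := comp tL (comp (xjI j) (comp tL (xj j)))

def rj (j : ℕ) : List ℕ := if j = 1 then comp (pj 1) (comp (pj 1) (pj 1)) else pj j

theorem rj_check : ∀ j < 4, j = 0 ∨ comp (rj j) tL = comp tL (rj j) ∧ okY (rj j) = false := by
  decide +kernel

/-- the words `g k` with `s k = w'' ^ (g k)` -/
def gw (k : ℕ) : List ℕ := [[4], [0, 2], [0, 2, 4], [1, 3, 0, 2], [1, 4, 0, 2]].getD k []

theorem gw_lt : ∀ k < 5, ∀ i ∈ gw k, i < 5 := by decide +kernel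

/-- `diag(w'', 1)`, `w'' = w w^b` -/
def W2 : List ℕ := comp (comp (comp W0 (wm [1])) W0) (wm [1])

def Dk (k : ℕ) : List ℕ := comp (comp (wm (gw k)) W2) (wm (gw k).reverse)

theorem Dk_spec : ∀ k < 5, ∀ j < 16, app (Dk k) (16 * j) = 16 * gm k j ∧
    app (Dk k) (17 * j) = 17 * j := by decide +kernel

end Cfsg.Agent.TypeM.WFour
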